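import Mathlib.CategoryTheory.Sites.SheafCohomology.Cech
import Mathlib.Algebra.Category.Grp.Abelian
import Mathlib.Algebra.Category.Grp.Limits
import Mathlib.Algebra.Homology.ShortComplex.Ab
import Mathlib.Algebra.Homology.SingleHomology
import Mathlib.CategoryTheory.Limits.Shapes.ConcreteCategory

/-!
The Čech complex of a presheaf of abelian groups on a category with finite products, in elements.
-/

set_option autoImplicit false

universe u v w

open CategoryTheory CategoryTheory.Limits Opposite

namespace Groth.Agent.Fib44.Cech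

variable {E : Type v} [Category.{w} E] [HasFiniteProducts E] {ι : Type u} (U : ι → E)
  (P : Eᵒᵖ ⥤ AddCommGrpCat.{u})

/-- Cochains as families. -/
abbrev Coch (n : ℕ) : Type u := ∀ a : Fin (n + 1) → ι, P.obj (op (∏ᶜ (U ∘ a)))

/-- Forgetting some of the factors. -/
noncomputable abbrev face {n m : ℕ} (a : Fin (m + 1) → ι) (g : Fin (n + 1) → Fin (m + 1)) :
    (∏ᶜ (U ∘ a)) ⟶ ∏ᶜ (U ∘ (a ∘ g)) :=
  Pi.lift fun k => Pi.π (U ∘ a) (g k)

/-- Cochains of the complex as families. -/
noncomputable def equiv (n : ℕ) : ((cechComplexFunctor U).obj P).X n ≃+ Coch U P n :=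
  { Concrete.productEquiv (fun a : Fin (n + 1) → ι => P.obj (op (∏ᶜ (U ∘ a)))) with
    map_add' := fun x y => funext fun j => by
      rw [Pi.add_apply]
      change Concrete.productEquiv (fun a : Fin (n + 1) → ι => P.obj (op (∏ᶜ (U ∘ a)))) (x + y) j =
        Concrete.productEquiv (fun a : Fin (n + 1) → ι => P.obj (op (∏ᶜ (U ∘ a)))) x j +
          Concrete.productEquiv (fun a : Fin (n + 1) → ι => P.obj (op (∏ᶜ (U ∘ a)))) y j
      erw [Concrete.productEquiv_apply_apply, Concrete.productEquiv_apply_apply,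
        Concrete.productEquiv_apply_apply]
      exact map_add _ x y }

/-- A component of a cochain of the complex. -/
noncomputable abbrev proj (n : ℕ) (a : Fin (n + 1) → ι) :
    ((cechComplexFunctor U).obj P).X n ⟶ P.obj (op (∏ᶜ (U ∘ a))) :=
  Pi.π (fun a : Fin (n + 1) → ι => P.obj (op (∏ᶜ (U ∘ a)))) a

lemma equiv_apply (n : ℕ) (x : ((cechComplexFunctor U).obj P).X n) (a : Fin (n + 1) → ι) :
    equiv U P n x a = proj U P n a x :=
  Concrete.productEquiv_apply_apply _ _ _

set_option backward.isDefEq.respectTransparency false in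
set_option backward.isDefEq.respectTransparency.types false in
lemma d_proj (n : ℕ) (a : Fin (n + 2) → ι) :
    ((cechComplexFunctor U).obj P).d n (n + 1) ≫ proj U P (n + 1) a =
      ∑ j : Fin (n + 2), (-1 : ℤ) ^ (j : ℕ) •
        (proj U P n (a ∘ j.succAbove) ≫ P.map (face U a j.succAbove).op) := by
  rw [show ((cechComplexFunctor U).obj P).d n (n + 1) =
      AlgebraicTopology.AlternatingCofaceMapComplex.objD
        ((FormalCoproduct.cosimplicialObjectFunctor (FormalCoproduct.mk _ U).cech).obj P) n from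
      CochainComplex.of_d (fun n => ((FormalCoproduct.cosimplicialObjectFunctor
        (FormalCoproduct.mk _ U).cech).obj P).obj (SimplexCategory.mk n)) _ n,
    AlgebraicTopology.AlternatingCofaceMapComplex.objD]
  refine (Preadditive.sum_comp _ _ _).trans (Finset.sum_congr rfl fun j _ => ?_)
  refine (Preadditive.zsmul_comp _ _ _).trans (congrArg _ ?_)
  change Pi.lift _ ≫ Pi.π _ a = _
  erw [Pi.lift_π]
  rfl

lemma equiv_d (n : ℕ) (x : ((cechComplexFunctor U).obj P).X n) (a : Fin (n + 2) → ι) :
    equiv U P (n + 1) (((cechComplexFunctor U).obj P).d n (n + 1) x) a =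
      ∑ j : Fin (n + 2), (-1 : ℤ) ^ (j : ℕ) •
        P.map (face U a j.succAbove).op (equiv U P n x (a ∘ j.succAbove)) := by
  rw [equiv_apply, ← ConcreteCategory.comp_apply, d_proj]
  refine ((DFunLike.congr_fun (map_sum AddCommGrpCat.homAddEquiv _ _) x).trans
    (AddMonoidHom.finsetSum_apply _ _ x)).trans (Finset.sum_congr rfl fun j _ => ?_)
  rw [equiv_apply]
  rfl

lemma isZero_homology_succ_iff (p : ℕ) :
    IsZero (((cechComplexFunctor U).obj P).homology (p + 1)) ↔
      ∀ f : Coch U P (p + 1),
        (∀ a : Fin (p + 3) → ι, ∑ j : Fin (p + 3), (-1 : ℤ) ^ (j : ℕ) •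
          P.map (face U a j.succAbove).op (f (a ∘ j.succAbove)) = 0) →
        ∃ g : Coch U P p, ∀ a : Fin (p + 2) → ι, ∑ j : Fin (p + 2), (-1 : ℤ) ^ (j : ℕ) •
          P.map (face U a j.succAbove).op (g (a ∘ j.succAbove)) = f a := by
  rw [← HomologicalComplex.exactAt_iff_isZero_homology,
    HomologicalComplex.exactAt_iff' _ p (p + 1) (p + 2) (by simp) (by simp),
    ShortComplex.ab_exact_iff]
  constructor
  · intro h f hf
    obtain ⟨x, rfl⟩ := (equiv U P (p + 1)).surjective f
    obtain ⟨g, hg⟩ := h x ((equiv U P (p + 2)).injective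
      ((funext fun a => (equiv_d U P (p + 1) x a).trans (hf a)).trans (map_zero _).symm))
    exact ⟨equiv U P p g, fun a => (equiv_d U P p g a).symm.trans
      (congrFun (congrArg (equiv U P (p + 1)) hg) a)⟩
  · intro h x hx
    obtain ⟨g, hg⟩ := h (equiv U P (p + 1) x) fun a => (equiv_d U P (p + 1) x a).symm.trans
      (congrFun ((congrArg (equiv U P (p + 2)) hx).trans (map_zero _)) a)
    obtain ⟨y, rfl⟩ := (equiv U P p).surjective g
    exact ⟨y, (equiv U P (p + 1)).injective (funext fun a => (equiv_d U P p y a).trans (hg a))⟩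

end Groth.Agent.Fib44.Cech
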