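import Groth.Agent.Fib44.Descent
import Mathlib.CategoryTheory.Sites.IsSheafFor
import Mathlib.CategoryTheory.Sites.SheafOfTypes

/-!
The category over the base of a presheaf of sets: glueing versus the sheaf condition.
-/

set_option backward.isDefEq.respectTransparency false
set_option backward.isDefEq.respectTransparency.types false

universe w v u

open CategoryTheory CategoryTheory.Functor Opposite

namespace Groth.Agent.Fib44

variable {C : Type u} [Category.{v} C] {P : Cᵒᵖ ⥤ Type w} {U : C} {R : Sieve U}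

theorem elt_hom_eq {R' S' : C} {a b : (Stk.ofPsh P).obj} (f : R' ⟶ S') (φ : a ⟶ b)
    (h : (Stk.ofPsh P).p.IsHomLift f φ) :
    φ.hom = eqToHom (IsHomLift.domain_eq (Stk.ofPsh P).p f φ :) ≫ f ≫
      eqToHom (IsHomLift.codomain_eq (Stk.ofPsh P).p f φ :).symm :=
  IsHomLift.fac' (Stk.ofPsh P).p f φ

theorem elt_ext {a b : Stk.EltObj P} (h : a.base = b.base)
    (hs : P.map (eqToHom h).op b.sec = a.sec) : a = b := by
  obtain ⟨A, s⟩ := a
  obtain ⟨B, t⟩ := b
  obtain rfl : A = B := h
  obtain rfl : t = s := by simpa using hs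
  rfl

theorem isSeparatedFor_of_morGlue (h : MorGlue (Stk.ofPsh P) R) :
    Presieve.IsSeparatedFor P R.arrows := by
  intro fam s t hs ht
  let x : (Stk.ofPsh P).obj := ⟨U, s⟩
  let y : (Stk.ofPsh P).obj := ⟨U, t⟩
  have key : ∀ ⦃z : Stk.EltObj P⦄ (φ : z ⟶ (⟨U, s⟩ : Stk.EltObj P)), R φ.hom →
      P.map φ.hom.op t = z.sec := fun z φ hR => by
    rw [ht φ.hom hR, ← hs φ.hom hR]
    exact φ.map_sec
  obtain ⟨k, ⟨hk, -⟩, -⟩ := h (x := x) (y := y) rfl rfl
    (fun z φ hR => (⟨φ.hom, key φ (by simpa using hR)⟩ : z ⟶ y))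
    (fun z φ hR => IsHomLift.of_fac' _ _ _ rfl rfl (by
      change φ.hom = _
      simp [x, y]))
    (fun z' z g φ hR hR' => Stk.EltObj.hom_ext rfl)
  have e : k.hom = 𝟙 U := by
    rw [elt_hom_eq _ k hk]; simp [x, y]
  have := k.map_sec
  simp only [e] at this
  simpa [x, y] using this.symm

theorem morGlue_of_isSeparatedFor (h : Presieve.IsSeparatedFor P R.arrows) :
    MorGlue (Stk.ofPsh P) R := by
  intro x y hx hy θ hθ _
  obtain ⟨bx, s⟩ := x
  obtain ⟨by', t⟩ := y
  obtain rfl : bx = U := hx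
  obtain rfl : by' = bx := hy
  have hval : ∀ ⦃z⦄ (φ : z ⟶ (⟨by', s⟩ : Stk.EltObj P)) (hR),
      (θ φ hR).hom = φ.hom := fun z φ hR => by
    have := hθ φ hR
    rw [elt_hom_eq _ (θ φ hR) this]
    simp
  have est : s = t := h.ext fun V f hf => by
    let φ : (⟨V, P.map f.op s⟩ : Stk.EltObj P) ⟶ ⟨by', s⟩ := ⟨f, rfl⟩
    have hR : R ((Stk.ofPsh P).p.map φ ≫ eqToHom rfl) := by simpa [φ] using hf
    have := (θ φ hR).map_sec
    rw [hval φ hR] at this
    exact this.symm
  subst est
  refine ⟨𝟙 _, ⟨IsHomLift.id rfl, fun z φ hR => Stk.EltObj.hom_ext ?_⟩, fun k hk => ?_⟩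
  · simp [hval φ hR]
  · have := hk.1
    exact Stk.EltObj.hom_ext (by rw [elt_hom_eq _ k this]; simp)

theorem objGlue_of_isSheafFor (h : Presieve.IsSheafFor P R.arrows) : ObjGlue (Stk.ofPsh P) R := by
  intro G
  let fam : Presieve.FamilyOfElements P R.arrows := fun V f hf =>
    P.map (eqToHom (obj_sieve G (sObj R f hf)).symm).op (G.obj (sObj R f hf)).sec
  have hc : fam.Compatible := by
    rw [Presieve.compatible_iff_sieveCompatible]
    intro Y Z f g hf
    let j : sObj R (g ≫ f) (R.downward_closed hf g) ⟶ sObj R f hf := sHom R g rfl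
    have e := (G.map j).map_sec
    rw [elt_hom_eq g (G.map j) (isHomLift_sieve_map G j)] at e
    change P.map _ _ = P.map _ (P.map _ _)
    rw [← e]
    simp only [← Functor.map_comp_apply, ← op_comp]
    simp
  obtain ⟨s, hs, -⟩ := h fam hc
  refine ⟨⟨U, s⟩, fun a => ⟨eqToHom (obj_sieve G a) ≫ a.obj.hom, ?_⟩,
    { over := rfl, lift := fun a => ?_, nat := fun a b f => ?_ }⟩
  · have e := hs a.obj.hom a.property
    change P.map (eqToHom (obj_sieve G a) ≫ a.obj.hom).op s = _
    rw [op_comp, Functor.map_comp_apply, e]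
    let j : sObj R a.obj.hom a.property ⟶ a := sHom R (𝟙 _) (Category.id_comp _)
    have e2 := (G.map j).map_sec
    rw [elt_hom_eq j.hom.left (G.map j) (isHomLift_sieve_map G j)] at e2
    change P.map _ (P.map _ _) = _
    rw [← e2]
    simp only [← Functor.map_comp_apply, ← op_comp]
    simp [j]
    erw [CategoryTheory.Functor.map_id]
    rfl
  · exact IsHomLift.of_fac' _ _ _ (obj_sieve G a) rfl (by change eqToHom _ ≫ _ = _; simp)
  · apply Stk.EltObj.hom_ext
    rw [Stk.EltObj.comp_hom, elt_hom_eq f.hom.left (G.map f) (isHomLift_sieve_map G f)]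
    simp

theorem isSheafFor_of_glue (hM : MorGlue (Stk.ofPsh P) R) (hO : ObjGlue (Stk.ofPsh P) R) :
    Presieve.IsSheafFor P R.arrows := by
  rw [← Presieve.isSeparatedFor_and_exists_isAmalgamation_iff_isSheafFor]
  refine ⟨isSeparatedFor_of_morGlue hM, fun fam hc => ?_⟩
  have hc' := (Presieve.compatible_iff_sieveCompatible fam).mp hc
  let G : Stk.sieveCat R ⥤ᵇ Stk.ofPsh P :=
    { obj := fun a => ⟨a.obj.left, fam a.obj.hom a.property⟩
      map := fun {a b} f => ⟨f.hom.left, by
        change P.map f.hom.left.op (fam b.obj.hom b.property) = fam a.obj.hom a.property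
        rw [← hc' b.obj.hom f.hom.left b.property]
        congr 1
        exact Over.w f.hom⟩
      w := rfl }
  obtain ⟨x, γ, hγ⟩ := hO G
  obtain ⟨bx, s⟩ := x
  obtain rfl : bx = U := hγ.over
  refine ⟨s, fun V f hf => ?_⟩
  have e := (γ (sObj R f hf)).map_sec
  rw [elt_hom_eq (sObj R f hf).obj.hom (γ (sObj R f hf)) (hγ.lift (sObj R f hf))] at e
  simpa [G] using e

theorem isStack_ofPsh_iff (J : GrothendieckTopology C) :
    Stk.IsStack J (Stk.ofPsh P) ↔ Presieve.IsSheaf J P := by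
  rw [isStack_iff]
  refine ⟨fun h X S hS => isSheafFor_of_glue (h.2 S hS).1 (h.2 S hS).2,
    fun h => ⟨inferInstance, fun X S hS => ?_⟩⟩
  exact ⟨morGlue_of_isSeparatedFor (h S hS).isSeparatedFor, objGlue_of_isSheafFor (h S hS)⟩

theorem isPrestack_ofPsh_iff (J : GrothendieckTopology C) :
    Stk.IsPrestack J (Stk.ofPsh P) ↔ Presieve.IsSeparated J P := by
  rw [isPrestack_iff]
  exact ⟨fun h X S hS => isSeparatedFor_of_morGlue (h.2 S hS),
    fun h => ⟨inferInstance, fun X S hS => morGlue_of_isSeparatedFor (h S hS)⟩⟩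

/-- The slice is the category of the representable presheaf. -/
def overToPsh (U : C) : FibCat.overCat U ⥤ᵇ Stk.ofPsh (yoneda.obj U) where
  toFunctor :=
    { obj := fun a => ⟨(show Over U from a).left, (show Over U from a).hom⟩
      map := fun f => ⟨Over.Hom.left f, Over.w f⟩ }
  w := rfl

theorem overToPsh_isEquivOver (U : C) : FibCat.IsEquivOver (overToPsh U) := by
  have : (overToPsh U).toFunctor.Full :=
    ⟨fun {a b} g => ⟨Over.homMk g.hom g.map_sec, Stk.EltObj.hom_ext rfl⟩⟩
  have : (overToPsh U).toFunctor.Faithful :=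
    ⟨fun {a b f g} h => Over.OverMorphism.ext (congrArg (fun k => k.hom) h)⟩
  refine isEquivOver_of_essSurjOver _ fun η => ⟨(Over.mk (η.sec : η.base ⟶ U) : Over U), Iso.refl _, ?_⟩
  exact IsHomLift.id rfl

end Groth.Agent.Fib44
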