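import Groth.Agent.Fib44.Yoneda
import Groth.Prelude.Def_AlgSt

/-!
Elementary form of the conditions "morphisms glue", "objects glue" along a sieve.
-/

set_option backward.isDefEq.respectTransparency false
set_option backward.isDefEq.respectTransparency.types false

universe v₃ u₃ v₂ u₂ v u

open CategoryTheory CategoryTheory.Functor

namespace Groth.Agent.Fib44

variable {C : Type u} [Category.{v} C] {U : C}

section

variable (R : Sieve U)

/-- The object of `Stk.sieveCat R` given by an arrow of `R`. -/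
abbrev sObj {V : C} (f : V ⟶ U) (hf : R f) : (Stk.sieveCat R).obj :=
  Presieve.categoryMk R.arrows f hf

/-- A morphism of `Stk.sieveCat R`. -/
abbrev sHom {a b : R.arrows.category} (g : a.obj.left ⟶ b.obj.left)
    (w : g ≫ b.obj.hom = a.obj.hom) : a ⟶ b :=
  ObjectProperty.homMk (Over.homMk g w)

end

variable {𝒳 : BasedCategory.{v₂, u₂} C} {R : Sieve U}

theorem isHomLift_sieve_map (G : Stk.sieveCat R ⥤ᵇ 𝒳) {a b : R.arrows.category} (f : a ⟶ b) :
    𝒳.p.IsHomLift f.hom.left (G.map f) :=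
  based_isHomLift_self G (f : (show (Stk.sieveCat R).obj from a) ⟶ b)

theorem obj_sieve (G : Stk.sieveCat R ⥤ᵇ 𝒳) (a : R.arrows.category) :
    𝒳.p.obj (G.obj a) = a.obj.left :=
  G.w_obj a

theorem isHomLift_sieve_app {G H : Stk.sieveCat R ⥤ᵇ 𝒳} (α : G ⟶ H) (a : R.arrows.category) :
    𝒳.p.IsHomLift (𝟙 a.obj.left) (α.toNatTrans.app a) :=
  α.isHomLift' a

/-- `(x, γ)` is a glueing of the family `G` of objects over the arrows of `R`. -/
structure IsGlue (G : Stk.sieveCat R ⥤ᵇ 𝒳) (x : 𝒳.obj)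
    (γ : ∀ a : R.arrows.category, G.obj a ⟶ x) : Prop where
  over : 𝒳.p.obj x = U
  lift : ∀ a : R.arrows.category, 𝒳.p.IsHomLift a.obj.hom (γ a)
  nat : ∀ ⦃a b : R.arrows.category⦄ (f : a ⟶ b), G.map f ≫ γ b = γ a

variable (R) (𝒳)

/-- Morphisms glue uniquely along `R`. -/
def MorGlue : Prop :=
  ∀ ⦃x y : 𝒳.obj⦄ (hx : 𝒳.p.obj x = U), 𝒳.p.obj y = U →
    ∀ θ : (∀ ⦃z : 𝒳.obj⦄ (φ : z ⟶ x), R (𝒳.p.map φ ≫ eqToHom hx) → (z ⟶ y)),
      (∀ ⦃z : 𝒳.obj⦄ (φ : z ⟶ x) (h : R (𝒳.p.map φ ≫ eqToHom hx)),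
        𝒳.p.IsHomLift (𝒳.p.map φ ≫ eqToHom hx) (θ φ h)) →
      (∀ ⦃z' z : 𝒳.obj⦄ (t : z' ⟶ z) (φ : z ⟶ x) (h : R (𝒳.p.map φ ≫ eqToHom hx))
        (h' : R (𝒳.p.map (t ≫ φ) ≫ eqToHom hx)), θ (t ≫ φ) h' = t ≫ θ φ h) →
      ∃! k : x ⟶ y, 𝒳.p.IsHomLift (𝟙 U) k ∧
        ∀ ⦃z : 𝒳.obj⦄ (φ : z ⟶ x) (h : R (𝒳.p.map φ ≫ eqToHom hx)), φ ≫ k = θ φ h

/-- Families of objects glue along `R`. -/
def ObjGlue : Prop :=
  ∀ G : Stk.sieveCat R ⥤ᵇ 𝒳, ∃ (x : 𝒳.obj) (γ : ∀ a : R.arrows.category, G.obj a ⟶ x), IsGlue G x γ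

variable {R 𝒳}

theorem isGlue_res (Y : FibCat.overCat U ⥤ᵇ 𝒳) :
    IsGlue ((Stk.resSieve R 𝒳).obj Y) (Y.obj (idObj U)) fun a => Y.map (toId a.obj) where
  over := obj_idObj Y
  lift a := isHomLift_toId Y a.obj
  nat a b f := by
    change Y.map f.hom ≫ Y.map (toId b.obj) = Y.map (toId a.obj)
    rw [← Functor.map_comp]
    exact congrArg Y.map (Over.OverMorphism.ext (Over.w f.hom))

theorem IsGlue.comp_hom {G : Stk.sieveCat R ⥤ᵇ 𝒳} {x y : 𝒳.obj}
    {γ : ∀ a : R.arrows.category, G.obj a ⟶ x} (hγ : IsGlue G x γ) (k : x ⟶ y)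
    [𝒳.p.IsHomLift (𝟙 U) k] : IsGlue G y fun a => γ a ≫ k where
  over := IsHomLift.codomain_eq 𝒳.p (𝟙 U) k
  lift a := by have := hγ.lift a; infer_instance
  nat a b f := by rw [← Category.assoc, hγ.nat]

theorem IsGlue.of_natTrans {G H : Stk.sieveCat R ⥤ᵇ 𝒳} {x : 𝒳.obj}
    {γ : ∀ a : R.arrows.category, H.obj a ⟶ x} (hγ : IsGlue H x γ) (α : G ⟶ H) :
    IsGlue G x fun a => α.toNatTrans.app a ≫ γ a where
  over := hγ.over
  lift a := by
    have := hγ.lift a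
    have := isHomLift_sieve_app α a
    infer_instance
  nat a b f := by rw [← Category.assoc, α.toNatTrans.naturality f, Category.assoc, hγ.nat]

/-- Morphisms between two glueings of the same family. -/
theorem existsUnique_glue_hom (hg : FibCat.IsFibGrpd 𝒳.p) (hM : MorGlue 𝒳 R)
    {G : Stk.sieveCat R ⥤ᵇ 𝒳} {x y : 𝒳.obj}
    {γ : ∀ a : R.arrows.category, G.obj a ⟶ x} (hγ : IsGlue G x γ)
    {δ : ∀ a : R.arrows.category, G.obj a ⟶ y} (hδ : IsGlue G y δ) :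
    ∃! k : x ⟶ y, 𝒳.p.IsHomLift (𝟙 U) k ∧ ∀ a, γ a ≫ k = δ a := by
  have hx := hγ.over
  have hsc : ∀ a : R.arrows.category, 𝒳.p.IsStronglyCartesian a.obj.hom (γ a) := fun a =>
    have := hγ.lift a
    isSC_of_fibGrpd 𝒳.p hg a.obj.hom (γ a)
  have hχ : ∀ ⦃z : 𝒳.obj⦄ (φ : z ⟶ x) (h : R (𝒳.p.map φ ≫ eqToHom hx)),
      ∃ χ : z ⟶ G.obj (sObj R _ h), 𝒳.p.IsHomLift (𝟙 (𝒳.p.obj z)) χ ∧
        χ ≫ γ (sObj R _ h) = φ := fun z φ h => by
    have : 𝒳.p.IsStronglyCartesian (𝒳.p.map φ ≫ eqToHom hx) (γ (sObj R _ h)) := hsc (sObj R _ h)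
    exact ⟨IsCartesian.map 𝒳.p (𝒳.p.map φ ≫ eqToHom hx) (γ (sObj R _ h)) φ, inferInstance,
      IsCartesian.fac 𝒳.p (𝒳.p.map φ ≫ eqToHom hx) (γ (sObj R _ h)) φ⟩
  choose χ hχl hχf using hχ
  let θ : ∀ ⦃z : 𝒳.obj⦄ (φ : z ⟶ x), R (𝒳.p.map φ ≫ eqToHom hx) → (z ⟶ y) :=
    fun z φ h => χ φ h ≫ δ (sObj R _ h)
  obtain ⟨k, ⟨hk, hkf⟩, hu⟩ := hM hx hδ.over θ
    (fun z φ h => by
      have := hχl φ h
      have : 𝒳.p.IsHomLift (𝒳.p.map φ ≫ eqToHom hx) (δ (sObj R _ h)) := hδ.lift (sObj R _ h)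
      exact inferInstanceAs (𝒳.p.IsHomLift _ (χ φ h ≫ δ (sObj R _ h))))
    (fun z' z t φ h h' => by
      have := hχl φ h
      have := hχl (t ≫ φ) h'
      have hw : 𝒳.p.map t ≫ (𝒳.p.map φ ≫ eqToHom hx) = 𝒳.p.map (t ≫ φ) ≫ eqToHom hx := by simp
      let j : sObj R _ h' ⟶ sObj R _ h := sHom R (𝒳.p.map t) hw
      have hj : 𝒳.p.IsHomLift (𝒳.p.map t) (G.map j) := isHomLift_sieve_map G j
      have : 𝒳.p.IsStronglyCartesian (𝒳.p.map φ ≫ eqToHom hx) (γ (sObj R _ h)) :=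
        hsc (sObj R _ h)
      have e : χ (t ≫ φ) h' ≫ G.map j = t ≫ χ φ h := by
        apply IsStronglyCartesian.ext 𝒳.p (𝒳.p.map φ ≫ eqToHom hx) (γ (sObj R _ h)) (𝒳.p.map t)
        rw [Category.assoc, hγ.nat j, hχf, Category.assoc, hχf]
      change χ (t ≫ φ) h' ≫ δ _ = t ≫ χ φ h ≫ δ _
      rw [← hδ.nat j, ← Category.assoc, e, Category.assoc])
  refine ⟨k, ⟨hk, fun a => ?_⟩, fun k' ⟨hk', hk'f⟩ => hu k' ⟨hk', fun z φ h => ?_⟩⟩
  · have := hγ.lift a
    have hp := IsHomLift.fac' 𝒳.p a.obj.hom (γ a)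
    have h : R (𝒳.p.map (γ a) ≫ eqToHom hx) := by
      rw [hp]
      simpa using R.downward_closed a.property (eqToHom (obj_sieve G a))
    let j : sObj R _ h ⟶ a := sHom R (eqToHom (obj_sieve G a)) (by simp [hp])
    have : 𝒳.p.IsHomLift (eqToHom (obj_sieve G a)) (G.map j) := isHomLift_sieve_map G j
    have := hχl (γ a) h
    have := hsc a
    have e : χ (γ a) h ≫ G.map j = 𝟙 _ := by
      have hl : 𝒳.p.IsHomLift (eqToHom (obj_sieve G a)) (χ (γ a) h ≫ G.map j) :=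
        IsHomLift.comp_lift_id_left 𝒳.p (eqToHom (obj_sieve G a)) (G.map j) (χ (γ a) h)
      have : 𝒳.p.IsHomLift (eqToHom (obj_sieve G a)) (𝟙 (G.obj a)) :=
        IsHomLift.id_lift_eqToHom_codomain _ (obj_sieve G a)
      apply IsStronglyCartesian.ext 𝒳.p a.obj.hom (γ a) (eqToHom (obj_sieve G a))
      rw [Category.assoc, hγ.nat j, hχf, Category.id_comp]
    rw [hkf (γ a) h]
    change χ (γ a) h ≫ δ _ = δ a
    rw [← hδ.nat j, ← Category.assoc, e, Category.id_comp]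
  · change φ ≫ k' = χ φ h ≫ δ _
    rw [← hk'f, ← Category.assoc, hχf]

theorem isPrestackFor_of_morGlue (hg : FibCat.IsFibGrpd 𝒳.p) (hM : MorGlue 𝒳 R) :
    Stk.IsPrestackFor R 𝒳 := by
  refine ⟨⟨fun {Y Y'} α => ?_⟩, ⟨fun {Y Y' β β'} h => ?_⟩⟩
  · obtain ⟨k, ⟨hk, hkf⟩, -⟩ := existsUnique_glue_hom hg hM (isGlue_res Y)
      ((isGlue_res Y').of_natTrans α)
    obtain ⟨β, hβ⟩ := exists_natTrans_at_id (cartAtId_of_fibGrpd hg Y') k
    refine ⟨β, basedNatTrans_ext fun a => ?_⟩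
    have := cartAtId_of_fibGrpd hg Y' a.obj
    have := isHomLift_app_left β a.obj
    have := isHomLift_sieve_app α a
    apply IsCartesian.ext 𝒳.p a.obj.hom (Y'.map (toId a.obj))
      (a' := Y.obj a.obj) (β.toNatTrans.app a.obj) (α.toNatTrans.app a)
    rw [app_comp_toId, hβ]
    exact hkf a
  · obtain ⟨k, -, hu⟩ := existsUnique_glue_hom hg hM (isGlue_res Y)
      ((isGlue_res Y').of_natTrans ((Stk.resSieve R 𝒳).map β))
    have hk : ∀ γ : Y ⟶ Y', (Stk.resSieve R 𝒳).map γ = (Stk.resSieve R 𝒳).map β →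
        γ.toNatTrans.app (idObj U) = k := fun γ e =>
      hu _ ⟨isHomLift_app_left γ (Over.mk (𝟙 U)), fun a => by
        rw [← e]; exact (app_comp_toId γ a.obj).symm⟩
    exact natTrans_ext_at_id (cartAtId_of_fibGrpd hg Y') ((hk β rfl).trans (hk β' h.symm).symm)

theorem morGlue_of_isPrestackFor (hg : FibCat.IsFibGrpd 𝒳.p) (h : Stk.IsPrestackFor R 𝒳) :
    MorGlue 𝒳 R := by
  intro x y hx hy θ hθ hnat
  have := isFibered_of_isFibGrpd 𝒳.p (h := hg)
  obtain ⟨Y, e, he, -⟩ := exists_ofObj (𝒳 := 𝒳) hx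
  obtain ⟨Y', e', he', hY'⟩ := exists_ofObj (𝒳 := 𝒳) hy
  have hR : ∀ a : R.arrows.category,
      R (𝒳.p.map (Y.map (toId a.obj) ≫ e.hom) ≫ eqToHom hx) := fun a => by
    have := isHomLift_toId Y a.obj
    rw [IsHomLift.fac' 𝒳.p a.obj.hom (Y.map (toId a.obj) ≫ e.hom)]
    simpa using R.downward_closed a.property (eqToHom (obj_over Y a.obj))
  let δ : ∀ a : R.arrows.category, Y.obj a.obj ⟶ y := fun a => θ _ (hR a)
  have hδ : IsGlue ((Stk.resSieve R 𝒳).obj Y) y δ :=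
    { over := hy
      lift := fun a => by
        have := isHomLift_toId Y a.obj
        have := hθ _ (hR a)
        have e1 := IsHomLift.fac' 𝒳.p a.obj.hom (Y.map (toId a.obj) ≫ e.hom)
        have e2 := IsHomLift.fac' 𝒳.p
          (𝒳.p.map (Y.map (toId a.obj) ≫ e.hom) ≫ eqToHom hx) (θ _ (hR a))
        exact IsHomLift.of_fac' 𝒳.p _ _ (obj_over Y a.obj) hy (by simp [δ, e2, e1])
      nat := fun a b f => by
        have e1 : Y.map f.hom ≫ Y.map (toId b.obj) ≫ e.hom = Y.map (toId a.obj) ≫ e.hom := by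
          rw [← Category.assoc, ← Functor.map_comp,
            show f.hom ≫ toId b.obj = toId a.obj from Over.OverMorphism.ext (Over.w f.hom)]
        change Y.map f.hom ≫ θ _ (hR b) = θ _ (hR a)
        rw [← hnat (Y.map f.hom) _ (hR b) (by rw [e1]; exact hR a)]
        congr 1 }
  have hα : ∃ α : (Stk.resSieve R 𝒳).obj Y ⟶ (Stk.resSieve R 𝒳).obj Y',
      ∀ a : R.arrows.category,
        α.toNatTrans.app a ≫ Y'.map (toId a.obj) ≫ e'.hom = δ a := by
    have hl := fun a : R.arrows.category => hδ.lift a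
    let app : ∀ a : R.arrows.category, Y.obj a.obj ⟶ Y'.obj a.obj := fun a =>
      have := hY' a.obj
      have := hl a
      IsCartesian.map 𝒳.p a.obj.hom (Y'.map (toId a.obj)) (δ a ≫ e'.inv)
    have happ : ∀ a : R.arrows.category, 𝒳.p.IsHomLift (𝟙 a.obj.left) (app a) := fun a =>
      have := hY' a.obj
      have := hl a
      IsCartesian.map_isHomLift 𝒳.p a.obj.hom (Y'.map (toId a.obj)) (δ a ≫ e'.inv)
    have hfac : ∀ a : R.arrows.category, app a ≫ Y'.map (toId a.obj) = δ a ≫ e'.inv := fun a =>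
      have := hY' a.obj
      have := hl a
      IsCartesian.fac 𝒳.p a.obj.hom (Y'.map (toId a.obj)) (δ a ≫ e'.inv)
    refine ⟨⟨{ app := app, naturality := fun a b f => ?_ }, happ⟩, fun a => ?_⟩
    · have := hY' b.obj
      have := happ a
      have := happ b
      have := isHomLift_map_left Y f.hom
      have := isHomLift_map_left Y' f.hom
      change Y.map f.hom ≫ app b = app a ≫ Y'.map f.hom
      apply IsStronglyCartesian.ext 𝒳.p b.obj.hom (Y'.map (toId b.obj)) f.hom.left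
      rw [Category.assoc, Category.assoc, hfac, ← Functor.map_comp,
        show f.hom ≫ toId b.obj = toId a.obj from Over.OverMorphism.ext (Over.w f.hom), hfac,
        ← hδ.nat f, Category.assoc]
      rfl
    · change app a ≫ Y'.map (toId a.obj) ≫ e'.hom = δ a
      rw [← Category.assoc, hfac, Category.assoc, Iso.inv_hom_id, Category.comp_id]
  obtain ⟨α, hα⟩ := hα
  obtain ⟨β, hβ⟩ := h.1.map_surjective α
  have : 𝒳.p.IsHomLift (𝟙 U) (β.toNatTrans.app (idObj U)) :=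
    isHomLift_app_left β (Over.mk (𝟙 U))
  refine ⟨e.inv ≫ β.toNatTrans.app (idObj U) ≫ e'.hom, ⟨inferInstance, fun z φ hφ => ?_⟩, ?_⟩
  · have := cartAtId_of_fibGrpd hg Y (Over.mk (𝒳.p.map φ ≫ eqToHom hx))
    let a : R.arrows.category := sObj R _ hφ
    have : 𝒳.p.IsStronglyCartesian (𝒳.p.map φ ≫ eqToHom hx) (Y.map (toId a.obj)) := this
    let χ := IsCartesian.map 𝒳.p (𝒳.p.map φ ≫ eqToHom hx) (Y.map (toId a.obj)) (φ ≫ e.inv)
    have hc : χ ≫ Y.map (toId a.obj) = φ ≫ e.inv := IsCartesian.fac _ _ _ _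
    have e1 : φ = χ ≫ Y.map (toId a.obj) ≫ e.hom := by
      rw [← Category.assoc, hc, Category.assoc, Iso.inv_hom_id, Category.comp_id]
    have e2 : θ φ hφ = χ ≫ δ a := by
      rw [← hnat χ _ (hR a) (by rw [← e1]; exact hφ)]
      congr 1
    rw [e2, ← hα, ← hβ, ← Category.assoc φ, ← hc, Category.assoc]
    congr 1
    change _ = β.toNatTrans.app a.obj ≫ Y'.map (toId a.obj) ≫ e'.hom
    rw [← Category.assoc, ← Category.assoc (β.toNatTrans.app a.obj), app_comp_toId]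
  · rintro k ⟨hk, hkf⟩
    obtain ⟨β', hβ'⟩ := exists_natTrans_at_id hY' (G := Y) (e.hom ≫ k ≫ e'.inv)
    have : β' = β := h.2.map_injective <| by
      rw [hβ]
      refine basedNatTrans_ext fun a => ?_
      have := hY' a.obj
      have := isHomLift_app_left β' a.obj
      have := isHomLift_sieve_app α a
      apply IsCartesian.ext 𝒳.p a.obj.hom (Y'.map (toId a.obj))
        (a' := Y.obj a.obj) (β'.toNatTrans.app a.obj) (α.toNatTrans.app a)
      rw [app_comp_toId, hβ', ← cancel_mono e'.hom]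
      simp only [Category.assoc, Iso.inv_hom_id, Category.comp_id]
      rw [hα a]
      simpa using hkf _ (hR a)
    rw [← this, hβ']
    simp

theorem isPrestackFor_iff (hg : FibCat.IsFibGrpd 𝒳.p) :
    Stk.IsPrestackFor R 𝒳 ↔ MorGlue 𝒳 R :=
  ⟨morGlue_of_isPrestackFor hg, isPrestackFor_of_morGlue hg⟩

theorem isStackFor_iff (hg : FibCat.IsFibGrpd 𝒳.p) :
    Stk.IsStackFor R 𝒳 ↔ MorGlue 𝒳 R ∧ ObjGlue 𝒳 R := by
  constructor
  · intro (h : (Stk.resSieve R 𝒳).IsEquivalence)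
    refine ⟨morGlue_of_isPrestackFor hg ⟨inferInstance, inferInstance⟩, fun G => ?_⟩
    exact ⟨_, _, (isGlue_res _).of_natTrans ((Stk.resSieve R 𝒳).objObjPreimageIso G).inv⟩
  · rintro ⟨hM, hO⟩
    obtain ⟨hF, hFa⟩ := isPrestackFor_of_morGlue hg hM
    refine { faithful := hFa, full := hF, essSurj := ⟨fun G => ?_⟩ }
    obtain ⟨x, γ, hγ⟩ := hO G
    have := isFibered_of_isFibGrpd 𝒳.p (h := hg)
    obtain ⟨Y, e, he, -⟩ := exists_ofObj (𝒳 := 𝒳) hγ.over
    have hsc : ∀ a : R.arrows.category, 𝒳.p.IsStronglyCartesian a.obj.hom (γ a) := fun a =>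
      have := hγ.lift a
      isSC_of_fibGrpd 𝒳.p hg _ _
    have hl : ∀ a : R.arrows.category,
        𝒳.p.IsHomLift a.obj.hom (Y.map (toId a.obj) ≫ e.hom) := fun a => by
      have := isHomLift_toId Y a.obj
      infer_instance
    let app : ∀ a : R.arrows.category, Y.obj a.obj ⟶ G.obj a := fun a =>
      have := hsc a
      have := hl a
      IsCartesian.map 𝒳.p a.obj.hom (γ a) (Y.map (toId a.obj) ≫ e.hom)
    have happ : ∀ a : R.arrows.category, 𝒳.p.IsHomLift (𝟙 a.obj.left) (app a) := fun a =>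
      have := hsc a
      have := hl a
      IsCartesian.map_isHomLift 𝒳.p a.obj.hom (γ a) (Y.map (toId a.obj) ≫ e.hom)
    have hfac : ∀ a : R.arrows.category,
        app a ≫ γ a = Y.map (toId a.obj) ≫ e.hom := fun a =>
      have := hsc a
      have := hl a
      IsCartesian.fac 𝒳.p a.obj.hom (γ a) _
    have hnat : ∀ (a b : R.arrows.category) (f : a ⟶ b),
        Y.map f.hom ≫ app b = app a ≫ G.map f := fun a b f => by
      have := hsc b
      have := happ a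
      have := happ b
      have := isHomLift_map_left Y f.hom
      have := isHomLift_sieve_map G f
      apply IsStronglyCartesian.ext 𝒳.p b.obj.hom (γ b) f.hom.left
      rw [Category.assoc, Category.assoc, hfac, hγ.nat, hfac, ← Category.assoc,
        ← Functor.map_comp,
        show f.hom ≫ toId b.obj = toId a.obj from Over.OverMorphism.ext (Over.w f.hom)]
    let α : (Stk.resSieve R 𝒳).obj Y ⟶ G :=
      ⟨{ app := app, naturality := fun a b f => hnat a b f }, happ⟩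
    have := isIso_basedNatTrans_of_fibGrpd hg α
    exact ⟨Y, ⟨asIso α⟩⟩

theorem isPrestack_iff {J : GrothendieckTopology C} :
    Stk.IsPrestack J 𝒳 ↔ FibCat.IsFibGrpd 𝒳.p ∧ ∀ ⦃U : C⦄ (R : Sieve U), R ∈ J U → MorGlue 𝒳 R :=
  and_congr_right fun hg => forall₂_congr fun _ _ => imp_congr Iff.rfl (isPrestackFor_iff hg)

theorem isStack_iff {J : GrothendieckTopology C} :
    Stk.IsStack J 𝒳 ↔ FibCat.IsFibGrpd 𝒳.p ∧
      ∀ ⦃U : C⦄ (R : Sieve U), R ∈ J U → MorGlue 𝒳 R ∧ ObjGlue 𝒳 R :=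
  and_congr_right fun hg => forall₂_congr fun _ _ => imp_congr Iff.rfl (isStackFor_iff hg)

theorem isPrestack_of_isStack {J : GrothendieckTopology C} (h : Stk.IsStack J 𝒳) :
    Stk.IsPrestack J 𝒳 :=
  ⟨h.1, fun _ R hR => have : (Stk.resSieve R 𝒳).IsEquivalence := h.2 R hR
    ⟨inferInstance, inferInstance⟩⟩

end Groth.Agent.Fib44
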