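import Groth.Agent.Fib44.Equiv
import Groth.Prelude.Def_AlgSt

/-!
Composition with a functor over the base, as a functor of categories of functors over the base.
-/

set_option backward.isDefEq.respectTransparency false
set_option backward.isDefEq.respectTransparency.types false

universe v₅ u₅ v₄ u₄ v₃ u₃ v₂ u₂ v u

open CategoryTheory CategoryTheory.Functor

namespace Groth.Agent.Fib44

variable {C : Type u} [Category.{v} C] {𝒜 : BasedCategory.{v₂, u₂} C} {𝒳 : BasedCategory.{v₃, u₃} C}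
  {𝒴 : BasedCategory.{v₄, u₄} C}

/-- Postcomposition with a functor over the base. -/
def post (𝒜 : BasedCategory.{v₂, u₂} C) (F : 𝒳 ⥤ᵇ 𝒴) : (𝒜 ⥤ᵇ 𝒳) ⥤ (𝒜 ⥤ᵇ 𝒴) where
  obj P := BasedFunctor.comp P F
  map α := BasedCategory.whiskerRight α F
  map_id P := basedNatTrans_ext fun a => F.map_id _
  map_comp α β := basedNatTrans_ext fun a => F.map_comp _ _

/-- A 2-morphism between two functors induces one between the postcompositions. -/
def postMap (𝒜 : BasedCategory.{v₂, u₂} C) {F G : 𝒳 ⥤ᵇ 𝒴} (α : F ⟶ G) : post 𝒜 F ⟶ post 𝒜 G where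
  app P := BasedCategory.whiskerLeft P α
  naturality P Q β := basedNatTrans_ext fun a => α.toNatTrans.naturality (β.toNatTrans.app a)

/-- A 2-isomorphism between two functors induces one between the postcompositions. -/
def postIso (𝒜 : BasedCategory.{v₂, u₂} C) {F G : 𝒳 ⥤ᵇ 𝒴} (e : F ≅ G) : post 𝒜 F ≅ post 𝒜 G where
  hom := postMap 𝒜 e.hom
  inv := postMap 𝒜 e.inv
  hom_inv_id := NatTrans.ext (funext fun P => basedNatTrans_ext fun a => (isoApp e (P.obj a)).hom_inv_id)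
  inv_hom_id := NatTrans.ext (funext fun P => basedNatTrans_ext fun a => (isoApp e (P.obj a)).inv_hom_id)

theorem post_isEquivalence {F : 𝒳 ⥤ᵇ 𝒴} (hF : FibCat.IsEquivOver F) :
    (post 𝒜 F).IsEquivalence := by
  obtain ⟨G, ⟨e₁⟩, ⟨e₂⟩⟩ := hF
  exact (CategoryTheory.Equivalence.mk (post 𝒜 F) (post 𝒜 G) (postIso 𝒜 e₁).symm
    (postIso 𝒜 e₂)).isEquivalence_functor

/-- Precomposition with a functor over the base, for a 2-morphism. -/
def preMap (𝒵 : BasedCategory.{v₅, u₅} C) {F G : 𝒳 ⥤ᵇ 𝒴} (α : F ⟶ G) :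
    Stk.restr F 𝒵 ⟶ Stk.restr G 𝒵 where
  app P := BasedCategory.whiskerRight α P
  naturality P Q β := basedNatTrans_ext fun a => (β.toNatTrans.naturality (α.toNatTrans.app a)).symm

/-- Precomposition, for a 2-isomorphism. -/
def preIso (𝒵 : BasedCategory.{v₅, u₅} C) {F G : 𝒳 ⥤ᵇ 𝒴} (e : F ≅ G) :
    Stk.restr F 𝒵 ≅ Stk.restr G 𝒵 where
  hom := preMap 𝒵 e.hom
  inv := preMap 𝒵 e.inv
  hom_inv_id := NatTrans.ext (funext fun P => basedNatTrans_ext fun a =>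
    (P.toFunctor.mapIso (isoApp e a)).hom_inv_id)
  inv_hom_id := NatTrans.ext (funext fun P => basedNatTrans_ext fun a =>
    (P.toFunctor.mapIso (isoApp e a)).inv_hom_id)

theorem restr_isEquivalence {F : 𝒳 ⥤ᵇ 𝒴} (hF : FibCat.IsEquivOver F) (𝒵 : BasedCategory.{v₅, u₅} C) :
    (Stk.restr F 𝒵).IsEquivalence := by
  obtain ⟨G, ⟨e₁⟩, ⟨e₂⟩⟩ := hF
  exact (CategoryTheory.Equivalence.mk (Stk.restr F 𝒵) (Stk.restr G 𝒵) (preIso 𝒵 e₂).symm
    (preIso 𝒵 e₁)).isEquivalence_functor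

theorem isStackFor_of_isEquivOver {F : 𝒳 ⥤ᵇ 𝒴} (hF : FibCat.IsEquivOver F) {U : C} (R : Sieve U)
    (h : Stk.IsStackFor R 𝒴) : Stk.IsStackFor R 𝒳 := by
  have : (Stk.resSieve R 𝒴).IsEquivalence := h
  have := post_isEquivalence (𝒜 := FibCat.overCat U) hF
  have := post_isEquivalence (𝒜 := Stk.sieveCat R) hF
  have : (Stk.resSieve R 𝒳 ⋙ post (Stk.sieveCat R) F).IsEquivalence :=
    inferInstanceAs (post (FibCat.overCat U) F ⋙ Stk.resSieve R 𝒴).IsEquivalence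
  exact Functor.isEquivalence_of_comp_right (Stk.resSieve R 𝒳) (post (Stk.sieveCat R) F)

theorem isPrestackFor_of_isEquivOver {F : 𝒳 ⥤ᵇ 𝒴} (hF : FibCat.IsEquivOver F) {U : C} (R : Sieve U)
    (h : Stk.IsPrestackFor R 𝒴) : Stk.IsPrestackFor R 𝒳 := by
  have := h.1
  have := h.2
  have := post_isEquivalence (𝒜 := FibCat.overCat U) hF
  have := post_isEquivalence (𝒜 := Stk.sieveCat R) hF
  have h1 : (Stk.resSieve R 𝒳 ⋙ post (Stk.sieveCat R) F).Full :=
    inferInstanceAs (post (FibCat.overCat U) F ⋙ Stk.resSieve R 𝒴).Full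
  have h2 : (Stk.resSieve R 𝒳 ⋙ post (Stk.sieveCat R) F).Faithful :=
    inferInstanceAs (post (FibCat.overCat U) F ⋙ Stk.resSieve R 𝒴).Faithful
  exact ⟨Functor.Full.of_comp_faithful (Stk.resSieve R 𝒳) (post (Stk.sieveCat R) F),
    Functor.Faithful.of_comp (Stk.resSieve R 𝒳) (post (Stk.sieveCat R) F)⟩

theorem isStack_iff_of_isEquivOver {F : 𝒳 ⥤ᵇ 𝒴} (hF : FibCat.IsEquivOver F)
    (J : GrothendieckTopology C) : Stk.IsStack J 𝒳 ↔ Stk.IsStack J 𝒴 := by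
  obtain ⟨G, hG, -, -⟩ := exists_inverse hF
  exact ⟨fun h => ⟨(isFibGrpd_iff_of_isEquivOver hF).mp h.1,
      fun _ R hR => isStackFor_of_isEquivOver hG R (h.2 R hR)⟩,
    fun h => ⟨(isFibGrpd_iff_of_isEquivOver hF).mpr h.1,
      fun _ R hR => isStackFor_of_isEquivOver hF R (h.2 R hR)⟩⟩

theorem isPrestack_iff_of_isEquivOver {F : 𝒳 ⥤ᵇ 𝒴} (hF : FibCat.IsEquivOver F)
    (J : GrothendieckTopology C) : Stk.IsPrestack J 𝒳 ↔ Stk.IsPrestack J 𝒴 := by
  obtain ⟨G, hG, -, -⟩ := exists_inverse hF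
  exact ⟨fun h => ⟨(isFibGrpd_iff_of_isEquivOver hF).mp h.1,
      fun _ R hR => isPrestackFor_of_isEquivOver hG R (h.2 R hR)⟩,
    fun h => ⟨(isFibGrpd_iff_of_isEquivOver hF).mpr h.1,
      fun _ R hR => isPrestackFor_of_isEquivOver hF R (h.2 R hR)⟩⟩

end Groth.Agent.Fib44
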