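import Groth.Agent.Fib44.Fp2
import Groth.Agent.Fib44.Descent
import Groth.Agent.Fib44.Post

/-!
Glueing in two-fibre products over the base.
-/

set_option backward.isDefEq.respectTransparency false
set_option backward.isDefEq.respectTransparency.types false

universe v₄ u₄ v₃ u₃ v₂ u₂ v u

open CategoryTheory CategoryTheory.Functor CategoryTheory.Limits

namespace Groth.Agent.Fib44

variable {C : Type u} [Category.{v} C] {U : C} {R : Sieve U}
variable {𝒳 : BasedCategory.{v₂, u₂} C} {𝒴 : BasedCategory.{v₃, u₃} C} {𝒮 : BasedCategory.{v₄, u₄} C}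
  (F : 𝒳 ⥤ᵇ 𝒮) (G : 𝒴 ⥤ᵇ 𝒮)

theorem isStackFor_fp (h𝒳 : Stk.IsStackFor R 𝒳) (h𝒴 : Stk.IsStackFor R 𝒴)
    (h𝒮 : Stk.IsPrestackFor R 𝒮) : Stk.IsStackFor R (FibCat.fp F G) := by
  have : (Stk.resSieve R 𝒳).IsEquivalence := h𝒳
  have : (Stk.resSieve R 𝒴).IsEquivalence := h𝒴
  have := h𝒮.1
  have := h𝒮.2
  have hfaith : (Stk.resSieve R (FibCat.fp F G)).Faithful := ⟨fun {P Q α β} h => by
    have h1 : (post _ (FibCat.fpFst F G)).map α = (post _ (FibCat.fpFst F G)).map β :=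
      (Stk.resSieve R 𝒳).map_injective (congrArg (post _ (FibCat.fpFst F G)).map h)
    have h2 : (post _ (FibCat.fpSnd F G)).map α = (post _ (FibCat.fpSnd F G)).map β :=
      (Stk.resSieve R 𝒴).map_injective (congrArg (post _ (FibCat.fpSnd F G)).map h)
    exact basedNatTrans_ext fun a => fp_hom_ext (congrArg (fun t => t.toNatTrans.app a) h1)
      (congrArg (fun t => t.toNatTrans.app a) h2)⟩
  have hfull : (Stk.resSieve R (FibCat.fp F G)).Full := ⟨fun {P Q} α => by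
    obtain ⟨a, ha⟩ := (Stk.resSieve R 𝒳).map_surjective
      (X := BasedFunctor.comp P (FibCat.fpFst F G)) (Y := BasedFunctor.comp Q (FibCat.fpFst F G))
      (BasedCategory.whiskerRight α (FibCat.fpFst F G))
    obtain ⟨b, hb⟩ := (Stk.resSieve R 𝒴).map_surjective
      (X := BasedFunctor.comp P (FibCat.fpSnd F G)) (Y := BasedFunctor.comp Q (FibCat.fpSnd F G))
      (BasedCategory.whiskerRight α (FibCat.fpSnd F G))
    have hsq : BasedCategory.whiskerRight a F ≫ BasedCategory.whiskerLeft Q (FibCat.fpIso F G).hom =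
        BasedCategory.whiskerLeft P (FibCat.fpIso F G).hom ≫ BasedCategory.whiskerRight b G := by
      refine (Stk.resSieve R 𝒮).map_injective (basedNatTrans_ext fun t => ?_)
      have ea : a.toNatTrans.app t.obj = (α.toNatTrans.app t).hom.fst :=
        congrArg (fun s => s.toNatTrans.app t) ha
      have eb : b.toNatTrans.app t.obj = (α.toNatTrans.app t).hom.snd :=
        congrArg (fun s => s.toNatTrans.app t) hb
      change F.map (a.toNatTrans.app t.obj) ≫ (Q.obj t.obj).obj.iso.hom =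
        (P.obj t.obj).obj.iso.hom ≫ G.map (b.toNatTrans.app t.obj)
      rw [ea, eb]
      exact fp_w (α.toNatTrans.app t)
    let β : P ⟶ Q :=
      ⟨{ app := fun c => fpHom (a.toNatTrans.app c) (b.toNatTrans.app c)
          (congrArg (fun s => s.toNatTrans.app c) hsq)
         naturality := fun c c' φ => fp_hom_ext (a.toNatTrans.naturality φ) (b.toNatTrans.naturality φ) },
        fun c => (fp_isHomLift_iff _ _).mpr (a.isHomLift' c)⟩
    refine ⟨β, basedNatTrans_ext fun t => fp_hom_ext ?_ ?_⟩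
    · exact congrArg (fun s => s.toNatTrans.app t) ha
    · exact congrArg (fun s => s.toNatTrans.app t) hb⟩
  refine { faithful := hfaith, full := hfull, essSurj := ⟨fun H => ?_⟩ }
  obtain ⟨A, ⟨ea⟩⟩ := Functor.EssSurj.mem_essImage (F := Stk.resSieve R 𝒳)
    (BasedFunctor.comp H (FibCat.fpFst F G))
  obtain ⟨B, ⟨eb⟩⟩ := Functor.EssSurj.mem_essImage (F := Stk.resSieve R 𝒴)
    (BasedFunctor.comp H (FibCat.fpSnd F G))
  let r : (Stk.resSieve R 𝒮).obj (BasedFunctor.comp A F) ≅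
      (Stk.resSieve R 𝒮).obj (BasedFunctor.comp B G) :=
    (post (Stk.sieveCat R) F).mapIso ea ≪≫ (Stk.restr H 𝒮).mapIso (FibCat.fpIso F G) ≪≫
      (post (Stk.sieveCat R) G).mapIso eb.symm
  let e : BasedFunctor.comp A F ≅ BasedFunctor.comp B G := (Stk.resSieve R 𝒮).preimageIso r
  refine ⟨FibCat.fpLift A B e, ⟨BasedNatIso.mkNatIso (NatIso.ofComponents
    (fun t => fpIsoMk (isoApp ea t) (isoApp eb t) ?_)
    (fun {t t'} f => fp_hom_ext (ea.hom.toNatTrans.naturality f) (eb.hom.toNatTrans.naturality f)))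
    fun t => (fp_isHomLift_iff _ _).mpr (ea.hom.isHomLift' t)⟩⟩
  have he : e.hom.toNatTrans.app t.obj = F.map (ea.hom.toNatTrans.app t) ≫
      (H.obj t).obj.iso.hom ≫ G.map (eb.inv.toNatTrans.app t) :=
    congrArg (fun s : (Stk.resSieve R 𝒮).obj (BasedFunctor.comp A F) ⟶
        (Stk.resSieve R 𝒮).obj (BasedFunctor.comp B G) => s.toNatTrans.app t)
      ((Stk.resSieve R 𝒮).map_preimage r.hom)
  change F.map (ea.hom.toNatTrans.app t) ≫ (H.obj t).obj.iso.hom =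
    e.hom.toNatTrans.app t.obj ≫ G.map (eb.hom.toNatTrans.app t)
  rw [he, Category.assoc, Category.assoc, ← Functor.map_comp]
  rw [show eb.inv.toNatTrans.app t ≫ eb.hom.toNatTrans.app t = 𝟙 _ from (isoApp eb t).inv_hom_id]
  erw [CategoryTheory.Functor.map_id, Category.comp_id]

variable {F G}

theorem isStack_fp {J : GrothendieckTopology C} (h𝒳 : Stk.IsStack J 𝒳) (h𝒴 : Stk.IsStack J 𝒴)
    (h𝒮 : Stk.IsPrestack J 𝒮) : Stk.IsStack J (FibCat.fp F G) :=
  ⟨isFibGrpd_fp h𝒳.1 h𝒴.1 h𝒮.1,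
    fun _ R hR => isStackFor_fp F G (h𝒳.2 R hR) (h𝒴.2 R hR) (h𝒮.2 R hR)⟩

theorem isFibSetoid_fp (h𝒳 : FibCat.IsFibSetoid 𝒳.p) (h𝒴 : FibCat.IsFibSetoid 𝒴.p)
    (h𝒮 : FibCat.IsFibGrpd 𝒮.p) : FibCat.IsFibSetoid (FibCat.fp F G).p := by
  refine ⟨isFibGrpd_fp h𝒳.1 h𝒴.1 h𝒮, fun V x y => ⟨fun f g => Subtype.ext (fp_hom_ext ?_ ?_)⟩⟩
  · have := f.2
    have := g.2
    exact congrArg Subtype.val ((h𝒳.2 V ⟨_, x.2⟩ ⟨_, y.2⟩).elim
      ⟨f.1.hom.fst, (fp_isHomLift_iff (𝟙 V) f.1).mp f.2⟩ ⟨g.1.hom.fst, (fp_isHomLift_iff (𝟙 V) g.1).mp g.2⟩)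
  · have := f.2
    have := g.2
    exact congrArg Subtype.val ((h𝒴.2 V ⟨_, (fp_proj_snd x.1).trans x.2⟩ ⟨_, (fp_proj_snd y.1).trans y.2⟩).elim
      ⟨f.1.hom.snd, fp_isHomLift_snd (𝟙 V) f.1⟩ ⟨g.1.hom.snd, fp_isHomLift_snd (𝟙 V) g.1⟩)

end Groth.Agent.Fib44
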