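import Groth.Agent.Fib44.Fp

/-!
The inertia of a functor over the base.
-/

set_option backward.isDefEq.respectTransparency false
set_option backward.isDefEq.respectTransparency.types false

universe v₃ u₃ v₂ u₂ v u

open CategoryTheory CategoryTheory.Functor CategoryTheory.Limits

namespace Groth.Agent.Fib44

variable {C : Type u} [Category.{v} C] {𝒳 : BasedCategory.{v₂, u₂} C} {𝒴 : BasedCategory.{v₃, u₃} C}
  {F : 𝒳 ⥤ᵇ 𝒴}

theorem aut_lift (x : FibCat.InertiaObj F) : 𝒳.p.IsHomLift (𝟙 (𝒳.p.obj x.pt)) x.aut.hom := by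
  rw [← BasedFunctor.isHomLift_iff F, x.map_aut]
  infer_instance

theorem inertia_isHomLift_iff {R S : C} {x y : (FibCat.inertia F).obj} (f : R ⟶ S) (φ : x ⟶ y) :
    (FibCat.inertia F).p.IsHomLift f φ ↔ 𝒳.p.IsHomLift f φ.hom :=
  (BasedFunctor.isHomLift_iff (FibCat.inertiaToBase F) f φ).symm

theorem isSC_inertia {R S : C} (f : R ⟶ S) {x y : (FibCat.inertia F).obj} (φ : x ⟶ y)
    [h : 𝒳.p.IsStronglyCartesian f φ.hom] : (FibCat.inertia F).p.IsStronglyCartesian f φ := by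
  have : (FibCat.inertia F).p.IsHomLift f φ := (inertia_isHomLift_iff f φ).mpr inferInstance
  refine { universal_property' := fun {z} g ψ hψ => ?_ }
  have := (inertia_isHomLift_iff (g ≫ f) ψ).mp hψ
  let χ := IsStronglyCartesian.map 𝒳.p f φ.hom (g := g) (f' := g ≫ f) rfl ψ.hom
  have hc : z.aut.hom ≫ χ = χ ≫ x.aut.hom := by
    have := aut_lift z
    have : 𝒳.p.IsHomLift (𝟙 R) x.aut.hom :=
      lift_id_of_eq _ (IsHomLift.domain_eq 𝒳.p f φ.hom) (aut_lift x)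
    have : 𝒳.p.IsHomLift g (z.aut.hom ≫ χ) := by
      have : 𝒳.p.IsHomLift (𝟙 ((FibCat.inertia F).p.obj z)) z.aut.hom := aut_lift z
      infer_instance
    apply IsStronglyCartesian.ext 𝒳.p f φ.hom g
    rw [Category.assoc, Category.assoc, φ.comm, IsStronglyCartesian.fac, ← Category.assoc,
      IsStronglyCartesian.fac]
    exact ψ.comm
  refine ⟨⟨χ, hc⟩, ⟨(inertia_isHomLift_iff (F := F) g _).mpr (inferInstanceAs (𝒳.p.IsHomLift g χ)),
    FibCat.InertiaObj.hom_ext (IsStronglyCartesian.fac 𝒳.p f φ.hom (f' := g ≫ f) rfl ψ.hom)⟩, ?_⟩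
  rintro τ ⟨hτ, hc'⟩
  have := (inertia_isHomLift_iff g τ).mp hτ
  exact FibCat.InertiaObj.hom_ext
    (IsStronglyCartesian.map_uniq 𝒳.p f φ.hom (f' := g ≫ f) rfl ψ.hom τ.hom
      (congrArg (fun k => k.hom) hc'))

theorem exists_inertia_lift [𝒳.p.IsFibered]
    (hF : ∀ ⦃a b : 𝒳.obj⦄ (φ : a ⟶ b), 𝒳.p.IsStronglyCartesian (𝒳.p.map φ) φ →
      𝒴.p.IsStronglyCartesian (𝒳.p.map φ) (F.map φ))
    (x : (FibCat.inertia F).obj) {V : C} (f : V ⟶ (FibCat.inertia F).p.obj x) :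
    ∃ (y : (FibCat.inertia F).obj) (φ : y ⟶ x),
      (FibCat.inertia F).p.IsStronglyCartesian f φ := by
  obtain ⟨y, φ, hφ⟩ := exists_sc_lift 𝒳.p (x := x.pt) rfl f
  have : 𝒳.p.IsHomLift (𝟙 ((FibCat.inertia F).p.obj x)) x.aut.hom := aut_lift x
  have h2 : 𝒳.p.IsStronglyCartesian (f ≫ 𝟙 _) (φ ≫ x.aut.hom) := inferInstance
  rw [Category.comp_id] at h2
  let α := IsCartesian.domainUniqueUpToIso 𝒳.p f φ (φ ≫ x.aut.hom)
  have hα : α.hom ≫ φ = φ ≫ x.aut.hom := IsCartesian.fac 𝒳.p f φ _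
  have hl : 𝒳.p.IsHomLift (𝟙 V) α.hom :=
    IsCartesian.domainUniqueUpToIso_inv_isHomLift 𝒳.p f φ (φ ≫ x.aut.hom)
  have hFα : F.map α.hom = 𝟙 (F.obj y) := by
    have : 𝒴.p.IsStronglyCartesian f (F.map φ) :=
      have := hF φ (isSC_self_of_isSC 𝒳.p f φ)
      have : 𝒴.p.IsHomLift f (F.map φ) := inferInstance
      isSC_of_isSC_self 𝒴.p _ _ (isSC_self_of_isSC 𝒴.p (𝒳.p.map φ) (F.map φ))
    have : 𝒴.p.IsHomLift (𝟙 V) (𝟙 (F.obj y)) :=
      IsHomLift.id (IsHomLift.domain_eq 𝒴.p f (F.map φ))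
    apply IsCartesian.ext 𝒴.p f (F.map φ)
    rw [← Functor.map_comp, hα, Functor.map_comp, x.map_aut]
    simp
  let y' : (FibCat.inertia F).obj := ⟨y, α, hFα⟩
  exact ⟨y', (⟨φ, hα⟩ : FibCat.InertiaObj.Hom y' x), isSC_inertia (F := F) f _ (h := hφ)⟩

theorem isFibered_inertia [𝒳.p.IsFibered]
    (hF : ∀ ⦃a b : 𝒳.obj⦄ (φ : a ⟶ b), 𝒳.p.IsStronglyCartesian (𝒳.p.map φ) φ →
      𝒴.p.IsStronglyCartesian (𝒳.p.map φ) (F.map φ)) :
    (FibCat.inertia F).p.IsFibered :=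
  IsFibered.of_exists_isStronglyCartesian fun x _ f => exists_inertia_lift hF x f

theorem isFibGrpd_inertia (h𝒳 : FibCat.IsFibGrpd 𝒳.p)
    (hF : ∀ ⦃a b : 𝒳.obj⦄ (φ : a ⟶ b), 𝒳.p.IsStronglyCartesian (𝒳.p.map φ) φ →
      𝒴.p.IsStronglyCartesian (𝒳.p.map φ) (F.map φ)) :
    FibCat.IsFibGrpd (FibCat.inertia F).p where
  exists_lift {x V} f := by
    have := isFibered_of_isFibGrpd 𝒳.p (h := h𝒳)
    obtain ⟨y, φ, hφ⟩ := exists_inertia_lift hF x f
    exact ⟨y, φ, inferInstance⟩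
  isStronglyCartesian φ :=
    isSC_inertia (F := F) _ φ (h := h𝒳.isStronglyCartesian φ.hom)

/-- The 2-automorphism of the diagonal composed with the forgetful functor of the inertia. -/
def inertiaDiagIso : BasedFunctor.comp (FibCat.inertiaToBase F) (FibCat.diag F) ≅
    BasedFunctor.comp (FibCat.inertiaToBase F) (FibCat.diag F) :=
  BasedNatIso.mkNatIso
    (NatIso.ofComponents
      (fun x => fpIsoMk x.aut (Iso.refl _) (by
        change F.map x.aut.hom ≫ 𝟙 _ = 𝟙 _ ≫ F.map (𝟙 _)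
        rw [x.map_aut]
        simp))
      (fun {x y} f => fp_hom_ext f.comm.symm (by
        change f.hom ≫ 𝟙 _ = 𝟙 _ ≫ f.hom
        rw [Category.comp_id, Category.id_comp])))
    fun x => (fp_isHomLift_iff (F := F) (G := F) _ _).mpr (aut_lift x)

/-- The comparison of the inertia with the self-intersection of the diagonal. -/
def inertiaToDiagFp : FibCat.inertia F ⥤ᵇ FibCat.fp (FibCat.diag F) (FibCat.diag F) :=
  FibCat.fpLift (FibCat.inertiaToBase F) (FibCat.inertiaToBase F) inertiaDiagIso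

theorem inertiaToDiagFp_isEquivOver : FibCat.IsEquivOver (inertiaToDiagFp (F := F)) := by
  have key : ∀ {x y : (FibCat.inertia F).obj}
      (φ : (inertiaToDiagFp (F := F)).obj x ⟶ (inertiaToDiagFp (F := F)).obj y),
      φ.hom.fst = φ.hom.snd ∧ x.aut.hom ≫ φ.hom.fst = φ.hom.fst ≫ y.aut.hom := fun {x y} φ => by
    have h1 : φ.hom.fst ≫ y.aut.hom = x.aut.hom ≫ φ.hom.snd :=
      congrArg (fun k => k.hom.fst) (fp_w φ)
    have h2 : φ.hom.fst ≫ 𝟙 _ = 𝟙 _ ≫ φ.hom.snd := congrArg (fun k => k.hom.snd) (fp_w φ)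
    have e : φ.hom.fst = φ.hom.snd := (Category.comp_id _).symm.trans (h2.trans (Category.id_comp _))
    exact ⟨e, by rw [h1, e]⟩
  have : (inertiaToDiagFp (F := F)).toFunctor.Full :=
    ⟨fun {x y} φ => ⟨(⟨φ.hom.fst, (key φ).2⟩ : FibCat.InertiaObj.Hom x y),
      fp_hom_ext rfl (key φ).1⟩⟩
  have : (inertiaToDiagFp (F := F)).toFunctor.Faithful :=
    ⟨fun h => FibCat.InertiaObj.hom_ext (congrArg (fun k => k.hom.fst) h)⟩
  refine isEquivOver_of_essSurjOver _ fun η => ?_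
  let ι : (FibCat.diag F).obj η.obj.fst ≅ (FibCat.diag F).obj η.obj.snd := η.obj.iso
  let P : 𝒳.obj := η.obj.fst
  let Q : 𝒳.obj := η.obj.snd
  let α : P ≅ Q := (FibCat.fpFst F F).toFunctor.mapIso ι
  let β : P ≅ Q := (FibCat.fpSnd F F).toFunctor.mapIso ι
  have hw : F.map α.hom = F.map β.hom := by
    have h : F.map α.hom ≫ 𝟙 _ = 𝟙 _ ≫ F.map β.hom := fp_w ι.hom
    exact (Category.comp_id _).symm.trans (h.trans (Category.id_comp _))
  refine ⟨(⟨P, α ≪≫ β.symm, ?_⟩ : FibCat.InertiaObj F),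
    fpIsoMk (Iso.refl P) β (fp_hom_ext ?_ ?_),
    (fp_isHomLift_iff (F := FibCat.diag F) (G := FibCat.diag F) _ _).mpr (IsHomLift.id rfl)⟩
  · change F.map (α.hom ≫ β.inv) = 𝟙 _
    rw [Functor.map_comp, hw, ← Functor.map_comp, Iso.hom_inv_id, CategoryTheory.Functor.map_id]
  · change 𝟙 P ≫ α.hom = (α.hom ≫ β.inv) ≫ β.hom
    simp
  · change 𝟙 P ≫ β.hom = 𝟙 P ≫ β.hom
    rfl

end Groth.Agent.Fib44
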