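import Groth.Agent.Fib44.Equiv

/-!
Functors out of slice categories over the base: evaluation at the identity.
-/

set_option backward.isDefEq.respectTransparency false
set_option backward.isDefEq.respectTransparency.types false

universe v₃ u₃ v₂ u₂ v u

open CategoryTheory CategoryTheory.Functor

namespace Groth.Agent.Fib44

variable {C : Type u} [Category.{v} C] {U : C} {𝒳 : BasedCategory.{v₂, u₂} C}

/-- An isomorphism of a fibre category. -/
def fiberIso {a b : 𝒳.obj} (e : a ≅ b) (he : 𝒳.p.IsHomLift (𝟙 U) e.hom)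
    (ha : 𝒳.p.obj a = U) (hb : 𝒳.p.obj b = U) :
    (Fiber.mk ha : 𝒳.p.Fiber U) ≅ Fiber.mk hb where
  hom := ⟨e.hom, he⟩
  inv := ⟨e.inv, inferInstance⟩
  hom_inv_id := Subtype.ext e.hom_inv_id
  inv_hom_id := Subtype.ext e.inv_hom_id

/-- The identity of `U` as an object of the slice. -/
abbrev idObj (U : C) : (FibCat.overCat U).obj := (Over.mk (𝟙 U) : Over U)

/-- The morphism to the identity of `U`. -/
abbrev toId (a : (FibCat.overCat U).obj) : a ⟶ idObj U := Over.homMk (show Over U from a).hom (by simp)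

theorem obj_over (G : FibCat.overCat U ⥤ᵇ 𝒳) (a : Over U) : 𝒳.p.obj (G.obj a) = a.left :=
  G.w_obj a

theorem obj_idObj (G : FibCat.overCat U ⥤ᵇ 𝒳) : 𝒳.p.obj (G.obj (idObj U)) = U :=
  G.w_obj (idObj U)

instance isHomLift_toId (G : FibCat.overCat U ⥤ᵇ 𝒳) (a : Over U) :
    𝒳.p.IsHomLift a.hom (G.map (toId a)) :=
  based_isHomLift_self G (toId a)

theorem isHomLift_map_left (G : FibCat.overCat U ⥤ᵇ 𝒳) {a b : Over U} (f : a ⟶ b) :
    𝒳.p.IsHomLift f.left (G.map f) :=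
  based_isHomLift_self G (f : (show (FibCat.overCat U).obj from a) ⟶ b)

theorem isHomLift_app_left {G H : FibCat.overCat U ⥤ᵇ 𝒳} (α : G ⟶ H) (a : Over U) :
    𝒳.p.IsHomLift (𝟙 a.left) (α.toNatTrans.app a) :=
  α.isHomLift' a

/-- All the `G(a ⟶ id)` are strongly cartesian. -/
def CartAtId (G : FibCat.overCat U ⥤ᵇ 𝒳) : Prop :=
  ∀ a : Over U, 𝒳.p.IsStronglyCartesian a.hom (G.map (toId a))

theorem cartAtId_of_preserves {G : FibCat.overCat U ⥤ᵇ 𝒳}
    (hG : FibCat.PreservesStronglyCartesian G) : CartAtId G := fun a =>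
  have : (FibCat.overCat U).p.IsHomLift a.hom (toId a) :=
    IsHomLift.map (Over.forget U) (toId a)
  hG _ _ (isSC_of_fibGrpd (FibCat.overCat U).p (overForget_isFibGrpd U) _ _)

theorem cartAtId_of_fibGrpd (h : FibCat.IsFibGrpd 𝒳.p) (G : FibCat.overCat U ⥤ᵇ 𝒳) : CartAtId G :=
  fun _ => isSC_of_fibGrpd 𝒳.p h _ _

theorem preserves_of_cartAtId {G : FibCat.overCat U ⥤ᵇ 𝒳} (hG : CartAtId G) :
    FibCat.PreservesStronglyCartesian G := by
  intro R S f a b φ hφ
  have : 𝒳.p.IsHomLift f (G.map φ) := inferInstance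
  apply isSC_of_isSC_self
  have h1 : 𝒳.p.IsHomLift (Over.Hom.left φ) (G.map φ) := isHomLift_map_left G φ
  have : 𝒳.p.IsStronglyCartesian (Over.Hom.left φ) (G.map φ) := by
    have := hG b
    have h2 : 𝒳.p.IsStronglyCartesian (Over.Hom.left φ ≫ (show Over U from b).hom)
        (G.map φ ≫ G.map (toId b)) := by
      rw [Over.w φ, ← Functor.map_comp, show φ ≫ toId b = toId a from Over.OverMorphism.ext (Over.w φ)]
      exact hG a
    exact IsStronglyCartesian.of_comp 𝒳.p (g := (show Over U from b).hom) (ψ := G.map (toId b))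
  exact isSC_self_of_isSC 𝒳.p (Over.Hom.left φ) (G.map φ)

theorem app_comp_toId {G H : FibCat.overCat U ⥤ᵇ 𝒳} (α : G ⟶ H) (a : Over U) :
    α.toNatTrans.app a ≫ H.map (toId a) = G.map (toId a) ≫ α.toNatTrans.app (idObj U) :=
  (α.toNatTrans.naturality (toId a)).symm

theorem natTrans_ext_at_id {G H : FibCat.overCat U ⥤ᵇ 𝒳} (hH : CartAtId H) {α β : G ⟶ H}
    (h : α.toNatTrans.app (idObj U) = β.toNatTrans.app (idObj U)) : α = β := by
  refine basedNatTrans_ext fun a => ?_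
  have := hH a
  have := isHomLift_app_left α a
  have := isHomLift_app_left β a
  apply IsCartesian.ext 𝒳.p (show Over U from a).hom (H.map (toId a))
  rw [app_comp_toId, app_comp_toId, h]

theorem exists_natTrans_at_id {G H : FibCat.overCat U ⥤ᵇ 𝒳} (hH : CartAtId H)
    (k : G.obj (idObj U) ⟶ H.obj (idObj U)) [hk : 𝒳.p.IsHomLift (𝟙 U) k] :
    ∃ α : G ⟶ H, α.toNatTrans.app (idObj U) = k := by
  have hS := hH
  let app : ∀ a : Over U, G.obj a ⟶ H.obj a := fun a =>
    have := hS a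
    IsCartesian.map 𝒳.p a.hom (H.map (toId a)) (G.map (toId a) ≫ k)
  have hlift : ∀ a : Over U, 𝒳.p.IsHomLift (𝟙 a.left) (app a) := fun a =>
    have := hS a
    IsCartesian.map_isHomLift 𝒳.p a.hom (H.map (toId a)) (G.map (toId a) ≫ k)
  have hfac : ∀ a : Over U, app a ≫ H.map (toId a) = G.map (toId a) ≫ k := fun a =>
    have := hS a
    IsCartesian.fac 𝒳.p a.hom (H.map (toId a)) _
  refine ⟨⟨{ app := app, naturality := fun a b f => ?_ }, fun a => hlift a⟩, ?_⟩
  · have := hS b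
    have := hlift a
    have := hlift b
    have := isHomLift_map_left G f
    have := isHomLift_map_left H f
    apply IsStronglyCartesian.ext 𝒳.p (show Over U from b).hom (H.map (toId b))
      (Over.Hom.left f)
    have e : f ≫ toId b = toId a := Over.OverMorphism.ext (Over.w f)
    rw [Category.assoc, Category.assoc, hfac, ← Functor.map_comp, e, hfac, ← Category.assoc,
      ← Functor.map_comp, e]
  · change app (idObj U) = k
    have e : toId (idObj U) = 𝟙 (idObj U) := Over.OverMorphism.ext rfl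
    have h1 := hfac (idObj U)
    rw [e] at h1
    simpa using h1

theorem isIso_natTrans_at_id {G H : FibCat.overCat U ⥤ᵇ 𝒳} (hG : CartAtId G) (hH : CartAtId H)
    (α : G ⟶ H) [IsIso (α.toNatTrans.app (idObj U))] : IsIso α := by
  have : 𝒳.p.IsHomLift (𝟙 U) (α.toNatTrans.app (idObj U)) := isHomLift_app_left α (Over.mk (𝟙 U))
  obtain ⟨β, hβ⟩ := exists_natTrans_at_id (G := H) hG (inv (α.toNatTrans.app (idObj U)))
  exact ⟨β, natTrans_ext_at_id hG
      (show α.toNatTrans.app _ ≫ β.toNatTrans.app _ = 𝟙 _ by rw [hβ]; simp),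
    natTrans_ext_at_id hH
      (show β.toNatTrans.app _ ≫ α.toNatTrans.app _ = 𝟙 _ by rw [hβ]; simp)⟩

theorem exists_ofObj [𝒳.p.IsFibered] {x : 𝒳.obj} (hx : 𝒳.p.obj x = U) :
    ∃ (G : FibCat.overCat U ⥤ᵇ 𝒳) (e : G.obj (idObj U) ≅ x),
      𝒳.p.IsHomLift (𝟙 U) e.hom ∧ CartAtId G := by
  have hl : ∀ a : Over U, ∃ (y : 𝒳.obj) (φ : y ⟶ x), 𝒳.p.IsStronglyCartesian a.hom φ :=
    fun a => exists_sc_lift 𝒳.p hx a.hom
  choose y φ hφ using hl
  let m : ∀ {a b : Over U}, (a ⟶ b) → (y a ⟶ y b) := fun {a b} f =>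
    have := hφ a
    have := hφ b
    IsStronglyCartesian.map 𝒳.p b.hom (φ b) (g := f.left) (Over.w f).symm (φ a)
  have hm : ∀ {a b : Over U} (f : a ⟶ b), 𝒳.p.IsHomLift f.left (m f) := fun {a b} f =>
    have := hφ a
    have := hφ b
    IsStronglyCartesian.map_isHomLift 𝒳.p b.hom (φ b) (Over.w f).symm (φ a)
  have hmf : ∀ {a b : Over U} (f : a ⟶ b), m f ≫ φ b = φ a := fun {a b} f =>
    have := hφ a
    have := hφ b
    IsStronglyCartesian.fac 𝒳.p b.hom (φ b) (Over.w f).symm (φ a)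
  have hy : ∀ a : Over U, 𝒳.p.obj (y a) = a.left := fun a =>
    have := hφ a
    IsHomLift.domain_eq 𝒳.p a.hom (φ a)
  have muniq : ∀ {a b : Over U} (f : a ⟶ b) (χ : y a ⟶ y b) [𝒳.p.IsHomLift f.left χ],
      χ ≫ φ b = φ a → χ = m f := fun {a b} f χ _ h => by
    have := hφ b
    have := hm f
    exact IsStronglyCartesian.ext 𝒳.p b.hom (φ b) f.left (h.trans (hmf f).symm)
  let G : FibCat.overCat U ⥤ᵇ 𝒳 :=
    { obj := y
      map := fun f => m f
      map_id := fun a => by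
        have : 𝒳.p.IsHomLift (Over.Hom.left (𝟙 a)) (𝟙 (y a)) := IsHomLift.id (hy a)
        exact (muniq (𝟙 a) (𝟙 (y a)) (Category.id_comp _)).symm
      map_comp := fun {a b c} f g => by
        have := hm f
        have := hm g
        have : 𝒳.p.IsHomLift (Over.Hom.left (f ≫ g)) (m f ≫ m g) :=
          inferInstanceAs (𝒳.p.IsHomLift (Over.Hom.left f ≫ Over.Hom.left g) (m f ≫ m g))
        exact (muniq (f ≫ g) (m f ≫ m g) (by rw [Category.assoc, hmf, hmf])).symm
      w := Functor.ext hy fun a b f => by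
        have := hm f
        exact IsHomLift.fac' 𝒳.p (Over.Hom.left f) (m f) }
  have h1 : 𝒳.p.IsStronglyCartesian (𝟙 U) (φ (idObj U)) := hφ (idObj U)
  have : IsIso (φ (idObj U)) :=
    IsStronglyCartesian.isIso_of_base_isIso 𝒳.p (𝟙 U) (φ (idObj U))
  refine ⟨G, asIso (φ (idObj U)), h1.toIsHomLift, fun a => ?_⟩
  have := hφ a
  have := hm (toId a)
  have h2 : 𝒳.p.IsStronglyCartesian (a.hom ≫ 𝟙 U) (m (toId a) ≫ φ (idObj U)) := by
    rw [hmf, Category.comp_id]; infer_instance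
  exact IsStronglyCartesian.of_comp 𝒳.p (g := 𝟙 U) (ψ := φ (idObj U))

theorem evalAtId_faithful_full (P : ObjectProperty (FibCat.overCat U ⥤ᵇ 𝒳))
    (hP : ∀ G, P G → CartAtId G) :
    (P.ι ⋙ FibCat.evalAtId 𝒳 U).Full ∧ (P.ι ⋙ FibCat.evalAtId 𝒳 U).Faithful := by
  refine ⟨⟨fun {G H} k => ?_⟩, ⟨fun {G H α β} h => ?_⟩⟩
  · have := k.2
    obtain ⟨α, hα⟩ := exists_natTrans_at_id (G := G.obj) (hP _ H.property) k.1
    exact ⟨ObjectProperty.homMk α, Subtype.ext hα⟩
  · exact ObjectProperty.hom_ext _ (natTrans_ext_at_id (hP _ H.property) (congrArg Subtype.val h))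

theorem evalAtId_isEquivalence_of_fibGrpd (h : FibCat.IsFibGrpd 𝒳.p) (U : C) :
    (FibCat.evalAtId 𝒳 U).IsEquivalence := by
  have := isFibered_of_isFibGrpd 𝒳.p (h := h)
  refine { faithful := ⟨fun {G H α β} e => natTrans_ext_at_id (cartAtId_of_fibGrpd h _)
      (congrArg Subtype.val e)⟩, full := ⟨fun {G H} k => ?_⟩, essSurj := ⟨fun x => ?_⟩ }
  · have := k.2
    obtain ⟨α, hα⟩ := exists_natTrans_at_id (G := G) (cartAtId_of_fibGrpd h H) k.1
    exact ⟨α, Subtype.ext hα⟩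
  · obtain ⟨G, e, he, -⟩ := exists_ofObj (𝒳 := 𝒳) x.2
    exact ⟨G, ⟨fiberIso e he (obj_idObj G) x.2⟩⟩

theorem evalAtId_isEquivalence_of_fibered [𝒳.p.IsFibered] (U : C) :
    ((ObjectProperty.ι (FibCat.PreservesStronglyCartesian (𝒳 := FibCat.overCat U) (𝒴 := 𝒳))) ⋙
      FibCat.evalAtId 𝒳 U).IsEquivalence := by
  obtain ⟨h1, h2⟩ := evalAtId_faithful_full
    (FibCat.PreservesStronglyCartesian (𝒳 := FibCat.overCat U) (𝒴 := 𝒳))
    fun G hG => cartAtId_of_preserves hG
  refine { faithful := h2, full := h1, essSurj := ⟨fun x => ?_⟩ }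
  obtain ⟨G, e, he, hG⟩ := exists_ofObj (𝒳 := 𝒳) x.2
  exact ⟨⟨G, preserves_of_cartAtId hG⟩, ⟨fiberIso e he (obj_idObj G) x.2⟩⟩

/-- The functor of slices induced by a morphism of the base, as a functor over the base. -/
abbrev overMap {V U : C} (h : V ⟶ U) : FibCat.overCat V ⥤ᵇ FibCat.overCat U :=
  ⟨Over.map h, Over.mapForget_eq h⟩

end Groth.Agent.Fib44
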