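import Groth.Agent.Fib44.Repr1
import Mathlib.CategoryTheory.Limits.Shapes.BinaryProducts

/-!
Representability and diagonals.
-/

set_option backward.isDefEq.respectTransparency false
set_option backward.isDefEq.respectTransparency.types false

universe v₅ u₅ v₄ u₄ v₃ u₃ v₂ u₂ v u

open CategoryTheory CategoryTheory.Functor CategoryTheory.Limits

namespace Groth.Agent.Fib44

variable {C : Type u} [Category.{v} C]

theorem self_hom_ext {a b : (FibCat.selfOver C).obj} {R S : C} (f : R ⟶ S) (φ ψ : a ⟶ b)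
    [(FibCat.selfOver C).p.IsHomLift f φ] [(FibCat.selfOver C).p.IsHomLift f ψ] : φ = ψ :=
  map_eq_map_of_isHomLift (FibCat.selfOver C).p f φ ψ

theorem over_hom_left {R S U : C} {a b : (FibCat.overCat U).obj} (f : R ⟶ S) (φ : a ⟶ b)
    [h : (FibCat.overCat U).p.IsHomLift f φ] :
    Over.Hom.left φ = eqToHom (IsHomLift.domain_eq (FibCat.overCat U).p f φ) ≫ f ≫
      eqToHom (IsHomLift.codomain_eq (FibCat.overCat U).p f φ).symm :=
  IsHomLift.fac' (FibCat.overCat U).p f φ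

theorem isRepresentable_fp_selfOver [HasBinaryProducts C] {U V : C}
    (A : FibCat.overCat U ⥤ᵇ FibCat.selfOver C) (B : FibCat.overCat V ⥤ᵇ FibCat.selfOver C) :
    FibCat.IsRepresentable (FibCat.fp A B) := by
  let pa : (FibCat.overCat U).obj := (Over.mk (prod.fst : U ⨯ V ⟶ U) : Over U)
  let pb : (FibCat.overCat V).obj := (Over.mk (prod.snd : U ⨯ V ⟶ V) : Over V)
  have hab : A.obj pa = B.obj pb := (A.w_obj pa).trans (B.w_obj pb).symm
  let ξ : (FibCat.fp A B).obj := fpMk pa pb (eqToIso hab) (by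
    rw [eqToIso.hom]
    exact IsHomLift.eqToHom_domain_lift_id _ (A.w_obj pa))
  have hw : ∀ (ρ : (FibCat.fp A B).obj) (α : ρ.obj.fst ⟶ pa) (β : ρ.obj.snd ⟶ pb),
      Over.Hom.left β = eqToHom (fp_proj_snd ρ) ≫ Over.Hom.left α →
      A.map α ≫ ξ.obj.iso.hom = ρ.obj.iso.hom ≫ B.map β := fun ρ α β h => by
    let k : (FibCat.fp A B).p.obj ρ ⟶ U ⨯ V := Over.Hom.left α
    have h1 : (FibCat.overCat U).p.IsHomLift k α := IsHomLift.map (Over.forget U) α
    have h2 : (FibCat.overCat V).p.IsHomLift k β :=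
      IsHomLift.of_fac' _ _ _ (fp_proj_snd ρ) rfl
        (show Over.Hom.left β = _ by rw [h]; simp [k])
    have h3 : (FibCat.selfOver C).p.IsHomLift (𝟙 ((FibCat.fp A B).p.obj ρ)) ρ.obj.iso.hom := ρ.property
    have h4 : (FibCat.selfOver C).p.IsHomLift (𝟙 (U ⨯ V)) ξ.obj.iso.hom := ξ.property
    exact self_hom_ext k (A.map α ≫ ξ.obj.iso.hom) (ρ.obj.iso.hom ≫ B.map β)
  refine isRepresentable_of_terminal
    (isFibGrpd_fp (overForget_isFibGrpd U) (overForget_isFibGrpd V) selfOver_isFibGrpd) ξ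
    fun ρ => ?_
  let l : (show Over U from ρ.obj.fst).left ⟶ U ⨯ V := prod.lift (show Over U from ρ.obj.fst).hom
    (eqToHom (fp_proj_snd ρ).symm ≫ (show Over V from ρ.obj.snd).hom)
  let α : ρ.obj.fst ⟶ pa := (Over.homMk l (prod.lift_fst _ _) :
    (show Over U from ρ.obj.fst) ⟶ Over.mk (prod.fst : U ⨯ V ⟶ U))
  let β : ρ.obj.snd ⟶ pb := (Over.homMk (eqToHom (fp_proj_snd ρ) ≫ l) (by simp [l]) :
    (show Over V from ρ.obj.snd) ⟶ Over.mk (prod.snd : U ⨯ V ⟶ V))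
  refine ⟨{ default := fpHom α β (hw ρ α β rfl), uniq := fun τ => ?_ }⟩
  have h2 := fp_isHomLift_snd ((FibCat.fp A B).p.map τ) τ
  have e2 : Over.Hom.left τ.hom.snd = eqToHom (fp_proj_snd ρ) ≫ Over.Hom.left τ.hom.fst := by
    rw [over_hom_left ((FibCat.fp A B).p.map τ) τ.hom.snd]
    simp
    rfl
  have e1 : Over.Hom.left τ.hom.fst = l := by
    apply Limits.prod.hom_ext
    · exact (Over.w τ.hom.fst).trans (prod.lift_fst _ _).symm
    · rw [prod.lift_snd, ← Over.w τ.hom.snd]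
      change _ = eqToHom _ ≫ Over.Hom.left τ.hom.snd ≫ prod.snd
      rw [e2]
      simp
  exact fp_hom_ext (Over.OverMorphism.ext e1) (Over.OverMorphism.ext (e2.trans (by rw [e1]; rfl)))

section DiagCmp

variable {𝒳 : BasedCategory.{v₂, u₂} C} {𝒴 : BasedCategory.{v₃, u₃} C}
  {𝒵 : BasedCategory.{v₄, u₄} C} {𝒜 : BasedCategory.{v₅, u₅} C}
  (g : 𝒴 ⥤ᵇ 𝒵) (G : 𝒜 ⥤ᵇ 𝒴) (f : 𝒳 ⥤ᵇ 𝒴)

/-- The pair of functors from the fibre product after composing to the base. -/
abbrev diagPair :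
    FibCat.fp (BasedFunctor.comp G g) (BasedFunctor.comp f g) ⥤ᵇ FibCat.fp g g :=
  FibCat.fpLift (BasedFunctor.comp (FibCat.fpFst _ _) G) (BasedFunctor.comp (FibCat.fpSnd _ _) f)
    (FibCat.fpIso (BasedFunctor.comp G g) (BasedFunctor.comp f g))

/-- The comparison of a fibre product with the base change of a diagonal. -/
def diagCmp : FibCat.fp (diagPair g G f) (FibCat.diag g) ⥤ᵇ FibCat.fp G f :=
  FibCat.fpLift (BasedFunctor.comp (FibCat.fpFst _ _) (FibCat.fpFst _ _))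
    (BasedFunctor.comp (FibCat.fpFst _ _) (FibCat.fpSnd _ _))
    (AlgSt88.bRight (FibCat.fpIso (diagPair g G f) (FibCat.diag g)) (FibCat.fpFst g g) ≪≫
      (AlgSt88.bRight (FibCat.fpIso (diagPair g G f) (FibCat.diag g)) (FibCat.fpSnd g g)).symm)

theorem diagCmp_iso (x : (FibCat.fp (diagPair g G f) (FibCat.diag g)).obj) :
    ((diagCmp g G f).obj x).obj.iso.hom =
      x.obj.iso.hom.hom.fst ≫ x.obj.iso.inv.hom.snd := rfl

theorem diagCmp_isEquivOver : FibCat.IsEquivOver (diagCmp g G f) := by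
  have key : ∀ {x y : (FibCat.fp (diagPair g G f) (FibCat.diag g)).obj} (u : x ⟶ y),
      G.map u.hom.fst.hom.fst ≫ y.obj.iso.hom.hom.fst = x.obj.iso.hom.hom.fst ≫ u.hom.snd :=
    fun u => congrArg (fun k => k.hom.fst) (fp_w u)
  have hfp : ∀ (x : (FibCat.fp (diagPair g G f) (FibCat.diag g)).obj),
      IsIso x.obj.iso.hom.hom.fst ∧ IsIso x.obj.iso.hom.hom.snd := fun x =>
    ⟨((FibCat.fpFst g g).toFunctor.mapIso x.obj.iso).isIso_hom,
      ((FibCat.fpSnd g g).toFunctor.mapIso x.obj.iso).isIso_hom⟩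
  have hrel : ∀ x : (FibCat.fp (diagPair g G f) (FibCat.diag g)).obj,
      g.map x.obj.iso.hom.hom.fst = x.obj.fst.obj.iso.hom ≫ g.map x.obj.iso.hom.hom.snd := fun x =>
    (Category.comp_id _).symm.trans (fp_w x.obj.iso.hom)
  have : (diagCmp g G f).toFunctor.Faithful := ⟨fun {x y u u'} h => by
    have h1 : u.hom.fst.hom.fst = u'.hom.fst.hom.fst := congrArg (fun k => k.hom.fst) h
    have h2 : u.hom.fst.hom.snd = u'.hom.fst.hom.snd := congrArg (fun k => k.hom.snd) h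
    refine fp_hom_ext (fp_hom_ext h1 h2) ?_
    have := (key u).symm.trans ((congrArg (fun k => G.map k ≫ y.obj.iso.hom.hom.fst) h1).trans
      (key u'))
    have := (hfp x).1
    exact (cancel_epi x.obj.iso.hom.hom.fst).mp ‹_ ≫ _ = _ ≫ _›⟩
  have : (diagCmp g G f).toFunctor.Full := ⟨fun {x y} φ => by
    let α : x.obj.fst.obj.fst ⟶ y.obj.fst.obj.fst := φ.hom.fst
    let ξ : x.obj.fst.obj.snd ⟶ y.obj.fst.obj.snd := φ.hom.snd
    have := (hfp x).1
    have := (hfp x).2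
    have := (hfp y).1
    have := (hfp y).2
    let σ : x.obj.snd ⟶ y.obj.snd :=
      inv x.obj.iso.hom.hom.fst ≫ G.map α ≫ y.obj.iso.hom.hom.fst
    have hw : G.map α ≫ y.obj.iso.hom.hom.fst ≫ y.obj.iso.inv.hom.snd =
        (x.obj.iso.hom.hom.fst ≫ x.obj.iso.inv.hom.snd) ≫ f.map ξ := fp_w φ
    have hx2 : x.obj.iso.inv.hom.snd = inv x.obj.iso.hom.hom.snd :=
      (IsIso.Iso.inv_hom ((FibCat.fpSnd g g).toFunctor.mapIso x.obj.iso)).symm
    have hy2 : y.obj.iso.inv.hom.snd = inv y.obj.iso.hom.hom.snd :=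
      (IsIso.Iso.inv_hom ((FibCat.fpSnd g g).toFunctor.mapIso y.obj.iso)).symm
    rw [hx2, hy2] at hw
    have hs : f.map ξ ≫ y.obj.iso.hom.hom.snd = x.obj.iso.hom.hom.snd ≫ σ := by
      have hw' : G.map α ≫ y.obj.iso.hom.hom.fst = (x.obj.iso.hom.hom.fst ≫
          inv x.obj.iso.hom.hom.snd) ≫ f.map ξ ≫ y.obj.iso.hom.hom.snd := by
        rw [← Category.assoc _ (f.map ξ), ← hw]
        simp
      simp only [σ]
      rw [hw']
      simp
    have hσ : G.map α ≫ y.obj.iso.hom.hom.fst = x.obj.iso.hom.hom.fst ≫ σ :=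
      (IsIso.hom_inv_id_assoc x.obj.iso.hom.hom.fst _).symm
    have hq : g.map (G.map α) ≫ y.obj.fst.obj.iso.hom =
        x.obj.fst.obj.iso.hom ≫ g.map (f.map ξ) := by
      have : IsIso (g.map y.obj.iso.hom.hom.snd) := inferInstance
      refine (cancel_mono (g.map y.obj.iso.hom.hom.snd)).mp ?_
      refine (Category.assoc _ _ _).trans ?_
      refine (congrArg (g.map (G.map α) ≫ ·) (hrel y).symm).trans ?_
      refine (g.map_comp _ _).symm.trans ?_
      refine (congrArg g.map hσ).trans ?_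
      refine (g.map_comp _ _).trans ?_
      refine (congrArg (· ≫ g.map σ) (hrel x)).trans ?_
      refine (Category.assoc _ _ _).trans ?_
      refine Eq.trans ?_ (Category.assoc _ _ _).symm
      exact congrArg (x.obj.fst.obj.iso.hom ≫ ·)
        ((g.map_comp _ _).symm.trans ((congrArg g.map hs.symm).trans (g.map_comp _ _)))
    refine ⟨fpHom (fpHom α ξ hq) σ (fp_hom_ext ?_ hs), fp_hom_ext rfl rfl⟩
    change G.map α ≫ y.obj.iso.hom.hom.fst = x.obj.iso.hom.hom.fst ≫ σ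
    simp [σ]⟩
  refine isEquivOver_of_essSurjOver _ fun η => ?_
  let a := η.obj.fst
  let x := η.obj.snd
  let ι := η.obj.iso
  have hι : 𝒴.p.IsHomLift (𝟙 (𝒜.p.obj a)) ι.hom := η.property
  let q : (FibCat.fp (BasedFunctor.comp G g) (BasedFunctor.comp f g)).obj :=
    fpMk a x (g.toFunctor.mapIso ι) (inferInstanceAs (𝒵.p.IsHomLift _ (g.map ι.hom)))
  let p : (FibCat.fp (diagPair g G f) (FibCat.diag g)).obj :=
    fpMk q (f.obj x) (fpIsoMk ι (Iso.refl _) (by
      change g.map ι.hom ≫ 𝟙 _ = g.map ι.hom ≫ g.map (𝟙 _)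
      simp))
      ((fp_isHomLift_iff (F := g) (G := g) _ _).mpr hι)
  refine ⟨p, fpIsoMk (Iso.refl _) (Iso.refl _) ?_,
    (fp_isHomLift_iff (F := G) (G := f) _ _).mpr (IsHomLift.id rfl)⟩
  rw [diagCmp_iso]
  change G.map (𝟙 a) ≫ ι.hom = (ι.hom ≫ 𝟙 _) ≫ f.map (𝟙 x)
  simp
  erw [CategoryTheory.Functor.map_id]
  exact (Category.comp_id _).symm

end DiagCmp

section

variable {𝒳 𝒴 : BasedCategory.{v, max u v} C}

theorem isRepresentable_fp_congr_left {f : 𝒳 ⥤ᵇ 𝒴} (hf : FibCat.IsRepresentable1 f)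
    {𝒲 : BasedCategory.{v₂, u₂} C} (h : FibCat.IsRepresentable 𝒲) (G : 𝒲 ⥤ᵇ 𝒴) :
    FibCat.IsRepresentable (FibCat.fp G f) := by
  obtain ⟨V, Φ, hΦ⟩ := h
  obtain ⟨Ψ, hΨ, -, -⟩ := exists_inverse hΦ
  have := full_of_isEquivOver (isEquivOver_id 𝒴)
  have := faithful_of_isEquivOver (isEquivOver_id 𝒴)
  exact isRepresentable_of_equiv'
    (fpMap_isEquivOver (F := BasedFunctor.comp Ψ G) (G := f) (F' := G) (G' := f) Ψ
      (BasedFunctor.id 𝒳) (BasedFunctor.id 𝒴) (Iso.refl _) (Iso.refl _) hΨ (isEquivOver_id 𝒳))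
    (hf V (BasedFunctor.comp Ψ G))

end

end Groth.Agent.Fib44
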