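import Groth.Agent.Fib44.Basic

/-!
Equivalences over the base: criterion, inverse, composition, fibrewise form, invariance.
-/

set_option backward.isDefEq.respectTransparency false
set_option backward.isDefEq.respectTransparency.types false

universe v₅ u₅ v₄ u₄ v₃ u₃ v₂ u₂ v u

open CategoryTheory CategoryTheory.Functor

namespace Groth.Agent.Fib44

variable {C : Type u} [Category.{v} C]
variable {𝒳 : BasedCategory.{v₂, u₂} C} {𝒴 : BasedCategory.{v₃, u₃} C}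

/-- Essential surjectivity over identities of the base. -/
def EssSurjOver (F : 𝒳 ⥤ᵇ 𝒴) : Prop :=
  ∀ η : 𝒴.obj, ∃ (ξ : 𝒳.obj) (e : F.obj ξ ≅ η), 𝒴.p.IsHomLift (𝟙 (𝒴.p.obj η)) e.hom

theorem EssSurjOver.lift_eq {F : 𝒳 ⥤ᵇ 𝒴} {η : 𝒴.obj} {ξ : 𝒳.obj} (e : F.obj ξ ≅ η)
    [𝒴.p.IsHomLift (𝟙 (𝒴.p.obj η)) e.hom] : 𝒳.p.obj ξ = 𝒴.p.obj η :=
  (F.w_obj ξ).symm.trans (IsHomLift.domain_eq 𝒴.p (𝟙 (𝒴.p.obj η)) e.hom)

theorem isEquivalence_of_isEquivOver {F : 𝒳 ⥤ᵇ 𝒴} (hF : FibCat.IsEquivOver F) :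
    F.toFunctor.IsEquivalence := by
  obtain ⟨G, ⟨e₁⟩, ⟨e₂⟩⟩ := hF
  exact (CategoryTheory.Equivalence.mk F.toFunctor G.toFunctor
    ((BasedNatTrans.forgetful _ _).mapIso e₁).symm
    ((BasedNatTrans.forgetful _ _).mapIso e₂)).isEquivalence_functor

theorem full_of_isEquivOver {F : 𝒳 ⥤ᵇ 𝒴} (hF : FibCat.IsEquivOver F) : F.toFunctor.Full :=
  have := isEquivalence_of_isEquivOver hF; inferInstance

theorem faithful_of_isEquivOver {F : 𝒳 ⥤ᵇ 𝒴} (hF : FibCat.IsEquivOver F) : F.toFunctor.Faithful :=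
  have := isEquivalence_of_isEquivOver hF; inferInstance

theorem essSurjOver_of_isEquivOver {F : 𝒳 ⥤ᵇ 𝒴} (hF : FibCat.IsEquivOver F) : EssSurjOver F := by
  obtain ⟨G, -, ⟨e₂⟩⟩ := hF
  exact fun η => ⟨G.obj η, isoApp e₂ η, e₂.hom.isHomLift' η⟩

theorem isEquivOver_of_essSurjOver (F : 𝒳 ⥤ᵇ 𝒴) [F.toFunctor.Full] [F.toFunctor.Faithful]
    (h : EssSurjOver F) : FibCat.IsEquivOver F := by
  choose ξ e he using h
  have := he
  have hobj : ∀ η, 𝒳.p.obj (ξ η) = 𝒴.p.obj η := fun η => EssSurjOver.lift_eq (e η)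
  let m : ∀ {η η' : 𝒴.obj}, (η ⟶ η') → (ξ η ⟶ ξ η') := fun {η η'} ψ =>
    F.toFunctor.preimage ((e η).hom ≫ ψ ≫ (e η').inv)
  have hm : ∀ {η η' : 𝒴.obj} (ψ : η ⟶ η'), F.map (m ψ) = (e η).hom ≫ ψ ≫ (e η').inv :=
    fun _ => F.toFunctor.map_preimage _
  have hml : ∀ {η η' : 𝒴.obj} (ψ : η ⟶ η'), 𝒳.p.IsHomLift (𝒴.p.map ψ) (m ψ) := fun {η η'} ψ => by
    rw [← BasedFunctor.isHomLift_iff F, hm]
    infer_instance
  let G : 𝒴 ⥤ᵇ 𝒳 :=
    { obj := ξ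
      map := m
      map_id := fun η => F.toFunctor.map_injective (by rw [hm]; simp)
      map_comp := fun ψ ψ' => F.toFunctor.map_injective (by
        rw [hm, Functor.map_comp, hm, hm]; simp)
      w := Functor.ext hobj fun η η' ψ => by
        have := hml ψ
        exact IsHomLift.fac' 𝒳.p (𝒴.p.map ψ) (m ψ) }
  refine ⟨G, ⟨BasedNatIso.mkNatIso (NatIso.ofComponents
    (fun x => F.toFunctor.preimageIso (e (F.obj x))) fun {x y} φ => F.toFunctor.map_injective ?_)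
      fun x => ?_⟩, ⟨BasedNatIso.mkNatIso (NatIso.ofComponents e fun {x y} φ => ?_) fun η => he η⟩⟩
  · change F.map (m (F.map φ) ≫ _) = F.map (_ ≫ φ)
    simp [hm]
  · change 𝒳.p.IsHomLift _ (F.toFunctor.preimageIso (e (F.obj x))).hom
    rw [← BasedFunctor.isHomLift_iff F]
    rw [Functor.preimageIso_hom, F.toFunctor.map_preimage]
    exact lift_id_of_eq 𝒴.p (F.w_obj x) (he (F.obj x))
  · change F.map (m φ) ≫ _ = _ ≫ φ
    simp [hm]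

theorem isEquivOver_iff (F : 𝒳 ⥤ᵇ 𝒴) :
    FibCat.IsEquivOver F ↔ (F.toFunctor.Full ∧ F.toFunctor.Faithful) ∧ EssSurjOver F :=
  ⟨fun h => ⟨⟨full_of_isEquivOver h, faithful_of_isEquivOver h⟩, essSurjOver_of_isEquivOver h⟩,
    fun h => have := h.1.1; have := h.1.2; isEquivOver_of_essSurjOver F h.2⟩

/-- Isomorphisms of the base lift to isomorphisms with prescribed source. -/
theorem exists_iso_lift_of_fibGrpd {p : 𝒳.obj ⥤ C} (hp : FibCat.IsFibGrpd p) {T S : C} (α : T ≅ S)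
    (ξ : 𝒳.obj) (hξ : p.obj ξ = T) :
    ∃ (ξ' : 𝒳.obj) (e : ξ ≅ ξ'), p.IsHomLift α.hom e.hom := by
  obtain ⟨ξ', φ, hφ⟩ := exists_lift' p hp hξ α.inv
  have := isIso_of_fibGrpd p hp α.inv φ
  have h := IsHomLift.inv p α.inv φ
  simp only [IsIso.Iso.inv_inv] at h
  exact ⟨ξ', (asIso φ).symm, h⟩

theorem essSurjOver_of_isEquivalence
    (h𝒳 : ∀ ⦃T S : C⦄ (α : T ≅ S) (ξ : 𝒳.obj), 𝒳.p.obj ξ = T →
      ∃ (ξ' : 𝒳.obj) (e : ξ ≅ ξ'), 𝒳.p.IsHomLift α.hom e.hom)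
    (F : 𝒳 ⥤ᵇ 𝒴) [F.toFunctor.IsEquivalence] : EssSurjOver F := fun η => by
  let ξ := F.toFunctor.objPreimage η
  let e : F.obj ξ ≅ η := F.toFunctor.objObjPreimageIso η
  let α := eqToIso (F.w_obj ξ).symm ≪≫ 𝒴.p.mapIso e
  obtain ⟨ξ', e', he'⟩ := h𝒳 α ξ rfl
  refine ⟨ξ', F.toFunctor.mapIso e'.symm ≪≫ e, ?_⟩
  have h1 : 𝒴.p.IsHomLift α.inv (F.map e'.inv) := inferInstance
  have h2 : 𝒴.p.IsHomLift α.hom e.hom :=
    IsHomLift.of_fac' _ _ _ (F.w_obj ξ) rfl (by simp [α])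
  simpa using (inferInstance : 𝒴.p.IsHomLift (α.inv ≫ α.hom) (F.map e'.inv ≫ e.hom))

theorem isEquivOver_comp {𝒵 : BasedCategory.{v₄, u₄} C} {F : 𝒳 ⥤ᵇ 𝒴} {G : 𝒴 ⥤ᵇ 𝒵}
    (hF : FibCat.IsEquivOver F) (hG : FibCat.IsEquivOver G) :
    FibCat.IsEquivOver (BasedFunctor.comp F G) := by
  have := full_of_isEquivOver hF
  have := faithful_of_isEquivOver hF
  have := full_of_isEquivOver hG
  have := faithful_of_isEquivOver hG
  have : (BasedFunctor.comp F G).toFunctor.Full :=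
    inferInstanceAs (F.toFunctor ⋙ G.toFunctor).Full
  have : (BasedFunctor.comp F G).toFunctor.Faithful :=
    inferInstanceAs (F.toFunctor ⋙ G.toFunctor).Faithful
  refine isEquivOver_of_essSurjOver _ fun ζ => ?_
  obtain ⟨η, e, he⟩ := essSurjOver_of_isEquivOver hG ζ
  obtain ⟨ξ, e', he'⟩ := essSurjOver_of_isEquivOver hF η
  refine ⟨ξ, G.toFunctor.mapIso e' ≪≫ e, ?_⟩
  have h' := he'
  rw [EssSurjOver.lift_eq (F := G) e] at h'
  simp only [Iso.trans_hom, Functor.mapIso_hom]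
  infer_instance

theorem exists_inverse {F : 𝒳 ⥤ᵇ 𝒴} (hF : FibCat.IsEquivOver F) :
    ∃ G : 𝒴 ⥤ᵇ 𝒳, FibCat.IsEquivOver G ∧ Nonempty (BasedFunctor.comp F G ≅ BasedFunctor.id 𝒳) ∧
      Nonempty (BasedFunctor.comp G F ≅ BasedFunctor.id 𝒴) := by
  obtain ⟨G, h1, h2⟩ := hF
  exact ⟨G, ⟨F, h2, h1⟩, h1, h2⟩

theorem isEquivOver_id (𝒳 : BasedCategory.{v₂, u₂} C) : FibCat.IsEquivOver (BasedFunctor.id 𝒳) :=
  ⟨BasedFunctor.id 𝒳, ⟨Iso.refl _⟩, ⟨Iso.refl _⟩⟩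

theorem fiberFunctor_full_of_full (F : 𝒳 ⥤ᵇ 𝒴) [F.toFunctor.Full] (U : C) :
    (FibCat.fiberFunctor F U).Full where
  map_surjective {a b} ψ := by
    have := ψ.2
    have : 𝒳.p.IsHomLift (𝟙 U) (F.toFunctor.preimage ψ.1) := by
      rw [← BasedFunctor.isHomLift_iff F, F.toFunctor.map_preimage]
      exact ψ.2
    exact ⟨⟨F.toFunctor.preimage ψ.1, this⟩, Subtype.ext (F.toFunctor.map_preimage _)⟩

theorem fiberFunctor_faithful_of_faithful (F : 𝒳 ⥤ᵇ 𝒴) [F.toFunctor.Faithful] (U : C) :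
    (FibCat.fiberFunctor F U).Faithful where
  map_injective h := Subtype.ext (F.toFunctor.map_injective (congrArg Subtype.val h))

theorem fiberFunctor_essSurj_of_essSurjOver (F : 𝒳 ⥤ᵇ 𝒴) (h : EssSurjOver F) (U : C) :
    (FibCat.fiberFunctor F U).EssSurj where
  mem_essImage η := by
    obtain ⟨a, ha⟩ := η
    obtain ⟨ξ, e, he⟩ := h a
    subst ha
    refine ⟨⟨ξ, EssSurjOver.lift_eq e⟩, ⟨⟨⟨e.hom, he⟩, ⟨e.inv, inferInstance⟩, ?_, ?_⟩⟩⟩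
    · exact Subtype.ext e.hom_inv_id
    · exact Subtype.ext e.inv_hom_id

theorem fiberFunctor_isEquivalence {F : 𝒳 ⥤ᵇ 𝒴} (hF : FibCat.IsEquivOver F) (U : C) :
    (FibCat.fiberFunctor F U).IsEquivalence :=
  have := full_of_isEquivOver hF
  have := faithful_of_isEquivOver hF
  { faithful := fiberFunctor_faithful_of_faithful F U
    full := fiberFunctor_full_of_full F U
    essSurj := fiberFunctor_essSurj_of_essSurjOver F (essSurjOver_of_isEquivOver hF) U }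

theorem essSurjOver_of_fiberFunctor (F : 𝒳 ⥤ᵇ 𝒴)
    (h : ∀ U, (FibCat.fiberFunctor F U).EssSurj) : EssSurjOver F := fun η => by
  have := h (𝒴.p.obj η)
  let η' : 𝒴.p.Fiber (𝒴.p.obj η) := ⟨η, rfl⟩
  let e := (FibCat.fiberFunctor F (𝒴.p.obj η)).objObjPreimageIso η'
  exact ⟨((FibCat.fiberFunctor F (𝒴.p.obj η)).objPreimage η').1,
    Fiber.fiberInclusion.mapIso e, e.hom.2⟩

/-- Faithfulness from the fibres, with a fibred source and a cartesian functor. -/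
theorem faithful_of_fiber [𝒳.p.IsFibered] (F : 𝒳 ⥤ᵇ 𝒴)
    (hF : ∀ ⦃a b : 𝒳.obj⦄ (φ : a ⟶ b), 𝒳.p.IsStronglyCartesian (𝒳.p.map φ) φ →
      𝒴.p.IsStronglyCartesian (𝒳.p.map φ) (F.map φ))
    (h : ∀ U, (FibCat.fiberFunctor F U).Faithful) : F.toFunctor.Faithful where
  map_injective {a b} φ φ' hφ := by
    have hp : 𝒳.p.map φ = 𝒳.p.map φ' := by
      have h1 := based_map F φ
      rw [hφ, based_map F φ'] at h1
      simpa only [← Category.assoc, cancel_epi, cancel_mono] using h1.symm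
    obtain ⟨b', ψ, hψ⟩ := exists_sc_lift 𝒳.p rfl (𝒳.p.map φ)
    have hlift : 𝒳.p.IsHomLift (𝒳.p.map φ) φ' := hp ▸ inferInstance
    let χ := IsCartesian.map 𝒳.p (𝒳.p.map φ) ψ φ
    let χ' := IsCartesian.map 𝒳.p (𝒳.p.map φ) ψ φ'
    have hFψ : 𝒴.p.IsStronglyCartesian (𝒳.p.map φ) (F.map ψ) :=
      have := hF ψ (isSC_self_of_isSC 𝒳.p (𝒳.p.map φ) ψ)
      have : 𝒴.p.IsHomLift (𝒳.p.map φ) (F.map ψ) := inferInstance
      isSC_of_isSC_self 𝒴.p _ _ (isSC_self_of_isSC 𝒴.p (𝒳.p.map ψ) (F.map ψ))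
    have hχ : F.map χ = F.map χ' := by
      apply IsCartesian.ext 𝒴.p (𝒳.p.map φ) (F.map ψ)
      rw [← Functor.map_comp, ← Functor.map_comp]
      simpa [χ, χ'] using hφ
    let A : 𝒳.p.Fiber (𝒳.p.obj a) := Fiber.mk (a := a) rfl
    let B : 𝒳.p.Fiber (𝒳.p.obj a) := Fiber.mk (IsHomLift.domain_eq 𝒳.p (𝒳.p.map φ) ψ)
    have : (⟨χ, inferInstance⟩ : A ⟶ B) = ⟨χ', inferInstance⟩ :=
      (FibCat.fiberFunctor F _).map_injective (Subtype.ext hχ)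
    have e : χ = χ' := congrArg Subtype.val this
    calc φ = χ ≫ ψ := by simp [χ]
      _ = χ' ≫ ψ := by rw [e]
      _ = φ' := by simp [χ']

/-- Fullness from the fibres, with a fibred source and a cartesian functor. -/
theorem full_of_fiber [𝒳.p.IsFibered] (F : 𝒳 ⥤ᵇ 𝒴)
    (hF : ∀ ⦃a b : 𝒳.obj⦄ (φ : a ⟶ b), 𝒳.p.IsStronglyCartesian (𝒳.p.map φ) φ →
      𝒴.p.IsStronglyCartesian (𝒳.p.map φ) (F.map φ))
    (h : ∀ U, (FibCat.fiberFunctor F U).Full) : F.toFunctor.Full where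
  map_surjective {a b} k := by
    let f : 𝒳.p.obj a ⟶ 𝒳.p.obj b :=
      eqToHom (F.w_obj a).symm ≫ 𝒴.p.map k ≫ eqToHom (F.w_obj b)
    have hk : 𝒴.p.IsHomLift f k :=
      IsHomLift.of_fac' _ _ _ (F.w_obj a) (F.w_obj b) (by simp [f])
    obtain ⟨b', ψ, hψ⟩ := exists_sc_lift 𝒳.p rfl f
    have hFψ : 𝒴.p.IsStronglyCartesian f (F.map ψ) :=
      have := hF ψ (isSC_self_of_isSC 𝒳.p f ψ)
      have : 𝒴.p.IsHomLift f (F.map ψ) := inferInstance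
      isSC_of_isSC_self 𝒴.p _ _ (isSC_self_of_isSC 𝒴.p (𝒳.p.map ψ) (F.map ψ))
    let l := IsCartesian.map 𝒴.p f (F.map ψ) k
    let A : 𝒳.p.Fiber (𝒳.p.obj a) := Fiber.mk (a := a) rfl
    let B : 𝒳.p.Fiber (𝒳.p.obj a) := Fiber.mk (IsHomLift.domain_eq 𝒳.p f ψ)
    have hl : 𝒴.p.IsHomLift (𝟙 (𝒳.p.obj a)) l := inferInstance
    obtain ⟨χ, hχ⟩ := (FibCat.fiberFunctor F _).map_surjective
      (⟨l, hl⟩ : (FibCat.fiberFunctor F _).obj A ⟶ (FibCat.fiberFunctor F _).obj B)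
    refine ⟨χ.1 ≫ ψ, ?_⟩
    have h1 : F.map χ.1 = l := congrArg Subtype.val hχ
    rw [Functor.map_comp, h1]
    simp [l]

theorem preservesSC_of_fibGrpd (h𝒴 : FibCat.IsFibGrpd 𝒴.p) (F : 𝒳 ⥤ᵇ 𝒴) :
    ∀ ⦃a b : 𝒳.obj⦄ (φ : a ⟶ b), 𝒳.p.IsStronglyCartesian (𝒳.p.map φ) φ →
      𝒴.p.IsStronglyCartesian (𝒳.p.map φ) (F.map φ) :=
  fun _ _ φ _ => based_isSC h𝒴 F (𝒳.p.map φ) φ

theorem isEquivOver_of_fiber [𝒳.p.IsFibered] (F : 𝒳 ⥤ᵇ 𝒴)
    (hF : ∀ ⦃a b : 𝒳.obj⦄ (φ : a ⟶ b), 𝒳.p.IsStronglyCartesian (𝒳.p.map φ) φ →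
      𝒴.p.IsStronglyCartesian (𝒳.p.map φ) (F.map φ))
    (h : ∀ U, (FibCat.fiberFunctor F U).IsEquivalence) : FibCat.IsEquivOver F :=
  have := full_of_fiber F hF fun U => have := h U; inferInstance
  have := faithful_of_fiber F hF fun U => have := h U; inferInstance
  isEquivOver_of_essSurjOver F
    (essSurjOver_of_fiberFunctor F fun U => have := h U; inferInstance)

theorem eq_fiberFunctor (G : 𝒳 ⥤ᵇ 𝒴) (U : C) (GU : 𝒳.p.Fiber U ⥤ 𝒴.p.Fiber U)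
    (h : GU ⋙ Fiber.fiberInclusion = Fiber.fiberInclusion ⋙ G.toFunctor) :
    GU = FibCat.fiberFunctor G U :=
  Functor.ext (fun x => Subtype.ext (Functor.congr_obj h x)) fun a b φ => by
    apply Fiber.hom_ext
    simp only [Functor.map_comp, eqToHom_map]
    exact Functor.congr_hom h φ

theorem isSC_map_of_isEquivOver {F : 𝒳 ⥤ᵇ 𝒴} (hF : FibCat.IsEquivOver F) {R S : C} (f : R ⟶ S)
    {a b : 𝒳.obj} (φ : a ⟶ b) [𝒳.p.IsStronglyCartesian f φ] :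
    𝒴.p.IsStronglyCartesian f (F.map φ) where
  universal_property' {z} g ψ hψ := by
    have := full_of_isEquivOver hF
    have := faithful_of_isEquivOver hF
    obtain ⟨ξ, e, he⟩ := essSurjOver_of_isEquivOver hF z
    have := he
    let τ := F.toFunctor.preimage (e.hom ≫ ψ)
    have : 𝒳.p.IsHomLift (g ≫ f) τ := by
      rw [← BasedFunctor.isHomLift_iff F, F.toFunctor.map_preimage]
      infer_instance
    let χ := IsStronglyCartesian.map 𝒳.p f φ (g := g) rfl τ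
    refine ⟨e.inv ≫ F.map χ, ⟨inferInstance, ?_⟩, ?_⟩
    · rw [Category.assoc, ← Functor.map_comp, IsStronglyCartesian.fac]
      simp [τ]
    · rintro χ' ⟨hχ', hc⟩
      let k := F.toFunctor.preimage (e.hom ≫ χ')
      have : 𝒳.p.IsHomLift g k := by
        rw [← BasedFunctor.isHomLift_iff F, F.toFunctor.map_preimage]
        infer_instance
      have hk : k = χ := IsStronglyCartesian.map_uniq 𝒳.p f φ rfl τ k
        (F.toFunctor.map_injective (by simp [k, τ, hc]))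
      rw [← hk]
      simp [k]

theorem isSC_of_isSC_map (F : 𝒳 ⥤ᵇ 𝒴) [F.toFunctor.Full] [F.toFunctor.Faithful] {R S : C}
    (f : R ⟶ S) {a b : 𝒳.obj} (φ : a ⟶ b) [hφ : 𝒴.p.IsStronglyCartesian f (F.map φ)] :
    𝒳.p.IsStronglyCartesian f φ := by
  have : 𝒳.p.IsHomLift f φ := BasedFunctor.isHomLift_map F f φ
  refine { universal_property' := fun {z} g ψ hψ => ?_ }
  obtain ⟨χ, ⟨h1, h2⟩, h3⟩ := IsStronglyCartesian.universal_property 𝒴.p f (F.map φ) g _ rfl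
    (F.map ψ)
  refine ⟨F.toFunctor.preimage χ, ⟨?_, F.toFunctor.map_injective (by simpa using h2)⟩, ?_⟩
  · rw [← BasedFunctor.isHomLift_iff F, F.toFunctor.map_preimage]
    exact h1
  · rintro χ' ⟨hg, hc⟩
    apply F.toFunctor.map_injective
    rw [F.toFunctor.map_preimage]
    exact h3 (F.map χ') ⟨inferInstance, by rw [← Functor.map_comp, hc]⟩

theorem isFibered_of_isEquivOver_source {F : 𝒳 ⥤ᵇ 𝒴} (hF : FibCat.IsEquivOver F)
    [𝒳.p.IsFibered] : 𝒴.p.IsFibered :=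
  IsFibered.of_exists_isStronglyCartesian fun η V f => by
    obtain ⟨ξ, e, he⟩ := essSurjOver_of_isEquivOver hF η
    obtain ⟨y, φ, hφ⟩ := exists_sc_lift 𝒳.p (EssSurjOver.lift_eq e) f
    have := isSC_map_of_isEquivOver hF f φ
    exact ⟨F.obj y, F.map φ ≫ e.hom, by
      simpa using (inferInstance : 𝒴.p.IsStronglyCartesian (f ≫ 𝟙 _) (F.map φ ≫ e.hom))⟩

theorem isFibered_iff_of_isEquivOver {F : 𝒳 ⥤ᵇ 𝒴} (hF : FibCat.IsEquivOver F) :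
    𝒳.p.IsFibered ↔ 𝒴.p.IsFibered := by
  obtain ⟨G, hG, -, -⟩ := exists_inverse hF
  exact ⟨fun _ => isFibered_of_isEquivOver_source hF, fun _ => isFibered_of_isEquivOver_source hG⟩

theorem isFibGrpd_of_fullyFaithful (F : 𝒳 ⥤ᵇ 𝒴) [F.toFunctor.Full] [F.toFunctor.Faithful]
    (h𝒴 : FibCat.IsFibGrpd 𝒴.p)
    (hl : ∀ {x : 𝒳.obj} {V : C} (f : V ⟶ 𝒳.p.obj x), ∃ (y : 𝒳.obj) (φ : y ⟶ x),
      𝒳.p.IsHomLift f φ) :
    FibCat.IsFibGrpd 𝒳.p where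
  exists_lift := hl
  isStronglyCartesian φ :=
    have := based_isSC h𝒴 F (𝒳.p.map φ) φ
    isSC_of_isSC_map F _ φ

theorem isFibGrpd_of_isEquivOver_target {F : 𝒳 ⥤ᵇ 𝒴} (hF : FibCat.IsEquivOver F)
    (h𝒴 : FibCat.IsFibGrpd 𝒴.p) : FibCat.IsFibGrpd 𝒳.p :=
  have := full_of_isEquivOver hF
  have := faithful_of_isEquivOver hF
  have := isFibered_of_isFibGrpd 𝒴.p (h := h𝒴)
  have := (isFibered_iff_of_isEquivOver hF).mpr this
  isFibGrpd_of_fullyFaithful F h𝒴 fun f => by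
    obtain ⟨y, φ, hφ⟩ := exists_sc_lift 𝒳.p rfl f
    exact ⟨y, φ, inferInstance⟩

theorem isFibGrpd_iff_of_isEquivOver {F : 𝒳 ⥤ᵇ 𝒴} (hF : FibCat.IsEquivOver F) :
    FibCat.IsFibGrpd 𝒳.p ↔ FibCat.IsFibGrpd 𝒴.p := by
  obtain ⟨G, hG, -, -⟩ := exists_inverse hF
  exact ⟨isFibGrpd_of_isEquivOver_target hG, isFibGrpd_of_isEquivOver_target hF⟩

theorem isFibSetoid_of_isEquivOver_target {F : 𝒳 ⥤ᵇ 𝒴} (hF : FibCat.IsEquivOver F)
    (h𝒴 : FibCat.IsFibSetoid 𝒴.p) : FibCat.IsFibSetoid 𝒳.p :=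
  ⟨isFibGrpd_of_isEquivOver_target hF h𝒴.1, fun U _ _ =>
    have := faithful_of_isEquivOver hF
    have := h𝒴.2 U
    ⟨fun _ _ => (fiberFunctor_faithful_of_faithful F U).map_injective (Subsingleton.elim _ _)⟩⟩

theorem isFibSetoid_iff_of_isEquivOver {F : 𝒳 ⥤ᵇ 𝒴} (hF : FibCat.IsEquivOver F) :
    FibCat.IsFibSetoid 𝒳.p ↔ FibCat.IsFibSetoid 𝒴.p := by
  obtain ⟨G, hG, -, -⟩ := exists_inverse hF
  exact ⟨isFibSetoid_of_isEquivOver_target hG, isFibSetoid_of_isEquivOver_target hF⟩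

end Groth.Agent.Fib44
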