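import Groth.Agent.Fib44.Repr
import Groth.Agent.AlgSt88.FpMap

/-!
Representable 1-morphisms: composition, base change, products.
-/

set_option backward.isDefEq.respectTransparency false
set_option backward.isDefEq.respectTransparency.types false

universe v₆ u₆ v₅ u₅ v₄ u₄ v₃ u₃ v₂ u₂ v u

open CategoryTheory CategoryTheory.Functor CategoryTheory.Limits

namespace Groth.Agent.Fib44

variable {C : Type u} [Category.{v} C]

section Paste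

variable {𝒳 : BasedCategory.{v₂, u₂} C} {𝒴 : BasedCategory.{v₃, u₃} C}
  {𝒵 : BasedCategory.{v₄, u₄} C} {𝒜 : BasedCategory.{v₅, u₅} C}
  (f : 𝒳 ⥤ᵇ 𝒴) (g : 𝒴 ⥤ᵇ 𝒵) (G : 𝒜 ⥤ᵇ 𝒵)

/-- The 2-isomorphism defining `pasteComp`. -/
def pasteCompIso :
    BasedFunctor.comp (BasedFunctor.comp (FibCat.fpFst (FibCat.fpSnd G g) f) (FibCat.fpFst G g)) G ≅
      BasedFunctor.comp (FibCat.fpSnd (FibCat.fpSnd G g) f) (BasedFunctor.comp f g) :=
  BasedNatIso.mkNatIso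
    (Functor.isoWhiskerLeft (FibCat.fpFst (FibCat.fpSnd G g) f).toFunctor
        ((BasedNatTrans.forgetful _ _).mapIso (FibCat.fpIso G g)) ≪≫
      Functor.isoWhiskerRight ((BasedNatTrans.forgetful _ _).mapIso
        (FibCat.fpIso (FibCat.fpSnd G g) f)) g.toFunctor)
    fun x => by
      have h1 : 𝒵.p.IsHomLift (𝟙 ((FibCat.fp (FibCat.fpSnd G g) f).p.obj x)) x.obj.fst.obj.iso.hom :=
        x.obj.fst.property
      have h2 : 𝒴.p.IsHomLift (𝟙 ((FibCat.fp (FibCat.fpSnd G g) f).p.obj x)) x.obj.iso.hom :=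
        x.property
      exact inferInstanceAs (𝒵.p.IsHomLift (𝟙 ((FibCat.fp (FibCat.fpSnd G g) f).p.obj x))
        (x.obj.fst.obj.iso.hom ≫ g.map x.obj.iso.hom))

/-- Pasting two fibre products. -/
def pasteComp : FibCat.fp (FibCat.fpSnd G g) f ⥤ᵇ FibCat.fp G (BasedFunctor.comp f g) :=
  FibCat.fpLift (BasedFunctor.comp (FibCat.fpFst _ _) (FibCat.fpFst G g))
    (FibCat.fpSnd (FibCat.fpSnd G g) f) (pasteCompIso f g G)

theorem pasteComp_iso_hom (x : (FibCat.fp (FibCat.fpSnd G g) f).obj) :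
    ((pasteComp f g G).obj x).obj.iso.hom = x.obj.fst.obj.iso.hom ≫ g.map x.obj.iso.hom := rfl

theorem pasteComp_isEquivOver : FibCat.IsEquivOver (pasteComp f g G) := by
  have key : ∀ {x y : (FibCat.fp (FibCat.fpSnd G g) f).obj} (u : x ⟶ y),
      u.hom.fst.hom.snd ≫ y.obj.iso.hom = x.obj.iso.hom ≫ f.map u.hom.snd := fun u => fp_w u
  have : (pasteComp f g G).toFunctor.Faithful := ⟨fun {x y u u'} h => by
    have h1 : u.hom.fst.hom.fst = u'.hom.fst.hom.fst := congrArg (fun k => k.hom.fst) h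
    have h2 : u.hom.snd = u'.hom.snd := congrArg (fun k => k.hom.snd) h
    refine fp_hom_ext (fp_hom_ext h1 ?_) h2
    have := (key u).trans ((congrArg (fun k => x.obj.iso.hom ≫ f.map k) h2).trans (key u').symm)
    exact (cancel_mono y.obj.iso.hom).mp this⟩
  have : (pasteComp f g G).toFunctor.Full := ⟨fun {x y} φ => by
    let a : x.obj.fst.obj.fst ⟶ y.obj.fst.obj.fst := φ.hom.fst
    let c : x.obj.snd ⟶ y.obj.snd := φ.hom.snd
    let b : x.obj.fst.obj.snd ⟶ y.obj.fst.obj.snd := x.obj.iso.hom ≫ f.map c ≫ y.obj.iso.inv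
    have hφ : G.map a ≫ y.obj.fst.obj.iso.hom ≫ g.map y.obj.iso.hom =
        (x.obj.fst.obj.iso.hom ≫ g.map x.obj.iso.hom) ≫ g.map (f.map c) := fp_w φ
    have hb : G.map a ≫ y.obj.fst.obj.iso.hom = x.obj.fst.obj.iso.hom ≫ g.map b := by
      have := g.toFunctor.mapIso y.obj.iso
      rw [← cancel_mono (g.toFunctor.mapIso y.obj.iso).hom]
      change (G.map a ≫ y.obj.fst.obj.iso.hom) ≫ g.map y.obj.iso.hom =
        (x.obj.fst.obj.iso.hom ≫ g.map b) ≫ g.map y.obj.iso.hom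
      rw [Category.assoc, hφ, Category.assoc, Category.assoc, ← Functor.map_comp,
        ← Functor.map_comp]
      congr 2
      simp [b]
    refine ⟨fpHom (fpHom a b hb) c ?_, fp_hom_ext rfl rfl⟩
    change b ≫ y.obj.iso.hom = x.obj.iso.hom ≫ f.map c
    simp [b]⟩
  refine isEquivOver_of_essSurjOver _ fun η => ?_
  have hη : 𝒵.p.IsHomLift (𝟙 (𝒜.p.obj η.obj.fst)) η.obj.iso.hom := η.property
  let z : (FibCat.fp G g).obj := fpMk η.obj.fst (f.obj η.obj.snd) η.obj.iso hη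
  have h1 : 𝒴.p.obj (f.obj η.obj.snd) = (FibCat.fp G g).p.obj z :=
    (f.w_obj _).trans (fp_proj_snd η)
  let x : (FibCat.fp (FibCat.fpSnd G g) f).obj := fpMk z η.obj.snd (Iso.refl _) (IsHomLift.id h1)
  refine ⟨x, fpIsoMk (Iso.refl _) (Iso.refl _) ?_,
    (fp_isHomLift_iff _ _).mpr (IsHomLift.id rfl)⟩
  rw [pasteComp_iso_hom]
  change G.map (𝟙 _) ≫ η.obj.iso.hom = (η.obj.iso.hom ≫ g.map (𝟙 _)) ≫ g.map (f.map (𝟙 _))
  simp
  rw [show (𝟙 (g.obj (f.obj η.obj.snd))) = 𝟙 ((BasedFunctor.comp f g).obj η.obj.snd) from rfl]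
  exact (Category.comp_id _).symm

end Paste

section Prod

variable {𝒜 : BasedCategory.{v₆, u₆} C} {𝒳₁ : BasedCategory.{v₂, u₂} C}
  {𝒳₂ : BasedCategory.{v₃, u₃} C} {𝒴₁ : BasedCategory.{v₄, u₄} C} {𝒴₂ : BasedCategory.{v₅, u₅} C}
  (f₁ : 𝒳₁ ⥤ᵇ 𝒴₁) (f₂ : 𝒳₂ ⥤ᵇ 𝒴₂)
  (G : 𝒜 ⥤ᵇ FibCat.fp (FibCat.toSelf 𝒴₁) (FibCat.toSelf 𝒴₂))

/-- The first base change in the product of two functors. -/
abbrev prodA := FibCat.fp (BasedFunctor.comp G (FibCat.fpFst _ _)) f₁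

/-- The functor to the second factor from the first base change. -/
abbrev prodG₂ : prodA f₁ G ⥤ᵇ 𝒴₂ :=
  BasedFunctor.comp (FibCat.fpFst _ _) (BasedFunctor.comp G (FibCat.fpSnd _ _))

theorem prod_proj (x : (FibCat.fp (prodG₂ f₁ G) f₂).obj) :
    𝒳₁.p.obj x.obj.fst.obj.snd = 𝒳₂.p.obj x.obj.snd :=
  (fp_proj_snd x.obj.fst).trans (fp_proj_snd x).symm

/-- The two components of a point of the iterated base change. -/
def prodPair : FibCat.fp (prodG₂ f₁ G) f₂ ⥤ᵇ FibCat.fp (FibCat.toSelf 𝒳₁) (FibCat.toSelf 𝒳₂) :=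
  FibCat.fpLift (BasedFunctor.comp (FibCat.fpFst _ _) (FibCat.fpSnd _ _)) (FibCat.fpSnd _ _)
    (BasedNatIso.mkNatIso (NatIso.ofComponents
      (fun x => (eqToIso (prod_proj f₁ f₂ G x) : 𝒳₁.p.obj x.obj.fst.obj.snd ≅ 𝒳₂.p.obj x.obj.snd))
      (fun {x y} φ => by
        have h1 := fp_isHomLift_snd ((FibCat.fp (prodG₂ f₁ G) f₂).p.map φ) φ
        have h0 : (prodA f₁ G).p.IsHomLift ((FibCat.fp (prodG₂ f₁ G) f₂).p.map φ) φ.hom.fst :=
          (fp_isHomLift_iff _ φ).mp inferInstance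
        have h2 := fp_isHomLift_snd ((FibCat.fp (prodG₂ f₁ G) f₂).p.map φ) φ.hom.fst
        change 𝒳₁.p.map φ.hom.fst.hom.snd ≫ eqToHom (prod_proj f₁ f₂ G y) =
          eqToHom (prod_proj f₁ f₂ G x) ≫ 𝒳₂.p.map φ.hom.snd
        rw [IsHomLift.fac' 𝒳₁.p ((FibCat.fp (prodG₂ f₁ G) f₂).p.map φ) φ.hom.fst.hom.snd,
          IsHomLift.fac' 𝒳₂.p ((FibCat.fp (prodG₂ f₁ G) f₂).p.map φ) φ.hom.snd]
        simp))
      fun x => IsHomLift.of_fac' (𝟭 C) (𝟙 ((FibCat.fp (prodG₂ f₁ G) f₂).p.obj x)) _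
        (fp_proj_snd x.obj.fst) (fp_proj_snd x) (by simp))

variable (e : BasedFunctor.comp (BasedFunctor.comp (FibCat.fpFst (FibCat.toSelf 𝒳₁) (FibCat.toSelf 𝒳₂)) f₁)
      (FibCat.toSelf 𝒴₁) ≅
    BasedFunctor.comp (BasedFunctor.comp (FibCat.fpSnd (FibCat.toSelf 𝒳₁) (FibCat.toSelf 𝒳₂)) f₂)
      (FibCat.toSelf 𝒴₂))

/-- The product of two functors over the base. -/
abbrev prodFun : FibCat.fp (FibCat.toSelf 𝒳₁) (FibCat.toSelf 𝒳₂) ⥤ᵇ
    FibCat.fp (FibCat.toSelf 𝒴₁) (FibCat.toSelf 𝒴₂) :=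
  FibCat.fpLift (BasedFunctor.comp (FibCat.fpFst (FibCat.toSelf 𝒳₁) (FibCat.toSelf 𝒳₂)) f₁)
    (BasedFunctor.comp (FibCat.fpSnd (FibCat.toSelf 𝒳₁) (FibCat.toSelf 𝒳₂)) f₂) e

/-- The comparison of the iterated base change with the base change of a product. -/
def prodCmp : FibCat.fp (prodG₂ f₁ G) f₂ ⥤ᵇ FibCat.fp G (prodFun f₁ f₂ e) :=
  FibCat.fpLift (BasedFunctor.comp (FibCat.fpFst _ _) (FibCat.fpFst _ _)) (prodPair f₁ f₂ G)
    (BasedNatIso.mkNatIso (NatIso.ofComponents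
      (fun x => fpIsoMk (F := FibCat.toSelf 𝒴₁) (G := FibCat.toSelf 𝒴₂) x.obj.fst.obj.iso x.obj.iso
        (by
          have h1 : 𝒴₁.p.IsHomLift (𝟙 ((FibCat.fp (prodG₂ f₁ G) f₂).p.obj x))
            x.obj.fst.obj.iso.hom := x.obj.fst.property
          have h2 : 𝒴₂.p.IsHomLift (𝟙 ((FibCat.fp (prodG₂ f₁ G) f₂).p.obj x))
            x.obj.iso.hom := x.property
          exact self_w (x := G.obj x.obj.fst.obj.fst)
            (y := (prodFun f₁ f₂ e).obj ((prodPair f₁ f₂ G).obj x)) x.obj.fst.obj.iso.hom x.obj.iso.hom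
            (𝟙 ((FibCat.fp (prodG₂ f₁ G) f₂).p.obj x))))
      (fun {x y} φ => fp_hom_ext (fp_w φ.hom.fst) (fp_w φ)))
      fun x => (fp_isHomLift_iff (F := FibCat.toSelf 𝒴₁) (G := FibCat.toSelf 𝒴₂) _ _).mpr
        (x.obj.fst.property))

theorem prodCmp_isEquivOver : FibCat.IsEquivOver (prodCmp f₁ f₂ G e) := by
  have : (prodCmp f₁ f₂ G e).toFunctor.Faithful := ⟨fun {x y u u'} h =>
    fp_hom_ext (fp_hom_ext (congrArg (fun k => k.hom.fst) h)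
      (congrArg (fun k => k.hom.snd.hom.fst) h)) (congrArg (fun k => k.hom.snd.hom.snd) h)⟩
  have : (prodCmp f₁ f₂ G e).toFunctor.Full := ⟨fun {x y} φ =>
    ⟨fpHom (fpHom φ.hom.fst φ.hom.snd.hom.fst (congrArg (fun k => k.hom.fst) (fp_w φ)))
      φ.hom.snd.hom.snd (congrArg (fun k => k.hom.snd) (fp_w φ)),
      fp_hom_ext rfl (fp_hom_ext rfl rfl)⟩⟩
  refine isEquivOver_of_essSurjOver _ fun η => ?_
  let a := η.obj.fst
  let w := η.obj.snd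
  let ι₁ : (G.obj a).obj.fst ≅ f₁.obj w.obj.fst := (FibCat.fpFst _ _).toFunctor.mapIso η.obj.iso
  let ι₂ : (G.obj a).obj.snd ≅ f₂.obj w.obj.snd := (FibCat.fpSnd _ _).toFunctor.mapIso η.obj.iso
  have hi : (FibCat.fp (FibCat.toSelf 𝒴₁) (FibCat.toSelf 𝒴₂)).p.IsHomLift (𝟙 (𝒜.p.obj a))
    η.obj.iso.hom := η.property
  let A : (prodA f₁ G).obj := fpMk a w.obj.fst ι₁ ((fp_isHomLift_iff _ _).mp hi)
  let x : (FibCat.fp (prodG₂ f₁ G) f₂).obj :=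
    fpMk A w.obj.snd ι₂ (fp_isHomLift_snd (𝟙 (𝒜.p.obj a)) η.obj.iso.hom)
  refine ⟨x, fpIsoMk (Iso.refl a) (fpIsoMk (Iso.refl _) (Iso.refl _) ?_) (fp_hom_ext ?_ ?_),
    (fp_isHomLift_iff (F := G) (G := prodFun f₁ f₂ e) _ _).mpr (IsHomLift.id rfl)⟩
  · have : 𝒳₁.p.IsHomLift (𝟙 (𝒳₁.p.obj w.obj.fst)) (𝟙 w.obj.fst) := IsHomLift.id rfl
    have : 𝒳₂.p.IsHomLift (𝟙 (𝒳₁.p.obj w.obj.fst)) (𝟙 w.obj.snd) := IsHomLift.id (fp_proj_snd w)
    exact self_w (x := ((prodPair f₁ f₂ G).obj x)) (y := w) (𝟙 w.obj.fst) (𝟙 w.obj.snd)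
      (𝟙 (𝒳₁.p.obj w.obj.fst))
  · change (G.map (𝟙 a)).hom.fst ≫ η.obj.iso.hom.hom.fst = η.obj.iso.hom.hom.fst ≫ f₁.map (𝟙 _)
    simp
    exact (Category.comp_id _).symm
  · change (G.map (𝟙 a)).hom.snd ≫ η.obj.iso.hom.hom.snd = η.obj.iso.hom.hom.snd ≫ f₂.map (𝟙 _)
    simp
    exact (Category.comp_id _).symm

end Prod

end Groth.Agent.Fib44
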