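import Groth.Prelude.Def_FibCat2
import Groth.Prelude.Def_W4stkcategoriessitesFib

/-!
Basic facts on strongly cartesian morphisms, categories fibred in groupoids, functors over a base.
-/

set_option backward.isDefEq.respectTransparency false
set_option backward.isDefEq.respectTransparency.types false

universe v₄ u₄ v₃ u₃ v₂ u₂ v u

open CategoryTheory CategoryTheory.Functor

namespace Groth.Agent.Fib44

variable {C : Type u} [Category.{v} C]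

section Plain

variable {𝒳 : Type u₂} [Category.{v₂} 𝒳] (p : 𝒳 ⥤ C)

theorem isHomLift_iff_map_eq {a b : 𝒳} (g : p.obj a ⟶ p.obj b) (φ : a ⟶ b) :
    p.IsHomLift g φ ↔ p.map φ = g :=
  ⟨fun _ => (IsHomLift.eq_of_isHomLift p g φ).symm, fun h => h ▸ inferInstance⟩

theorem map_eq_of_isHomLift {R S : C} {a b a' b' : 𝒳} (f : R ⟶ S) (φ : a ⟶ b) (φ' : a' ⟶ b')
    [p.IsHomLift f φ] [p.IsHomLift f φ'] (ha : p.obj a = p.obj a') (hb : p.obj b' = p.obj b) :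
    p.map φ = eqToHom ha ≫ p.map φ' ≫ eqToHom hb := by
  simp [IsHomLift.fac' p f φ, IsHomLift.fac' p f φ']

theorem map_eq_map_of_isHomLift {R S : C} {a b : 𝒳} (f : R ⟶ S) (φ φ' : a ⟶ b)
    [p.IsHomLift f φ] [p.IsHomLift f φ'] : p.map φ = p.map φ' := by
  simpa using map_eq_of_isHomLift p f φ φ' rfl rfl

theorem isHomLift_base {R S : C} {a b : 𝒳} (f : R ⟶ S) (φ : a ⟶ b) [p.IsHomLift f φ] :
    p.IsHomLift f φ := inferInstance

theorem lift_id_of_eq {U U' : C} (h : U = U') {a b : 𝒳} {φ : a ⟶ b} (hφ : p.IsHomLift (𝟙 U) φ) :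
    p.IsHomLift (𝟙 U') φ := by
  subst h; exact hφ

theorem isSC_self_of_isSC {R S : C} {a b : 𝒳} (f : R ⟶ S) (φ : a ⟶ b)
    [p.IsStronglyCartesian f φ] : p.IsStronglyCartesian (p.map φ) φ := by
  subst_hom_lift p f φ; infer_instance

theorem isSC_of_isSC_self {R S : C} {a b : 𝒳} (f : R ⟶ S) (φ : a ⟶ b) [hf : p.IsHomLift f φ]
    (h : p.IsStronglyCartesian (p.map φ) φ) : p.IsStronglyCartesian f φ := by
  cases hf; exact h

theorem isCartesian_self_of_isCartesian {R S : C} {a b : 𝒳} (f : R ⟶ S) (φ : a ⟶ b)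
    [p.IsCartesian f φ] : p.IsCartesian (p.map φ) φ := by
  subst_hom_lift p f φ; infer_instance

theorem isCartesian_of_isCartesian_self {R S : C} {a b : 𝒳} (f : R ⟶ S) (φ : a ⟶ b)
    [hf : p.IsHomLift f φ] (h : p.IsCartesian (p.map φ) φ) : p.IsCartesian f φ := by
  cases hf; exact h

theorem isSC_iff {a b : 𝒳} (φ : a ⟶ b) :
    p.IsStronglyCartesian (p.map φ) φ ↔ ∀ ⦃z : 𝒳⦄ (g : p.obj z ⟶ p.obj a) (ψ : z ⟶ b),
      p.map ψ = g ≫ p.map φ → ∃! χ : z ⟶ a, p.map χ = g ∧ χ ≫ φ = ψ := by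
  constructor
  · intro h z g ψ hψ
    have : p.IsHomLift (g ≫ p.map φ) ψ := (isHomLift_iff_map_eq p _ ψ).mpr hψ
    simpa only [isHomLift_iff_map_eq] using
      h.universal_property' g ψ
  · intro h
    refine { universal_property' := fun {z} g ψ hψ => ?_ }
    simpa only [isHomLift_iff_map_eq] using
      h g ψ ((isHomLift_iff_map_eq p _ ψ).mp hψ)

theorem isCartesian_iff {a b : 𝒳} (φ : a ⟶ b) :
    p.IsCartesian (p.map φ) φ ↔ ∀ ⦃z : 𝒳⦄ (hz : p.obj z = p.obj a) (ψ : z ⟶ b),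
      p.map ψ = eqToHom hz ≫ p.map φ →
        ∃! χ : z ⟶ a, p.map χ = eqToHom hz ∧ χ ≫ φ = ψ := by
  have key : ∀ (z : 𝒳) (hz : p.obj z = p.obj a) (χ : z ⟶ a),
      p.IsHomLift (𝟙 (p.obj a)) χ ↔ p.map χ = eqToHom hz := fun z hz χ => by
    refine ⟨fun h => ?_, fun h => IsHomLift.of_fac' p _ χ hz rfl (by simpa using h)⟩
    simpa using IsHomLift.fac' p (𝟙 (p.obj a)) χ
  constructor
  · intro h z hz ψ hψ
    have : p.IsHomLift (p.map φ) ψ := IsHomLift.of_fac' p _ ψ hz rfl (by simpa using hψ)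
    simpa only [key z hz] using IsCartesian.universal_property (p := p) (f := p.map φ) (φ := φ) ψ
  · intro h
    refine { universal_property := fun {z} ψ hψ => ?_ }
    have hz : p.obj z = p.obj a := IsHomLift.domain_eq p (p.map φ) ψ
    simpa only [key z hz] using h hz ψ (by simpa using IsHomLift.fac' p (p.map φ) ψ)

/-- The morphism determined by a strongly cartesian one, over a prescribed morphism of the base. -/
theorem sc_hom_ext {a b z : 𝒳} (φ : a ⟶ b) (h : p.IsStronglyCartesian (p.map φ) φ)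
    {χ χ' : z ⟶ a} (hp : p.map χ = p.map χ') (hc : χ ≫ φ = χ' ≫ φ) : χ = χ' := by
  have : p.IsHomLift (p.map χ) χ' := (isHomLift_iff_map_eq p _ χ').mpr hp.symm
  exact IsStronglyCartesian.ext p (p.map φ) φ (p.map χ) hc

theorem exists_sc_lift [p.IsFibered] {x : 𝒳} {U V : C} (hx : p.obj x = U) (f : V ⟶ U) :
    ∃ (y : 𝒳) (φ : y ⟶ x), p.IsStronglyCartesian f φ := by
  obtain ⟨y, φ, hφ⟩ := CategoryTheory.IsPreFibered.exists_isCartesian p hx f
  exact ⟨y, φ, inferInstance⟩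

theorem isFibered_of_isFibGrpd [h : FibCat.IsFibGrpd p] : p.IsFibered :=
  IsFibered.of_exists_isStronglyCartesian fun _ _ f => by
    obtain ⟨y, φ, hφ⟩ := h.exists_lift f
    exact ⟨y, φ, isSC_of_isSC_self p f φ (h.isStronglyCartesian φ)⟩

theorem isSC_of_fibGrpd (hp : FibCat.IsFibGrpd p) {R S : C} {a b : 𝒳} (f : R ⟶ S) (φ : a ⟶ b)
    [p.IsHomLift f φ] : p.IsStronglyCartesian f φ :=
  isSC_of_isSC_self p f φ (hp.isStronglyCartesian φ)

theorem exists_lift' (hp : FibCat.IsFibGrpd p) {x : 𝒳} {U V : C} (hx : p.obj x = U) (f : V ⟶ U) :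
    ∃ (y : 𝒳) (φ : y ⟶ x), p.IsHomLift f φ := by
  subst hx
  exact hp.exists_lift f

theorem isIso_of_fibGrpd (hp : FibCat.IsFibGrpd p) {R S : C} {a b : 𝒳} (f : R ⟶ S) [IsIso f]
    (φ : a ⟶ b) [p.IsHomLift f φ] : IsIso φ :=
  have := isSC_of_fibGrpd p hp f φ
  IsStronglyCartesian.isIso_of_base_isIso p f φ

theorem isGroupoid_fiber (hp : FibCat.IsFibGrpd p) (U : C) : IsGroupoid (p.Fiber U) := by
  refine ⟨fun {a b} φ => ?_⟩
  have := φ.2
  have := isIso_of_fibGrpd p hp (𝟙 U) φ.1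
  exact ⟨⟨⟨inv φ.1, inferInstance⟩, Subtype.ext (IsIso.hom_inv_id φ.1),
    Subtype.ext (IsIso.inv_hom_id φ.1)⟩⟩

theorem isIso_fiber_of_isIso {U : C} {a b : p.Fiber U} (φ : a ⟶ b) [IsIso φ.1] : IsIso φ := by
  have := φ.2
  exact ⟨⟨⟨inv φ.1, inferInstance⟩, Subtype.ext (IsIso.hom_inv_id φ.1),
    Subtype.ext (IsIso.inv_hom_id φ.1)⟩⟩

theorem isFibGrpd_of_isFibered [p.IsFibered] (hg : ∀ U : C, IsGroupoid (p.Fiber U)) :
    FibCat.IsFibGrpd p where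
  exists_lift := fun {x V} f => by
    obtain ⟨y, φ, hφ⟩ := exists_sc_lift p rfl f
    exact ⟨y, φ, inferInstance⟩
  isStronglyCartesian := fun {y x} φ => by
    obtain ⟨y', ψ, hψ⟩ := exists_sc_lift p rfl (p.map φ)
    let χ := IsCartesian.map p (p.map φ) ψ φ
    let χ' : Fiber.mk (p := p) (a := y) rfl ⟶
        Fiber.mk (IsHomLift.domain_eq p (p.map φ) ψ) := ⟨χ, inferInstance⟩
    have := (hg (p.obj y)).all_isIso χ'
    have : IsIso χ := inferInstanceAs (IsIso (Fiber.fiberInclusion.map χ'))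
    have h : p.IsStronglyCartesian (𝟙 (p.obj y)) χ := inferInstance
    have h2 : p.IsStronglyCartesian (𝟙 (p.obj y) ≫ p.map φ) (χ ≫ ψ) := inferInstance
    simpa [χ] using h2

theorem isFibGrpd_iff : FibCat.IsFibGrpd p ↔ p.IsFibered ∧ ∀ U : C, IsGroupoid (p.Fiber U) :=
  ⟨fun h => ⟨isFibered_of_isFibGrpd p, isGroupoid_fiber p h⟩,
    fun h => have := h.1; isFibGrpd_of_isFibered p h.2⟩

theorem overForget_isFibGrpd (U : C) : FibCat.IsFibGrpd (Over.forget U) where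
  exists_lift := fun {x V} f => ⟨Over.mk (f ≫ x.hom), Over.homMk f rfl,
    IsHomLift.map (Over.forget U) (Over.homMk f rfl : Over.mk (f ≫ x.hom) ⟶ x)⟩
  isStronglyCartesian := fun {y x} φ => by
    rw [isSC_iff]
    intro z g ψ h
    refine ⟨Over.homMk g ?_, ⟨rfl, ?_⟩, ?_⟩
    · have h' : ψ.left = g ≫ φ.left := h
      have := Over.w ψ
      rw [h'] at this
      simpa using this
    · exact Over.OverMorphism.ext h.symm
    · rintro χ ⟨hχ, -⟩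
      exact Over.OverMorphism.ext hχ

end Plain

section Based

variable {𝒳 : BasedCategory.{v₂, u₂} C} {𝒴 : BasedCategory.{v₃, u₃} C}

theorem based_map (F : 𝒳 ⥤ᵇ 𝒴) {a b : 𝒳.obj} (φ : a ⟶ b) :
    𝒴.p.map (F.map φ) = eqToHom (F.w_obj a) ≫ 𝒳.p.map φ ≫ eqToHom (F.w_obj b).symm :=
  IsHomLift.fac' 𝒴.p (𝒳.p.map φ) (F.map φ)

theorem based_isHomLift_self (F : 𝒳 ⥤ᵇ 𝒴) {a b : 𝒳.obj} (φ : a ⟶ b) :
    𝒴.p.IsHomLift (𝒳.p.map φ) (F.map φ) := inferInstance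

theorem based_isSC (h𝒴 : FibCat.IsFibGrpd 𝒴.p) (F : 𝒳 ⥤ᵇ 𝒴) {R S : C} {a b : 𝒳.obj} (f : R ⟶ S)
    (φ : a ⟶ b) [𝒳.p.IsHomLift f φ] : 𝒴.p.IsStronglyCartesian f (F.map φ) :=
  isSC_of_fibGrpd 𝒴.p h𝒴 f (F.map φ)

theorem basedNatTrans_ext {F G : 𝒳 ⥤ᵇ 𝒴} {α β : F ⟶ G}
    (h : ∀ a, α.toNatTrans.app a = β.toNatTrans.app a) : α = β :=
  BasedNatTrans.homCategory.ext α β (NatTrans.ext (funext h))

theorem based_iso_app_isIso {F G : 𝒳 ⥤ᵇ 𝒴} (e : F ≅ G) (a : 𝒳.obj) :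
    IsIso (e.hom.toNatTrans.app a) :=
  inferInstanceAs (IsIso (((BasedNatTrans.forgetful _ _).mapIso e).app a).hom)

/-- The component of a 2-isomorphism over the base. -/
def isoApp {F G : 𝒳 ⥤ᵇ 𝒴} (e : F ≅ G) (a : 𝒳.obj) : F.obj a ≅ G.obj a :=
  ((BasedNatTrans.forgetful _ _).mapIso e).app a

@[simp] theorem isoApp_hom {F G : 𝒳 ⥤ᵇ 𝒴} (e : F ≅ G) (a : 𝒳.obj) :
    (isoApp e a).hom = e.hom.toNatTrans.app a := rfl

@[simp] theorem isoApp_inv {F G : 𝒳 ⥤ᵇ 𝒴} (e : F ≅ G) (a : 𝒳.obj) :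
    (isoApp e a).inv = e.inv.toNatTrans.app a := rfl

theorem isIso_basedNatTrans {F G : 𝒳 ⥤ᵇ 𝒴} (α : F ⟶ G)
    (h : ∀ a, IsIso (α.toNatTrans.app a)) : IsIso α :=
  have : IsIso (X := F.toFunctor) α.toNatTrans := NatIso.isIso_of_isIso_app _
  BasedNatIso.isIso_of_toNatTrans_isIso α

theorem isIso_basedNatTrans_of_fibGrpd (h𝒴 : FibCat.IsFibGrpd 𝒴.p) {F G : 𝒳 ⥤ᵇ 𝒴} (α : F ⟶ G) :
    IsIso α :=
  isIso_basedNatTrans α fun a =>
    isIso_of_fibGrpd 𝒴.p h𝒴 (𝟙 (𝒳.p.obj a)) (α.toNatTrans.app a)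

end Based

end Groth.Agent.Fib44
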