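import Groth.Agent.Fib44.Glue

/-!
Descent along a refinement of a covering.
-/

set_option backward.isDefEq.respectTransparency false
set_option backward.isDefEq.respectTransparency.types false

universe v₂ u₂ v u

open CategoryTheory CategoryTheory.Functor

namespace Groth.Agent.Fib44

variable {C : Type u} [Category.{v} C] {𝒳 : BasedCategory.{v₂, u₂} C}

theorem morGlue_of_le (hg : FibCat.IsFibGrpd 𝒳.p) {U : C} {S R : Sieve U} (hSR : S ≤ R)
    (hS : MorGlue 𝒳 S) (hR : ∀ ⦃V : C⦄ (f : V ⟶ U), R f → MorGlue 𝒳 (S.pullback f)) :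
    MorGlue 𝒳 R := by
  intro x y hx hy θ hθ hnat
  obtain ⟨k, ⟨hk, hkf⟩, hku⟩ := hS hx hy (fun z φ h => θ φ (hSR _ h))
    (fun z φ h => hθ φ (hSR _ h)) (fun z' z t φ h h' => hnat t φ _ _)
  refine ⟨k, ⟨hk, fun z φ h => ?_⟩,
    fun k' ⟨hk', hk'f⟩ => hku k' ⟨hk', fun z φ h => hk'f φ (hSR _ h)⟩⟩
  have := hθ φ h
  have : 𝒳.p.IsHomLift (𝒳.p.map φ ≫ eqToHom hx) φ := IsHomLift.of_fac' 𝒳.p _ φ rfl hx (by simp)
  have : 𝒳.p.IsHomLift (𝒳.p.map φ ≫ eqToHom hx) (φ ≫ k) :=
    IsHomLift.comp_lift_id_right 𝒳.p (𝒳.p.map φ ≫ eqToHom hx) φ k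
  refine hom_ext_of_lifts hg (hR _ h) rfl (𝒳.p.map φ ≫ eqToHom hx) _ _ fun V g hgS => ?_
  obtain ⟨w, ψ, hψ⟩ := exists_lift' 𝒳.p hg (x := z) rfl g
  have hS' : S (𝒳.p.map (ψ ≫ φ) ≫ eqToHom hx) := by
    have := S.downward_closed hgS (eqToHom (IsHomLift.domain_eq 𝒳.p g ψ))
    simpa [IsHomLift.fac' 𝒳.p g ψ] using this
  refine ⟨w, ψ, hψ, ?_⟩
  rw [← Category.assoc, hkf (ψ ≫ φ) hS', hnat ψ φ h (hSR _ hS')]

/-- Restriction of arrows along an inclusion of sieves. -/
def leFunctor {U : C} {S R : Sieve U} (h : S ≤ R) : Stk.sieveCat S ⥤ᵇ Stk.sieveCat R where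
  toFunctor := ObjectProperty.ιOfLE fun _ ha => h _ ha
  w := rfl

/-- Composition of arrows of a pulled back sieve with the arrow. -/
def pullFunctor {U V : C} (S : Sieve U) (f : V ⟶ U) :
    Stk.sieveCat (S.pullback f) ⥤ᵇ Stk.sieveCat S where
  toFunctor :=
    { obj := fun h => sObj S (h.obj.hom ≫ f) h.property
      map := fun {a b} g => sHom S g.hom.left
        ((Category.assoc _ _ _).symm.trans (congrArg (fun t => t ≫ f) (Over.w g.hom)))
      map_id := fun _ => ObjectProperty.hom_ext _ (Over.OverMorphism.ext rfl)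
      map_comp := fun _ _ => ObjectProperty.hom_ext _ (Over.OverMorphism.ext rfl) }
  w := rfl

theorem objGlue_of_le (hg : FibCat.IsFibGrpd 𝒳.p) {U : C} {S R : Sieve U} (hSR : S ≤ R)
    (hS : ObjGlue 𝒳 S) (hR : ∀ ⦃V : C⦄ (f : V ⟶ U), R f → MorGlue 𝒳 (S.pullback f)) :
    ObjGlue 𝒳 R := by
  intro G
  let GS : Stk.sieveCat S ⥤ᵇ 𝒳 := BasedFunctor.comp (leFunctor hSR) G
  obtain ⟨x, γ, hγ⟩ := hS GS
  let H := fun a : R.arrows.category => BasedFunctor.comp (pullFunctor S a.obj.hom) GS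
  let inc : ∀ (a : R.arrows.category) (h : (S.pullback a.obj.hom).arrows.category),
      (leFunctor hSR).obj ((pullFunctor S a.obj.hom).obj h) ⟶ a := fun a h =>
    sHom R h.obj.hom rfl
  have hGa : ∀ a : R.arrows.category, IsGlue (H a) (G.obj a) fun h => G.map (inc a h) := fun a =>
    { over := obj_sieve G a
      lift := fun h => isHomLift_sieve_map G (inc a h)
      nat := fun h h' g => by
        change G.map ((leFunctor hSR).map ((pullFunctor S a.obj.hom).map g)) ≫ G.map (inc a h') = _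
        rw [← G.map_comp]
        exact congrArg G.map (ObjectProperty.hom_ext _ (Over.OverMorphism.ext (Over.w g.hom))) }
  have hex : ∀ a : R.arrows.category, ∃ δ : G.obj a ⟶ x, 𝒳.p.IsHomLift a.obj.hom δ ∧
      ∀ h, G.map (inc a h) ≫ δ = γ ((pullFunctor S a.obj.hom).obj h) := by
    intro a
    obtain ⟨w, χ, hχ⟩ := exists_lift' 𝒳.p hg hγ.over a.obj.hom
    have := isSC_of_fibGrpd 𝒳.p hg a.obj.hom χ
    have hl := fun h : (S.pullback a.obj.hom).arrows.category =>
      hγ.lift ((pullFunctor S a.obj.hom).obj h)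
    let ε : ∀ h : (S.pullback a.obj.hom).arrows.category, (H a).obj h ⟶ w := fun h =>
      have : 𝒳.p.IsHomLift (h.obj.hom ≫ a.obj.hom) (γ ((pullFunctor S a.obj.hom).obj h)) := hl h
      IsStronglyCartesian.map 𝒳.p a.obj.hom χ (g := h.obj.hom) rfl
        (γ ((pullFunctor S a.obj.hom).obj h))
    have hεl : ∀ h, 𝒳.p.IsHomLift h.obj.hom (ε h) := fun h =>
      have : 𝒳.p.IsHomLift (h.obj.hom ≫ a.obj.hom) (γ ((pullFunctor S a.obj.hom).obj h)) := hl h
      IsStronglyCartesian.map_isHomLift 𝒳.p a.obj.hom χ (g := h.obj.hom) rfl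
        (γ ((pullFunctor S a.obj.hom).obj h))
    have hεf : ∀ h, ε h ≫ χ = γ ((pullFunctor S a.obj.hom).obj h) := fun h =>
      have : 𝒳.p.IsHomLift (h.obj.hom ≫ a.obj.hom) (γ ((pullFunctor S a.obj.hom).obj h)) := hl h
      IsStronglyCartesian.fac 𝒳.p a.obj.hom χ (g := h.obj.hom) rfl
        (γ ((pullFunctor S a.obj.hom).obj h))
    have hε : IsGlue (H a) w ε :=
      { over := IsHomLift.domain_eq 𝒳.p a.obj.hom χ
        lift := hεl
        nat := fun h h' g => by
          have := hεl h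
          have := hεl h'
          have : 𝒳.p.IsHomLift g.hom.left ((H a).map g) := isHomLift_sieve_map (H a) g
          have : 𝒳.p.IsHomLift h.obj.hom ((H a).map g ≫ ε h') :=
            (Over.w g.hom) ▸ inferInstanceAs
              (𝒳.p.IsHomLift (g.hom.left ≫ h'.obj.hom) ((H a).map g ≫ ε h'))
          apply IsStronglyCartesian.ext 𝒳.p a.obj.hom χ h.obj.hom
          rw [Category.assoc, hεf, hεf]
          exact hγ.nat ((pullFunctor S a.obj.hom).map g) }
    obtain ⟨k, hk, hkf⟩ := exists_glue_iso hg (hR _ a.property) (hGa a) hε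
    exact ⟨k.hom ≫ χ, IsHomLift.comp_lift_id_left 𝒳.p a.obj.hom χ k.hom,
      fun h => by rw [← Category.assoc, hkf, hεf]⟩
  choose δ hδ hδf using hex
  refine ⟨x, δ, ⟨hγ.over, hδ, fun a b f => ?_⟩⟩
  have := hδ a
  have := hδ b
  have := isHomLift_sieve_map G f
  have : 𝒳.p.IsHomLift a.obj.hom (G.map f ≫ δ b) :=
    (Over.w f.hom) ▸ inferInstanceAs (𝒳.p.IsHomLift (f.hom.left ≫ b.obj.hom) (G.map f ≫ δ b))
  refine glue_hom_ext hg (hR _ a.property) (hGa a) a.obj.hom _ _ fun h => ?_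
  rw [hδf]
  let h' : (S.pullback b.obj.hom).arrows.category :=
    sObj (S.pullback b.obj.hom) (h.obj.hom ≫ f.hom.left) (by
      change S ((h.obj.hom ≫ f.hom.left) ≫ b.obj.hom)
      rw [Category.assoc, Over.w f.hom]
      exact h.property)
  let s₁ := (pullFunctor S a.obj.hom).obj h
  let s₂ := (pullFunctor S b.obj.hom).obj h'
  let i : s₁ ⟶ s₂ := sHom S (𝟙 _) (by
    simp [s₁, s₂, pullFunctor, h'])
  have e : inc a h ≫ f = (leFunctor hSR).map i ≫ inc b h' :=
    ObjectProperty.hom_ext _ (Over.OverMorphism.ext (Category.id_comp _).symm)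
  rw [← Category.assoc, ← G.map_comp, e, G.map_comp, Category.assoc, hδf]
  exact hγ.nat i

end Groth.Agent.Fib44
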