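import Groth.Prelude.Def_DeltaF
import Mathlib.AlgebraicTopology.AlternatingFaceMapComplex
import Mathlib.Algebra.Homology.HomologySequenceLemmas
import Mathlib.Algebra.Homology.HomologicalComplexAbelian
import Mathlib.CategoryTheory.Abelian.FunctorCategory
import Mathlib.CategoryTheory.Limits.FunctorCategory.Basic

/-!
Cohomology of the alternating coface complex as a delta-functor.
-/

set_option autoImplicit false
set_option linter.unusedVariables false
set_option backward.isDefEq.respectTransparency false
set_option backward.isDefEq.respectTransparency.types false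

universe v u

open CategoryTheory CategoryTheory.Limits Simplicial Opposite

namespace Groth.Agent.Fib44.CosimpDelta

variable (A : Type u) [Category.{v} A] [Abelian A]

/-- The alternating coface complex on functors. -/
noncomputable abbrev alt : (SimplexCategory ⥤ A) ⥤ CochainComplex A ℕ :=
  AlgebraicTopology.alternatingCofaceMapComplex A

instance alt_additive : (alt A).Additive where
  map_add := by
    intros
    ext n
    rfl

variable {A}

lemma alt_d (F : SimplexCategory ⥤ A) (n : ℕ) :
    ((alt A).obj F).d n (n + 1) = ∑ j : Fin (n + 2), (-1 : ℤ) ^ (j : ℕ) • F.map (SimplexCategory.δ j) :=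
  CochainComplex.of_d (fun n => F.obj ⦋n⦌) _ n

lemma map_shortExact {S : ShortComplex (SimplexCategory ⥤ A)} (hS : S.ShortExact) :
    (S.map (alt A)).ShortExact :=
  HomologicalComplex.shortExact_of_degreewise_shortExact _ fun n =>
    hS.map_of_exact ((evaluation SimplexCategory A).obj ⦋n⦌)

variable (A) in
/-- The delta-functor. -/
noncomputable def T : DeltaF.CohDeltaFunctor (SimplexCategory ⥤ A) A ℕ where
  F n := alt A ⋙ HomologicalComplex.homologyFunctor A (ComplexShape.up ℕ) n
  additive _ := inferInstance
  δ S hS n₀ n₁ h := (map_shortExact hS).δ n₀ n₁ h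
  δ_natural {S S'} hS hS' φ n₀ n₁ h :=
    (HomologicalComplex.HomologySequence.δ_naturality ((alt A).mapShortComplex.map φ)
      (map_shortExact hS) (map_shortExact hS') n₀ n₁ h).symm
  exact₂ S hS n := (map_shortExact hS).homology_exact₂ n
  comp_δ S hS n₀ n₁ h := (map_shortExact hS).comp_δ n₀ n₁ h
  exact₃ S hS n₀ n₁ h := (map_shortExact hS).homology_exact₃ n₀ n₁ h
  δ_comp S hS n₀ n₁ h := (map_shortExact hS).δ_comp n₀ n₁ h
  exact₁ S hS n₀ n₁ h := (map_shortExact hS).homology_exact₁ n₀ n₁ h

section Zero

variable [HasLimitsOfShape SimplexCategory A] (F : SimplexCategory ⥤ A)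

lemma π_d : limit.π F ⦋0⦌ ≫ ((alt A).obj F).d 0 1 = 0 := by
  rw [alt_d, Fin.sum_univ_two, Preadditive.comp_add]
  simp only [Fin.val_zero, pow_zero, one_smul, Fin.val_one, pow_one, neg_smul, Preadditive.comp_neg]
  erw [limit.w, limit.w, add_neg_cancel]

omit [HasLimitsOfShape SimplexCategory A] in
lemma cycles_δ : ((alt A).obj F).iCycles 0 ≫ F.map (SimplexCategory.δ (0 : Fin 2)) =
    ((alt A).obj F).iCycles 0 ≫ F.map (SimplexCategory.δ (1 : Fin 2)) := by
  have h := ((alt A).obj F).iCycles_d 0 1
  rw [alt_d, Fin.sum_univ_two] at h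
  simp only [Fin.val_zero, pow_zero, one_smul, Fin.val_one, pow_one, neg_smul,
    Preadditive.comp_neg, Preadditive.comp_add] at h
  exact add_neg_eq_zero.1 h

/-- A vertex. -/
abbrev vert (m : SimplexCategory) (i : Fin (m.len + 1)) : ⦋0⦌ ⟶ m := SimplexCategory.const _ m i

omit [HasLimitsOfShape SimplexCategory A] in
lemma cycles_vert {m : ℕ} (i j : Fin (m + 1)) (h : i ≤ j) :
    ((alt A).obj F).iCycles 0 ≫ F.map (vert ⦋m⦌ i) = ((alt A).obj F).iCycles 0 ≫ F.map (vert ⦋m⦌ j) := by
  have h0 : SimplexCategory.δ (0 : Fin 2) ≫ SimplexCategory.mkOfLe i j h = vert ⦋m⦌ j := by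
    ext k : 3
    obtain rfl : k = 0 := Fin.ext (Nat.lt_one_iff.1 k.isLt)
    rfl
  have h1 : SimplexCategory.δ (1 : Fin 2) ≫ SimplexCategory.mkOfLe i j h = vert ⦋m⦌ i := by
    ext k : 3
    obtain rfl : k = 0 := Fin.ext (Nat.lt_one_iff.1 k.isLt)
    rfl
  rw [← h0, ← h1]
  erw [F.map_comp, F.map_comp, reassoc_of% cycles_δ F]

/-- The cone of cycles. -/
noncomputable def cycleCone : Cone F where
  pt := ((alt A).obj F).cycles 0
  π :=
    { app := fun m => ((alt A).obj F).iCycles 0 ≫ F.map (vert m 0)
      naturality := fun m m' g => by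
        dsimp
        rw [Category.id_comp, Category.assoc, ← F.map_comp]
        have hg : vert m 0 ≫ g = vert m' (g.toOrderHom 0) := by
          ext k : 3
          rfl
        rw [hg]
        exact cycles_vert F (m := m'.len) 0 _ (Fin.zero_le _) }

/-- From the limit to degree zero cohomology. -/
noncomputable def toT : limit F ⟶ ((T A).F 0).obj F :=
  ((alt A).obj F).liftCycles (limit.π F ⦋0⦌) 1 (by simp) (π_d F) ≫ ((alt A).obj F).homologyπ 0

instance isIso_toT : IsIso (toT F) := by
  have : IsIso (((alt A).obj F).liftCycles (limit.π F ⦋0⦌) 1 (by simp) (π_d F)) := by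
    refine ⟨limit.lift F (cycleCone F), limit.hom_ext fun m => ?_, ?_⟩
    · rw [Category.assoc, limit.lift_π, Category.id_comp]
      change _ ≫ ((alt A).obj F).iCycles 0 ≫ F.map (vert m 0) = _
      rw [HomologicalComplex.liftCycles_i_assoc]
      exact limit.w F _
    · rw [← cancel_mono (((alt A).obj F).iCycles 0), Category.assoc, Category.id_comp]
      erw [HomologicalComplex.liftCycles_i, limit.lift_π]
      change ((alt A).obj F).iCycles 0 ≫ F.map (vert ⦋0⦌ 0) = _
      erw [show vert ⦋0⦌ 0 = 𝟙 _ from SimplexCategory.const_eq_id, F.map_id, Category.comp_id]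
  have : IsIso (((alt A).obj F).homologyπ 0) := inferInstance
  unfold toT
  infer_instance

variable (A) in
/-- Degree zero is the limit. -/
noncomputable def zeroIso : (lim : (SimplexCategory ⥤ A) ⥤ A) ≅ (T A).F 0 :=
  NatIso.ofComponents (fun F => asIso (toT F)) fun {F G} f => by
    change limMap f ≫ toT G = toT F ≫ HomologicalComplex.homologyMap ((alt A).map f) 0
    simp only [toT, Category.assoc, HomologicalComplex.homologyπ_naturality,
      HomologicalComplex.liftCycles_comp_cyclesMap_assoc]
    rw [← Category.assoc]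
    congr 1
    rw [← cancel_mono (((alt A).obj G).iCycles 0), Category.assoc, HomologicalComplex.liftCycles_i,
      HomologicalComplex.liftCycles_i]
    exact limMap_π f ⦋0⦌

end Zero

end Groth.Agent.Fib44.CosimpDelta
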