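import Groth.Agent.Fib44.CosimplicialAb
import Groth.Agent.Fib44.CosimplicialDelta
import Groth.Agent.RD97.LES
import Mathlib.Algebra.Category.Grp.AB
import Mathlib.CategoryTheory.Sites.Limits
import Mathlib.CategoryTheory.Adjunction.Evaluation
import Mathlib.CategoryTheory.Adjunction.Whiskering
import Mathlib.CategoryTheory.Adjunction.Additive
import Mathlib.CategoryTheory.Preadditive.Injective.Basic
import Mathlib.CategoryTheory.Abelian.GrothendieckAxioms.Sheaf

/-!
Derived limits of cosimplicial abelian sheaves.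
-/

set_option autoImplicit false
set_option backward.isDefEq.respectTransparency false
set_option backward.isDefEq.respectTransparency.types false

universe u

open CategoryTheory CategoryTheory.Limits Simplicial Opposite

namespace Groth.Agent.Fib44.CosimpSheaf

variable {C : Type u} [SmallCategory C] {J : GrothendieckTopology C}

lemma exact_of_sections (S : ShortComplex (Sheaf J AddCommGrpCat.{u}))
    (h : ∀ V, (S.map (sheafToPresheaf J AddCommGrpCat.{u} ⋙
      (evaluation Cᵒᵖ AddCommGrpCat.{u}).obj V)).Exact) : S.Exact := by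
  have h1 : (S.map (sheafToPresheaf J AddCommGrpCat.{u})).Exact := by
    rw [ShortComplex.exact_iff_isZero_homology, Functor.isZero_iff]
    intro V
    exact ((ShortComplex.exact_iff_isZero_homology _).1 (h V)).of_iso
      ((S.map (sheafToPresheaf J AddCommGrpCat.{u})).mapHomologyIso
        ((evaluation Cᵒᵖ AddCommGrpCat.{u}).obj V)).symm
  have : (presheafToSheaf J AddCommGrpCat.{u}).Additive :=
    (sheafificationAdjunction J AddCommGrpCat.{u}).left_adjoint_additive
  have h2 := h1.map (presheafToSheaf J AddCommGrpCat.{u})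
  refine ShortComplex.exact_of_iso ?_ h2
  exact ShortComplex.isoMk ((asIso (sheafificationAdjunction J AddCommGrpCat.{u}).counit).app _)
    ((asIso (sheafificationAdjunction J AddCommGrpCat.{u}).counit).app _)
    ((asIso (sheafificationAdjunction J AddCommGrpCat.{u}).counit).app _)
    ((sheafificationAdjunction J AddCommGrpCat.{u}).counit.naturality S.f).symm
    ((sheafificationAdjunction J AddCommGrpCat.{u}).counit.naturality S.g).symm

instance evaluationLeftAdjoint_preservesMonomorphisms (V : Cᵒᵖ) :
    (evaluationLeftAdjoint AddCommGrpCat.{u} V).PreservesMonomorphisms where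
  preserves {P Q} f _ := by
    have : ∀ W, Mono (((evaluationLeftAdjoint AddCommGrpCat.{u} V).map f).app W) := fun W => by
      let α : Discrete.functor (fun _ : V ⟶ W => P) ⟶ Discrete.functor (fun _ : V ⟶ W => Q) :=
        Discrete.natTrans fun _ => f
      have : Mono α := by
        have : ∀ i, Mono (α.app i) := fun i => ‹Mono f›
        exact NatTrans.mono_of_mono_app _
      have h2 : Mono (colimMap α) :=
        inferInstanceAs (Mono ((colim : (Discrete (V ⟶ W) ⥤ AddCommGrpCat.{u}) ⥤ _).map α))
      have e : ((evaluationLeftAdjoint AddCommGrpCat.{u} V).map f).app W = colimMap α :=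
        Sigma.hom_ext _ _ fun h => (Sigma.ι_desc _ _).trans (ι_colimMap α ⟨h⟩).symm
      rw [e]
      exact h2
    exact NatTrans.mono_of_mono_app _

/-- Sections of a cosimplicial sheaf. -/
noncomputable abbrev sec (I : SimplexCategory ⥤ Sheaf J AddCommGrpCat.{u}) (V : Cᵒᵖ) :
    SimplexCategory ⥤ AddCommGrpCat.{u} :=
  (I ⋙ sheafToPresheaf J AddCommGrpCat.{u}) ⋙ (evaluation Cᵒᵖ AddCommGrpCat.{u}).obj V

lemma injective_sec (I : SimplexCategory ⥤ Sheaf J AddCommGrpCat.{u}) [Injective I] (V : Cᵒᵖ) :
    Injective (sec I V) := by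
  have h1 : ((Functor.whiskeringRight SimplexCategory _ _).obj
      (presheafToSheaf J AddCommGrpCat.{u})).PreservesMonomorphisms := ⟨fun {P Q} f _ => by
    have : ∀ n, Mono ((((Functor.whiskeringRight SimplexCategory _ _).obj
        (presheafToSheaf J AddCommGrpCat.{u})).map f).app n) := fun n => by
      have : Mono (f.app n) := (NatTrans.mono_iff_mono_app f).1 inferInstance n
      exact inferInstanceAs (Mono ((presheafToSheaf J AddCommGrpCat.{u}).map (f.app n)))
    exact NatTrans.mono_of_mono_app _⟩
  have : Injective (I ⋙ sheafToPresheaf J AddCommGrpCat.{u}) :=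
    Injective.injective_of_adjoint ((sheafificationAdjunction J AddCommGrpCat.{u}).whiskerRight SimplexCategory) I
  have h2 : ((Functor.whiskeringRight SimplexCategory _ _).obj
      (evaluationLeftAdjoint AddCommGrpCat.{u} V)).PreservesMonomorphisms := ⟨fun {P Q} f _ => by
    have : ∀ n, Mono ((((Functor.whiskeringRight SimplexCategory _ _).obj
        (evaluationLeftAdjoint AddCommGrpCat.{u} V)).map f).app n) := fun n => by
      have : Mono (f.app n) := (NatTrans.mono_iff_mono_app f).1 inferInstance n
      exact inferInstanceAs (Mono ((evaluationLeftAdjoint AddCommGrpCat.{u} V).map (f.app n)))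
    exact NatTrans.mono_of_mono_app _⟩
  exact Injective.injective_of_adjoint
    ((evaluationAdjunctionRight AddCommGrpCat.{u} V).whiskerRight SimplexCategory)
    (I ⋙ sheafToPresheaf J AddCommGrpCat.{u})

theorem isZero_T_injective (I : SimplexCategory ⥤ Sheaf J AddCommGrpCat.{u}) [Injective I] (n : ℕ) :
    IsZero (((CosimpDelta.T (Sheaf J AddCommGrpCat.{u})).F (n + 1)).obj I) := by
  refine HomologicalComplex.ExactAt.isZero_homology ?_
  rw [HomologicalComplex.exactAt_iff' _ n (n + 1) (n + 2) (by simp) (by simp)]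
  refine exact_of_sections _ fun V => ?_
  have := injective_sec I V
  rw [ShortComplex.ab_exact_iff]
  intro x hx
  have hd : ∀ (m : ℕ) (z : (sec I V).obj ⦋m⦌),
      (((CosimpDelta.alt (Sheaf J AddCommGrpCat.{u})).obj I).d m (m + 1)).hom.app V z =
        CosimpAb.d (sec I V) m z := fun m z => by
    rw [CosimpDelta.alt_d]
    let ev : (I.obj ⦋m⦌ ⟶ I.obj ⦋m + 1⦌) →+ (I.obj ⦋m + 1⦌).obj.obj V :=
      AddMonoidHom.mk' (fun α => α.hom.app V z) (fun _ _ => rfl)
    refine (map_sum ev _ _).trans (Finset.sum_congr rfl fun j _ => ?_)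
    rw [map_zsmul]
    rfl
  obtain ⟨y, hy⟩ := CosimpAb.exists_preimage (sec I V) n x ((hd (n + 1) x).symm.trans hx)
  exact ⟨y, (hd n y).trans hy⟩

theorem nonempty_rightDerived_lim_iso
    [EnoughInjectives (SimplexCategory ⥤ Sheaf J AddCommGrpCat.{u})]
    [(lim : (SimplexCategory ⥤ Sheaf J AddCommGrpCat.{u}) ⥤ Sheaf J AddCommGrpCat.{u}).Additive]
    (F : SimplexCategory ⥤ Sheaf J AddCommGrpCat.{u}) (n : ℕ) :
    Nonempty (((lim : (SimplexCategory ⥤ Sheaf J AddCommGrpCat.{u}) ⥤ Sheaf J AddCommGrpCat.{u}).rightDerived n).obj F ≅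
      ((CosimpDelta.alt (Sheaf J AddCommGrpCat.{u})).obj F).homology n) := by
  let L := (lim : (SimplexCategory ⥤ Sheaf J AddCommGrpCat.{u}) ⥤ Sheaf J AddCommGrpCat.{u})
  obtain ⟨Δ⟩ := RD97.nonempty_derivedLES L
  have hT : (CosimpDelta.T (Sheaf J AddCommGrpCat.{u})).IsUniversal :=
    DeltaF50.isUniversal_of_isEffaceable
      (DeltaF50.isEffaceable_iff.2 fun m I hI => isZero_T_injective I m)
  have : PreservesFiniteLimits L :=
    ⟨fun I _ _ => (constLimAdj.rightAdjoint_preservesLimits).preservesLimitsOfShape⟩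
  obtain ⟨φ, -, -⟩ := DeltaF50.existsUnique_iso_of_isUniversal (RD97.isUniversal L Δ) hT
    (L.rightDerivedZeroIsoSelf ≪≫ CosimpDelta.zeroIso (Sheaf J AddCommGrpCat.{u}))
  exact ⟨{ hom := (φ.hom.app n).app F
           inv := (φ.inv.app n).app F
           hom_inv_id := by
             rw [← NatTrans.comp_app, ← DeltaF.CohDeltaFunctor.comp_app, φ.hom_inv_id]
             rfl
           inv_hom_id := by
             rw [← NatTrans.comp_app, ← DeltaF.CohDeltaFunctor.comp_app, φ.inv_hom_id]
             rfl }⟩

end Groth.Agent.Fib44.CosimpSheaf
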