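import Mathlib.Algebra.Homology.HomotopyCategory.KInjective
import Mathlib.Algebra.Homology.Additive
import Mathlib.CategoryTheory.Adjunction.Additive
import Mathlib.Algebra.Homology.ShortComplex.PreservesHomology
import Mathlib.CategoryTheory.Abelian.Exact

/-!
Right adjoints of exact functors preserve K-injective complexes.
-/

set_option autoImplicit false

universe v v' u u'

open CategoryTheory CategoryTheory.Limits

namespace Groth.Agent.Fib44

variable {A : Type u} [Category.{v} A] [Abelian A] {B : Type u'} [Category.{v'} B] [Abelian B]
  {L : A ⥤ B} {R : B ⥤ A} [L.Additive] [R.Additive]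

set_option backward.isDefEq.respectTransparency false in
theorem isKInjective_map_of_adj (adj : L ⊣ R) [L.PreservesHomology] (I : CochainComplex B ℤ)
    (hI : I.IsKInjective) :
    CochainComplex.IsKInjective ((R.mapHomologicalComplex (ComplexShape.up ℤ)).obj I) := ⟨fun {K} f hK => by
  let g : (L.mapHomologicalComplex (ComplexShape.up ℤ)).obj K ⟶ I :=
    (L.mapHomologicalComplex _).map f ≫
      { f := fun n => adj.counit.app (I.X n)
        comm' := fun i j _ => (adj.counit.naturality (I.d i j)).symm }
  have hLK : HomologicalComplex.Acyclic ((L.mapHomologicalComplex (ComplexShape.up ℤ)).obj K) :=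
    fun i => (hK i).map L
  obtain ⟨h⟩ := hI.nonempty_homotopy_zero g hLK
  let η : K ⟶ (R.mapHomologicalComplex (ComplexShape.up ℤ)).obj ((L.mapHomologicalComplex _).obj K) :=
    { f := fun n => adj.unit.app (K.X n)
      comm' := fun i j _ => (adj.unit.naturality (K.d i j)).symm }
  refine ⟨((Homotopy.ofEq ?_).trans (((R.mapHomotopy h).compLeft η))).trans (Homotopy.ofEq ?_)⟩
  · ext n
    simp only [η, g, Functor.mapHomologicalComplex_map_f, HomologicalComplex.comp_f, Functor.map_comp]
    rw [← Category.assoc]
    erw [← adj.unit.naturality (f.f n)]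
    rw [Category.assoc]
    erw [adj.right_triangle_components, Category.comp_id]
    rfl
  · simp⟩

end Groth.Agent.Fib44
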