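import Mathlib.CategoryTheory.Sites.LocallyBijective
import Mathlib.CategoryTheory.Sites.Continuous

/-!
Continuous functors preserve compatible families locally.
-/

set_option backward.isDefEq.respectTransparency false
set_option backward.isDefEq.respectTransparency.types false

universe w v u

open CategoryTheory Opposite

namespace Groth.Agent.Fib44

variable {C : Type u} [Category.{v} C] {D : Type u} [Category.{v} D] (F : C ⥤ D) {U : C}
  (R : Sieve U)

/-- A representative of a section of the left Kan extension of a sieve. -/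
structure ZigPre (W : D) where
  /-- the source of the member of the sieve -/
  obj : C
  /-- the member of the sieve -/
  r : obj ⟶ U
  mem : R r
  /-- the map towards its image -/
  h : W ⟶ F.obj obj

/-- One step of a zigzag. -/
def ZigStep {W : D} (p q : ZigPre F R W) : Prop :=
  ∃ j : p.obj ⟶ q.obj, j ≫ q.r = p.r ∧ p.h ≫ F.map j = q.h

/-- The left Kan extension of a sieve, as a presheaf of zigzag classes. -/
def zigPsh : Dᵒᵖ ⥤ Type (max u v) where
  obj W := Quot (@ZigStep _ _ _ _ F U R W.unop)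
  map {W W'} m := ↾(Quot.lift (fun p => Quot.mk _ ⟨p.obj, p.r, p.mem, m.unop ≫ p.h⟩)
    (fun p q ⟨j, h1, h2⟩ => Quot.sound ⟨j, h1, by simp [h2]⟩))
  map_id W := by
    ext q
    induction q using Quot.ind with
    | _ p =>
      change Quot.mk _ _ = Quot.mk _ p
      simp
  map_comp {A B E} f g := by
    ext q
    induction q using Quot.ind with
    | _ p =>
      change Quot.mk _ _ = Quot.mk _ _
      simp

/-- A continuous functor preserves compatible families locally: sections coming from two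
factorisations of one arrow through members of a covering sieve agree on a covering sieve. -/
theorem exists_cover_of_continuous (J : GrothendieckTopology C) (K : GrothendieckTopology D)
    [F.IsContinuous J K] (hR : R ∈ J U) {W : D} {U₁ U₂ : C} {r₁ : U₁ ⟶ U} {r₂ : U₂ ⟶ U}
    (hr₁ : R r₁) (hr₂ : R r₂) (h₁ : W ⟶ F.obj U₁) (h₂ : W ⟶ F.obj U₂)
    (e : h₁ ≫ F.map r₁ = h₂ ≫ F.map r₂) :
    ∃ M ∈ K W, ∀ ⦃W' : D⦄ (m : W' ⟶ W), M m → ∀ (P : Dᵒᵖ ⥤ Type w)
      (y : Presieve.FamilyOfElements (F.op ⋙ P) R.arrows), y.Compatible →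
      P.map (m ≫ h₁).op (y r₁ hr₁) = P.map (m ≫ h₂).op (y r₂ hr₂) := by
  let Q := zigPsh F R
  let η := K.toSheafify Q
  have hG : Presieve.IsSheaf K (K.sheafify Q) :=
    (isSheaf_iff_isSheaf_of_type _ _).1 (GrothendieckTopology.sheafify_isSheaf K Q)
  have hFG := F.op_comp_isSheaf_of_isSheaf_type J hG
  have nat : ∀ {A B : D} (m : A ⟶ B) (q : Q.obj (op B)),
      η.app (op A) (Q.map m.op q) = (K.sheafify Q).map m.op (η.app (op B) q) := fun m q =>
    ConcreteCategory.congr_hom (η.naturality m.op) q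
  let x : Presieve.FamilyOfElements (F.op ⋙ K.sheafify Q) R.arrows := fun V r hr =>
    η.app (op (F.obj V)) (Quot.mk _ ⟨V, r, hr, 𝟙 _⟩)
  have hx : x.Compatible := by
    intro Y₁ Y₂ Z g₁ g₂ f₁ f₂ hf₁ hf₂ eq
    have key : ∀ {Y : C} (g : Z ⟶ Y) (f : Y ⟶ U) (hf : R f),
        (F.op ⋙ K.sheafify Q).map g.op (x f hf) =
          η.app (op (F.obj Z)) (Quot.mk _ ⟨Z, g ≫ f, R.downward_closed hf g, 𝟙 _⟩) := by
      intro Y g f hf
      change (K.sheafify Q).map (F.map g).op (η.app _ _) = _
      rw [← nat]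
      congr 1
      exact (Quot.sound ⟨g, rfl, by simp⟩).symm
    rw [key, key]
    simp_rw [eq]
  obtain ⟨s, hs, -⟩ := hFG R hR x hx
  have hh : ∀ {V : C} (r : V ⟶ U) (hr : R r) (h : W ⟶ F.obj V),
      η.app (op W) (Quot.mk _ ⟨V, r, hr, h⟩) = (K.sheafify Q).map (h ≫ F.map r).op s := by
    intro V r hr h
    have e1 : (Quot.mk _ ⟨V, r, hr, h⟩ : Q.obj (op W)) = Q.map h.op (Quot.mk _ ⟨V, r, hr, 𝟙 _⟩) := by
      change _ = Quot.mk _ _
      simp
    rw [e1, nat]
    have := hs r hr
    change (K.sheafify Q).map (F.map r).op s = x r hr at this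
    rw [op_comp, Functor.map_comp_apply, this]
  refine ⟨Presheaf.equalizerSieve (F := Q) (Quot.mk _ ⟨U₁, r₁, hr₁, h₁⟩) (Quot.mk _ ⟨U₂, r₂, hr₂, h₂⟩),
    Presheaf.equalizerSieve_mem K η _ _ (by rw [hh, hh, e]), fun W' m hm P y hy => ?_⟩
  let φ : Quot (@ZigStep _ _ _ _ F U R W') → P.obj (op W') :=
    Quot.lift (fun p => P.map p.h.op (y p.r p.mem)) (fun p q ⟨j, h1, h2⟩ => by
      rw [← h2, op_comp, Functor.map_comp_apply]
      congr 1
      have hyj : (F.op ⋙ P).map j.op (y q.r q.mem) = (F.op ⋙ P).map (𝟙 p.obj).op (y p.r p.mem) :=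
        hy j (𝟙 p.obj) q.mem p.mem (by simpa using h1)
      simp at hyj
      exact hyj.symm)
  exact congrArg φ hm

end Groth.Agent.Fib44
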