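import Groth.Prelude.Def_FibSite
import Mathlib.CategoryTheory.Sites.InducedTopology
import Groth.Agent.Fib44.FibSiteLocal

/-!
The total topology of a pre-fibred site and its sheaves.
-/

set_option backward.isDefEq.respectTransparency false
set_option backward.isDefEq.respectTransparency.types false
set_option backward.defeqAttrib.useBackward true

universe w v₃ u₃ v₂ u₂ v₁ u₁

open CategoryTheory CategoryTheory.Functor CategoryTheory.Limits Opposite Pseudofunctor Bicategory
  Pseudofunctor.CoGrothendieck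

namespace Groth.Agent.Fib44

variable {𝒮 : Type u₁} [Category.{v₁} 𝒮] {F : Pseudofunctor (LocallyDiscrete 𝒮ᵒᵖ) Cat.{v₂, u₂}}

theorem ι_lift_decomp {X Y : ∫ᶜ F} (φ : Y ⟶ X) :
    φ = (ι F Y.base).map φ.fiber ≫ cartesianLift X.fiber φ.base := by
  ext
  · simp
  · dsimp
    simp [F.mapComp_id_right_inv_app, Strict.rightUnitor_eqToIso, PrelaxFunctor.map₂_eqToHom]

theorem ι_map_lift {R S : 𝒮} (f : R ⟶ S) {U₁ U₂ : F.obj ⟨op S⟩} (j : U₁ ⟶ U₂) :
    (ι F R).map ((FibSite.invImage F f).map j) ≫ cartesianLift U₂ f =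
      cartesianLift U₁ f ≫ (ι F S).map j := by
  ext
  · simp
  · dsimp
    simp [F.mapComp_id_right_inv_app, F.mapComp_id_left_inv_app,
      Strict.rightUnitor_eqToIso, Strict.leftUnitor_eqToIso, PrelaxFunctor.map₂_eqToHom]
    rw [← Functor.map_comp_assoc ((F.map f.op.toLoc).toFunctor)
      ((F.mapId _).inv.toNatTrans.app U₂)]
    simp [← Cat.Hom₂.comp_app]

theorem ι_fac {R S : 𝒮} (f : R ⟶ S) {W : F.obj ⟨op R⟩} {U₁ U₂ : F.obj ⟨op S⟩}
    (h : W ⟶ (FibSite.invImage F f).obj U₁) (j : U₁ ⟶ U₂) :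
    ((ι F R).map h ≫ cartesianLift U₁ f) ≫ (ι F S).map j =
      (ι F R).map (h ≫ (FibSite.invImage F f).map j) ≫ cartesianLift U₂ f := by
  rw [Functor.map_comp, Category.assoc, Category.assoc, ι_map_lift]

theorem ι_map_injective {S : 𝒮} {U V : F.obj ⟨op S⟩} {a b : U ⟶ V}
    (h : (ι F S).map a = (ι F S).map b) : a = b :=
  (Fiber.inducedFunctor (comp_const F S)).map_injective (Fiber.hom_ext h)

theorem exists_ι_map_eq {S : 𝒮} {U V : F.obj ⟨op S⟩}
    (φ : (ι F S).obj U ⟶ (ι F S).obj V) (h : φ.base = 𝟙 S) : ∃ a : U ⟶ V, (ι F S).map a = φ := by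
  have : (forget F).IsHomLift (𝟙 S) φ := IsHomLift.of_fac' _ _ _ rfl rfl (by simpa using! h)
  obtain ⟨a, ha⟩ := (Fiber.inducedFunctor (comp_const F S)).map_surjective (X := U) (Y := V)
    ⟨φ, this⟩
  exact ⟨a, congrArg Subtype.val ha⟩

theorem lift_cancel {R S : 𝒮} (f : R ⟶ S) {W : F.obj ⟨op R⟩} {U : F.obj ⟨op S⟩}
    {h h' : W ⟶ (FibSite.invImage F f).obj U}
    (e : (ι F R).map h ≫ cartesianLift U f = (ι F R).map h' ≫ cartesianLift U f) : h = h' := by
  have := isStronglyCartesian_homCartesianLift U f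
  have hl : ∀ k : W ⟶ (FibSite.invImage F f).obj U,
      (forget F).IsHomLift (𝟙 R) ((ι F R).map k) := fun k =>
    IsHomLift.of_fac' _ _ _ rfl rfl (by simp)
  have := hl h
  have := hl h'
  exact ι_map_injective (IsCartesian.ext (forget F) f (cartesianLift U f) (a' := (ι F R).obj W)
    ((ι F R).map h) ((ι F R).map h') e)

theorem ι_pullback {X Y : ∫ᶜ F} (S : Sieve X) (φ : Y ⟶ X) :
    True ∧
      (Sieve.functorPushforward (FibSite.invImage F φ.base)
          (Sieve.functorPullback (ι F X.base) (X := X.fiber) S)).pullback φ.fiber ≤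
        Sieve.functorPullback (ι F Y.base) (X := Y.fiber) (S.pullback φ) := by
  refine ⟨trivial, ?_⟩
  rintro V m ⟨U', r, k, hr, e⟩
  change S ((ι F Y.base).map m ≫ φ)
  rw [ι_lift_decomp φ, ← Category.assoc, ← Functor.map_comp, e, ← ι_fac]
  exact S.downward_closed hr _

variable {J : FibSite.Topologies F}

/-- The topology whose covering sieves cover in the fibre. -/
def fibreTop (hF : FibSite.IsPreFibSite F J) : GrothendieckTopology (∫ᶜ F) where
  sieves X := {S | Sieve.functorPullback (ι F X.base) (X := X.fiber) S ∈ J X.base X.fiber}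
  top_mem' X := by
    change Sieve.functorPullback (ι F X.base) (X := X.fiber) ⊤ ∈ J X.base X.fiber
    rw [Sieve.functorPullback_top]
    exact (J X.base).top_mem _
  pullback_stable' X Y S φ hS := by
    have := hF φ.base
    exact (J Y.base).superset_covering (ι_pullback S φ).2 ((J Y.base).pullback_stable φ.fiber
      ((CoverPreserving.of_isContinuous (FibSite.invImage F φ.base) _ (J Y.base)).cover_preserve hS))
  transitive' X S hS R hR := by
    refine (J X.base).transitive hS _ fun V r hr => ?_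
    refine (J X.base).superset_covering ?_ (hR hr)
    intro W m hm
    change R ((ι F X.base).map (m ≫ r))
    rw [Functor.map_comp]
    exact hm

theorem totalTopology_eq (hF : FibSite.IsPreFibSite F J) :
    FibSite.totalTopology F J = fibreTop hF := by
  refine le_antisymm (FibSite.totalTopology_le fun S U R hR => ?_) ?_
  · exact (J S).superset_covering (fun V r hr => Sieve.image_mem_functorPushforward _ R hr) hR
  · intro X S hS
    exact (FibSite.totalTopology F J).superset_covering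
      ((Sieve.functor_galoisConnection (ι F X.base) X.fiber).l_u_le S)
      (FibSite.functorPushforward_mem_totalTopology (show Sieve.functorPullback (ι F X.base) (X := X.fiber) S ∈ J X.base X.fiber from hS))

theorem mem_total_iff_pullback (hF : FibSite.IsPreFibSite F J) {X : ∫ᶜ F} (S : Sieve X) :
    S ∈ FibSite.totalTopology F J X ↔
      Sieve.functorPullback (ι F X.base) (X := X.fiber) S ∈ J X.base X.fiber := by
  rw [totalTopology_eq hF]; rfl

theorem mem_total_iff (hF : FibSite.IsPreFibSite F J) {X : ∫ᶜ F} (S : Sieve X) :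
    S ∈ FibSite.totalTopology F J X ↔
      ∃ R ∈ J X.base X.fiber, Sieve.functorPushforward (ι F X.base) R ≤ S := by
  rw [mem_total_iff_pullback hF]
  refine ⟨fun h => ⟨_, h, (Sieve.functor_galoisConnection (ι F X.base) X.fiber).l_u_le S⟩, ?_⟩
  rintro ⟨R, hR, hle⟩
  exact (J X.base).superset_covering
    ((Sieve.functor_galoisConnection (ι F X.base) X.fiber R S).mp hle) hR

theorem isCocontinuous_ι (hF : FibSite.IsPreFibSite F J) (S : 𝒮) :
    (ι F S).IsCocontinuous (J S) (FibSite.totalTopology F J) :=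
  ⟨fun {U T} hT => (mem_total_iff_pullback hF T).mp hT⟩

section Sheaves

variable {P : (∫ᶜ F)ᵒᵖ ⥤ Type w}

theorem map_sq {A B B' C : ∫ᶜ F} {a : A ⟶ B} {b : B ⟶ C} {c : A ⟶ B'} {d : B' ⟶ C}
    (h : a ≫ b = c ≫ d) (x : P.obj (op C)) :
    P.map a.op (P.map b.op x) = P.map c.op (P.map d.op x) := by
  rw [← Functor.map_comp_apply, ← Functor.map_comp_apply, ← op_comp, ← op_comp, h]

theorem isSheaf_total_of_fibres (hF : FibSite.IsPreFibSite F J)
    (h : ∀ S : 𝒮, Presieve.IsSheaf (J S) ((ι F S).op ⋙ P)) :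
    Presieve.IsSheaf (FibSite.totalTopology F J) P := by
  have sep : ∀ (X : ∫ᶜ F) (S : Sieve X), S ∈ FibSite.totalTopology F J X →
      Presieve.IsSeparatedFor P S.arrows := by
    intro X S hS x t₁ t₂ h₁ h₂
    refine ((h X.base) _ ((mem_total_iff_pullback hF S).mp hS)).isSeparatedFor.ext
      fun V r hr => ?_
    exact (h₁ _ hr).trans (h₂ _ hr).symm
  intro X S hS
  obtain ⟨R, hR, hle⟩ := (mem_total_iff hF S).mp hS
  refine Presieve.isSheafFor_subsieve_aux P (S := Sieve.functorPushforward (ι F X.base) R) hle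
    ?_ fun Y φ _ => sep _ _ ((FibSite.totalTopology F J).pullback_stable φ
      (FibSite.functorPushforward_mem_totalTopology hR))
  rw [← Presieve.isSeparatedFor_and_exists_isAmalgamation_iff_isSheafFor]
  refine ⟨sep _ _ (FibSite.functorPushforward_mem_totalTopology hR), fun x hx => ?_⟩
  obtain ⟨s, hs, -⟩ := (h X.base) R hR
    (fun V r hr => x ((ι F X.base).map r) (Sieve.image_mem_functorPushforward _ R hr))
    (fun Y₁ Y₂ Z g₁ g₂ f₁ f₂ hf₁ hf₂ eq => hx ((ι F X.base).map g₁) ((ι F X.base).map g₂) _ _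
      (by rw [← Functor.map_comp, ← Functor.map_comp, eq]))
  refine ⟨s, ?_⟩
  rintro Y _ ⟨V, r, k, hr, rfl⟩
  have e1 := hs r hr
  change P.map ((ι F X.base).map r).op s = x _ _ at e1
  rw [op_comp, Functor.map_comp_apply]
  erw [e1]
  have := hx k (𝟙 Y) (Sieve.image_mem_functorPushforward (ι F X.base) R hr)
    (show Sieve.functorPushforward (ι F X.base) R (k ≫ (ι F X.base).map r) from
      ⟨V, r, k, hr, rfl⟩) (by simp)
  simp at this
  exact this

theorem isSheaf_fibre_of_total (hF : FibSite.IsPreFibSite F J)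
    (hP : Presieve.IsSheaf (FibSite.totalTopology F J) P) (S : 𝒮) :
    Presieve.IsSheaf (J S) ((ι F S).op ⋙ P) := by
  intro U R hR x hx
  have key : ∀ {Y : ∫ᶜ F} {U₁ U₂ : F.obj ⟨op S⟩} (k₁ : Y ⟶ (ι F S).obj U₁)
      (k₂ : Y ⟶ (ι F S).obj U₂) {r₁ : U₁ ⟶ U} {r₂ : U₂ ⟶ U} (h₁ : R r₁) (h₂ : R r₂),
      k₁ ≫ (ι F S).map r₁ = k₂ ≫ (ι F S).map r₂ →
        P.map k₁.op (x r₁ h₁) = P.map k₂.op (x r₂ h₂) := by
    intro Y U₁ U₂ k₁ k₂ r₁ r₂ hr₁ hr₂ e
    obtain ⟨b₁, f₁⟩ := k₁
    obtain ⟨b₂, f₂⟩ := k₂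
    change Y.base ⟶ S at b₁ b₂
    have eb : b₁ = b₂ := by
      have := congrArg (fun t => Pseudofunctor.CoGrothendieck.Hom.base t) e
      simp at this
      exact this
    subst eb
    let k₁ : Y ⟶ (ι F S).obj U₁ := ⟨b₁, f₁⟩
    let k₂ : Y ⟶ (ι F S).obj U₂ := ⟨b₁, f₂⟩
    have d₁ : k₁ = (ι F Y.base).map f₁ ≫ cartesianLift U₁ b₁ := ι_lift_decomp k₁
    have d₂ : k₂ = (ι F Y.base).map f₂ ≫ cartesianLift U₂ b₁ := ι_lift_decomp k₂
    change k₁ ≫ _ = k₂ ≫ _ at e
    rw [d₁, d₂] at e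
    erw [ι_fac, ι_fac] at e
    have := hF b₁
    obtain ⟨M, hM, hMe⟩ := exists_cover_of_continuous.{w} (FibSite.invImage F b₁) R (J S)
      (J Y.base) hR hr₁ hr₂ f₁ f₂ (lift_cancel b₁ e)
    refine (hP _ (FibSite.functorPushforward_mem_totalTopology hM)).isSeparatedFor.ext ?_
    rintro Z _ ⟨W, m, k, hm, rfl⟩
    change P.map (k ≫ (ι F Y.base).map m).op (P.map k₁.op (x r₁ hr₁)) =
      P.map (k ≫ (ι F Y.base).map m).op (P.map k₂.op (x r₂ hr₂))
    rw [op_comp, Functor.map_comp_apply, Functor.map_comp_apply]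
    congr 1
    rw [d₁, d₂, op_comp, Functor.map_comp_apply, op_comp, Functor.map_comp_apply]
    have hy := hMe m hm ((ι F Y.base).op ⋙ P)
      (fun V r hr => P.map (cartesianLift V b₁).op (x r hr)) (by
        intro Y₁ Y₂ Z g₁ g₂ p₁ p₂ hp₁ hp₂ eq
        have h1 := congrArg (fun t => P.map (cartesianLift Z b₁).op t) (hx g₁ g₂ hp₁ hp₂ eq)
        change P.map ((ι F Y.base).map ((FibSite.invImage F b₁).map g₁)).op
            (P.map (cartesianLift Y₁ b₁).op (x p₁ hp₁)) =
          P.map ((ι F Y.base).map ((FibSite.invImage F b₁).map g₂)).op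
            (P.map (cartesianLift Y₂ b₁).op (x p₂ hp₂))
        exact (map_sq (ι_map_lift b₁ g₁) _).trans
          (h1.trans (map_sq (ι_map_lift b₁ g₂) _).symm))
    change P.map ((ι F Y.base).map (m ≫ f₁)).op _ = P.map ((ι F Y.base).map (m ≫ f₂)).op _ at hy
    rw [Functor.map_comp, Functor.map_comp, op_comp, op_comp, Functor.map_comp_apply,
      Functor.map_comp_apply] at hy
    exact hy
  have hp : ∀ {Y : ∫ᶜ F} (φ : Y ⟶ (ι F S).obj U), Sieve.functorPushforward (ι F S) R φ →
      ∃ (V : F.obj ⟨op S⟩) (r : V ⟶ U) (k : Y ⟶ (ι F S).obj V), R r ∧ φ = k ≫ (ι F S).map r :=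
    fun φ h => h
  choose V r k hr hk using @hp
  let xbar : Presieve.FamilyOfElements P (Sieve.functorPushforward (ι F S) R).arrows :=
    fun Y φ h => P.map (k φ h).op (x (r φ h) (hr φ h))
  have hxbar : xbar.Compatible := by
    intro Y₁ Y₂ Z g₁ g₂ p₁ p₂ h₁ h₂ eq
    change P.map g₁.op (P.map _ _) = P.map g₂.op (P.map _ _)
    rw [← Functor.map_comp_apply, ← Functor.map_comp_apply, ← op_comp, ← op_comp]
    refine key _ _ _ _ ?_
    rw [Category.assoc, Category.assoc, ← hk, ← hk, eq]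
  obtain ⟨s, hs, hu⟩ := hP _ (FibSite.functorPushforward_mem_totalTopology hR) xbar hxbar
  refine ⟨s, fun V' r' hr' => ?_, fun t ht => hu t fun Y φ hφ => ?_⟩
  · change P.map ((ι F S).map r').op s = _
    rw [hs _ (Sieve.image_mem_functorPushforward _ R hr')]
    refine (key _ (𝟙 _) _ hr' ?_).trans (by simp)
    rw [← hk, Category.id_comp]
  · change P.map φ.op t = P.map _ _
    conv_lhs => rw [hk φ hφ]
    rw [op_comp, Functor.map_comp_apply]
    congr 1
    exact ht _ (hr φ hφ)

theorem isSheaf_total_iff (hF : FibSite.IsPreFibSite F J) :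
    Presieve.IsSheaf (FibSite.totalTopology F J) P ↔
      ∀ S : 𝒮, Presieve.IsSheaf (J S) ((ι F S).op ⋙ P) :=
  ⟨isSheaf_fibre_of_total hF, isSheaf_total_of_fibres hF⟩

end Sheaves

theorem isContinuous_ι (hF : FibSite.IsPreFibSite F J) (S : 𝒮) :
    (ι F S).IsContinuous (J S) (FibSite.totalTopology F J) :=
  ⟨fun G => isSheaf_fibre_of_total hF ((isSheaf_iff_isSheaf_of_type _ _).1 G.property) S⟩

theorem isSheaf_total_iff' (hF : FibSite.IsPreFibSite F J) {A : Type u₃} [Category.{v₃} A]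
    (P : (∫ᶜ F)ᵒᵖ ⥤ A) : Presheaf.IsSheaf (FibSite.totalTopology F J) P ↔
      ∀ S : 𝒮, Presheaf.IsSheaf (J S) ((ι F S).op ⋙ P) :=
  ⟨fun h S E => isSheaf_fibre_of_total hF (h E) S,
    fun h E => isSheaf_total_of_fibres hF fun S => h S E⟩

theorem inducedTopology_ι (hF : FibSite.IsPreFibSite F J) (S : 𝒮) :
    (ι F S).inducedTopology (FibSite.totalTopology F J) = J S := by
  refine le_antisymm (fun U R hR => ?_) (le_inducedTopology_iff.mpr (isContinuous_ι hF S))
  have h := (mem_total_iff_pullback hF _).mp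
    ((CoverPreserving.of_isContinuous (ι F S) ((ι F S).inducedTopology _)
      (FibSite.totalTopology F J)).cover_preserve hR)
  refine (J S).superset_covering ?_ h
  rintro V g ⟨W, r, k, hr, e⟩
  change (ι F S).map g = _ at e
  obtain ⟨a, rfl⟩ := exists_ι_map_eq k (by
    have := congrArg (fun t => Pseudofunctor.CoGrothendieck.Hom.base t) e
    simp at this
    exact this.symm)
  change (ι F S).map g = (ι F S).map a ≫ _ at e
  rw [← Functor.map_comp] at e
  rw [ι_map_injective e]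
  exact R.downward_closed hr a

theorem isContinuous_total_iff (hF : FibSite.IsPreFibSite F J) {D : Type u₃} [Category.{v₃} D]
    (K : GrothendieckTopology D) (m : ∫ᶜ F ⥤ D) :
    m.IsContinuous (FibSite.totalTopology F J) K ↔
      ∀ S : 𝒮, (ι F S ⋙ m).IsContinuous (J S) K := by
  refine ⟨fun h S => ?_, fun h => ⟨fun G => isSheaf_total_of_fibres hF fun S => ?_⟩⟩
  · have := isContinuous_ι hF S
    exact isContinuous_comp (ι F S) m (J S) (FibSite.totalTopology F J) K
  · have := h S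
    exact (ι F S ⋙ m).op_comp_isSheaf_of_types (J S) K G

end Groth.Agent.Fib44
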