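import Groth.Agent.SiteCoh.Free
import Groth.Prelude.Def_CohSite
import Mathlib.Algebra.Homology.ShortComplex.Ab
import Mathlib.CategoryTheory.Abelian.FunctorCategory

/-!
Acyclicity of an abelian sheaf on objects in terms of cohomology of covering sieves in presheaves.
-/

set_option backward.isDefEq.respectTransparency false
set_option backward.isDefEq.respectTransparency.types false

universe u

open CategoryTheory CategoryTheory.Limits Opposite CategoryTheory.Abelian

namespace Groth.Agent.Fib44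

variable {C : Type u} [SmallCategory C] {J : GrothendieckTopology C}

/-- An abelian presheaf as a sheaf for the trivial topology. -/
noncomputable abbrev botSheaf (P : Cᵒᵖ ⥤ AddCommGrpCat.{u}) :
    Sheaf (⊥ : GrothendieckTopology C) AddCommGrpCat.{u} :=
  ⟨P, Presheaf.isSheaf_bot _⟩

/-- A sheaf as a sheaf for the trivial topology. -/
noncomputable abbrev toBot (F : Sheaf J AddCommGrpCat.{u}) :
    Sheaf (⊥ : GrothendieckTopology C) AddCommGrpCat.{u} :=
  botSheaf F.obj

instance injective_toBot (I : Sheaf J AddCommGrpCat.{u}) [Injective I] :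
    Injective (toBot I) where
  factors {A B} g f _ := by
    have : Mono f.hom := inferInstanceAs (Mono ((sheafToPresheaf ⊥ _).map f))
    have : Mono ((presheafToSheaf J AddCommGrpCat.{u}).map f.hom) := inferInstance
    let adj := sheafificationAdjunction J AddCommGrpCat.{u}
    obtain ⟨h, hh⟩ := Injective.factors ((adj.homEquiv A.obj I).symm g.hom)
      ((presheafToSheaf J AddCommGrpCat.{u}).map f.hom)
    refine ⟨⟨adj.homEquiv B.obj I h⟩, Sheaf.hom_ext ?_⟩
    change f.hom ≫ adj.homEquiv B.obj I h = g.hom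
    rw [← adj.homEquiv_naturality_left, hh, Equiv.apply_symm_apply]

/-- A short complex of sheaves which is exact on sections is short exact. -/
theorem shortExact_of_sections {K : GrothendieckTopology C}
    (S : ShortComplex (Sheaf K AddCommGrpCat.{u}))
    (hf : ∀ U, Function.Injective (S.f.hom.app U))
    (he : ∀ U (x : S.X₂.obj.obj U), S.g.hom.app U x = 0 → ∃ y, S.f.hom.app U y = x)
    (hg : ∀ U, Function.Surjective (S.g.hom.app U)) : S.ShortExact := by
  let T := S.map (sheafToPresheaf K AddCommGrpCat.{u})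
  have hTe : T.Exact := (ShortComplex.exact_iff_isZero_homology T).2 <| Functor.isZero _ fun U => by
    refine IsZero.of_iso ((ShortComplex.exact_iff_isZero_homology _).1 ?_)
      (T.mapHomologyIso ((evaluation Cᵒᵖ AddCommGrpCat.{u}).obj U)).symm
    rw [ShortComplex.ab_exact_iff]
    exact he U
  have : ∀ U, Mono (T.f.app U) := fun U => (AddCommGrpCat.mono_iff_injective _).2 (hf U)
  have : ∀ U, Epi (T.g.app U) := fun U => (AddCommGrpCat.epi_iff_surjective _).2 (hg U)
  have hT : T.ShortExact :=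
    { exact := hTe, mono_f := NatTrans.mono_of_mono_app _, epi_g := NatTrans.epi_of_epi_app _ }
  have h := hT.map_of_exact (presheafToSheaf K AddCommGrpCat.{u})
  let η := asIso (sheafificationAdjunction K AddCommGrpCat.{u}).counit
  refine ShortComplex.shortExact_of_iso (ShortComplex.isoMk (η.app S.X₁) (η.app S.X₂)
    (η.app S.X₃) ?_ ?_) h
  · exact ((sheafificationAdjunction K AddCommGrpCat.{u}).counit.naturality S.f).symm
  · exact ((sheafificationAdjunction K AddCommGrpCat.{u}).counit.naturality S.g).symm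

theorem app_surjective_bot {A B : Sheaf (⊥ : GrothendieckTopology C) AddCommGrpCat.{u}}
    (g : A ⟶ B) [Epi g] (U : Cᵒᵖ) : Function.Surjective (g.hom.app U) := by
  intro s
  obtain ⟨S, hS⟩ := SiteCoh.exists_local_lift g (U := U.unop) s
  have h : S.1 (𝟙 U.unop) := by
    have e : S.1 = ⊤ := GrothendieckTopology.bot_covering.1 S.2
    change S.1 (𝟙 U.unop)
    rw [e]
    trivial
  obtain ⟨t, ht⟩ := hS ⟨_, 𝟙 U.unop, h⟩
  exact ⟨t, ht.trans (by simp)⟩

theorem app_injective_of_mono {K : GrothendieckTopology C} {A B : Sheaf K AddCommGrpCat.{u}}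
    (f : A ⟶ B) [Mono f] (U : Cᵒᵖ) : Function.Injective (f.hom.app U) := by
  have : Mono f.hom := inferInstanceAs (Mono ((sheafToPresheaf K _).map f))
  exact (AddCommGrpCat.mono_iff_injective _).1 inferInstance

theorem app_exact_of_shortExact {K : GrothendieckTopology C}
    {S : ShortComplex (Sheaf K AddCommGrpCat.{u})} (hS : S.ShortExact) (U : Cᵒᵖ)
    (x : S.X₂.obj.obj U) (hx : S.g.hom.app U x = 0) : ∃ y, S.f.hom.app U y = x := by
  have := hS.mono_f
  let φ := (SiteCoh.homAddEquivSec U.unop S.X₂).symm x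
  have hφ : φ ≫ S.g = 0 := by
    rw [SiteCoh.homAddEquivSec_symm_comp]
    exact (congrArg _ hx).trans (map_zero _)
  refine ⟨SiteCoh.homAddEquivSec U.unop S.X₁ (hS.exact.lift φ hφ), ?_⟩
  refine (SiteCoh.homAddEquivSec_comp (hS.exact.lift φ hφ) S.f).symm.trans ?_
  rw [hS.exact.lift_f]
  exact AddEquiv.apply_symm_apply _ _

theorem toBot_shortExact {S : ShortComplex (Sheaf J AddCommGrpCat.{u})} (hS : S.ShortExact)
    (hg : ∀ U, Function.Surjective (S.g.hom.app U)) :
    (ShortComplex.mk (⟨S.f.hom⟩ : toBot S.X₁ ⟶ toBot S.X₂) (⟨S.g.hom⟩ : toBot S.X₂ ⟶ toBot S.X₃)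
      (Sheaf.hom_ext (congrArg (fun t => t.hom) S.zero :))).ShortExact :=
  have := hS.mono_f
  shortExact_of_sections _ (app_injective_of_mono S.f)
    (fun U x hx => app_exact_of_shortExact (S := S) hS U x hx) hg

/-- The free abelian presheaf on a sieve. -/
noncomputable abbrev sieveFree {X : C} (S : Sieve X) :
    Sheaf (⊥ : GrothendieckTopology C) AddCommGrpCat.{u} :=
  (presheafToSheaf (⊥ : GrothendieckTopology C) AddCommGrpCat.{u}).obj
    (S.functor ⋙ AddCommGrpCat.free.{u})

/-- Morphisms out of the free abelian presheaf on a sieve. -/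
noncomputable def sieveHomEquiv {X : C} (S : Sieve X)
    (P : Sheaf (⊥ : GrothendieckTopology C) AddCommGrpCat.{u}) :
    (sieveFree S ⟶ P) ≃ (S.functor ⟶ P.obj ⋙ forget AddCommGrpCat.{u}) :=
  ((sheafificationAdjunction _ AddCommGrpCat.{u}).homEquiv _ P).trans
    ((AddCommGrpCat.adj.whiskerRight Cᵒᵖ).homEquiv S.functor P.obj)

theorem sieveHomEquiv_comp {X : C} (S : Sieve X)
    {P Q : Sheaf (⊥ : GrothendieckTopology C) AddCommGrpCat.{u}} (a : sieveFree S ⟶ P) (g : P ⟶ Q)
    {Y : C} (f : Y ⟶ X) (hf : S f) :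
    (sieveHomEquiv S Q (a ≫ g)).app (op Y) ⟨f, hf⟩ =
      g.hom.app (op Y) ((sieveHomEquiv S P a).app (op Y) ⟨f, hf⟩) := by
  refine (congrArg (fun t => t.app (op Y) ⟨f, hf⟩)
    ((congrArg ((AddCommGrpCat.adj.whiskerRight Cᵒᵖ).homEquiv S.functor Q.obj)
      ((sheafificationAdjunction _ AddCommGrpCat.{u}).homEquiv_naturality_right a g)).trans
      ((AddCommGrpCat.adj.whiskerRight Cᵒᵖ).homEquiv_naturality_right _ g.hom))).trans ?_
  rfl

/-- The sections of a map out of the free abelian presheaf on a sieve. -/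
noncomputable def sieveVal {X : C} {S : Sieve X}
    {P : Sheaf (⊥ : GrothendieckTopology C) AddCommGrpCat.{u}} (a : sieveFree S ⟶ P)
    ⦃Y : C⦄ (f : Y ⟶ X) (hf : S f) : P.obj.obj (op Y) :=
  (sieveHomEquiv S P a).app (op Y) ⟨f, hf⟩

theorem sieveVal_map {X : C} {S : Sieve X}
    {P : Sheaf (⊥ : GrothendieckTopology C) AddCommGrpCat.{u}} (a : sieveFree S ⟶ P)
    ⦃Z Y : C⦄ (k : Z ⟶ Y) (f : Y ⟶ X) (hf : S f) :
    P.obj.map k.op (sieveVal a f hf) = sieveVal a (k ≫ f) (S.downward_closed hf k) :=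
  (ConcreteCategory.congr_hom ((sieveHomEquiv S P a).naturality k.op) ⟨f, hf⟩).symm

theorem sieveVal_ext {X : C} {S : Sieve X}
    {P : Sheaf (⊥ : GrothendieckTopology C) AddCommGrpCat.{u}} {a b : sieveFree S ⟶ P}
    (h : ∀ ⦃Y : C⦄ (f : Y ⟶ X) (hf : S f), sieveVal a f hf = sieveVal b f hf) : a = b := by
  refine (sieveHomEquiv S P).injective (NatTrans.ext (funext fun Y => ?_))
  ext ⟨f, hf⟩
  exact h f hf

theorem exists_sieveVal {X : C} {S : Sieve X}
    {P : Sheaf (⊥ : GrothendieckTopology C) AddCommGrpCat.{u}}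
    (x : ∀ ⦃Y : C⦄ (f : Y ⟶ X), S f → P.obj.obj (op Y))
    (hx : ∀ ⦃Z Y : C⦄ (k : Z ⟶ Y) (f : Y ⟶ X) (hf : S f),
      P.obj.map k.op (x f hf) = x (k ≫ f) (S.downward_closed hf k)) :
    ∃ a : sieveFree S ⟶ P, ∀ ⦃Y : C⦄ (f : Y ⟶ X) (hf : S f), sieveVal a f hf = x f hf := by
  refine ⟨(sieveHomEquiv S P).symm
    { app := fun Y => ↾(fun t => x t.1 t.2)
      naturality := fun Y Z k => ?_ }, fun Y f hf => ?_⟩
  · ext ⟨f, hf⟩
    exact (hx k.unop f hf).symm
  · unfold sieveVal
    rw [Equiv.apply_symm_apply]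
    rfl

theorem sheaf_amalgamate (F : Sheaf J AddCommGrpCat.{u}) {X : C} {S : Sieve X} (hS : S ∈ J X)
    (x : ∀ ⦃Y : C⦄ (f : Y ⟶ X), S f → F.obj.obj (op Y))
    (hx : ∀ ⦃Z Y : C⦄ (k : Z ⟶ Y) (f : Y ⟶ X) (hf : S f),
      F.obj.map k.op (x f hf) = x (k ≫ f) (S.downward_closed hf k)) :
    ∃! s : F.obj.obj (op X), ∀ ⦃Y : C⦄ (f : Y ⟶ X) (hf : S f), F.obj.map f.op s = x f hf := by
  have h := (isSheaf_iff_isSheaf_of_type J _).1
    ((Presheaf.isSheaf_iff_isSheaf_forget J F.obj (forget AddCommGrpCat.{u})).1 F.property) S hS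
  obtain ⟨s, hs, hu⟩ := h (fun Y f hf => x f hf)
    ((Presieve.compatible_iff_sieveCompatible _).2 fun Y Z f k hf => (hx k f hf).symm)
  exact ⟨s, fun Y f hf => hs f hf, fun t ht => hu t fun Y f hf => ht f hf⟩

/-- Vanishing of the presheaf cohomology of all covering sieves. -/
def SieveAcyclic (F : Sheaf J AddCommGrpCat.{u}) : Prop :=
  ∀ (X : C) (S : Sieve X), S ∈ J X → ∀ q : ℕ, Subsingleton (Ext (sieveFree S) (toBot F) (q + 1))

theorem sieveAcyclic_of_acyclic : ∀ (q : ℕ) (F : Sheaf J AddCommGrpCat.{u}),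
    (∀ (X : C) (n : ℕ), Subsingleton (CohSite.HU F (n + 1) X)) →
      ∀ (X : C) (S : Sieve X), S ∈ J X → Subsingleton (Ext (sieveFree S) (toBot F) (q + 1)) := by
  intro q
  induction q with
  | zero =>
    intro F hF X S hS
    have hse := SiteCoh.injSES_shortExact F
    have hg : ∀ U, Function.Surjective ((SiteCoh.injSES F).g.hom.app U) := fun U s => by
      have := hF U.unop 0
      obtain ⟨t, ht⟩ := Ext.covariant_sequence_exact₃ _ hse
        ((SiteCoh.hu0Equiv (SiteCoh.injSES F).X₃ U.unop).symm s) (zero_add 1)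
        (Subsingleton.elim (α := CohSite.HU F (0 + 1) U.unop) _ _)
      obtain ⟨t', rfl⟩ := (SiteCoh.hu0Equiv (SiteCoh.injSES F).X₂ U.unop).symm.surjective t
      rw [SiteCoh.hu0Equiv_symm_comp_mk₀] at ht
      exact ⟨t', (SiteCoh.hu0Equiv _ _).symm.injective ht⟩
    have hbot := toBot_shortExact hse hg
    have : Subsingleton (Ext (sieveFree S) (toBot (SiteCoh.injSES F).X₂) (0 + 1)) :=
      Ext.subsingleton_of_injective _ _ 0
    refine ⟨fun a b => ?_⟩
    suffices h : ∀ ξ : Ext (sieveFree S) (toBot F) (0 + 1), ξ = 0 from (h a).trans (h b).symm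
    intro ξ
    obtain ⟨s, hs⟩ := Ext.covariant_sequence_exact₁ _ hbot ξ (Subsingleton.elim _ _) rfl
    obtain ⟨c, rfl⟩ := Ext.addEquiv₀.symm.surjective s
    obtain ⟨z, hz, -⟩ := sheaf_amalgamate (SiteCoh.injSES F).X₃ hS (sieveVal c) (sieveVal_map c)
    obtain ⟨i, hi⟩ := hg (op X) z
    obtain ⟨b, hb⟩ := exists_sieveVal (S := S) (P := toBot (SiteCoh.injSES F).X₂)
      (fun Y f _ => (SiteCoh.injSES F).X₂.obj.map f.op i) fun Z Y k f _ => by simp
    have hbc : b ≫ (⟨(SiteCoh.injSES F).g.hom⟩ : toBot _ ⟶ toBot _) = c :=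
      sieveVal_ext fun Y f hf => by
        refine (sieveHomEquiv_comp S b _ f hf).trans ?_
        refine (congrArg _ (hb f hf)).trans ?_
        refine (ConcreteCategory.congr_hom ((SiteCoh.injSES F).g.hom.naturality f.op) i).trans ?_
        refine (congrArg _ hi).trans ?_
        exact hz f hf
    rw [← hs, ← hbc, Ext.addEquiv₀_symm_apply, ← Ext.mk₀_comp_mk₀,
      Ext.comp_assoc _ _ _ (zero_add 0) (zero_add 1) (by omega), hbot.comp_extClass, Ext.comp_zero]
  | succ q ih =>
    intro F hF X S hS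
    have hse := SiteCoh.injSES_shortExact F
    have hg : ∀ U, Function.Surjective ((SiteCoh.injSES F).g.hom.app U) := fun U s => by
      have := hF U.unop 0
      obtain ⟨t, ht⟩ := Ext.covariant_sequence_exact₃ _ hse
        ((SiteCoh.hu0Equiv (SiteCoh.injSES F).X₃ U.unop).symm s) (zero_add 1)
        (Subsingleton.elim (α := CohSite.HU F (0 + 1) U.unop) _ _)
      obtain ⟨t', rfl⟩ := (SiteCoh.hu0Equiv (SiteCoh.injSES F).X₂ U.unop).symm.surjective t
      rw [SiteCoh.hu0Equiv_symm_comp_mk₀] at ht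
      exact ⟨t', (SiteCoh.hu0Equiv _ _).symm.injective ht⟩
    have hbot := toBot_shortExact hse hg
    have hQ : ∀ (Y : C) (n : ℕ), Subsingleton (CohSite.HU (SiteCoh.injSES F).X₃ (n + 1) Y) :=
      fun Y n => ⟨fun a b => by
        suffices h : ∀ x : Ext (CohCx.freeSheaf J Y) (SiteCoh.injSES F).X₃ (n + 1), x = 0 from
          (h a).trans (h b).symm
        intro x
        have := hF Y (n + 1)
        have : Subsingleton (Ext (CohCx.freeSheaf J Y) (SiteCoh.injSES F).X₂ (n + 1)) :=
          Ext.subsingleton_of_injective _ (Injective.under F) n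
        obtain ⟨t, rfl⟩ := Ext.covariant_sequence_exact₃ _ hse x rfl
          (Subsingleton.elim (α := CohSite.HU F (n + 1 + 1) Y) _ _)
        rw [Subsingleton.elim t 0, Ext.zero_comp]⟩
    have := ih (SiteCoh.injSES F).X₃ hQ X S hS
    have : Subsingleton (Ext (sieveFree S) (toBot (SiteCoh.injSES F).X₂) (q + 1 + 1)) :=
      Ext.subsingleton_of_injective _ _ (q + 1)
    refine ⟨fun a b => ?_⟩
    suffices h : ∀ ξ : Ext (sieveFree S) (toBot F) (q + 1 + 1), ξ = 0 from (h a).trans (h b).symm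
    intro ξ
    obtain ⟨s, hs⟩ := Ext.covariant_sequence_exact₁ _ hbot ξ (Subsingleton.elim _ _) rfl
    rw [← hs, Subsingleton.elim (α := Ext (sieveFree S) (toBot (SiteCoh.injSES F).X₃) (q + 1)) s 0,
      Ext.zero_comp]

theorem sieveAcyclic_step (F : Sheaf J AddCommGrpCat.{u}) (hF : SieveAcyclic F) :
    ∃ S : ShortComplex (Sheaf J AddCommGrpCat.{u}), S.ShortExact ∧ S.X₁ = F ∧ Injective S.X₂ ∧
      SieveAcyclic S.X₃ ∧ ∀ U, Function.Surjective (S.g.hom.app U) := by
  let f₀ : toBot F ⟶ toBot (Injective.under F) := ⟨(Injective.ι F).hom⟩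
  have : Mono f₀ := (sheafToPresheaf _ _).mono_of_mono_map
    (inferInstanceAs (Mono ((sheafToPresheaf J AddCommGrpCat.{u}).map (Injective.ι F))))
  let B : ShortComplex (Sheaf (⊥ : GrothendieckTopology C) AddCommGrpCat.{u}) :=
    ShortComplex.mk f₀ (cokernel.π f₀) (cokernel.condition f₀)
  have hB : B.ShortExact :=
    { exact := ShortComplex.exact_of_g_is_cokernel _ (cokernelIsCokernel f₀) }
  have hg : ∀ U, Function.Surjective (B.g.hom.app U) := app_surjective_bot (cokernel.π f₀)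
  have key : ∀ (X : C) (S : Sieve X), S ∈ J X → ∀ c : sieveFree S ⟶ B.X₃,
      ∃ b : sieveFree S ⟶ B.X₂, b ≫ B.g = c := fun X S hS c => by
    have := hF X S hS 0
    obtain ⟨t, ht⟩ := Ext.covariant_sequence_exact₃ _ hB (Ext.mk₀ c) (zero_add 1)
      (Subsingleton.elim (α := Ext (sieveFree S) (toBot F) (0 + 1)) _ _)
    obtain ⟨b, rfl⟩ := Ext.addEquiv₀.symm.surjective t
    rw [Ext.addEquiv₀_symm_apply, Ext.mk₀_comp_mk₀] at ht
    exact ⟨b, (Ext.mk₀_bijective _ _).1 ht⟩
  have hP : Presheaf.IsSheaf J B.X₃.obj := by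
    rw [Presheaf.isSheaf_iff_isSheaf_forget J _ (forget AddCommGrpCat.{u}),
      isSheaf_iff_isSheaf_of_type]
    intro X S hS x hx
    rw [Presieve.compatible_iff_sieveCompatible] at hx
    obtain ⟨c, hc⟩ := exists_sieveVal (S := S) (P := B.X₃) (fun Y f hf => x f hf)
      fun Z Y k f hf => (hx f k hf).symm
    obtain ⟨b, hb⟩ := key X S hS c
    obtain ⟨i, hi, -⟩ := sheaf_amalgamate (Injective.under F) hS (sieveVal b) (sieveVal_map b)
    have hval : ∀ ⦃Y : C⦄ (f : Y ⟶ X) (hf : S f),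
        B.g.hom.app (op Y) (sieveVal b f hf) = x f hf := fun Y f hf => by
      rw [← hc f hf, ← hb]
      exact (sieveHomEquiv_comp S b B.g f hf).symm
    refine ⟨B.g.hom.app (op X) i, fun Y f hf => ?_, fun p hp => ?_⟩
    · refine (ConcreteCategory.congr_hom (B.g.hom.naturality f.op) i).symm.trans ?_
      exact (congrArg _ (hi f hf)).trans (hval f hf)
    · obtain ⟨p', rfl⟩ := hg (op X) p
      refine eq_of_sub_eq_zero ((map_sub (B.g.hom.app (op X)).hom p' i).symm.trans ?_)
      have h0 : ∀ ⦃Y : C⦄ (f : Y ⟶ X) (hf : S f), ∃ z : F.obj.obj (op Y),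
          f₀.hom.app (op Y) z = (Injective.under F).obj.map f.op (p' - i) := fun Y f hf => by
        refine app_exact_of_shortExact hB (op Y) _ ?_
        refine (ConcreteCategory.congr_hom (B.g.hom.naturality f.op) (p' - i)).trans ?_
        change B.X₃.obj.map f.op (B.g.hom.app (op X) (p' - i)) = 0
        rw [map_sub, map_sub, sub_eq_zero]
        refine (hp f hf).trans ?_
        refine ((congrArg _ (hi f hf)).trans (hval f hf)).symm.trans ?_
        exact ConcreteCategory.congr_hom (B.g.hom.naturality f.op) i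
      choose z hz using h0
      obtain ⟨w, hw, -⟩ := sheaf_amalgamate F hS z fun Z Y k f hf => by
        refine app_injective_of_mono f₀ (op Z) ?_
        rw [hz]
        refine (ConcreteCategory.congr_hom (f₀.hom.naturality k.op) (z f hf)).trans ?_
        refine (congrArg ((Injective.under F).obj.map k.op) (hz f hf)).trans ?_
        simp
      have hwi : f₀.hom.app (op X) w = p' - i := by
        obtain ⟨r, -, hu⟩ := sheaf_amalgamate (Injective.under F) hS
          (fun Y f _ => (Injective.under F).obj.map f.op (p' - i)) fun Z Y k f _ => by simp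
        refine (hu _ fun Y f hf => ?_).trans (hu _ fun _ _ _ => rfl).symm
        refine (ConcreteCategory.congr_hom (f₀.hom.naturality f.op) w).symm.trans ?_
        exact (congrArg _ (hw f hf)).trans (hz f hf)
      rw [← hwi]
      exact ConcreteCategory.congr_hom (NatTrans.congr_app (congrArg (fun t => t.hom) B.zero) (op X)) w
  let Q : Sheaf J AddCommGrpCat.{u} := ⟨B.X₃.obj, hP⟩
  let A : ShortComplex (Sheaf J AddCommGrpCat.{u}) :=
    ShortComplex.mk (Injective.ι F) (⟨B.g.hom⟩ : Injective.under F ⟶ Q)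
      (Sheaf.hom_ext (congrArg (fun t => t.hom) B.zero :))
  refine ⟨A, shortExact_of_sections A (fun U => app_injective_of_mono f₀ U)
    (fun U => app_exact_of_shortExact hB U) hg, rfl, inferInstanceAs (Injective (Injective.under F)),
    fun X S hS q => ⟨fun a b => ?_⟩, hg⟩
  suffices h : ∀ ξ : Ext (sieveFree S) B.X₃ (q + 1), ξ = 0 from (h a).trans (h b).symm
  intro ξ
  have := hF X S hS (q + 1)
  have : Subsingleton (Ext (sieveFree S) B.X₂ (q + 1)) :=
    Ext.subsingleton_of_injective _ (toBot (Injective.under F)) q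
  obtain ⟨t, ht⟩ := Ext.covariant_sequence_exact₃ _ hB ξ rfl
    (Subsingleton.elim (α := Ext (sieveFree S) (toBot F) (q + 1 + 1)) _ _)
  rw [← ht, Subsingleton.elim t 0, Ext.zero_comp]

theorem acyclic_of_sieveAcyclic : ∀ (q : ℕ) (F : Sheaf J AddCommGrpCat.{u}), SieveAcyclic F →
    ∀ X : C, Subsingleton (CohSite.HU F (q + 1) X) := by
  intro q
  induction q with
  | zero =>
    intro F hF X
    obtain ⟨S, hS, rfl, hinj, -, hg⟩ := sieveAcyclic_step F hF
    have := hinj
    refine ⟨fun a b => ?_⟩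
    suffices h : ∀ ξ : Ext (CohCx.freeSheaf J X) S.X₁ (0 + 1), ξ = 0 from (h a).trans (h b).symm
    intro ξ
    have : Subsingleton (Ext (CohCx.freeSheaf J X) S.X₂ (0 + 1)) :=
      Ext.subsingleton_of_injective _ _ 0
    obtain ⟨s, rfl⟩ := SiteCoh.exists_comp_extClass hS (CohCx.freeSheaf J X) 0 ξ
    obtain ⟨s', rfl⟩ := (SiteCoh.hu0Equiv S.X₃ X).symm.surjective s
    obtain ⟨t, rfl⟩ := hg (op X) s'
    rw [← SiteCoh.hu0Equiv_symm_comp_mk₀,
      Ext.comp_assoc _ _ _ (add_zero 0) (zero_add 1) (by omega), hS.comp_extClass, Ext.comp_zero]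
  | succ q ih =>
    intro F hF X
    obtain ⟨S, hS, rfl, hinj, hQ, -⟩ := sieveAcyclic_step F hF
    have := hinj
    refine ⟨fun a b => ?_⟩
    suffices h : ∀ ξ : Ext (CohCx.freeSheaf J X) S.X₁ (q + 1 + 1), ξ = 0 from
      (h a).trans (h b).symm
    intro ξ
    have : Subsingleton (Ext (CohCx.freeSheaf J X) S.X₂ (q + 1 + 1)) :=
      Ext.subsingleton_of_injective _ _ (q + 1)
    obtain ⟨s, rfl⟩ := SiteCoh.exists_comp_extClass hS (CohCx.freeSheaf J X) (q + 1) ξ
    rw [Subsingleton.elim (α := CohSite.HU S.X₃ (q + 1) X) (h := ih S.X₃ hQ X) s 0, Ext.zero_comp]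

end Groth.Agent.Fib44
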