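import Groth.Agent.Fib44.Descent
import Mathlib.CategoryTheory.Sites.CoverPreserving
import Mathlib.CategoryTheory.Limits.Preserves.Shapes.Pullbacks

/-!
Base change of a stack along a functor preserving pullbacks and coverings.
-/

set_option backward.isDefEq.respectTransparency false
set_option backward.isDefEq.respectTransparency.types false

universe v₃ u₃ v₂ u₂ v u

open CategoryTheory CategoryTheory.Functor CategoryTheory.Limits

namespace Groth.Agent.Fib44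

variable {C : Type u} [Category.{v} C] {D : Type u₂} [Category.{v₂} D] {u : C ⥤ D}
  {𝒮 : BasedCategory.{v₃, u₃} D}

theorem pb_snd_map {a b : CategoricalPullback u 𝒮.p} (φ : a ⟶ b) :
    𝒮.p.map φ.snd = a.iso.inv ≫ u.map φ.fst ≫ b.iso.hom := by
  rw [φ.w, Iso.inv_hom_id_assoc]

theorem isFibGrpd_pb (h : FibCat.IsFibGrpd 𝒮.p) :
    FibCat.IsFibGrpd (CategoricalPullback.π₁ u 𝒮.p) where
  exists_lift {a V} f := by
    obtain ⟨w, ψ, hψ⟩ := h.exists_lift (u.map f ≫ a.iso.hom)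
    have hw := IsHomLift.domain_eq 𝒮.p (u.map f ≫ a.iso.hom) ψ
    let φ : (⟨V, w, eqToIso hw.symm⟩ : CategoricalPullback u 𝒮.p) ⟶ a := ⟨f, ψ, by
      simp [IsHomLift.fac' 𝒮.p (u.map f ≫ a.iso.hom) ψ]⟩
    exact ⟨_, φ, IsHomLift.map (CategoricalPullback.π₁ u 𝒮.p) φ⟩
  isStronglyCartesian {a b} φ := by
    rw [isSC_iff]
    intro z g χ hχ
    replace hχ : χ.fst = g ≫ φ.fst := hχ
    obtain ⟨t, ⟨ht, htφ⟩, htu⟩ := (isSC_iff 𝒮.p φ.snd).mp (h.isStronglyCartesian φ.snd)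
      (z.iso.inv ≫ u.map g ≫ a.iso.hom) χ.snd (by
        rw [pb_snd_map χ, pb_snd_map φ, hχ]
        simp [-CategoricalPullback.Hom.w])
    refine ⟨⟨g, t, by simp [ht]⟩, ⟨rfl, CategoricalPullback.hom_ext hχ.symm htφ⟩,
      fun η hη => ?_⟩
    obtain ⟨hη1, hη2⟩ := hη
    have hη1' : η.fst = g := hη1
    exact CategoricalPullback.hom_ext hη1
      (htu η.snd ⟨by rw [pb_snd_map, hη1'], congrArg CategoricalPullback.Hom.snd hη2⟩)

variable [HasPullbacks C] [PreservesLimitsOfShape WalkingCospan u]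

theorem morGlue_pb (h : FibCat.IsFibGrpd 𝒮.p) {V : C} {R : Sieve V}
    (hM : MorGlue 𝒮 (R.functorPushforward u)) :
    MorGlue (BasedCategory.ofFunctor (CategoricalPullback.π₁ u 𝒮.p)) R := by
  intro a b
  obtain ⟨A, as, ea⟩ := a
  obtain ⟨B, bs, eb⟩ := b
  intro ha hb θ hθ hnat
  change A = V at ha
  change B = V at hb
  subst ha hb
  obtain ⟨xa, ε, hε⟩ := exists_lift' 𝒮.p h (x := as) rfl ea.hom
  obtain ⟨xb, η, hη⟩ := exists_lift' 𝒮.p h (x := bs) rfl eb.hom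
  have : IsIso ε := isIso_of_fibGrpd 𝒮.p h ea.hom ε
  have : IsIso η := isIso_of_fibGrpd 𝒮.p h eb.hom η
  have hxa : 𝒮.p.obj xa = u.obj B := IsHomLift.domain_eq 𝒮.p ea.hom ε
  have hxb : 𝒮.p.obj xb = u.obj B := IsHomLift.domain_eq 𝒮.p eb.hom η
  have hεp : 𝒮.p.map ε = eqToHom hxa ≫ ea.hom := by simpa using IsHomLift.fac' 𝒮.p ea.hom ε
  have hηp : 𝒮.p.map η = eqToHom hxb ≫ eb.hom := by simpa using IsHomLift.fac' 𝒮.p eb.hom η
  let a : CategoricalPullback u 𝒮.p := ⟨B, as, ea⟩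
  have hθ' : ∀ {z : CategoricalPullback u 𝒮.p} (φ : z ⟶ a) (hR : R (φ.fst ≫ eqToHom rfl)),
      (θ φ hR).fst = φ.fst := fun φ hR => by
    have : (CategoricalPullback.π₁ u 𝒮.p).IsHomLift (φ.fst ≫ eqToHom rfl) (θ φ hR) := hθ φ hR
    simpa using IsHomLift.fac' (CategoricalPullback.π₁ u 𝒮.p) (φ.fst ≫ eqToHom rfl) (θ φ hR)
  have wd : ∀ {w : 𝒮.obj} {z z' : CategoricalPullback u 𝒮.p} (φ : z ⟶ a) (φ' : z' ⟶ a)
      (t : w ⟶ z.snd) (t' : w ⟶ z'.snd) (hR : R (φ.fst ≫ eqToHom rfl))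
      (hR' : R (φ'.fst ≫ eqToHom rfl)), t ≫ φ.snd = t' ≫ φ'.snd →
      t ≫ (θ φ hR).snd = t' ≫ (θ φ' hR').snd := by
    intro w z z' φ φ' t t' hR hR' e
    let q₁ := 𝒮.p.map t ≫ z.iso.inv
    let q₂ := 𝒮.p.map t' ≫ z'.iso.inv
    have hq : q₁ ≫ u.map φ.fst = q₂ ≫ u.map φ'.fst := by
      have := congrArg 𝒮.p.map e
      simp only [Functor.map_comp, pb_snd_map] at this
      rw [← cancel_mono ea.hom]
      simpa [q₁, q₂, a] using this
    let hP := (IsPullback.of_hasPullback φ.fst φ'.fst).map u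
    obtain ⟨zP, φP, hφP⟩ := (isFibGrpd_pb h).exists_lift (x := a)
      (pullback.fst φ.fst φ'.fst ≫ φ.fst)
    have hzP : zP.fst = pullback φ.fst φ'.fst := IsHomLift.domain_eq (CategoricalPullback.π₁ u 𝒮.p)
      (pullback.fst φ.fst φ'.fst ≫ φ.fst) φP
    have hφPe : φP.fst = eqToHom hzP ≫ pullback.fst φ.fst φ'.fst ≫ φ.fst := by
      simpa using IsHomLift.fac' (CategoricalPullback.π₁ u 𝒮.p)
        (pullback.fst φ.fst φ'.fst ≫ φ.fst) φP
    obtain ⟨κ, ⟨hκ, hκe⟩, -⟩ := (isSC_iff (CategoricalPullback.π₁ u 𝒮.p) φ).mp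
      ((isFibGrpd_pb h).isStronglyCartesian φ)
      (eqToHom hzP ≫ pullback.fst φ.fst φ'.fst) φP (by simp [hφPe])
    obtain ⟨κ', ⟨hκ', hκe'⟩, -⟩ := (isSC_iff (CategoricalPullback.π₁ u 𝒮.p) φ').mp
      ((isFibGrpd_pb h).isStronglyCartesian φ')
      (eqToHom hzP ≫ pullback.snd φ.fst φ'.fst) φP (by simp [hφPe, pullback.condition])
    replace hκ : κ.fst = eqToHom hzP ≫ pullback.fst φ.fst φ'.fst := hκ
    replace hκ' : κ'.fst = eqToHom hzP ≫ pullback.snd φ.fst φ'.fst := hκ'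
    obtain ⟨q, hq1, hq2⟩ : ∃ q, q ≫ u.map (pullback.fst φ.fst φ'.fst) = q₁ ∧
        q ≫ u.map (pullback.snd φ.fst φ'.fst) = q₂ :=
      ⟨hP.lift q₁ q₂ hq, hP.lift_fst .., hP.lift_snd ..⟩
    obtain ⟨s, ⟨hs, hse⟩, -⟩ := (isSC_iff 𝒮.p κ.snd).mp (h.isStronglyCartesian κ.snd)
      (q ≫ u.map (eqToHom hzP.symm) ≫ zP.iso.hom) t (by
        simp [pb_snd_map, hκ, eqToHom_map, reassoc_of% hq1, q₁])
    have hs' : s ≫ κ'.snd = t' := by
      apply sc_hom_ext 𝒮.p φ'.snd (h.isStronglyCartesian _)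
      · simp [Functor.map_comp, pb_snd_map, hs, hκ', eqToHom_map, reassoc_of% hq2, q₂]
      · rw [Category.assoc, ← CategoricalPullback.comp_snd, hκe', ← hκe,
          CategoricalPullback.comp_snd, ← Category.assoc, hse, e]
    have hRP : R (φP.fst ≫ eqToHom rfl) := by
      rw [← hκe]
      simpa using R.downward_closed hR κ.fst
    have e1 : θ φP hRP = κ ≫ θ φ hR := by
      subst hκe; exact hnat κ φ hR hRP
    have e2 : θ φP hRP = κ' ≫ θ φ' hR' := by
      subst hκe'; exact hnat κ' φ' hR' hRP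
    calc t ≫ (θ φ hR).snd = s ≫ (θ φP hRP).snd := by rw [e1, ← hse]; exact Category.assoc _ _ _
      _ = t' ≫ (θ φ' hR').snd := by rw [e2, ← hs']; exact (Category.assoc _ _ _).symm
  have hfac : ∀ ⦃w : 𝒮.obj⦄ (ψ : w ⟶ xa),
      R.functorPushforward u (𝒮.p.map ψ ≫ eqToHom hxa) →
      ∃ (z : CategoricalPullback u 𝒮.p) (φ : z ⟶ a) (t : w ⟶ z.snd),
        R (φ.fst ≫ eqToHom rfl) ∧ t ≫ φ.snd = ψ ≫ ε := by
    rintro w ψ ⟨Y, g, q, hg, e⟩
    obtain ⟨z, φ, hφ⟩ := (isFibGrpd_pb h).exists_lift (x := a) g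
    have hz : z.fst = Y := IsHomLift.domain_eq (CategoricalPullback.π₁ u 𝒮.p) g φ
    have hφe : φ.fst = eqToHom hz ≫ g := by
      simpa using IsHomLift.fac' (CategoricalPullback.π₁ u 𝒮.p) g φ
    obtain ⟨t, ⟨-, ht⟩, -⟩ := (isSC_iff 𝒮.p φ.snd).mp (h.isStronglyCartesian φ.snd)
      (q ≫ u.map (eqToHom hz.symm) ≫ z.iso.hom) (ψ ≫ ε) (by
        simp [pb_snd_map, hεp, hφe, eqToHom_map, reassoc_of% e, a])
    refine ⟨z, φ, t, ?_, ht⟩
    simpa [hφe] using R.downward_closed hg (eqToHom hz)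
  choose zf φf tf hRf htf using hfac
  obtain ⟨k, ⟨hk, hkf⟩, hku⟩ := hM hxa hxb
    (fun w ψ hψ => tf ψ hψ ≫ (θ (φf ψ hψ) (hRf ψ hψ)).snd ≫ inv η)
    (fun w ψ hψ => by
      refine IsHomLift.of_fac' 𝒮.p _ _ rfl hxb ?_
      have h2 := congrArg 𝒮.p.map (htf ψ hψ)
      simp only [Functor.map_comp, pb_snd_map, hεp] at h2
      have hηi : 𝒮.p.map (inv η) = eb.inv ≫ eqToHom hxb.symm := by
        rw [Functor.map_inv]
        exact IsIso.inv_eq_of_hom_inv_id (by simp [hηp])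
      rw [← cancel_mono (eqToHom hxb), ← cancel_mono ea.hom]
      simpa [hηi, pb_snd_map, hθ', a] using h2)
    (fun w' w s ψ hψ hψ' => by
      rw [← Category.assoc, ← Category.assoc (tf ψ hψ), ← Category.assoc s, ← Category.assoc s]
      congr 1
      exact wd _ _ _ (s ≫ tf ψ hψ) _ _ (by rw [htf, Category.assoc, Category.assoc, htf]))
  let b : CategoricalPullback u 𝒮.p := ⟨B, bs, eb⟩
  let l : a ⟶ b := ⟨𝟙 _, inv ε ≫ k ≫ η, by
    simp [Functor.map_inv, hεp, hηp, IsHomLift.fac' 𝒮.p (𝟙 (u.obj B)) k, a, b]⟩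
  have hl : (CategoricalPullback.π₁ u 𝒮.p).IsHomLift (𝟙 B) l :=
    IsHomLift.of_fac' (CategoricalPullback.π₁ u 𝒮.p) (𝟙 B) l rfl rfl (by simp [l]; rfl)
  refine ⟨l, ⟨hl, fun z φ hR => ?_⟩, ?_⟩
  · apply CategoricalPullback.hom_ext
    · change φ.fst ≫ 𝟙 _ = _
      rw [Category.comp_id]
      exact (hθ' φ hR).symm
    · change φ.snd ≫ inv ε ≫ k ≫ η = _
      have hT : R.functorPushforward u (𝒮.p.map (φ.snd ≫ inv ε) ≫ eqToHom hxa) := by
        refine ⟨z.fst, φ.fst ≫ eqToHom rfl, z.iso.inv, hR, ?_⟩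
        simp [Functor.map_inv, hεp, pb_snd_map, a]
      rw [← Category.assoc, ← Category.assoc, hkf (φ.snd ≫ inv ε) hT]
      have := wd φ (φf _ hT) (𝟙 _) (tf _ hT) hR (hRf _ hT) (by simp [htf])
      simpa using this.symm
  · rintro l' ⟨hl', hl'f⟩
    have : (CategoricalPullback.π₁ u 𝒮.p).IsHomLift (𝟙 B) l' := hl'
    have e1 : l'.fst = 𝟙 B :=
      (IsHomLift.fac' (CategoricalPullback.π₁ u 𝒮.p) (𝟙 B) l').trans (by simp; rfl)
    refine CategoricalPullback.hom_ext e1 ?_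
    change l'.snd = inv ε ≫ k ≫ η
    rw [IsIso.eq_inv_comp, ← IsIso.comp_inv_eq]
    refine hku _ ⟨IsHomLift.of_fac' 𝒮.p _ _ hxa hxb ?_, fun w ψ hψ => ?_⟩
    · simp [Functor.map_inv, hεp, hηp, pb_snd_map, e1]
    · rw [← hl'f (φf ψ hψ) (hRf ψ hψ), ← Category.assoc ψ, ← Category.assoc ψ, ← htf ψ hψ]
      simp
      erw [CategoricalPullback.comp_snd]
      simp

theorem objGlue_pb (h : FibCat.IsFibGrpd 𝒮.p) {V : C} {R : Sieve V}
    (hO : ObjGlue 𝒮 (R.functorPushforward u)) :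
    ObjGlue (BasedCategory.ofFunctor (CategoricalPullback.π₁ u 𝒮.p)) R := by
  intro G
  let T := R.functorPushforward u
  let E : R.arrows.category → 𝒮.obj := fun a => CategoricalPullback.snd (G.obj a)
  let Em : ∀ {a b : R.arrows.category}, (a ⟶ b) → (E a ⟶ E b) :=
    fun {a b} k => CategoricalPullback.Hom.snd (G.map k)
  have Ec : ∀ {a b c : R.arrows.category} (k : a ⟶ b) (l : b ⟶ c), Em (k ≫ l) = Em k ≫ Em l :=
    fun k l => congrArg CategoricalPullback.Hom.snd (G.map_comp k l)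
  have Ei : ∀ a : R.arrows.category, Em (𝟙 a) = 𝟙 _ := fun a =>
    congrArg CategoricalPullback.Hom.snd (G.map_id a)
  let τ : ∀ a : R.arrows.category, 𝒮.p.obj (E a) ⟶ u.obj a.obj.left := fun a =>
    (CategoricalPullback.iso (G.obj a)).inv ≫ u.map (eqToHom (obj_sieve G a))
  have τiso : ∀ a, IsIso (τ a) := fun a => by
    dsimp only [τ]
    infer_instance
  have τnat : ∀ {a b : R.arrows.category} (k : a ⟶ b),
      𝒮.p.map (Em k) ≫ τ b = τ a ≫ u.map k.hom.left := fun {a b} k => by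
    have : (CategoricalPullback.π₁ u 𝒮.p).IsHomLift k.hom.left (G.map k) :=
      isHomLift_sieve_map G k
    have e : (G.map k).fst =
        eqToHom (obj_sieve G a) ≫ k.hom.left ≫ eqToHom (obj_sieve G b).symm :=
      IsHomLift.fac' (CategoricalPullback.π₁ u 𝒮.p) k.hom.left (G.map k)
    simp [τ, Em, E, pb_snd_map, e, eqToHom_map]
  let β : ∀ {z : 𝒮.obj} {a : R.arrows.category}, (z ⟶ E a) → (𝒮.p.obj z ⟶ u.obj a.obj.left) :=
    fun {z a} m => 𝒮.p.map m ≫ τ a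
  have βcomp : ∀ {z' z : 𝒮.obj} {a : R.arrows.category} (s : z' ⟶ z) (m : z ⟶ E a),
      β (s ≫ m) = 𝒮.p.map s ≫ β m := fun s m => by simp [β]
  have βmap : ∀ {z : 𝒮.obj} {a b : R.arrows.category} (m : z ⟶ E a) (k : a ⟶ b),
      β (m ≫ Em k) = β m ≫ u.map k.hom.left := fun {z a b} m k => by
    simp [β, τnat k]
  have fac : ∀ {z : 𝒮.obj} {a b : R.arrows.category} (k : a ⟶ b) (n : z ⟶ E b)
      (g : 𝒮.p.obj z ⟶ u.obj a.obj.left), g ≫ u.map k.hom.left = β n →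
      ∃ l : z ⟶ E a, β l = g ∧ l ≫ Em k = n := fun {z a b} k n g hg => by
    have := τiso a
    have := τiso b
    obtain ⟨l, ⟨hl, hle⟩, -⟩ := (isSC_iff 𝒮.p (Em k)).mp (h.isStronglyCartesian _)
      (g ≫ inv (τ a)) n (by
        rw [← cancel_mono (τ b), Category.assoc, Category.assoc, τnat k, IsIso.inv_hom_id_assoc]
        exact hg.symm)
    exact ⟨l, by simp [β, hl], hle⟩
  have ext' : ∀ {z : 𝒮.obj} {a b : R.arrows.category} (k : a ⟶ b) (l l' : z ⟶ E a),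
      β l = β l' → l ≫ Em k = l' ≫ Em k → l = l' := fun {z a b} k l l' e e' => by
    have := τiso a
    exact sc_hom_ext 𝒮.p (Em k) (h.isStronglyCartesian _) ((cancel_mono (τ a)).mp e) e'
  let Rel : ∀ {z : 𝒮.obj} {a b : R.arrows.category}, (z ⟶ E a) → (z ⟶ E b) → Prop :=
    fun {z a b} m n => ∃ (c : R.arrows.category) (ka : c ⟶ a) (kb : c ⟶ b) (l : z ⟶ E c),
      l ≫ Em ka = m ∧ l ≫ Em kb = n
  have pb : ∀ {c d b : R.arrows.category} (k : c ⟶ b) (k' : d ⟶ b),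
      ∃ (P : R.arrows.category) (p : P ⟶ c) (q : P ⟶ d), p ≫ k = q ≫ k' ∧
        IsPullback (u.map p.hom.left) (u.map q.hom.left) (u.map k.hom.left) (u.map k'.hom.left) ∧
        IsPullback p.hom.left q.hom.left k.hom.left k'.hom.left := fun {c d b} k k' => by
    refine ⟨sObj R (pullback.fst k.hom.left k'.hom.left ≫ c.obj.hom)
        (R.downward_closed c.property _), sHom R (pullback.fst _ _) rfl,
      sHom R (pullback.snd k.hom.left k'.hom.left) ?_, ?_,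
      (IsPullback.of_hasPullback _ _).map u, IsPullback.of_hasPullback _ _⟩
    · change pullback.snd k.hom.left k'.hom.left ≫ d.obj.hom = pullback.fst _ _ ≫ c.obj.hom
      rw [← Over.w k'.hom, ← Over.w k.hom, pullback.condition_assoc]
    · exact ObjectProperty.hom_ext _ (Over.OverMorphism.ext pullback.condition)
  have Rsymm : ∀ {z : 𝒮.obj} {a b : R.arrows.category} {m : z ⟶ E a} {n : z ⟶ E b},
      Rel m n → Rel n m := fun ⟨c, ka, kb, l, h1, h2⟩ => ⟨c, kb, ka, l, h2, h1⟩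
  have Rtrans : ∀ {z : 𝒮.obj} {a b d : R.arrows.category} {m : z ⟶ E a} {n : z ⟶ E b}
      {o : z ⟶ E d}, Rel m n → Rel n o → Rel m o := by
    rintro z a b d m n o ⟨c, ka, kb, l, h1, h2⟩ ⟨c', kb', kd, l', h1', h2'⟩
    obtain ⟨P, p, q, hpq, hP, -⟩ := pb kb kb'
    have hc : β l ≫ u.map kb.hom.left = β l' ≫ u.map kb'.hom.left := by
      rw [← βmap, ← βmap, h2, h1']
    obtain ⟨l'', hl'', hl''e⟩ := fac p l (hP.lift (β l) (β l') hc) (hP.lift_fst _ _ _)
    have : l'' ≫ Em q = l' := by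
      refine ext' kb' _ _ ?_ ?_
      · rw [βmap, hl'']
        exact hP.lift_snd _ _ _
      · rw [Category.assoc, ← Ec, ← hpq, Ec, ← Category.assoc, hl''e, h2, h1']
    exact ⟨P, p ≫ ka, q ≫ kd, l'', by rw [Ec, ← Category.assoc, hl''e, h1],
      by rw [Ec, ← Category.assoc, this, h2']⟩
  have Rcomp : ∀ {z' z : 𝒮.obj} {a b : R.arrows.category} {m : z ⟶ E a} {n : z ⟶ E b}
      (s : z' ⟶ z), Rel m n → Rel (s ≫ m) (s ≫ n) := fun s ⟨c, ka, kb, l, h1, h2⟩ =>
    ⟨c, ka, kb, s ≫ l, by rw [Category.assoc, h1], by rw [Category.assoc, h2]⟩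
  have Rbase : ∀ {z : 𝒮.obj} {a b : R.arrows.category} {m : z ⟶ E a} {n : z ⟶ E b},
      Rel m n → β m ≫ u.map a.obj.hom = β n ≫ u.map b.obj.hom := by
    rintro z a b m n ⟨c, ka, kb, l, h1, h2⟩
    rw [← h1, ← h2, βmap, βmap]
    simp only [Category.assoc, ← Functor.map_comp, Over.w]
  have Rfun : ∀ {z : 𝒮.obj} {a b : R.arrows.category} {m : z ⟶ E a} {n n' : z ⟶ E b},
      Rel m n → Rel m n' → β n = β n' → n = n' := by
    intro z a b m n n' hn hn' e
    obtain ⟨c, k, k', l, h1, h2⟩ := Rtrans (Rsymm hn) hn'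
    let P : R.arrows.category := sObj R (pullback.fst c.obj.hom b.obj.hom ≫ c.obj.hom)
      (R.downward_closed c.property _)
    let πc : P ⟶ c := sHom R (pullback.fst _ _) rfl
    let πb : P ⟶ b := sHom R (pullback.snd _ _) pullback.condition.symm
    let x : c ⟶ P := sHom R (pullback.lift (𝟙 _) k.hom.left (by simp))
      ((pullback.lift_fst_assoc _ _ _ _).trans (Category.id_comp _))
    let x' : c ⟶ P := sHom R (pullback.lift (𝟙 _) k'.hom.left (by simp))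
      ((pullback.lift_fst_assoc _ _ _ _).trans (Category.id_comp _))
    have hP := (IsPullback.of_hasPullback c.obj.hom b.obj.hom).map u
    have hkk : β l ≫ u.map k.hom.left = β l ≫ u.map k'.hom.left := by
      rw [← βmap, ← βmap, h1, h2, e]
    have ex : x ≫ πc = 𝟙 c :=
      ObjectProperty.hom_ext _ (Over.OverMorphism.ext (pullback.lift_fst _ _ _))
    have ex' : x' ≫ πc = 𝟙 c :=
      ObjectProperty.hom_ext _ (Over.OverMorphism.ext (pullback.lift_fst _ _ _))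
    have eb : x ≫ πb = k := ObjectProperty.hom_ext _ (Over.OverMorphism.ext (pullback.lift_snd _ _ _))
    have eb' : x' ≫ πb = k' :=
      ObjectProperty.hom_ext _ (Over.OverMorphism.ext (pullback.lift_snd _ _ _))
    have key : l ≫ Em x = l ≫ Em x' := by
      refine ext' πc _ _ ?_ (by simp only [Category.assoc, ← Ec, ex, ex'])
      rw [βmap, βmap]
      apply hP.hom_ext
      · simp only [x, x', Category.assoc, ← u.map_comp]
        simp [P, pullback.lift_fst]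
      · simp only [x, x', Category.assoc, ← u.map_comp]
        simpa [P, pullback.lift_snd] using hkk
    rw [← h1, ← h2, ← eb, ← eb', Ec, Ec, ← Category.assoc, key, Category.assoc]
  have Rex : ∀ {z : 𝒮.obj} {a b : R.arrows.category} (m : z ⟶ E a)
      (g : 𝒮.p.obj z ⟶ u.obj b.obj.left), g ≫ u.map b.obj.hom = β m ≫ u.map a.obj.hom →
      ∃ n : z ⟶ E b, Rel m n ∧ β n = g := by
    intro z a b m g hg
    let P : R.arrows.category := sObj R (pullback.fst a.obj.hom b.obj.hom ≫ a.obj.hom)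
      (R.downward_closed a.property _)
    let πa : P ⟶ a := sHom R (pullback.fst _ _) rfl
    let πb : P ⟶ b := sHom R (pullback.snd _ _) pullback.condition.symm
    have hP := (IsPullback.of_hasPullback a.obj.hom b.obj.hom).map u
    obtain ⟨l, hl, hle⟩ := fac πa m (hP.lift (β m) g hg.symm) (hP.lift_fst _ _ _)
    exact ⟨l ≫ Em πb, ⟨P, πa, πb, l, hle, rfl⟩, by rw [βmap, hl]; exact hP.lift_snd _ _ _⟩
  have ht : ∀ t : T.arrows.category, ∃ (L : 𝒮.obj) (a : R.arrows.category) (m : L ⟶ E a)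
      (hL : 𝒮.p.obj L = t.obj.left), β m ≫ u.map a.obj.hom = eqToHom hL ≫ t.obj.hom := by
    intro t
    obtain ⟨Y, g, q, hg, e⟩ := t.property
    let a : R.arrows.category := sObj R g hg
    have := τiso a
    obtain ⟨L, m, hm⟩ := h.exists_lift (x := E a) (q ≫ inv (τ a))
    have hL := IsHomLift.domain_eq 𝒮.p (q ≫ inv (τ a)) m
    refine ⟨L, a, m, hL, ?_⟩
    simp only [β, IsHomLift.fac' 𝒮.p (q ≫ inv (τ a)) m]
    simp [e, a]
  choose L α m hL hm using ht
  have hH : ∀ {t t' : T.arrows.category} (f : t ⟶ t'), ∃ χ : L t ⟶ L t',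
      𝒮.p.map χ = eqToHom (hL t) ≫ f.hom.left ≫ eqToHom (hL t').symm ∧
        Rel (χ ≫ m t') (m t) := by
    intro t t' f
    have := τiso (α t')
    obtain ⟨n, hn, hnb⟩ := Rex (m t)
      (b := α t') ((eqToHom (hL t) ≫ f.hom.left ≫ eqToHom (hL t').symm) ≫ β (m t')) (by
        rw [Category.assoc, hm, hm]
        simp [Over.w f.hom])
    obtain ⟨χ, ⟨hχ, hχe⟩, -⟩ := (isSC_iff 𝒮.p (m t')).mp (h.isStronglyCartesian _)
      (eqToHom (hL t) ≫ f.hom.left ≫ eqToHom (hL t').symm) n (by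
        rw [← cancel_mono (τ (α t'))]
        simpa [β] using hnb)
    exact ⟨χ, hχ, Rsymm (hχe ▸ hn)⟩
  choose Hm hHm hHr using @hH
  have Huniq : ∀ {t t' : T.arrows.category} (f : t ⟶ t') (χ : L t ⟶ L t'),
      𝒮.p.map χ = eqToHom (hL t) ≫ f.hom.left ≫ eqToHom (hL t').symm →
      Rel (χ ≫ m t') (m t) → χ = Hm f := fun {t t'} f χ e r =>
    sc_hom_ext 𝒮.p (m t') (h.isStronglyCartesian _) (e.trans (hHm f).symm)
      (Rfun (Rsymm r) (Rsymm (hHr f)) (by rw [βcomp, βcomp, e, hHm f]))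
  have Rrefl : ∀ {z : 𝒮.obj} {a : R.arrows.category} (n : z ⟶ E a), Rel n n := fun n =>
    ⟨_, 𝟙 _, 𝟙 _, n, by rw [Ei, Category.comp_id], by rw [Ei, Category.comp_id]⟩
  let H : Stk.sieveCat T ⥤ᵇ 𝒮 :=
    { obj := L
      map := fun f => Hm f
      map_id := fun t => (Huniq (𝟙 t) (𝟙 _) (by
          refine (CategoryTheory.Functor.map_id 𝒮.p (L t)).trans ?_
          exact (show 𝟙 _ = eqToHom (hL t) ≫ 𝟙 t.obj.left ≫ eqToHom (hL t).symm by simp))
        (by rw [Category.id_comp]; exact Rrefl _)).symm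
      map_comp := fun {t t' t''} f g => (Huniq (f ≫ g) (Hm f ≫ Hm g)
        (by simp [hHm])
        (by rw [Category.assoc]; exact Rtrans (Rcomp (Hm f) (hHr g)) (hHr f))).symm
      w := CategoryTheory.Functor.ext hL fun t t' f => hHm f }
  obtain ⟨y, δ, hδ⟩ := hO H
  let σ : R.arrows.category → T.arrows.category := fun a =>
    sObj T (u.map a.obj.hom) (Sieve.image_mem_functorPushforward u R a.property)
  have hn : ∀ a, ∃ n : L (σ a) ⟶ E a, Rel (m (σ a)) n ∧ β n = eqToHom (hL (σ a)) := fun a =>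
    Rex _ (eqToHom (hL (σ a))) (hm (σ a)).symm
  choose n hnr hnb using hn
  have niso : ∀ a, IsIso (n a) := fun a => by
    have := τiso a
    have : IsIso (𝒮.p.map (n a)) := by
      have e : 𝒮.p.map (n a) = eqToHom (hL (σ a)) ≫ inv (τ a) := by
        rw [IsIso.eq_comp_inv]; exact hnb a
      rw [e]; infer_instance
    have : 𝒮.p.IsHomLift (𝒮.p.map (n a)) (n a) := IsHomLift.map 𝒮.p (n a)
    exact isIso_of_fibGrpd 𝒮.p h (𝒮.p.map (n a)) _
  have hy := hδ.over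
  let x : CategoricalPullback u 𝒮.p := ⟨V, y, eqToIso hy.symm⟩
  let γ : ∀ a : R.arrows.category, (show CategoricalPullback u 𝒮.p from G.obj a) ⟶ x := fun a =>
    have := niso a
    ⟨eqToHom (obj_sieve G a) ≫ a.obj.hom, inv (n a) ≫ δ (σ a), by
      have := τiso a
      have := hδ.lift (σ a)
      have e : 𝒮.p.map (inv (n a)) = τ a ≫ eqToHom (hL (σ a)).symm := by
        rw [Functor.map_inv]
        refine IsIso.inv_eq_of_hom_inv_id ?_
        rw [← Category.assoc]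
        exact (congrArg (fun s => s ≫ eqToHom (hL (σ a)).symm) (hnb a)).trans (by simp)
      change u.map (eqToHom (obj_sieve G a) ≫ a.obj.hom) ≫ eqToHom hy.symm =
        (CategoricalPullback.iso (G.obj a)).hom ≫ 𝒮.p.map (inv (n a) ≫ δ (σ a))
      erw [Functor.map_comp 𝒮.p, e, IsHomLift.fac' 𝒮.p (σ a).obj.hom (δ (σ a))]
      simp [σ, τ, eqToHom_map]⟩
  refine ⟨x, γ, ⟨rfl, fun a => ?_, fun a b f => ?_⟩⟩
  · exact IsHomLift.of_fac' (CategoricalPullback.π₁ u 𝒮.p) a.obj.hom (γ a) (obj_sieve G a) rfl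
      (by simp [γ, x])
  · have := niso a
    have := niso b
    have := τiso b
    let j : σ a ⟶ σ b := sHom T (u.map f.hom.left)
      (by simp [σ, ← u.map_comp, Over.w f.hom])
    have e : n a ≫ Em f = Hm j ≫ n b := by
      refine Rfun (m := m (σ a)) (Rtrans (hnr a) ?_) (Rtrans (Rsymm (hHr j))
        (Rcomp (Hm j) (hnr b))) ?_
      · exact ⟨a, 𝟙 a, f, n a, by rw [Ei, Category.comp_id], rfl⟩
      · rw [βmap, hnb, βcomp, hnb, hHm j]
        simp [j, σ]
    apply CategoricalPullback.hom_ext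
    · change (G.map f).fst ≫ eqToHom (obj_sieve G b) ≫ b.obj.hom = _
      have : (CategoricalPullback.π₁ u 𝒮.p).IsHomLift f.hom.left (G.map f) :=
        isHomLift_sieve_map G f
      have e1 : (G.map f).fst =
          eqToHom (obj_sieve G a) ≫ f.hom.left ≫ eqToHom (obj_sieve G b).symm :=
        IsHomLift.fac' (CategoricalPullback.π₁ u 𝒮.p) f.hom.left (G.map f)
      simp [e1, γ, Over.w f.hom]
    · change Em f ≫ inv (n b) ≫ δ (σ b) = inv (n a) ≫ δ (σ a)
      have h2 : Hm j ≫ δ (σ b) = δ (σ a) := hδ.nat j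
      rw [← h2, ← Category.assoc, ← Category.assoc]
      congr 1
      rw [IsIso.comp_inv_eq, Category.assoc, IsIso.eq_inv_comp, e]

theorem isStack_pb {J : GrothendieckTopology C} {K : GrothendieckTopology D}
    (hu : CoverPreserving J K u) (h : Stk.IsStack K 𝒮) :
    Stk.IsStack J (BasedCategory.ofFunctor (CategoricalPullback.π₁ u 𝒮.p)) :=
  isStack_iff.mpr ⟨isFibGrpd_pb h.1, fun _ R hR =>
    have hK := (isStack_iff.mp h).2 _ (hu.cover_preserve hR)
    ⟨morGlue_pb h.1 hK.1, objGlue_pb h.1 hK.2⟩⟩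

end Groth.Agent.Fib44
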