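import Groth.Agent.Fib44.Basic

/-!
Bifibrations.
-/

set_option backward.isDefEq.respectTransparency false
set_option backward.isDefEq.respectTransparency.types false

universe v₂ u₂ v u

open CategoryTheory CategoryTheory.Functor Opposite

namespace Groth.Agent.Fib44

variable {C : Type u} [Category.{v} C] {𝒳 : Type u₂} [Category.{v₂} 𝒳] {p : 𝒳 ⥤ C}

theorem isHomLift_op_iff {R S : Cᵒᵖ} {a b : 𝒳ᵒᵖ} (f : R ⟶ S) (φ : a ⟶ b) :
    p.op.IsHomLift f φ ↔ p.IsHomLift f.unop φ.unop := by
  constructor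
  · intro h
    refine IsHomLift.of_fac' p _ _ (congrArg unop (IsHomLift.codomain_eq p.op f φ))
      (congrArg unop (IsHomLift.domain_eq p.op f φ)) ?_
    have e := congrArg Quiver.Hom.unop (IsHomLift.fac' p.op f φ)
    simpa [eqToHom_unop] using e
  · intro h
    refine IsHomLift.of_fac' p.op _ _ (congrArg op (IsHomLift.codomain_eq p f.unop φ.unop))
      (congrArg op (IsHomLift.domain_eq p f.unop φ.unop)) ?_
    apply Quiver.Hom.unop_inj
    simpa [eqToHom_unop] using IsHomLift.fac' p f.unop φ.unop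

theorem op_isFibered_of_isFibered [p.IsFibered] [p.op.IsPreFibered] : p.op.IsFibered := by
  refine IsFibered.of_exists_isStronglyCartesian fun a R f => ?_
  obtain ⟨b, η, hη⟩ := IsPreFibered.exists_isCartesian' (p := p.op) f
  refine ⟨b, η, { toIsHomLift := inferInstance, universal_property' := fun {z} g ψ hψ => ?_ }⟩
  have hη' : p.IsHomLift f.unop η.unop := (isHomLift_op_iff f η).mp inferInstance
  have hψ' : p.IsHomLift (f.unop ≫ g.unop) ψ.unop := (isHomLift_op_iff (g ≫ f) ψ).mp hψ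
  obtain ⟨w, φ, hφ⟩ := exists_sc_lift p (x := z.unop) rfl g.unop
  let k := IsStronglyCartesian.map p g.unop φ (g := f.unop) rfl ψ.unop
  have : p.op.IsHomLift f k.op := (isHomLift_op_iff f k.op).mpr
    (IsStronglyCartesian.map_isHomLift p g.unop φ (g := f.unop) rfl ψ.unop)
  let m := IsCartesian.map p.op f η k.op
  have hm : p.IsHomLift (𝟙 R.unop) m.unop :=
    (isHomLift_op_iff (𝟙 R) m).mp (IsCartesian.map_isHomLift p.op f η k.op)
  have hmη : η.unop ≫ m.unop = k :=
    congrArg Quiver.Hom.unop (IsCartesian.fac p.op f η k.op)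
  have hkφ : k ≫ φ = ψ.unop := IsStronglyCartesian.fac p g.unop φ (g := f.unop) rfl ψ.unop
  refine ⟨(m.unop ≫ φ).op, ⟨(isHomLift_op_iff g _).mpr
    (IsHomLift.comp_lift_id_left p g.unop φ m.unop), ?_⟩, fun τ ⟨hτ, hτe⟩ => ?_⟩
  · apply Quiver.Hom.unop_inj
    simp [← hkφ, ← hmη]
  · have hτ' : p.IsHomLift g.unop τ.unop := (isHomLift_op_iff g τ).mp hτ
    let k' := IsCartesian.map p g.unop φ τ.unop
    have hk' : k' ≫ φ = τ.unop := IsCartesian.fac p g.unop φ τ.unop
    have : p.op.IsHomLift (𝟙 R) k'.op := (isHomLift_op_iff (𝟙 R) k'.op).mpr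
      (IsCartesian.map_isHomLift p g.unop φ τ.unop)
    have e : k'.op = m := by
      refine IsCartesian.map_uniq p.op f η k.op k'.op ?_
      apply Quiver.Hom.unop_inj
      change η.unop ≫ k' = k
      have : p.IsHomLift f.unop (η.unop ≫ k') :=
        IsHomLift.comp_lift_id_right p f.unop η.unop k'
      refine IsStronglyCartesian.map_uniq p g.unop φ (g := f.unop) rfl ψ.unop _ ?_
      rw [Category.assoc, hk']
      exact congrArg Quiver.Hom.unop hτe
    apply Quiver.Hom.unop_inj
    simp [← hk', ← e]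

theorem isFibered_of_op_isFibered [p.IsPreFibered] [p.op.IsFibered] : p.IsFibered := by
  refine IsFibered.of_exists_isStronglyCartesian fun a R f => ?_
  obtain ⟨b, φ, hφ⟩ := IsPreFibered.exists_isCartesian' (p := p) f
  refine ⟨b, φ, { toIsHomLift := inferInstance, universal_property' := fun {z} g ψ hψ => ?_ }⟩
  have : p.op.IsHomLift (f.op ≫ g.op) ψ.op := (isHomLift_op_iff _ _).mpr hψ
  obtain ⟨w, η, hη⟩ := exists_sc_lift p.op (x := op z) rfl g.op
  have hη' : p.IsHomLift g η.unop := (isHomLift_op_iff g.op η).mp inferInstance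
  let k := IsStronglyCartesian.map p.op g.op η (g := f.op) rfl ψ.op
  have : p.IsHomLift f k.unop := (isHomLift_op_iff f.op k).mp
    (IsStronglyCartesian.map_isHomLift p.op g.op η (g := f.op) rfl ψ.op)
  let m := IsCartesian.map p f φ k.unop
  have hmφ : m ≫ φ = k.unop := IsCartesian.fac p f φ k.unop
  have hkη : η.unop ≫ k.unop = ψ :=
    congrArg Quiver.Hom.unop (IsStronglyCartesian.fac p.op g.op η (g := f.op) rfl ψ.op)
  refine ⟨η.unop ≫ m, ⟨IsHomLift.comp_lift_id_right p g η.unop m, by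
    rw [Category.assoc, hmφ, hkη]⟩, fun τ ⟨hτ, hτe⟩ => ?_⟩
  have : p.op.IsHomLift g.op τ.op := (isHomLift_op_iff g.op τ.op).mpr hτ
  let k' := IsCartesian.map p.op g.op η τ.op
  have hk' : η.unop ≫ k'.unop = τ :=
    congrArg Quiver.Hom.unop (IsCartesian.fac p.op g.op η τ.op)
  have : p.IsHomLift (𝟙 R) k'.unop :=
    (isHomLift_op_iff (𝟙 (op R)) k').mp (IsCartesian.map_isHomLift p.op g.op η τ.op)
  have e : k'.unop = m := by
    refine IsCartesian.map_uniq p f φ k.unop k'.unop ?_
    have : p.IsHomLift f (k'.unop ≫ φ) := IsHomLift.comp_lift_id_left p f φ k'.unop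
    have : p.op.IsHomLift f.op (k'.unop ≫ φ).op := (isHomLift_op_iff _ _).mpr this
    exact congrArg Quiver.Hom.unop
      (IsStronglyCartesian.map_uniq p.op g.op η (g := f.op) rfl ψ.op (k'.unop ≫ φ).op
        (Quiver.Hom.unop_inj (by simp [reassoc_of% hk', hτe])))
  rw [← hk', e]

end Groth.Agent.Fib44
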