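import Mathlib.Algebra.Category.Grp.Basic
import Mathlib.CategoryTheory.Sites.CoversTop.Basic
import Groth.Prelude.Def_W4c2gerbepatchBitors

/-!
Right structures on pseudo-torsors and families of isomorphisms of groups.
-/

universe w v u

open CategoryTheory Opposite

namespace Groth.Agent.Fib44

variable {C : Type u} [Category.{v} C] {J : GrothendieckTopology C}
variable {G H : Sheaf J GrpCat.{w}}

theorem pt_cancel {P : NonAbH1.GSheaf G} (hP : P.IsPseudoTorsor) {U : Cᵒᵖ} {g g' : G.obj.obj U}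
    {p : P.P.obj.obj U} (h : P.smul g p = P.smul g' p) : g = g' :=
  (hP U p (P.smul g' p)).unique h rfl

theorem exists_isomFamily {P : NonAbH1.GSheaf G} (hP : P.IsPseudoTorsor) (ρ : Bitors.RightStr P H) :
    ∃! φ : Bitors.IsomFamily P H,
      ∀ (U : Cᵒᵖ) (p : P.P.obj.obj U) (h : H.obj.obj U), ρ.rsmul p h = P.smul (φ.φ p h) p := by
  have hex := fun (U : Cᵒᵖ) (p : P.P.obj.obj U) (h : H.obj.obj U) =>
    (hP U p (ρ.rsmul p h)).exists
  choose f hf using hex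
  have hmul : ∀ (U : Cᵒᵖ) (p : P.P.obj.obj U) (h h' : H.obj.obj U),
      f U p (h * h') = f U p h * f U p h' := fun U p h h' => by
    refine pt_cancel hP (p := p) ?_
    rw [hf, ρ.rsmul_mul, ← hf U p h, ρ.smul_rsmul, P.mul_smul, hf U p h']
  have hbij : ∀ (U : Cᵒᵖ) (p : P.P.obj.obj U), Function.Bijective (f U p) := fun U p => by
    refine ⟨fun h h' e => ?_, fun g => ?_⟩
    · exact (ρ.existsUnique_rsmul p (ρ.rsmul p h')).unique (by rw [← hf, e, hf]) rfl
    · obtain ⟨h, hh⟩ := (ρ.existsUnique_rsmul p (P.smul g p)).exists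
      exact ⟨h, pt_cancel hP ((hf U p h).trans hh)⟩
  refine ⟨{ φ := fun {U} p => MulEquiv.ofBijective (MonoidHom.mk' (f U p) (hmul U p)) (hbij U p)
            map_φ := fun {U V} k p h => ?_
            φ_smul := fun {U} g p h => ?_ }, fun U p h => (hf U p h).symm, fun φ hφ => ?_⟩
  · change G.obj.map k (f U p h) = f V (P.P.obj.map k p) (H.obj.map k h)
    refine pt_cancel hP (p := P.P.obj.map k p) ?_
    rw [hf, ← P.map_smul, hf, ρ.map_rsmul]
  · change f U (P.smul g p) h = g * f U p h * g⁻¹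
    refine pt_cancel hP (p := P.smul g p) ?_
    rw [hf, ρ.smul_rsmul, ← P.mul_smul, inv_mul_cancel_right, P.mul_smul, hf]
  · obtain ⟨φ₀, hm, hs⟩ := φ
    congr 1
    funext U p
    exact MulEquiv.ext fun h => pt_cancel hP ((hφ U p h).symm.trans (hf U p h).symm)

theorem exists_rightStr {P : NonAbH1.GSheaf G} (hP : P.IsPseudoTorsor)
    (φ : Bitors.IsomFamily P H) :
    ∃! ρ : Bitors.RightStr P H,
      ∀ (U : Cᵒᵖ) (p : P.P.obj.obj U) (h : H.obj.obj U), ρ.rsmul p h = P.smul (φ.φ p h) p := by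
  refine ⟨{ rsmul := fun {U} p h => P.smul (φ.φ p h) p
            rsmul_one := fun p => by simp [P.one_smul]
            rsmul_mul := fun p h h' => ?_
            map_rsmul := fun k p h => ?_
            smul_rsmul := fun g p h => ?_
            existsUnique_rsmul := fun {U} p q => ?_ }, fun _ _ _ => rfl, fun ρ hρ => ?_⟩
  · rw [φ.φ_smul, ← P.mul_smul, inv_mul_cancel_right, map_mul]
  · rw [P.map_smul, φ.map_φ]
  · rw [φ.φ_smul, ← P.mul_smul, ← P.mul_smul, inv_mul_cancel_right]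
  · obtain ⟨g, hg, hu⟩ := hP U p q
    exact ⟨(φ.φ p).symm g, by simpa using hg, fun h hh => by
      apply (φ.φ p).injective; simpa using hu _ hh⟩
  · obtain ⟨r, _, _, _, _, _⟩ := ρ
    congr 1
    funext U p h
    exact hρ U p h

theorem sections_ext {U : C} (S : Sieve U) (hS : S ∈ J U) {a b : G.obj.obj (op U)}
    (h : ∀ ⦃V : C⦄ (f : V ⟶ U), S f → G.obj.map f.op a = G.obj.map f.op b) : a = b := by
  let E : GrpCat.{w} := GrpCat.of (ULift.{w} (Multiplicative ℤ))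
  let el : G.obj.obj (op U) → (E ⟶ G.obj.obj (op U)) := fun x =>
    GrpCat.ofHom ((zpowersHom _ x).comp MulEquiv.ulift.toMonoidHom)
  have he : ∀ x, (el x) (ULift.up (Multiplicative.ofAdd (1 : ℤ))) = x := fun x => zpow_one x
  have key : el a = el b := by
    refine G.property.hom_ext ⟨S, hS⟩ _ _ fun I => GrpCat.hom_ext (MonoidHom.ext fun n => ?_)
    change G.obj.map I.f.op (a ^ n.down.toAdd) = G.obj.map I.f.op (b ^ n.down.toAdd)
    rw [map_zpow, map_zpow, h I.f I.hf]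
  rw [← he a, key, he b]

variable {P P' : NonAbH1.GSheaf G} {ρ : Bitors.RightStr P H} {ρ' : Bitors.RightStr P' H}
  {φ : Bitors.IsomFamily P H} {φ' : Bitors.IsomFamily P' H}

theorem rsmul_hom_iff (hP' : P'.IsPseudoTorsor)
    (hρ : ∀ (U : Cᵒᵖ) (p : P.P.obj.obj U) (h : H.obj.obj U), ρ.rsmul p h = P.smul (φ.φ p h) p)
    (hρ' : ∀ (U : Cᵒᵖ) (p : P'.P.obj.obj U) (h : H.obj.obj U),
      ρ'.rsmul p h = P'.smul (φ'.φ p h) p) (f : P ⟶ P') :
    (∀ (U : Cᵒᵖ) (p : P.P.obj.obj U) (h : H.obj.obj U),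
        f.hom.hom.app U (ρ.rsmul p h) = ρ'.rsmul (f.hom.hom.app U p) h) ↔
      ∀ (U : Cᵒᵖ) (p : P.P.obj.obj U) (h : H.obj.obj U),
        φ.φ p h = φ'.φ (f.hom.hom.app U p) h := by
  refine forall_congr' fun U => forall_congr' fun p => forall_congr' fun h => ?_
  rw [hρ, hρ', f.map_smul]
  exact ⟨pt_cancel hP', fun e => by rw [e]⟩

theorem rsmul_hom_iff_of_coversTop (hP : P.IsPseudoTorsor) (hP' : P'.IsPseudoTorsor)
    (hρ : ∀ (U : Cᵒᵖ) (p : P.P.obj.obj U) (h : H.obj.obj U), ρ.rsmul p h = P.smul (φ.φ p h) p)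
    (hρ' : ∀ (U : Cᵒᵖ) (p : P'.P.obj.obj U) (h : H.obj.obj U),
      ρ'.rsmul p h = P'.smul (φ'.φ p h) p)
    (Y : C) (hY : J.CoversTop (fun _ : PUnit.{w + 1} => Y))
    (p : P.P.obj.obj (op Y)) (p' : P'.P.obj.obj (op Y)) (f : P ⟶ P') (g : G.obj.obj (op Y))
    (hg : f.hom.hom.app (op Y) p = P'.smul g p') :
    (∀ (U : Cᵒᵖ) (q : P.P.obj.obj U) (h : H.obj.obj U),
        f.hom.hom.app U (ρ.rsmul q h) = ρ'.rsmul (f.hom.hom.app U q) h) ↔
      ∀ (V : C) (t : V ⟶ Y) (h : H.obj.obj (op V)),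
        φ.φ (P.P.obj.map t.op p) h =
          G.obj.map t.op g * φ'.φ (P'.P.obj.map t.op p') h * (G.obj.map t.op g)⁻¹ := by
  rw [rsmul_hom_iff hP' hρ hρ' f]
  have hnat : ∀ {U V : Cᵒᵖ} (k : U ⟶ V) (q : P.P.obj.obj U),
      f.hom.hom.app V (P.P.obj.map k q) = P'.P.obj.map k (f.hom.hom.app U q) := fun k q =>
    ConcreteCategory.congr_hom (f.hom.hom.naturality k) q
  constructor
  · intro hall V t h
    rw [hall, hnat, hg, P'.map_smul, φ'.φ_smul]
  · rintro hloc ⟨U⟩ q h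
    refine sections_ext _ (hY U) ?_
    rintro V k ⟨_, ⟨t : V ⟶ Y⟩⟩
    obtain ⟨a, ha, -⟩ := hP (op V) (P.P.obj.map t.op p) (P.P.obj.map k.op q)
    rw [φ.map_φ, φ'.map_φ, ← hnat, ← ha, φ.φ_smul, f.map_smul, hnat, hg, P'.map_smul,
      ← P'.mul_smul, φ'.φ_smul, hloc]
    simp [mul_assoc]

end Groth.Agent.Fib44
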