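import Groth.Agent.SiteCoh.Rpush
import Groth.Agent.SiteCoh.TypePush
import Groth.Agent.GSS45.Composite

/-!
Sections functors and their derived functors, for spectral sequences of composite functors.
-/

set_option autoImplicit false
universe u

open CategoryTheory CategoryTheory.Limits Opposite

namespace Groth.Agent.Fib44

variable {C : Type u} [SmallCategory C] (J : GrothendieckTopology C)

/-- Sections over an object. -/
noncomputable abbrev secFun (V : C) : Sheaf J AddCommGrpCat.{u} ⥤ AddCommGrpCat.{u} :=
  sheafToPresheaf J AddCommGrpCat.{u} ⋙ (evaluation Cᵒᵖ AddCommGrpCat.{u}).obj (op V)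

instance secFun_additive (V : C) : (secFun J V).Additive where

instance secFun_preservesFiniteLimits (V : C) : PreservesFiniteLimits (secFun J V) := by
  have : PreservesFiniteLimits (sheafToPresheaf J AddCommGrpCat.{u}) := inferInstance
  exact comp_preservesFiniteLimits _ _

/-- The derived functors of sections over `V` are cohomology at `V`. -/
noncomputable def rightDerivedSecIso (V : C) (n : ℕ) :
    (secFun J V).rightDerived n ≅
      (Sheaf.cohomologyPresheafFunctor J n : Sheaf J AddCommGrpCat.{u} ⥤ Cᵒᵖ ⥤ AddCommGrpCat.{u}) ⋙
        (evaluation Cᵒᵖ AddCommGrpCat.{u}).obj (op V) :=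
  SiteCoh.rightDerivedCompExactIso _ _ n ≪≫
    Functor.isoWhiskerRight (SiteCoh.rightDerivedSheafToPresheafIso J n) _

/-- Cohomology at `V` as a derived functor, on one sheaf. -/
noncomputable def rightDerivedSecObjIso (V : C) (n : ℕ) (F : Sheaf J AddCommGrpCat.{u}) :
    ((secFun J V).rightDerived n).obj F ≅ AddCommGrpCat.of (CohSite.HU F n V) :=
  (rightDerivedSecIso J V n).app F

/-- Transport of right derived functors along an isomorphism of functors. -/
noncomputable def rightDerivedIsoOfIso {A B : Type*} [Category A] [Category B] [Abelian A] [Abelian B]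
    [HasInjectiveResolutions A] {F G : A ⥤ B} [F.Additive] [G.Additive] (e : F ≅ G) (n : ℕ) :
    F.rightDerived n ≅ G.rightDerived n where
  hom := NatTrans.rightDerived e.hom n
  inv := NatTrans.rightDerived e.inv n
  hom_inv_id := by rw [← NatTrans.rightDerived_comp, e.hom_inv_id, NatTrans.rightDerived_id]
  inv_hom_id := by rw [← NatTrans.rightDerived_comp, e.inv_hom_id, NatTrans.rightDerived_id]

end Groth.Agent.Fib44
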