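import Groth.Agent.Fib44.CechExt
import Groth.Agent.Fib44.LerayFun
import Mathlib.CategoryTheory.Preadditive.Yoneda.Limits

/-!
Zeroth Čech cohomology as a functor on presheaves, and its derived functors.
-/

set_option autoImplicit false

universe u

open CategoryTheory CategoryTheory.Limits Opposite CategoryTheory.Abelian

namespace Groth.Agent.Fib44.CechRes

open scoped Groth.Agent.Fib44.Edge

variable {C : Type u} [SmallCategory C] [HasPullbacks C] {U : C} {ι : Type u} (Y : ι → Over U)

/-- The sieve presheaf as a diagram. -/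
noncomputable abbrev ZRdiag : Discrete PUnit.{u + 1} ⥤ (Cᵒᵖ ⥤ AddCommGrpCat.{u}) :=
  (Functor.const _).obj (ZR Y)

/-- Morphisms out of the free presheaf on the sieve. -/
noncomputable abbrev homR : (Cᵒᵖ ⥤ AddCommGrpCat.{u}) ⥤ AddCommGrpCat.{u} :=
  SiteCoh.homPre (ZRdiag Y) ⋙ (evaluation _ AddCommGrpCat.{u}).obj (op ⟨PUnit.unit⟩)

instance homR_additive : (homR Y).Additive where

omit [HasPullbacks C] in
lemma homR_preservesFiniteLimits : PreservesFiniteLimits (homR Y) := by
  have e : homR Y ≅ preadditiveCoyoneda.obj (op (ZR Y)) :=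
    NatIso.ofComponents (fun P => Iso.refl _) fun f => rfl
  have : PreservesLimitsOfSize.{u, u} (preadditiveCoyoneda.obj (op (ZR Y))) := inferInstance
  have : PreservesFiniteLimits (preadditiveCoyoneda.obj (op (ZR Y))) :=
    PreservesLimitsOfSize.preservesFiniteLimits _
  exact preservesFiniteLimits_of_natIso e.symm

/-- The derived functors are Čech cohomology. -/
noncomputable def rightDerivedHomRObjIso (P : Cᵒᵖ ⥤ AddCommGrpCat.{u}) (p : ℕ) :
    ((homR Y).rightDerived p).obj P ≅ CohCx.cechH P Y p :=
  ((SiteCoh.rightDerivedCompExactIso _ _ p ≪≫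
    Functor.isoWhiskerRight (SiteCoh.rightDerivedHomPreIso (ZRdiag Y) p) _).app P) ≪≫
      ((cechEquivExt Y P p).toAddCommGrpIso).symm

variable {J : GrothendieckTopology C}

/-- The map of presheaves attached to a section over the base. -/
noncomputable def secMor (F : Sheaf J AddCommGrpCat.{u}) (s : F.obj.obj (op U)) :
    (sieve Y).functor ⟶ F.obj ⋙ forget AddCommGrpCat.{u} where
  app V := ↾fun g => F.obj.map g.1.op s
  naturality V W f := by
    ext g
    exact ConcreteCategory.congr_hom (F.obj.map_comp g.1.op f) s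

/-- The morphism out of the free presheaf attached to a section. -/
noncomputable def secHom (F : Sheaf J AddCommGrpCat.{u}) (s : F.obj.obj (op U)) : ZR Y ⟶ F.obj :=
  ((AddCommGrpCat.adj.whiskerRight Cᵒᵖ).homEquiv _ F.obj).symm (secMor Y F s)

lemma secHom_of (F : Sheaf J AddCommGrpCat.{u}) (s : F.obj.obj (op U)) (V : Cᵒᵖ)
    (g : (sieve Y).functor.obj V) :
    (secHom Y F s).app V (FreeAbelianGroup.of g : FreeAbelianGroup ((sieve Y).functor.obj V)) =
      F.obj.map g.1.op s := by
  refine (CechInj.homEquiv_free (secHom Y F s) V g).symm.trans ?_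
  rw [secHom, Equiv.apply_symm_apply]
  rfl

omit [HasPullbacks C] in
lemma hom_ext_of {P : Cᵒᵖ ⥤ AddCommGrpCat.{u}} {φ ψ : ZR Y ⟶ P}
    (h : ∀ (V : Cᵒᵖ) (g : (sieve Y).functor.obj V),
      φ.app V (FreeAbelianGroup.of g : FreeAbelianGroup ((sieve Y).functor.obj V)) =
        ψ.app V (FreeAbelianGroup.of g : FreeAbelianGroup ((sieve Y).functor.obj V))) : φ = ψ := by
  refine ((AddCommGrpCat.adj.whiskerRight Cᵒᵖ).homEquiv _ P).injective ?_
  ext V g
  exact h V g

lemma secHom_bijective (hY : sieve Y ∈ J U) (F : Sheaf J AddCommGrpCat.{u}) :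
    Function.Bijective (secHom Y F) := by
  have hF := ((isSheaf_iff_isSheaf_of_type _ _).1
    ((sheafCompose J (forget AddCommGrpCat.{u})).obj F).property) _ hY
  constructor
  · intro s t h
    refine hF.isSeparatedFor.ext fun V g hg => ?_
    have := congrArg (fun φ => φ.app (op V)
      (FreeAbelianGroup.of (⟨g, hg⟩ : {g : V ⟶ U // sieve Y g}) :
        FreeAbelianGroup ((sieve Y).functor.obj (op V)))) h
    exact (secHom_of Y F s (op V) ⟨g, hg⟩).symm.trans (this.trans (secHom_of Y F t (op V) ⟨g, hg⟩))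
  · intro φ
    let φ' : (sieve Y).functor ⟶ F.obj ⋙ forget AddCommGrpCat.{u} :=
      (AddCommGrpCat.adj.whiskerRight Cᵒᵖ).homEquiv _ F.obj φ
    let x : Presieve.FamilyOfElements (F.obj ⋙ forget AddCommGrpCat.{u}) (sieve Y).arrows :=
      fun V g hg => φ'.app (op V) (⟨g, hg⟩ : {g : V ⟶ U // sieve Y g})
    have hx : x.Compatible := by
      rw [Presieve.compatible_iff_sieveCompatible]
      intro V W g h hg
      exact NatTrans.naturality_apply φ' h.op (⟨g, hg⟩ : {g : V ⟶ U // sieve Y g})
    obtain ⟨s, hs, -⟩ := hF x hx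
    exact ⟨s, hom_ext_of Y fun V g => (secHom_of Y F s V g).trans (hs g.1 g.2)⟩

/-- Sections over the base as morphisms out of the free presheaf on a covering sieve. -/
noncomputable def secHomIso (hY : sieve Y ∈ J U) :
    secFun J U ≅ sheafToPresheaf J AddCommGrpCat.{u} ⋙ homR Y :=
  NatIso.ofComponents
    (fun F => (AddEquiv.mk' (Equiv.ofBijective _ (secHom_bijective Y hY F))
      (fun s t => hom_ext_of Y fun V g => by
        refine (secHom_of Y F (s + t) V g).trans ?_
        refine (map_add (F.obj.map g.1.op).hom s t).trans ?_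
        exact (congrArg₂ (· + ·) (secHom_of Y F s V g) (secHom_of Y F t V g)).symm)).toAddCommGrpIso)
    (fun {F G} f => by
      ext s
      refine hom_ext_of Y fun V g => ?_
      refine (secHom_of Y G (f.hom.app (op U) s) V g).trans ?_
      refine (NatTrans.naturality_apply f.hom g.1.op s).symm.trans ?_
      exact (congrArg (f.hom.app V) (secHom_of Y F s V g)).symm)

end Groth.Agent.Fib44.CechRes
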