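import Groth.Agent.Fib44.SiteCech
import Mathlib.CategoryTheory.Preadditive.Projective.Resolution
import Mathlib.CategoryTheory.Limits.FunctorCategory.EpiMono

/-!
The free presheaves on the nerve of a family resolve the free presheaf on the generated sieve.
-/

set_option autoImplicit false

universe u

open CategoryTheory CategoryTheory.Limits Opposite

namespace Groth.Agent.Fib44.CechRes

open CechInj

variable {C : Type u} [SmallCategory C] [HasPullbacks C] {U : C} {ι : Type u} (Y : ι → Over U)
  {P : Cᵒᵖ ⥤ AddCommGrpCat.{u}}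

omit [HasPullbacks C] in
lemma exact_of_evaluation (S : ShortComplex (Cᵒᵖ ⥤ AddCommGrpCat.{u}))
    (h : ∀ V, (S.map ((evaluation Cᵒᵖ AddCommGrpCat.{u}).obj V)).Exact) : S.Exact := by
  rw [S.exact_iff_isZero_homology, Functor.isZero_iff]
  intro V
  exact ((ShortComplex.exact_iff_isZero_homology _).1 (h V)).of_iso
    (S.mapHomologyIso ((evaluation Cᵒᵖ AddCommGrpCat.{u}).obj V)).symm

/-- The cochain of a morphism out of the free presheaf on tuples. -/
noncomputable def cochain (n : ℕ) (α : Z Y n ⟶ P) : SiteCech.Co Y P n := fun a =>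
  α.app (op (∏ᶜ (Y ∘ a)).left)
    (FreeAbelianGroup.of (canon Y a) : FreeAbelianGroup ((NF Y n).obj (op (∏ᶜ (Y ∘ a)).left)))

set_option backward.isDefEq.respectTransparency false in
set_option backward.isDefEq.respectTransparency.types false in
lemma map_canon {n : ℕ} {V : Cᵒᵖ} (x : N Y n V.unop) :
    (NF Y n).map (liftN Y x).left.op (canon Y fun k => (x.1 k).1) = x :=
  Subtype.ext (funext fun k => Sigma.ext rfl (heq_of_eq (by
    change (liftN Y x).left ≫ (Pi.π (Y ∘ fun k => (x.1 k).1) k).left = (x.1 k).2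
    rw [← Over.comp_left, liftN, Pi.lift_π]
    rfl)))

set_option backward.isDefEq.respectTransparency false in
set_option backward.isDefEq.respectTransparency.types false in
lemma toZ_cochain (n : ℕ) (α : Z Y n ⟶ P) : toZ Y n (cochain Y n α) = α := by
  refine ((AddCommGrpCat.adj.whiskerRight Cᵒᵖ).homEquiv _ P).injective ?_
  ext V x
  change (toZ Y n (cochain Y n α)).app V
      (FreeAbelianGroup.of x : FreeAbelianGroup ((NF Y n).obj V)) =
    α.app V (FreeAbelianGroup.of x : FreeAbelianGroup ((NF Y n).obj V))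
  let α' : NF Y n ⟶ P ⋙ forget AddCommGrpCat.{u} :=
    (AddCommGrpCat.adj.whiskerRight Cᵒᵖ).homEquiv _ P α
  refine (toZ_of Y n _ V x).trans ?_
  refine (NatTrans.naturality_apply α' (liftN Y (V := V.unop) x).left.op
    (canon Y fun k => (x.1 k).1)).symm.trans ?_
  exact congrArg (α'.app V) (map_canon Y x)

set_option backward.isDefEq.respectTransparency false in
set_option backward.isDefEq.respectTransparency.types false in
lemma cochain_toZ (n : ℕ) (f : SiteCech.Co Y P n) : cochain Y n (toZ Y n f) = f := by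
  funext a
  refine (toZ_of Y n f (op (∏ᶜ (Y ∘ a)).left) (canon Y a)).trans ?_
  erw [liftN_canon, CategoryTheory.Functor.map_id]
  rfl

/-- Morphisms out of the free presheaf on tuples are cochains. -/
noncomputable def cochainEquiv (n : ℕ) : (Z Y n ⟶ P) ≃+ SiteCech.Co Y P n :=
  AddEquiv.mk' ⟨cochain Y n, toZ Y n, toZ_cochain Y n, cochain_toZ Y n⟩ fun _ _ => rfl

set_option backward.isDefEq.respectTransparency false in
set_option backward.isDefEq.respectTransparency.types false in
lemma cochain_dZ (n : ℕ) (α : Z Y n ⟶ P) :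
    cochain Y (n + 1) (dZ Y n ≫ α) = SiteCech.dC Y P n (cochain Y n α) := by
  let α' : NF Y n ⟶ P ⋙ forget AddCommGrpCat.{u} :=
    (AddCommGrpCat.adj.whiskerRight Cᵒᵖ).homEquiv _ P α
  funext a
  refine (app_dZ_of Y n α (op (∏ᶜ (Y ∘ a)).left) (canon Y a)).trans ?_
  refine Eq.trans ?_ (SiteCech.dC_apply Y P n _ a).symm
  refine Finset.sum_congr rfl fun j _ => congrArg _ ?_
  refine Eq.trans (congrArg (α'.app (op (∏ᶜ (Y ∘ a)).left)) (omit_canon Y a j)) ?_
  exact NatTrans.naturality_apply α' (Cech.face Y a j.succAbove).left.op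
    (canon Y (a ∘ j.succAbove))

lemma dZ_dZ (n : ℕ) : dZ Y (n + 1) ≫ dZ Y n = 0 := by
  refine (cochainEquiv Y (n + 2)).injective ?_
  change cochain Y (n + 2) (dZ Y (n + 1) ≫ dZ Y n) = cochainEquiv Y (n + 2) 0
  rw [cochain_dZ, map_zero, ← Category.comp_id (dZ Y n), cochain_dZ, SiteCech.dC_dC]

instance projective_Z (n : ℕ) : Projective (Z Y n) where
  factors {P Q} f e _ := by
    have he : ∀ V, Function.Surjective (e.app V) := fun V =>
      (AddCommGrpCat.epi_iff_surjective _).1 ((NatTrans.epi_iff_epi_app e).1 inferInstance V)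
    choose g hg using fun a : Fin (n + 1) → ι => he (op (∏ᶜ (Y ∘ a)).left) (cochain Y n f a)
    refine ⟨toZ Y n g, (cochainEquiv Y n).injective (funext fun a => ?_)⟩
    refine Eq.trans ?_ (hg a)
    exact congrArg (e.app (op (∏ᶜ (Y ∘ a)).left)) (congrFun (cochain_toZ Y n g) a)

/-- The generated sieve. -/
abbrev sieve : Sieve U := Sieve.ofArrows (fun i => (Y i).left) fun i => (Y i).hom

/-- The free presheaf on the sieve. -/
noncomputable abbrev ZR : Cᵒᵖ ⥤ AddCommGrpCat.{u} := (sieve Y).functor ⋙ AddCommGrpCat.free.{u}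

/-- A tuple lies over the sieve. -/
def augF : NF Y 0 ⟶ (sieve Y).functor where
  app V := ↾fun x : N Y 0 V.unop => ⟨base Y (x.1 0),
    (Sieve.mem_ofArrows_iff _ _ _).2 ⟨(x.1 0).1, (x.1 0).2, rfl⟩⟩
  naturality V W g := by
    ext x
    exact Subtype.ext (Category.assoc _ _ _)

/-- The augmentation. -/
noncomputable def aug : Z Y 0 ⟶ ZR Y := Functor.whiskerRight (augF Y) AddCommGrpCat.free.{u}

omit [HasPullbacks C] in
lemma exists_pt {V : C} (s : {g : V ⟶ U // sieve Y g}) : ∃ p : Pt Y V, base Y p = s.1 := by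
  obtain ⟨i, a, h⟩ := (Sieve.mem_ofArrows_iff _ _ _).1 s.2
  exact ⟨⟨i, a⟩, h.symm⟩

/-- A chosen tuple over an element of the sieve. -/
noncomputable def cone₀ {V : C} (s : {g : V ⟶ U // sieve Y g}) : N Y 0 V :=
  ⟨fun _ => pick Y s.1 (exists_pt Y s), fun _ => rfl⟩

omit [HasPullbacks C] in
lemma base_cone₀ {V : C} (s : {g : V ⟶ U // sieve Y g}) : base Y ((cone₀ Y s).1 0) = s.1 :=
  (exists_pt Y s).choose_spec

omit [HasPullbacks C] in
lemma omit_one_cone {V : C} (x : N Y 0 V) (m : sieve Y (base Y (x.1 0))) :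
    omit' Y 1 (cone Y x) = cone₀ Y ⟨base Y (x.1 0), m⟩ := by
  refine Subtype.ext (funext fun k => ?_)
  obtain rfl : k = 0 := Fin.ext (Nat.lt_one_iff.1 k.isLt)
  rfl

set_option backward.isDefEq.respectTransparency false in
set_option backward.isDefEq.respectTransparency.types false in
omit [HasPullbacks C] in
lemma aug_app_of (V : Cᵒᵖ) (x : N Y 0 V.unop) :
    (aug Y).app V (FreeAbelianGroup.of x : FreeAbelianGroup ((NF Y 0).obj V)) =
      (FreeAbelianGroup.of ((augF Y).app V x) : FreeAbelianGroup ((sieve Y).functor.obj V)) :=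
  FreeAbelianGroup.map_of_apply _

set_option backward.isDefEq.respectTransparency false in
set_option backward.isDefEq.respectTransparency.types false in
lemma dZ_aug : dZ Y 0 ≫ aug Y = 0 := by
  refine (cochainEquiv Y 1).injective (funext fun a => ?_)
  refine (app_dZ_of Y 0 (aug Y) (op (∏ᶜ (Y ∘ a)).left) (canon Y a)).trans ?_
  rw [Fin.sum_univ_two]
  simp only [Fin.val_zero, pow_zero, one_smul, Fin.val_one, pow_one, neg_smul]
  have h : (augF Y).app (op (∏ᶜ (Y ∘ a)).left) (omit' Y 1 (canon Y a)) =
      (augF Y).app (op (∏ᶜ (Y ∘ a)).left) (omit' Y 0 (canon Y a)) :=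
    Subtype.ext (((canon Y a).2 _).trans ((canon Y a).2 _).symm)
  erw [aug_app_of, aug_app_of, h, add_neg_cancel, map_zero]
  rfl

set_option backward.isDefEq.respectTransparency false in
set_option backward.isDefEq.respectTransparency.types false in
omit [HasPullbacks C] in
lemma aug_surjective (V : Cᵒᵖ) : Function.Surjective ((aug Y).app V) := by
  intro z
  refine ⟨FreeAbelianGroup.map (cone₀ Y (V := V.unop))
    (z : FreeAbelianGroup {g : V.unop ⟶ U // sieve Y g}), ?_⟩
  change (FreeAbelianGroup.map (fun x : N Y 0 V.unop => (augF Y).app V x)).comp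
    (FreeAbelianGroup.map (cone₀ Y)) z = z
  rw [← FreeAbelianGroup.map_comp]
  have e : (fun x : N Y 0 V.unop => (augF Y).app V x) ∘ cone₀ Y (V := V.unop) = id :=
    funext fun s => Subtype.ext (base_cone₀ Y s)
  rw [e]
  exact FreeAbelianGroup.map_id_apply _

set_option backward.isDefEq.respectTransparency false in
set_option backward.isDefEq.respectTransparency.types false in
lemma exact_zero : (ShortComplex.mk (dZ Y 0) (aug Y) (dZ_aug Y)).Exact := by
  apply exact_of_evaluation
  intro V
  rw [ShortComplex.ab_exact_iff]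
  intro z hz
  have key : (dV Y 0 V.unop).comp (hV Y 0 V.unop) =
      AddMonoidHom.id _ - (FreeAbelianGroup.map (cone₀ Y (V := V.unop))).comp
        (FreeAbelianGroup.map fun x : N Y 0 V.unop => (augF Y).app V x) := by
    refine FreeAbelianGroup.lift_ext _ _ fun x => ?_
    rw [AddMonoidHom.comp_apply, hV_of, dV_of, Fin.sum_univ_two, omit_zero_cone,
      omit_one_cone Y x ((augF Y).app V x).2, AddMonoidHom.sub_apply, AddMonoidHom.id_apply,
      AddMonoidHom.comp_apply, FreeAbelianGroup.map_of_apply, FreeAbelianGroup.map_of_apply]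
    simp only [Fin.val_zero, pow_zero, one_smul, Fin.val_one, pow_one, neg_smul]
    exact (sub_eq_add_neg _ _).symm
  refine ⟨hV Y 0 V.unop z, ?_⟩
  refine (ConcreteCategory.congr_hom (dZ_app Y 0 V) _).trans ?_
  refine (DFunLike.congr_fun key z).trans ?_
  have hz' : (FreeAbelianGroup.map fun x : N Y 0 V.unop => (augF Y).app V x)
      (z : FreeAbelianGroup (N Y 0 V.unop)) = 0 := hz
  let z' : FreeAbelianGroup (N Y 0 V.unop) := z
  change z' - FreeAbelianGroup.map (cone₀ Y (V := V.unop))
    ((FreeAbelianGroup.map fun x : N Y 0 V.unop => (augF Y).app V x) z') = z'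
  rw [show (FreeAbelianGroup.map fun x : N Y 0 V.unop => (augF Y).app V x) z' = 0 from hz']
  exact (congrArg _ (map_zero _)).trans (sub_zero _)

set_option backward.isDefEq.respectTransparency false in
set_option backward.isDefEq.respectTransparency.types false in
lemma exact_succ (n : ℕ) : (ShortComplex.mk (dZ Y (n + 1)) (dZ Y n) (dZ_dZ Y n)).Exact := by
  apply exact_of_evaluation
  intro V
  rw [ShortComplex.ab_exact_iff]
  intro z hz
  have hz' : dV Y n V.unop z = 0 := (ConcreteCategory.congr_hom (dZ_app Y n V) z).symm.trans hz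
  refine ⟨hV Y (n + 1) V.unop z, ?_⟩
  refine (ConcreteCategory.congr_hom (dZ_app Y (n + 1) V) _).trans ?_
  have h := DFunLike.congr_fun (homotopy Y n V.unop) z
  refine Eq.trans (Eq.symm ?_) h
  exact (congrArg (fun w => dV Y (n + 1) V.unop (hV Y (n + 1) V.unop z) + hV Y n V.unop w) hz').trans
    ((congrArg _ (map_zero _)).trans (add_zero _))

/-- The complex. -/
noncomputable def cx : ChainComplex (Cᵒᵖ ⥤ AddCommGrpCat.{u}) ℕ :=
  ChainComplex.of (Z Y) (dZ Y) (dZ_dZ Y)

lemma cx_d (n : ℕ) : (cx Y).d (n + 1) n = dZ Y n := ChainComplex.of_d _ _ n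

instance cx_projective (n : ℕ) : Projective ((cx Y).X n) := projective_Z Y n

/-- The augmentation of the complex. -/
noncomputable def cxAug : cx Y ⟶ (ChainComplex.single₀ _).obj (ZR Y) :=
  (ChainComplex.toSingle₀Equiv _ _).symm ⟨aug Y, by rw [cx_d]; exact dZ_aug Y⟩

lemma cxAug_f_zero : (cxAug Y).f 0 = aug Y :=
  ChainComplex.toSingle₀Equiv_symm_apply_f_zero (C := cx Y) (X := ZR Y) (aug Y)
    (by rw [cx_d]; exact dZ_aug Y)

instance quasiIso_cxAug : QuasiIso (cxAug Y) := by
  refine ⟨fun n => ?_⟩
  rcases n with _ | n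
  · rw [ChainComplex.quasiIsoAt₀_iff, ShortComplex.quasiIso_iff_of_zeros']
    · refine ⟨(ShortComplex.exact_iff_of_iso ?_).1 (exact_zero Y), ?_⟩
      · exact ShortComplex.isoMk (Iso.refl _) (Iso.refl _) (Iso.refl _)
          ((Category.id_comp _).trans ((cx_d Y 0).trans (Category.comp_id _).symm))
          ((Category.id_comp _).trans ((cxAug_f_zero Y).trans (Category.comp_id _).symm))
      · have : Epi (aug Y) := (NatTrans.epi_iff_epi_app _).2 fun V =>
          (AddCommGrpCat.epi_iff_surjective _).2 (aug_surjective Y V)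
        change Epi ((cxAug Y).f 0)
        rw [cxAug_f_zero]
        exact this
    · exact (cx Y).shape _ _ (by simp)
    · exact HomologicalComplex.single_obj_d (ComplexShape.down ℕ) ..
    · exact HomologicalComplex.single_obj_d (ComplexShape.down ℕ) ..
  · rw [quasiIsoAt_iff_exactAt' _ _ (ChainComplex.exactAt_succ_single_obj _ _),
      HomologicalComplex.exactAt_iff' _ (n + 1 + 1) (n + 1) n (by simp) (by simp)]
    refine (ShortComplex.exact_iff_of_iso ?_).1 (exact_succ Y n)
    exact ShortComplex.isoMk (Iso.refl _) (Iso.refl _) (Iso.refl _)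
      ((Category.id_comp _).trans ((cx_d Y (n + 1)).trans (Category.comp_id _).symm))
      ((Category.id_comp _).trans ((cx_d Y n).trans (Category.comp_id _).symm))

/-- The projective resolution of the free presheaf on the sieve. -/
noncomputable def resolution : ProjectiveResolution (ZR Y) where
  complex := cx Y
  π := cxAug Y

end Groth.Agent.Fib44.CechRes
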