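import Groth.Agent.Fib44.SiteCech
import Mathlib.Algebra.Homology.HomologySequence
import Mathlib.Algebra.Homology.HomologicalComplexAbelian

/-!
Čech cohomology of an acyclic covering of an object computes its cohomology.
-/

set_option autoImplicit false

universe u

open CategoryTheory CategoryTheory.Limits Opposite CategoryTheory.Abelian

namespace Groth.Agent.Fib44.SiteCech

variable {C : Type u} [SmallCategory C] [HasPullbacks C] {J : GrothendieckTopology C}
variable {U : C} {ι : Type u} (Yf : ι → Over U)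

/-- The Čech complex. -/
noncomputable abbrev cxC (P : Cᵒᵖ ⥤ AddCommGrpCat.{u}) : CochainComplex AddCommGrpCat.{u} ℕ :=
  (cechComplexFunctor Yf).obj ((Over.forget U).op ⋙ P)

/-- Maps of Čech complexes. -/
noncomputable abbrev cxMap {P Q : Cᵒᵖ ⥤ AddCommGrpCat.{u}} (φ : P ⟶ Q) : cxC Yf P ⟶ cxC Yf Q :=
  (cechComplexFunctor Yf).map (Functor.whiskerLeft (Over.forget U).op φ)

set_option backward.isDefEq.respectTransparency false in
set_option backward.isDefEq.respectTransparency.types false in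
lemma proj_map {P Q : Cᵒᵖ ⥤ AddCommGrpCat.{u}} (φ : P ⟶ Q) (n : ℕ) (a : Fin (n + 1) → ι) :
    (cxMap Yf φ).f n ≫ Cech.proj Yf ((Over.forget U).op ⋙ Q) n a =
      Cech.proj Yf ((Over.forget U).op ⋙ P) n a ≫ φ.app (op (∏ᶜ (Yf ∘ a)).left) := by
  change Limits.Pi.map (fun b : Fin (n + 1) → ι => φ.app (op (∏ᶜ (Yf ∘ b)).left)) ≫ _ = _
  erw [Limits.Pi.map_π]
  rfl

lemma equiv_map {P Q : Cᵒᵖ ⥤ AddCommGrpCat.{u}} (φ : P ⟶ Q) (n : ℕ) (x : (cxC Yf P).X n) :
    Cech.equiv Yf _ n ((cxMap Yf φ).f n x) = mapC Yf φ n (Cech.equiv Yf _ n x) := by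
  funext a
  change _ = φ.app (op (∏ᶜ (Yf ∘ a)).left) (Cech.equiv Yf ((Over.forget U).op ⋙ P) n x a)
  rw [Cech.equiv_apply, Cech.equiv_apply]
  exact ConcreteCategory.congr_hom (proj_map Yf φ n a) x

lemma equiv_dC (P : Cᵒᵖ ⥤ AddCommGrpCat.{u}) (n : ℕ) (x : (cxC Yf P).X n) :
    Cech.equiv Yf _ (n + 1) ((cxC Yf P).d n (n + 1) x) = dC Yf P n (Cech.equiv Yf _ n x) := by
  simp only [dC, AddMonoidHom.comp_apply, AddEquiv.coe_toAddMonoidHom, AddEquiv.symm_apply_apply]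

/-- Restriction to the members of the family. -/
noncomputable def cres (P : Cᵒᵖ ⥤ AddCommGrpCat.{u}) : P.obj (op U) →+ Co Yf P 0 :=
  AddMonoidHom.mk' (fun s a => P.map (∏ᶜ (Yf ∘ a)).hom.op s)
    fun _ _ => funext fun a => map_add (P.map (∏ᶜ (Yf ∘ a)).hom.op).hom _ _

lemma mapC_cres {P Q : Cᵒᵖ ⥤ AddCommGrpCat.{u}} (φ : P ⟶ Q) (s : P.obj (op U)) :
    mapC Yf φ 0 (cres Yf P s) = cres Yf Q (φ.app _ s) :=
  funext fun a => NatTrans.naturality_apply φ (∏ᶜ (Yf ∘ a)).hom.op s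

lemma dC_cres (P : Cᵒᵖ ⥤ AddCommGrpCat.{u}) (s : P.obj (op U)) : dC Yf P 0 (cres Yf P s) = 0 := by
  funext a
  rw [dC_apply, Fin.sum_univ_two]
  simp only [Fin.val_zero, pow_zero, one_smul, Fin.val_one, pow_one, neg_smul, Pi.zero_apply]
  rw [← sub_eq_add_neg, sub_eq_zero]
  have key : ∀ j : Fin 2, ((Over.forget U).op ⋙ P).map (Cech.face Yf a j.succAbove).op
      (cres Yf P s (a ∘ j.succAbove)) = P.map (∏ᶜ (Yf ∘ a)).hom.op s := fun j => by
    refine (ConcreteCategory.congr_hom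
      (P.map_comp (∏ᶜ (Yf ∘ (a ∘ j.succAbove))).hom.op (Cech.face Yf a j.succAbove).left.op) s).symm.trans ?_
    exact congrArg (fun m => P.map (Quiver.Hom.op m) s) (Over.w (Cech.face Yf a j.succAbove))
  rw [key, key]

variable (hY : Sieve.ofArrows (fun i => (Yf i).left) (fun i => (Yf i).hom) ∈ J U)

include hY in
lemma isSheafFor (F : Sheaf J AddCommGrpCat.{u}) :
    Presieve.IsSheafFor (F.obj ⋙ forget AddCommGrpCat.{u})
      (Presieve.ofArrows _ fun a₀ : Fin 1 → ι => (∏ᶜ (Yf ∘ a₀)).hom) := by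
  rw [Presieve.isSheafFor_iff_generate]
  refine ((isSheaf_iff_isSheaf_of_type _ _).1
      ((sheafCompose J (forget AddCommGrpCat.{u})).obj F).property) _ ?_
  refine J.superset_covering ((Sieve.generate_le_iff _ _).2 ?_) hY
  rintro W m ⟨i⟩
  exact ⟨_, (Limits.Pi.lift (P := Yf i) (f := Yf ∘ fun _ : Fin 1 => i) fun _ => 𝟙 (Yf i)).left, _,
    ⟨fun _ => i⟩, Over.w (Limits.Pi.lift (P := Yf i) (f := Yf ∘ fun _ : Fin 1 => i) fun _ => 𝟙 (Yf i))⟩

include hY in
lemma cres_injective (F : Sheaf J AddCommGrpCat.{u}) : Function.Injective (cres Yf F.obj) := by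
  intro x y h
  refine (isSheafFor Yf hY F).isSeparatedFor.ext ?_
  rintro W m ⟨a⟩
  exact congrFun h a

set_option backward.isDefEq.respectTransparency false in
set_option backward.isDefEq.respectTransparency.types false in
include hY in
lemma exists_cres (F : Sheaf J AddCommGrpCat.{u}) (e : Co Yf F.obj 0) (he : dC Yf F.obj 0 e = 0) :
    ∃ s, cres Yf F.obj s = e := by
  have hrel : ∀ a : Fin 2 → ι,
      ((Over.forget U).op ⋙ F.obj).map (Cech.face Yf a (Fin.succAbove 0)).op (e (a ∘ Fin.succAbove 0)) =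
        ((Over.forget U).op ⋙ F.obj).map (Cech.face Yf a (Fin.succAbove 1)).op
          (e (a ∘ Fin.succAbove 1)) := fun a => by
    have h := congrFun he a
    rw [dC_apply, Fin.sum_univ_two] at h
    simp only [Fin.val_zero, pow_zero, one_smul, Fin.val_one, pow_one, neg_smul, Pi.zero_apply] at h
    rwa [← sub_eq_add_neg, sub_eq_zero] at h
  have hcomp : Presieve.Arrows.Compatible (F.obj ⋙ forget AddCommGrpCat.{u})
      (fun a₀ : Fin 1 → ι => (∏ᶜ (Yf ∘ a₀)).hom) e := by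
    intro a₀ a₁ Z gi gj hij
    obtain ⟨a, rfl, rfl⟩ : ∃ a : Fin 2 → ι, a ∘ Fin.succAbove 1 = a₀ ∧ a ∘ Fin.succAbove 0 = a₁ :=
      ⟨![a₀ 0, a₁ 0], funext fun k => by fin_cases k; rfl, funext fun k => by fin_cases k; rfl⟩
    let gi' : Over.mk (gi ≫ (∏ᶜ (Yf ∘ (a ∘ Fin.succAbove (1 : Fin 2)))).hom) ⟶
        ∏ᶜ (Yf ∘ (a ∘ Fin.succAbove (1 : Fin 2))) := Over.homMk gi rfl
    let gj' : Over.mk (gi ≫ (∏ᶜ (Yf ∘ (a ∘ Fin.succAbove (1 : Fin 2)))).hom) ⟶
        ∏ᶜ (Yf ∘ (a ∘ Fin.succAbove (0 : Fin 2))) := Over.homMk gj hij.symm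
    let l : Over.mk (gi ≫ (∏ᶜ (Yf ∘ (a ∘ Fin.succAbove (1 : Fin 2)))).hom) ⟶ ∏ᶜ (Yf ∘ a) :=
      Limits.Pi.lift fun k => Fin.cases (gi' ≫ Limits.Pi.π _ 0)
        (fun k => Fin.cases (gj' ≫ Limits.Pi.π _ 0) (fun k => k.elim0) k) k
    have hl0 : l ≫ Cech.face Yf a (Fin.succAbove 1) = gi' := by
      refine Limits.Pi.hom_ext _ _ fun k => ?_
      obtain rfl : k = 0 := Fin.ext (Nat.lt_one_iff.1 k.isLt)
      rw [Category.assoc, Limits.Pi.lift_π]
      exact Limits.Pi.lift_π _ _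
    have hl1 : l ≫ Cech.face Yf a (Fin.succAbove 0) = gj' := by
      refine Limits.Pi.hom_ext _ _ fun k => ?_
      obtain rfl : k = 0 := Fin.ext (Nat.lt_one_iff.1 k.isLt)
      rw [Category.assoc, Limits.Pi.lift_π]
      exact Limits.Pi.lift_π _ _
    have h := congrArg (F.obj.map l.left.op) (hrel a)
    simp only [Functor.comp_map, Functor.op_map, Quiver.Hom.unop_op, Over.forget_map] at h
    erw [res_res, res_res, ← Over.comp_left, ← Over.comp_left, hl0, hl1] at h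
    exact h.symm
  obtain ⟨s, hs, -⟩ := (Presieve.isSheafFor_arrows_iff _ _).1 (isSheafFor Yf hY F) e hcomp
  exact ⟨s, funext hs⟩

/-- Restriction to degree zero cochains of the complex. -/
noncomputable def toX₀ (P : Cᵒᵖ ⥤ AddCommGrpCat.{u}) : P.obj (op U) ⟶ (cxC Yf P).X 0 :=
  AddCommGrpCat.ofHom ((Cech.equiv Yf _ 0).symm.toAddMonoidHom.comp (cres Yf P))

lemma equiv_toX₀ (P : Cᵒᵖ ⥤ AddCommGrpCat.{u}) (s : P.obj (op U)) :
    Cech.equiv Yf _ 0 (toX₀ Yf P s) = cres Yf P s :=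
  (Cech.equiv Yf _ 0).apply_symm_apply _

lemma toX₀_d (P : Cᵒᵖ ⥤ AddCommGrpCat.{u}) : toX₀ Yf P ≫ (cxC Yf P).d 0 1 = 0 := by
  ext s
  apply (Cech.equiv Yf ((Over.forget U).op ⋙ P) 1).injective
  change Cech.equiv Yf _ 1 ((cxC Yf P).d 0 1 (toX₀ Yf P s)) = Cech.equiv Yf _ 1 0
  rw [equiv_dC, equiv_toX₀, dC_cres, map_zero]

/-- Sections to degree zero Čech cohomology. -/
noncomputable def toH₀ (P : Cᵒᵖ ⥤ AddCommGrpCat.{u}) : P.obj (op U) ⟶ (cxC Yf P).homology 0 :=
  (cxC Yf P).liftCycles (toX₀ Yf P) 1 (by simp) (toX₀_d Yf P) ≫ (cxC Yf P).homologyπ 0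

lemma toH₀_naturality {P Q : Cᵒᵖ ⥤ AddCommGrpCat.{u}} (φ : P ⟶ Q) :
    φ.app _ ≫ toH₀ Yf Q = toH₀ Yf P ≫ HomologicalComplex.homologyMap (cxMap Yf φ) 0 := by
  rw [toH₀, toH₀, Category.assoc, HomologicalComplex.homologyπ_naturality, ← Category.assoc,
    ← Category.assoc]
  congr 1
  rw [HomologicalComplex.liftCycles_comp_cyclesMap, ← cancel_mono ((cxC Yf Q).iCycles 0),
    Category.assoc, HomologicalComplex.liftCycles_i, HomologicalComplex.liftCycles_i]
  ext s
  apply (Cech.equiv Yf ((Over.forget U).op ⋙ Q) 0).injective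
  change Cech.equiv Yf _ 0 (toX₀ Yf Q (φ.app _ s)) = Cech.equiv Yf _ 0 ((cxMap Yf φ).f 0 (toX₀ Yf P s))
  rw [equiv_map, equiv_toX₀, equiv_toX₀, mapC_cres]

include hY in
lemma toH₀_bijective (F : Sheaf J AddCommGrpCat.{u}) : Function.Bijective (toH₀ Yf F.obj) := by
  set K := cxC Yf F.obj
  have hπ : Function.Bijective (K.homologyπ 0) := ConcreteCategory.bijective_of_isIso _
  have hi : Function.Injective (K.iCycles 0) := (AddCommGrpCat.mono_iff_injective _).1 inferInstance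
  have hc : ∀ s, K.iCycles 0 (K.liftCycles (toX₀ Yf F.obj) 1 (by simp) (toX₀_d Yf F.obj) s) =
      toX₀ Yf F.obj s :=
    fun s => ConcreteCategory.congr_hom (K.liftCycles_i _ 1 _ _) s
  refine hπ.comp ⟨fun a b hab => cres_injective Yf hY F ?_, fun z => ?_⟩
  · rw [← equiv_toX₀, ← equiv_toX₀, ← hc, ← hc]
    exact congrArg (fun z => Cech.equiv Yf ((Over.forget U).op ⋙ F.obj) 0 (K.iCycles 0 z)) hab
  · obtain ⟨s, hs⟩ := exists_cres Yf hY F (Cech.equiv Yf _ 0 (K.iCycles 0 z)) (by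
      rw [← equiv_dC, ← ConcreteCategory.comp_apply, HomologicalComplex.iCycles_d]
      exact map_zero _)
    refine ⟨s, hi ?_⟩
    exact (hc s).trans ((Cech.equiv Yf ((Over.forget U).op ⋙ F.obj) 0).injective
      ((equiv_toX₀ Yf F.obj s).trans hs))

/-- The short complex of Čech complexes. -/
noncomputable abbrev cxSES (S : ShortComplex (Sheaf J AddCommGrpCat.{u})) :
    ShortComplex (CochainComplex AddCommGrpCat.{u} ℕ) :=
  ShortComplex.mk (cxMap Yf S.f.hom) (cxMap Yf S.g.hom) (by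
    ext n x
    apply (Cech.equiv Yf ((Over.forget U).op ⋙ S.X₃.obj) n).injective
    change Cech.equiv Yf _ n ((cxMap Yf S.g.hom).f n ((cxMap Yf S.f.hom).f n x)) = Cech.equiv Yf _ n 0
    rw [equiv_map, equiv_map, mapC_g_f, map_zero])

variable {S : ShortComplex (Sheaf J AddCommGrpCat.{u})}

lemma cxSES_shortExact (hS : S.ShortExact)
    (h : ∀ (n : ℕ) (a : Fin (n + 1) → ι), Function.Surjective (S.g.hom.app (op (∏ᶜ (Yf ∘ a)).left))) :
    (cxSES Yf S).ShortExact := by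
  refine HomologicalComplex.shortExact_of_degreewise_shortExact _ fun n =>
    { exact := ?_, mono_f := ?_, epi_g := ?_ }
  · rw [ShortComplex.ab_exact_iff]
    intro b hb
    obtain ⟨a, ha⟩ := exists_mapC_f Yf hS n (Cech.equiv Yf _ n b)
      ((equiv_map Yf S.g.hom n b).symm.trans ((congrArg (Cech.equiv Yf _ n) hb).trans (map_zero _)))
    obtain ⟨a, rfl⟩ := (Cech.equiv Yf ((Over.forget U).op ⋙ S.X₁.obj) n).surjective a
    exact ⟨a, (Cech.equiv Yf ((Over.forget U).op ⋙ S.X₂.obj) n).injective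
      ((equiv_map Yf S.f.hom n a).trans ha)⟩
  · rw [AddCommGrpCat.mono_iff_injective]
    intro a b hab
    exact (Cech.equiv Yf ((Over.forget U).op ⋙ S.X₁.obj) n).injective (mapC_injective Yf hS n
      ((equiv_map Yf S.f.hom n a).symm.trans
        ((congrArg (Cech.equiv Yf _ n) hab).trans (equiv_map Yf S.f.hom n b))))
  · rw [AddCommGrpCat.epi_iff_surjective]
    intro c
    obtain ⟨b, hb⟩ : ∃ b : Co Yf S.X₂.obj n, mapC Yf S.g.hom n b = Cech.equiv Yf _ n c := by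
      choose b hb using fun a => h n a (Cech.equiv Yf ((Over.forget U).op ⋙ S.X₃.obj) n c a)
      exact ⟨b, funext hb⟩
    obtain ⟨b, rfl⟩ := (Cech.equiv Yf ((Over.forget U).op ⋙ S.X₂.obj) n).surjective b
    exact ⟨b, (Cech.equiv Yf ((Over.forget U).op ⋙ S.X₃.obj) n).injective
      ((equiv_map Yf S.g.hom n b).trans hb)⟩

/-- Two surjections with the same kernel have isomorphic targets. -/
noncomputable def equivOfKerEq {A B D : Type u} [AddCommGroup A] [AddCommGroup B] [AddCommGroup D]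
    (φ : A →+ B) (ψ : A →+ D) (hφ : Function.Surjective φ) (hψ : Function.Surjective ψ)
    (h : φ.ker = ψ.ker) : B ≃+ D :=
  (QuotientAddGroup.quotientKerEquivOfSurjective φ hφ).symm.trans
    ((QuotientAddGroup.quotientAddEquivOfEq h).trans (QuotientAddGroup.quotientKerEquivOfSurjective ψ hψ))

/-- The connecting map. -/
noncomputable def conn {T : ShortComplex (Sheaf J AddCommGrpCat.{u})} (hT : T.ShortExact) (V : C)
    (n : ℕ) : Ext (CohCx.freeSheaf J V) T.X₃ n →+ Ext (CohCx.freeSheaf J V) T.X₁ (n + 1) :=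
  hT.extClass.postcomp (CohCx.freeSheaf J V) rfl

lemma conn_surjective {T : ShortComplex (Sheaf J AddCommGrpCat.{u})} (hT : T.ShortExact) (V : C)
    (n : ℕ) [h : Subsingleton (Ext (CohCx.freeSheaf J V) T.X₂ (n + 1))] :
    Function.Surjective (conn hT V n) :=
  fun x => SiteCoh.exists_comp_extClass hT (CohCx.freeSheaf J V) n x

lemma conn_eq_zero_iff {T : ShortComplex (Sheaf J AddCommGrpCat.{u})} (hT : T.ShortExact) (V : C)
    (n : ℕ) (x : Ext (CohCx.freeSheaf J V) T.X₃ n) :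
    conn hT V n x = 0 ↔ ∃ y : Ext (CohCx.freeSheaf J V) T.X₂ n, y.comp (Ext.mk₀ T.g) (add_zero n) = x := by
  refine ⟨fun h => Ext.covariant_sequence_exact₃ _ hT x rfl h, ?_⟩
  rintro ⟨y, rfl⟩
  change (y.comp (Ext.mk₀ T.g) (add_zero n)).comp hT.extClass rfl = 0
  rw [Ext.comp_assoc_of_second_deg_zero, hT.comp_extClass, Ext.comp_zero]

lemma conn_bijective {T : ShortComplex (Sheaf J AddCommGrpCat.{u})} (hT : T.ShortExact) (V : C)
    (n : ℕ) [Subsingleton (Ext (CohCx.freeSheaf J V) T.X₂ n)]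
    [Subsingleton (Ext (CohCx.freeSheaf J V) T.X₂ (n + 1))] :
    Function.Bijective (conn hT V n) := by
  refine ⟨(injective_iff_map_eq_zero _).2 fun x hx => ?_, conn_surjective hT V n⟩
  obtain ⟨y, rfl⟩ := (conn_eq_zero_iff hT V n x).1 hx
  rw [Subsingleton.elim y 0, Ext.zero_comp]

lemma surjective_of_subsingleton {T : ShortComplex (Sheaf J AddCommGrpCat.{u})} (hT : T.ShortExact)
    (V : C) (h : Subsingleton (Ext (CohCx.freeSheaf J V) T.X₁ 1)) :
    Function.Surjective (T.g.hom.app (op V)) :=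
  @SiteCoh.sections_surjective_of_acyclic _ _ J _ hT V h

include hY in
/-- Čech cohomology of an acyclic covering computes cohomology. -/
theorem cech_equiv (p : ℕ) : ∀ (F : Sheaf J AddCommGrpCat.{u}),
    (∀ (n : ℕ) (a : Fin (n + 1) → ι) (q : ℕ),
      Subsingleton (Ext (CohCx.freeSheaf J (∏ᶜ (Yf ∘ a)).left) F (q + 1))) →
    Nonempty ((cxC Yf F.obj).homology p ≃+ Ext (CohCx.freeSheaf J U) F p) := by
  induction p with
  | zero =>
    intro F _
    exact ⟨(AddEquiv.ofBijective (toH₀ Yf F.obj).hom (toH₀_bijective Yf hY F)).symm.trans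
      (SiteCoh.hu0Equiv F U).symm⟩
  | succ p ih =>
    intro F hF
    have hS := SiteCoh.injSES_shortExact F
    have hsurj := fun (n : ℕ) (a : Fin (n + 1) → ι) => surjective_of_subsingleton hS _ (hF n a 0)
    have hC := cxSES_shortExact Yf hS hsurj
    have hinj : Injective (SiteCoh.injSES F).X₂ := inferInstanceAs (Injective (Injective.under F))
    have hI : ∀ q, IsZero ((cxSES Yf (SiteCoh.injSES F)).X₂.homology (q + 1)) := fun q =>
      @CechInj.isZero_cechH _ _ U ι Yf _ J (SiteCoh.injSES F).X₂ hinj q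
    have hIs : ∀ (V : C) (q : ℕ), Subsingleton (Ext.{u} (CohCx.freeSheaf J V) (SiteCoh.injSES F).X₂ (q + 1)) :=
      fun V q => Ext.subsingleton_of_injective _ (Injective.under F) q
    match p with
    | 0 =>
      let φ : (SiteCoh.injSES F).X₃.obj.obj (op U) →+ (cxC Yf F.obj).homology 1 :=
        (toH₀ Yf (SiteCoh.injSES F).X₃.obj ≫ hC.δ 0 1 rfl).hom
      let ψ : (SiteCoh.injSES F).X₃.obj.obj (op U) →+ Ext (CohCx.freeSheaf J U) F 1 :=
        (conn hS U 0).comp (SiteCoh.hu0Equiv (SiteCoh.injSES F).X₃ U).symm.toAddMonoidHom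
      have hφ : Function.Surjective φ := by
        have : Epi (hC.δ 0 1 rfl) := hC.epi_δ 0 1 rfl (hI 0)
        exact ((AddCommGrpCat.epi_iff_surjective _).1 this).comp (toH₀_bijective Yf hY _).2
      have hψ : Function.Surjective ψ := fun x => by
        obtain ⟨y, hy⟩ := @conn_surjective _ _ _ J _ hS U 0 (hIs U 0) x
        exact ⟨SiteCoh.hu0Equiv _ U y,
          (congrArg (conn hS U 0) ((SiteCoh.hu0Equiv _ U).symm_apply_apply y)).trans hy⟩
      refine ⟨equivOfKerEq φ ψ hφ hψ (AddSubgroup.ext fun s => ?_)⟩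
      rw [AddMonoidHom.mem_ker, AddMonoidHom.mem_ker]
      constructor
      · intro hs
        obtain ⟨y, hy⟩ := (ShortComplex.ab_exact_iff _).1 (hC.homology_exact₃ 0 1 rfl) (toH₀ Yf _ s) hs
        obtain ⟨t, rfl⟩ := (toH₀_bijective Yf hY _).2 y
        have h1 := ConcreteCategory.congr_hom (toH₀_naturality Yf (SiteCoh.injSES F).g.hom) t
        rw [show s = (SiteCoh.injSES F).g.hom.app (op U) t from
          (toH₀_bijective Yf hY _).1 (hy.symm.trans h1.symm)]
        change conn hS U 0 ((SiteCoh.hu0Equiv _ U).symm _) = 0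
        exact (conn_eq_zero_iff hS U 0 _).2
          ⟨(SiteCoh.hu0Equiv _ U).symm t, SiteCoh.hu0Equiv_symm_comp_mk₀ _ U t⟩
      · intro hs
        obtain ⟨y, hy⟩ := (conn_eq_zero_iff hS U 0 _).1 hs
        obtain ⟨t, rfl⟩ := (SiteCoh.hu0Equiv _ U).symm.surjective y
        rw [SiteCoh.hu0Equiv_symm_comp_mk₀] at hy
        obtain rfl := (SiteCoh.hu0Equiv (SiteCoh.injSES F).X₃ U).symm.injective hy
        have h1 := ConcreteCategory.congr_hom (toH₀_naturality Yf (SiteCoh.injSES F).g.hom) t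
        change hC.δ 0 1 rfl (toH₀ Yf _ _) = 0
        exact (congrArg _ h1).trans (ConcreteCategory.congr_hom (hC.comp_δ 0 1 rfl) _)
    | q + 1 =>
      have hG : ∀ (n : ℕ) (a : Fin (n + 1) → ι) (r : ℕ),
          Subsingleton (Ext (CohCx.freeSheaf J (∏ᶜ (Yf ∘ a)).left) (SiteCoh.injSES F).X₃ (r + 1)) :=
        fun n a r => by
        have := hF n a (r + 1)
        exact (@conn_bijective _ _ _ J _ hS _ (r + 1) (hIs _ r) (hIs _ (r + 1))).1.subsingleton
      obtain ⟨e⟩ := ih (SiteCoh.injSES F).X₃ hG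
      exact ⟨(hC.δIso (q + 1) (q + 2) rfl (hI q) (hI (q + 1))).addCommGroupIsoToAddEquiv.symm.trans
        (e.trans (AddEquiv.ofBijective (conn hS U (q + 1))
          (@conn_bijective _ _ _ J _ hS U (q + 1) (hIs U q) (hIs U (q + 1)))))⟩

end Groth.Agent.Fib44.SiteCech
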