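import Groth.Prelude.Def_CechEdge
import Groth.Agent.Fib44.SiteCechCompare
import Mathlib.Algebra.Homology.HomologySequenceLemmas
import Mathlib.CategoryTheory.Abelian.GrothendieckAxioms.FunctorCategory
import Mathlib.CategoryTheory.Abelian.GrothendieckCategory.EnoughInjectives
import Mathlib.CategoryTheory.Generator.Presheaf

/-!
Basic properties of the Čech complex functor on presheaves and of the degree zero comparison.
-/

set_option autoImplicit false

universe u

open CategoryTheory CategoryTheory.Limits Opposite CategoryTheory.Abelian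

namespace Groth.Agent.Fib44.Edge

variable {C : Type u} [SmallCategory C] [HasPullbacks C] {J : GrothendieckTopology C}
variable {U : C} {ι : Type u} (Y : ι → Over U)

open SiteCech in
lemma cxFunctor_map {P Q : Cᵒᵖ ⥤ AddCommGrpCat.{u}} (φ : P ⟶ Q) :
    (CechEdge.cxFunctor Y).map φ = cxMap Y φ :=
  rfl

set_option backward.isDefEq.respectTransparency false in
set_option backward.isDefEq.respectTransparency.types false in
lemma toCech₀_eq (P : Cᵒᵖ ⥤ AddCommGrpCat.{u}) : CechEdge.toCech₀ P Y = SiteCech.toX₀ Y P := by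
  refine AddCommGrpCat.hom_ext (AddMonoidHom.ext fun s => ?_)
  apply (Cech.equiv Y ((Over.forget U).op ⋙ P) 0).injective
  refine Eq.trans ?_ (SiteCech.equiv_toX₀ Y P s).symm
  funext a
  refine (Cech.equiv_apply _ _ _ _ _).trans ?_
  exact ConcreteCategory.congr_hom
    (Limits.Pi.lift_π (fun (i : Fin 1 → ι) => P.map (∏ᶜ (Y ∘ i)).hom.op) a) s

lemma toCech_eq (P : Cᵒᵖ ⥤ AddCommGrpCat.{u}) : CechEdge.toCech Y P = (SiteCech.toH₀ Y P).hom := by
  rw [CechEdge.toCech]
  refine congrArg AddCommGrpCat.Hom.hom ?_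
  change CechEdge.toCycles P Y ≫ _ = SiteCech.toH₀ Y P
  rw [SiteCech.toH₀, CechEdge.toCycles]
  congr 1
  rw [← cancel_mono ((CechEdge.cx P Y).iCycles 0)]
  simp [toCech₀_eq]

theorem toCech_bijective (hY : Sieve.ofArrows (fun i => (Y i).left) (fun i => (Y i).hom) ∈ J U)
    (F : Sheaf J AddCommGrpCat.{u}) : Function.Bijective (CechEdge.toCech Y F.obj) := by
  rw [toCech_eq]
  exact SiteCech.toH₀_bijective Y hY F

lemma cechHMap_toCech {P Q : Cᵒᵖ ⥤ AddCommGrpCat.{u}} (φ : P ⟶ Q) (s : P.obj (op U)) :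
    CechEdge.cechHMap Y φ 0 (CechEdge.toCech Y P s) = CechEdge.toCech Y Q (φ.app (op U) s) := by
  rw [toCech_eq, toCech_eq]
  exact (ConcreteCategory.congr_hom (SiteCech.toH₀_naturality Y φ) s).symm

lemma cechHMap_comp {P Q R : Cᵒᵖ ⥤ AddCommGrpCat.{u}} (φ : P ⟶ Q) (ψ : Q ⟶ R) (p : ℕ)
    (x : CohCx.cechH P Y p) :
    CechEdge.cechHMap Y (φ ≫ ψ) p x = CechEdge.cechHMap Y ψ p (CechEdge.cechHMap Y φ p x) := by
  simp only [CechEdge.cechHMap, Functor.map_comp, HomologicalComplex.homologyMap_comp]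
  rfl

set_option backward.isDefEq.respectTransparency false in
theorem cxFunctor_shortExact {S : ShortComplex (Cᵒᵖ ⥤ AddCommGrpCat.{u})} (hS : S.ShortExact) :
    (S.map (CechEdge.cxFunctor Y)).ShortExact := by
  have hV : ∀ V : Cᵒᵖ, (S.map ((evaluation _ _).obj V)).ShortExact := fun V => hS.map_of_exact _
  refine HomologicalComplex.shortExact_of_degreewise_shortExact _ fun n =>
    { exact := ?_, mono_f := ?_, epi_g := ?_ }
  · rw [ShortComplex.ab_exact_iff]
    intro b hb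
    obtain ⟨a, ha⟩ : ∃ a, SiteCech.mapC Y S.f n a = Cech.equiv Y _ n b := by
      choose a ha using fun t => (ShortComplex.ab_exact_iff _).1
        (hV (op (∏ᶜ (Y ∘ t)).left)).exact (Cech.equiv Y ((Over.forget U).op ⋙ S.X₂) n b t)
        (congrFun ((SiteCech.equiv_map Y S.g n b).symm.trans
          ((congrArg (Cech.equiv Y _ n) hb).trans (map_zero _))) t)
      exact ⟨a, funext ha⟩
    obtain ⟨a, rfl⟩ := (Cech.equiv Y ((Over.forget U).op ⋙ S.X₁) n).surjective a
    exact ⟨a, (Cech.equiv Y ((Over.forget U).op ⋙ S.X₂) n).injective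
      ((SiteCech.equiv_map Y S.f n a).trans ha)⟩
  · rw [AddCommGrpCat.mono_iff_injective]
    intro a b hab
    refine (Cech.equiv Y ((Over.forget U).op ⋙ S.X₁) n).injective (funext fun t => ?_)
    apply (AddCommGrpCat.mono_iff_injective _).1 (hV (op (∏ᶜ (Y ∘ t)).left)).mono_f
    exact congrFun ((SiteCech.equiv_map Y S.f n a).symm.trans
      ((congrArg (Cech.equiv Y _ n) hab).trans (SiteCech.equiv_map Y S.f n b))) t
  · rw [AddCommGrpCat.epi_iff_surjective]
    intro c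
    obtain ⟨b, hb⟩ : ∃ b, SiteCech.mapC Y S.g n b = Cech.equiv Y _ n c := by
      choose b hb using fun t => (AddCommGrpCat.epi_iff_surjective _).1
        (hV (op (∏ᶜ (Y ∘ t)).left)).epi_g (Cech.equiv Y ((Over.forget U).op ⋙ S.X₃) n c t)
      exact ⟨b, funext hb⟩
    obtain ⟨b, rfl⟩ := (Cech.equiv Y ((Over.forget U).op ⋙ S.X₂) n).surjective b
    exact ⟨b, (Cech.equiv Y ((Over.forget U).op ⋙ S.X₃) n).injective
      ((SiteCech.equiv_map Y S.g n b).trans hb)⟩

lemma HUmap_apply {F G : Sheaf J AddCommGrpCat.{u}} (ψ : F ⟶ G) (p : ℕ) (V : C)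
    (x : Ext (CohCx.freeSheaf J V) F p) :
    CechEdge.HUmap ψ p V x = x.comp (Ext.mk₀ ψ) (add_zero p) :=
  rfl

lemma HUmap_comp {F G H : Sheaf J AddCommGrpCat.{u}} (α : F ⟶ G) (β : G ⟶ H) (p : ℕ) (V : C)
    (x : Ext (CohCx.freeSheaf J V) F p) :
    CechEdge.HUmap (α ≫ β) p V x = CechEdge.HUmap β p V (CechEdge.HUmap α p V x) := by
  refine (HUmap_apply (α ≫ β) p V x).trans (Eq.trans ?_ (HUmap_apply β p V _).symm)
  change _ = (x.comp (Ext.mk₀ α) (add_zero p)).comp (Ext.mk₀ β) (add_zero p)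
  rw [← Ext.mk₀_comp_mk₀ α β, Ext.comp_assoc_of_third_deg_zero]

lemma HUmap_bijective {F G : Sheaf J AddCommGrpCat.{u}} (ψ : F ⟶ G) [IsIso ψ] (p : ℕ) (V : C) :
    Function.Bijective (CechEdge.HUmap ψ p V) := by
  refine Function.bijective_iff_has_inverse.2 ⟨CechEdge.HUmap (inv ψ) p V, fun x => ?_, fun x => ?_⟩
  · refine (HUmap_comp _ _ p V x).symm.trans ?_
    rw [IsIso.hom_inv_id]
    exact (HUmap_apply _ p V x).trans (Ext.comp_mk₀_id x)
  · refine (HUmap_comp _ _ p V x).symm.trans ?_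
    rw [IsIso.inv_hom_id]
    exact (HUmap_apply _ p V x).trans (Ext.comp_mk₀_id x)

lemma extδ_HUmap_g {S : ShortComplex (Sheaf J AddCommGrpCat.{u})} (hS : S.ShortExact) (V : C) (p : ℕ)
    (x : Ext (CohCx.freeSheaf J V) S.X₂ p) :
    CechEdge.extδ hS V p (CechEdge.HUmap S.g p V x) = 0 := by
  change (x.comp (Ext.mk₀ S.g) (add_zero p)).comp hS.extClass rfl = 0
  rw [Ext.comp_assoc_of_second_deg_zero, hS.comp_extClass, Ext.comp_zero]

lemma extδ_naturality {S T : ShortComplex (Sheaf J AddCommGrpCat.{u})} (hS : S.ShortExact)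
    (hT : T.ShortExact) (φ : S ⟶ T) (V : C) (p : ℕ) (x : Ext (CohCx.freeSheaf J V) S.X₃ p) :
    CechEdge.HUmap φ.τ₁ (p + 1) V (CechEdge.extδ hS V p x) =
      CechEdge.extδ hT V p (CechEdge.HUmap φ.τ₃ p V x) := by
  change (x.comp hS.extClass rfl).comp (Ext.mk₀ φ.τ₁) (add_zero (p + 1)) =
    (x.comp (Ext.mk₀ φ.τ₃) (add_zero p)).comp hT.extClass rfl
  rw [Ext.comp_assoc_of_third_deg_zero, ShortComplex.ShortExact.extClass_naturality hS hT φ,
    Ext.comp_assoc_of_second_deg_zero]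

instance isIso_shfMap_toSheafify (P : Cᵒᵖ ⥤ AddCommGrpCat.{u}) :
    IsIso (CechEdge.shfMap J (toSheafify J P)) :=
  (J.W_iff _).1 (J.W_toSheafify P)

scoped instance isGrothendieckAbelian_presheaf :
    IsGrothendieckAbelian.{u} (Cᵒᵖ ⥤ AddCommGrpCat.{u}) where
  ab5OfSize := ⟨fun _ _ _ => inferInstance⟩

/-- An injective presheaf containing `P`. -/
noncomputable abbrev preSES (P : Cᵒᵖ ⥤ AddCommGrpCat.{u}) : ShortComplex (Cᵒᵖ ⥤ AddCommGrpCat.{u}) :=
  ShortComplex.mk (Injective.ι P) (cokernel.π (Injective.ι P)) (cokernel.condition _)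

lemma preSES_shortExact (P : Cᵒᵖ ⥤ AddCommGrpCat.{u}) : (preSES P).ShortExact :=
  { exact := ShortComplex.exact_of_g_is_cokernel _ (cokernelIsCokernel (Injective.ι P))
    mono_f := inferInstance
    epi_g := inferInstance }

lemma preSES_δ_surjective (P : Cᵒᵖ ⥤ AddCommGrpCat.{u}) (p : ℕ) :
    Function.Surjective ((cxFunctor_shortExact Y (preSES_shortExact P)).δ p (p + 1) rfl).hom := by
  have h : IsZero (((preSES P).map (CechEdge.cxFunctor Y)).X₂.homology (p + 1)) :=
    CechInj.acyclic Y (Injective.under P) p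
  have := (cxFunctor_shortExact Y (preSES_shortExact P)).epi_δ p (p + 1) rfl h
  exact (AddCommGrpCat.epi_iff_surjective _).1 this

lemma δ_naturality_apply {S T : ShortComplex (Cᵒᵖ ⥤ AddCommGrpCat.{u})}
    (hS : (S.map (CechEdge.cxFunctor Y)).ShortExact) (hT : (T.map (CechEdge.cxFunctor Y)).ShortExact)
    (φ : S ⟶ T) (p : ℕ) (x : CohCx.cechH S.X₃ Y p) :
    CechEdge.cechHMap Y φ.τ₁ (p + 1) ((hS.δ p (p + 1) rfl).hom x) =
      (hT.δ p (p + 1) rfl).hom (CechEdge.cechHMap Y φ.τ₃ p x) :=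
  ConcreteCategory.congr_hom (HomologicalComplex.HomologySequence.δ_naturality
    ((CechEdge.cxFunctor Y).mapShortComplex.map φ) hS hT p (p + 1) rfl) x

theorem uniqueness {e e' : ∀ (P : Cᵒᵖ ⥤ AddCommGrpCat.{u}) (p : ℕ),
      CohCx.cechH P Y p →+ CohSite.HU (CechEdge.shf J P) p U}
    (he : CechEdge.IsEdge J Y e) (he' : CechEdge.IsEdge J Y e') : e = e' := by
  suffices ∀ (p : ℕ) (P : Cᵒᵖ ⥤ AddCommGrpCat.{u}) (x : CohCx.cechH P Y p), e P p x = e' P p x from
    funext fun P => funext fun p => AddMonoidHom.ext (this p P)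
  intro p
  induction p with
  | zero =>
    intro P x
    apply (HUmap_bijective (CechEdge.shfMap J (toSheafify J P)) 0 U).1
    rw [← he.natural, ← he'.natural]
    obtain ⟨s, hs⟩ := (toCech_bijective Y he.cover (CechEdge.shf J P)).2
      (CechEdge.cechHMap Y (toSheafify J P) 0 x)
    exact (congrArg (e _ 0) hs.symm).trans
      ((he.zero _ s).trans ((he'.zero _ s).symm.trans (congrArg (e' _ 0) hs)))
  | succ p ih =>
    intro P x
    obtain ⟨y, rfl⟩ := preSES_δ_surjective Y P p x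
    exact (he.delta _ (preSES_shortExact P) _ p y).trans
      ((congrArg _ (ih _ y)).trans (he'.delta _ (preSES_shortExact P) _ p y).symm)

end Groth.Agent.Fib44.Edge
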