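import Groth.Agent.Fib44.ExtProjRes
import Groth.Agent.Fib44.CechResolution
import Groth.Agent.Fib44.EdgeBasic
import Mathlib.CategoryTheory.Abelian.GrothendieckCategory.HasExt
import Mathlib.CategoryTheory.Adjunction.Additive

/-!
Čech cohomology of a family is `Ext` out of the free presheaf on the generated sieve.
-/

set_option autoImplicit false

universe u

open CategoryTheory CategoryTheory.Limits Opposite CategoryTheory.Abelian

namespace Groth.Agent.Fib44.CechRes

open scoped Groth.Agent.Fib44.Edge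

variable {C : Type u} [SmallCategory C] [HasPullbacks C] {U : C} {ι : Type u} (Y : ι → Over U)

/-- Cochains of the Čech complex as morphisms out of the resolution. -/
noncomputable def eCx (P : Cᵒᵖ ⥤ AddCommGrpCat.{u}) (n : ℕ) :
    ((cechComplexFunctor Y).obj ((Over.forget U).op ⋙ P)).X n ≃+ ((cx Y).X n ⟶ P) :=
  (Cech.equiv Y _ n).trans (cochainEquiv Y n).symm

lemma eCx_d (P : Cᵒᵖ ⥤ AddCommGrpCat.{u}) (n : ℕ)
    (x : ((cechComplexFunctor Y).obj ((Over.forget U).op ⋙ P)).X n) :
    eCx Y P (n + 1) (((cechComplexFunctor Y).obj ((Over.forget U).op ⋙ P)).d n (n + 1) x) =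
      (cx Y).d (n + 1) n ≫ eCx Y P n x := by
  rw [cx_d]
  apply (cochainEquiv Y (n + 1)).injective
  refine ((cochainEquiv Y (n + 1)).apply_symm_apply _).trans ?_
  change _ = cochain Y (n + 1) (CechInj.dZ Y n ≫ (cochainEquiv Y n).symm (Cech.equiv Y _ n x))
  rw [cochain_dZ]
  refine Eq.trans ?_ (congrArg (SiteCech.dC Y P n) ((cochainEquiv Y n).apply_symm_apply _).symm)
  exact funext fun a => (Cech.equiv_d Y _ n x a).trans (SiteCech.dC_apply Y P n _ a).symm

/-- Čech cohomology is `Ext` of presheaves out of the free presheaf on the sieve. -/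
noncomputable def cechEquivExt (P : Cᵒᵖ ⥤ AddCommGrpCat.{u}) (p : ℕ) :
    CohCx.cechH P Y p ≃+ Ext.{u} (ZR Y) P p :=
  ExtProjRes.homologyEquiv (resolution Y) (eCx Y P) (eCx_d Y P) p

section Map

variable {D : Type*} [Category.{u} D] [Abelian D] {F : (Cᵒᵖ ⥤ AddCommGrpCat.{u}) ⥤ D}
  {G : D ⥤ (Cᵒᵖ ⥤ AddCommGrpCat.{u})} (adj : F ⊣ G) [F.Additive] [F.PreservesHomology]
  [G.PreservesEpimorphisms]

/-- The resolution transported by an exact left adjoint. -/
noncomputable def mapResolution : ProjectiveResolution (F.obj (ZR Y)) where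
  complex := (F.mapHomologicalComplex _).obj (cx Y)
  projective n := adj.map_projective _ (cx_projective Y n)
  π := (F.mapHomologicalComplex _).map (cxAug Y) ≫
    (HomologicalComplex.singleMapHomologicalComplex F (ComplexShape.down ℕ) 0).hom.app (ZR Y)

/-- Čech cohomology of the underlying presheaf as `Ext`. -/
noncomputable def cechEquivExtMap [HasExt.{u} D] (M : D) (p : ℕ) :
    CohCx.cechH (G.obj M) Y p ≃+ Ext.{u} (F.obj (ZR Y)) M p :=
  ExtProjRes.homologyEquiv (mapResolution Y adj)
    (fun n => (eCx Y (G.obj M) n).trans (adj.homAddEquiv ((cx Y).X n) M).symm)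
    (fun n x => by
      change (adj.homAddEquiv _ M).symm (eCx Y (G.obj M) (n + 1) _) =
        F.map ((cx Y).d (n + 1) n) ≫ (adj.homAddEquiv _ M).symm (eCx Y (G.obj M) n x)
      rw [eCx_d, Adjunction.homAddEquiv_symm_apply, Adjunction.homAddEquiv_symm_apply,
        Adjunction.homEquiv_naturality_left_symm]) p

end Map

end Groth.Agent.Fib44.CechRes
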