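import Groth.Prelude.Def_CohCx
import Groth.Agent.SiteCoh.Free
import Groth.Agent.Fib44.CechExplicit

/-!
Vanishing of first Čech cohomology of the kernel implies surjectivity on sections.
-/

set_option autoImplicit false

universe u

open CategoryTheory CategoryTheory.Limits Opposite

namespace Groth.Agent.Fib44

variable {C : Type u} [SmallCategory C] {J : GrothendieckTopology C}
variable (S : ShortComplex (Sheaf J AddCommGrpCat.{u}))

theorem exists_sections_preimage (hS : S.ShortExact) (V : C) (x : S.X₂.obj.obj (op V))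
    (hx : S.g.hom.app (op V) x = 0) :
    Function.Injective (S.f.hom.app (op V)) ∧ ∃ y, S.f.hom.app (op V) y = x := by
  let G : Sheaf J AddCommGrpCat.{u} ⥤ AddCommGrpCat.{u} :=
    sheafToPresheaf J AddCommGrpCat.{u} ⋙ (evaluation _ _).obj (op V)
  have hl : PreservesFiniteLimits (sheafToPresheaf J AddCommGrpCat.{u}) :=
    ⟨fun _ _ _ => (sheafificationAdjunction J AddCommGrpCat.{u}).rightAdjoint_preservesLimits.preservesLimitsOfShape⟩
  have : PreservesFiniteLimits G := comp_preservesFiniteLimits _ _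
  have : G.Additive := inferInstance
  have h := (((Functor.preservesFiniteLimits_tfae G).out 3 0).1 ‹PreservesFiniteLimits G› :
    ∀ (S : ShortComplex (Sheaf J AddCommGrpCat.{u})), S.ShortExact →
      (S.map G).Exact ∧ Mono (G.map S.f)) S hS
  refine ⟨(AddCommGrpCat.mono_iff_injective _).1 h.2, ?_⟩
  exact (ShortComplex.ab_exact_iff _).1 h.1 x hx

lemma res_res (F : Sheaf J AddCommGrpCat.{u}) {X Y Z : C} (f : Y ⟶ X) (g : Z ⟶ Y)
    (x : F.obj.obj (op X)) :
    F.obj.map g.op (F.obj.map f.op x) = F.obj.map (g ≫ f).op x := by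
  rw [op_comp, F.obj.map_comp]
  rfl

variable [HasPullbacks C]

set_option backward.isDefEq.respectTransparency false in
set_option backward.isDefEq.respectTransparency.types false in
theorem surjective_of_cechH_one (hS : S.ShortExact) (U : C)
    (h : ∀ T ∈ J U, ∃ (ι : Type u) (Yf : ι → Over U), (∀ i, T.arrows (Yf i).hom) ∧
      Sieve.ofArrows (fun i => (Yf i).left) (fun i => (Yf i).hom) ∈ J U ∧
      IsZero (CohCx.cechH S.X₁.obj Yf 1)) :
    Function.Surjective (S.g.hom.app (op U)) := by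
  intro s
  have : Epi S.g := hS.epi_g
  obtain ⟨T, hT⟩ := SiteCoh.exists_local_lift S.g s
  obtain ⟨ι, Yf, hYT, hcov, hH⟩ := h T.1 T.2
  choose t ht using fun i => hT ⟨_, _, hYT i⟩
  let pr : ∀ {n : ℕ} (a : Fin n → ι) (k : Fin n), (∏ᶜ (Yf ∘ a)).left ⟶ (Yf (a k)).left :=
    fun a k => (Pi.π (Yf ∘ a) k).left
  let v : ∀ {n : ℕ} (a : Fin n → ι) (k : Fin n), S.X₂.obj.obj (op (∏ᶜ (Yf ∘ a)).left) :=
    fun a k => S.X₂.obj.map (pr a k).op (t (a k))
  have hv : ∀ {n : ℕ} (a : Fin n → ι) (k : Fin n), S.g.hom.app (op (∏ᶜ (Yf ∘ a)).left) (v a k) =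
      S.X₃.obj.map (∏ᶜ (Yf ∘ a)).hom.op s := fun {n} a k =>
    ((NatTrans.naturality_apply S.g.hom (pr a k).op (t (a k))).trans
      ((congrArg (S.X₃.obj.map (pr a k).op) (ht (a k))).trans
        (res_res S.X₃ _ _ s))).trans
      (congrArg (fun m => S.X₃.obj.map (Quiver.Hom.op m) s) (Over.w (Pi.π (Yf ∘ a) k)))
  have hvface : ∀ {n m : ℕ} (a : Fin (m + 1) → ι) (g : Fin (n + 1) → Fin (m + 1)) (k : Fin (n + 1)),
      S.X₂.obj.map (Cech.face Yf a g).left.op (v (a ∘ g) k) = v a (g k) := fun a g k =>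
    (res_res S.X₂ _ _ (t (a (g k)))).trans
      (congrArg (fun m : (∏ᶜ (Yf ∘ a)).left ⟶ (Yf (a (g k))).left => S.X₂.obj.map m.op (t (a (g k))))
        ((Over.comp_left _ _ _ _ _).symm.trans
          (congrArg CommaMorphism.left (Pi.lift_π (fun k => Pi.π (Yf ∘ a) (g k)) k))))
  have hpre := fun a : Fin 2 → ι => exists_sections_preimage S hS (∏ᶜ (Yf ∘ a)).left (v a 1 - v a 0)
    (by rw [map_sub, hv, hv, sub_self])
  choose hinj c hc using hpre
  have hH' := (Cech.isZero_homology_succ_iff Yf ((Over.forget U).op ⋙ S.X₁.obj) 0).1 hH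
  obtain ⟨b, hb⟩ := hH' c fun a => by
    apply (exists_sections_preimage S hS (∏ᶜ (Yf ∘ a)).left 0 (map_zero _)).1
    have key : ∀ g : Fin 2 → Fin 3, S.f.hom.app (op (∏ᶜ (Yf ∘ a)).left)
        (((Over.forget U).op ⋙ S.X₁.obj).map (Cech.face Yf a g).op (c (a ∘ g))) =
        v a (g 1) - v a (g 0) := fun g => by
      refine (NatTrans.naturality_apply S.f.hom (Cech.face Yf a g).left.op (c (a ∘ g))).trans ?_
      rw [hc, map_sub, hvface, hvface]
    rw [map_sum, map_zero, Fin.sum_univ_three]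
    simp only [map_zsmul, key]
    rw [show (Fin.succAbove (0 : Fin 3) (0 : Fin 2)) = 1 from rfl,
      show (Fin.succAbove (0 : Fin 3) (1 : Fin 2)) = 2 from rfl,
      show (Fin.succAbove (1 : Fin 3) (0 : Fin 2)) = 0 from rfl,
      show (Fin.succAbove (1 : Fin 3) (1 : Fin 2)) = 2 from rfl,
      show (Fin.succAbove (2 : Fin 3) (0 : Fin 2)) = 0 from rfl,
      show (Fin.succAbove (2 : Fin 3) (1 : Fin 2)) = 1 from rfl]
    simp only [Fin.val_zero, Fin.val_one, Fin.val_two, pow_zero, pow_one, one_smul, neg_smul,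
      neg_one_sq]
    abel
  let τ : ∀ a₀ : Fin 1 → ι, S.X₂.obj.obj (op (∏ᶜ (Yf ∘ a₀)).left) := fun a₀ =>
    v a₀ 0 - S.f.hom.app (op (∏ᶜ (Yf ∘ a₀)).left) (b a₀)
  have hnat : ∀ (a : Fin 2 → ι) (g : Fin 1 → Fin 2),
      S.X₂.obj.map (Cech.face Yf a g).left.op (τ (a ∘ g)) =
        v a (g 0) - S.f.hom.app (op (∏ᶜ (Yf ∘ a)).left) (((Over.forget U).op ⋙ S.X₁.obj).map (Cech.face Yf a g).op (b (a ∘ g))) :=
    fun a g => by
      refine (map_sub _ _ _).trans ?_
      rw [hvface]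
      exact congrArg _ (NatTrans.naturality_apply S.f.hom (Cech.face Yf a g).left.op (b (a ∘ g))).symm
  have hrel : ∀ a : Fin 2 → ι,
      S.X₂.obj.map (Cech.face Yf a (Fin.succAbove 0)).left.op (τ (a ∘ Fin.succAbove 0)) =
        S.X₂.obj.map (Cech.face Yf a (Fin.succAbove 1)).left.op (τ (a ∘ Fin.succAbove 1)) := fun a => by
    have e := congrArg (S.f.hom.app (op (∏ᶜ (Yf ∘ a)).left)) (hb a)
    rw [Fin.sum_univ_two] at e
    simp only [Fin.val_zero, pow_zero, one_smul, Fin.val_one, pow_one, neg_smul] at e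
    rw [map_add, map_neg, hc] at e
    rw [hnat, hnat, show (Fin.succAbove (0 : Fin 2) 0) = 1 from rfl,
      show (Fin.succAbove (1 : Fin 2) 0) = 0 from rfl, ← sub_eq_zero, ← sub_eq_zero.2 e.symm]
    abel
  let q : ∀ a₀ : Fin 1 → ι, (∏ᶜ (Yf ∘ a₀)).left ⟶ U := fun a₀ => (∏ᶜ (Yf ∘ a₀)).hom
  have hcov' : Sieve.ofArrows (fun a₀ : Fin 1 → ι => (∏ᶜ (Yf ∘ a₀)).left) q ∈ J U := by
    refine J.superset_covering ((Sieve.generate_le_iff _ _).2 ?_) hcov
    rintro W m ⟨i⟩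
    exact ⟨_, (Pi.lift (P := Yf i) (f := Yf ∘ fun _ : Fin 1 => i) fun _ => 𝟙 (Yf i)).left, q _,
      ⟨fun _ => i⟩, Over.w (Pi.lift (P := Yf i) (f := Yf ∘ fun _ : Fin 1 => i) fun _ => 𝟙 (Yf i))⟩
  have hsheaf : ∀ F : Sheaf J AddCommGrpCat.{u}, Presieve.IsSheafFor
      (F.obj ⋙ forget AddCommGrpCat.{u}) (Presieve.ofArrows _ q) := fun F => by
    rw [Presieve.isSheafFor_iff_generate]
    exact ((isSheaf_iff_isSheaf_of_type _ _).1
      ((sheafCompose J (forget AddCommGrpCat.{u})).obj F).property) _ hcov'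
  have hcomp : Presieve.Arrows.Compatible (S.X₂.obj ⋙ forget AddCommGrpCat.{u}) q τ := by
    intro a₀ a₁ Z gi gj hij
    obtain ⟨a, rfl, rfl⟩ : ∃ a : Fin 2 → ι, a ∘ Fin.succAbove 1 = a₀ ∧ a ∘ Fin.succAbove 0 = a₁ :=
      ⟨![a₀ 0, a₁ 0], funext fun k => by fin_cases k; rfl, funext fun k => by fin_cases k; rfl⟩
    let gi' : Over.mk (gi ≫ q _) ⟶ ∏ᶜ (Yf ∘ (a ∘ Fin.succAbove (1 : Fin 2))) := Over.homMk gi rfl
    let gj' : Over.mk (gi ≫ q _) ⟶ ∏ᶜ (Yf ∘ (a ∘ Fin.succAbove (0 : Fin 2))) :=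
      Over.homMk gj hij.symm
    let l : Over.mk (gi ≫ q _) ⟶ ∏ᶜ (Yf ∘ a) :=
      Pi.lift fun k => Fin.cases (gi' ≫ Pi.π _ 0) (fun k => Fin.cases (gj' ≫ Pi.π _ 0) (fun k => k.elim0) k) k
    have hl0 : l ≫ Cech.face Yf a (Fin.succAbove 1) = gi' := by
      refine Pi.hom_ext _ _ fun k => ?_
      obtain rfl : k = 0 := Fin.ext (Nat.lt_one_iff.1 k.isLt)
      rw [Category.assoc, Pi.lift_π]
      exact Pi.lift_π _ _
    have hl1 : l ≫ Cech.face Yf a (Fin.succAbove 0) = gj' := by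
      refine Pi.hom_ext _ _ fun k => ?_
      obtain rfl : k = 0 := Fin.ext (Nat.lt_one_iff.1 k.isLt)
      rw [Category.assoc, Pi.lift_π]
      exact Pi.lift_π _ _
    have e := congrArg (S.X₂.obj.map l.left.op) (hrel a)
    rw [res_res, res_res, ← Over.comp_left, ← Over.comp_left, hl0, hl1] at e
    exact e.symm
  obtain ⟨g0, hg0, -⟩ := (Presieve.isSheafFor_arrows_iff _ q).1 (hsheaf S.X₂) τ hcomp
  refine ⟨g0, ((hsheaf S.X₃).isSeparatedFor.ext ?_)⟩
  rintro _ _ ⟨a₀⟩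
  refine ((NatTrans.naturality_apply S.g.hom (q a₀).op g0).symm).trans ?_
  refine (congrArg (S.g.hom.app _) (hg0 a₀)).trans ?_
  have h0 : ∀ z, S.g.hom.app (op (∏ᶜ (Yf ∘ a₀)).left) (S.f.hom.app _ z) = 0 := fun z =>
    ConcreteCategory.congr_hom (NatTrans.congr_app (congrArg InducedCategory.Hom.hom S.zero) _) z
  simp only [τ]
  rw [map_sub, hv, h0, sub_zero]
  rfl

end Groth.Agent.Fib44
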