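import Groth.Agent.Fib44.NerveCech

/-!
A sheaf with acyclic Čech complexes along all epimorphisms of sheaves of sets is totally acyclic.
-/

set_option autoImplicit false

universe u

open CategoryTheory CategoryTheory.Limits Opposite AlgebraicTopology Simplicial CategoryTheory.Abelian

namespace Groth.Agent.Fib44

variable {C : Type u} [SmallCategory C] {J : GrothendieckTopology C}

set_option backward.isDefEq.respectTransparency false in
set_option backward.isDefEq.respectTransparency.types false in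
/-- A morphism out of a free abelian sheaf lifts along an epimorphism after pulling back along an
epimorphism of sheaves of sets. -/
theorem exists_epi_lift {I G : Sheaf J AddCommGrpCat.{u}} (g : I ⟶ G) [Epi g] {K : Sheaf J (Type u)}
    (c : (SiteCoh.freeAb J).obj K ⟶ G) :
    ∃ (K' : Sheaf J (Type u)) (f : K' ⟶ K), Epi f ∧
      ∃ b : (SiteCoh.freeAb J).obj K' ⟶ I, (SiteCoh.freeAb J).map f ≫ c = b ≫ g := by
  let adj := SiteCoh.freeAbAdj J
  let c' : K.obj ⟶ G.obj ⋙ forget AddCommGrpCat.{u} := (adj.homEquiv K G c).hom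
  let g' : I.obj ⋙ forget AddCommGrpCat.{u} ⟶ G.obj ⋙ forget AddCommGrpCat.{u} :=
    ((sheafCompose J (forget AddCommGrpCat.{u})).map g).hom
  let P := pullback c' g'
  let sh := sheafificationAdjunction J (Type u)
  let f : (presheafToSheaf J (Type u)).obj P ⟶ K := (sh.homEquiv P K).symm (pullback.fst c' g')
  let b' : (presheafToSheaf J (Type u)).obj P ⟶ (sheafCompose J (forget AddCommGrpCat.{u})).obj I :=
    (sh.homEquiv P ((sheafCompose J (forget AddCommGrpCat.{u})).obj I)).symm (pullback.snd c' g')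
  refine ⟨(presheafToSheaf J (Type u)).obj P, f, ?_, (adj.homEquiv _ I).symm b', ?_⟩
  · have h0 : toSheafify J P ≫ f.hom = pullback.fst c' g' :=
      (sh.homEquiv P K).apply_symm_apply (pullback.fst c' g')
    have hg : Sheaf.IsLocallySurjective g :=
      (Sheaf.isLocallySurjective_iff_epi' AddCommGrpCat.{u} g).2 ‹_›
    have h1 : Presheaf.IsLocallySurjective J (pullback.fst c' g') := by
      constructor
      intro U s
      refine J.superset_covering ?_ (Presheaf.imageSieve_mem J g.hom (c'.app (op U) s))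
      rintro V i ⟨t, ht⟩
      have hc : yonedaEquiv.symm (K.obj.map i.op s) ≫ c' = yonedaEquiv.symm t ≫ g' := by
        apply yonedaEquiv.injective
        rw [yonedaEquiv_comp, yonedaEquiv_comp, Equiv.apply_symm_apply, Equiv.apply_symm_apply]
        exact (NatTrans.naturality_apply c' i.op s).trans ht.symm
      refine ⟨yonedaEquiv (pullback.lift _ _ hc), ?_⟩
      rw [← yonedaEquiv_comp, pullback.lift_fst, Equiv.apply_symm_apply]
    have : Presheaf.IsLocallySurjective J (toSheafify J P ≫ f.hom) := h0 ▸ h1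
    have : Sheaf.IsLocallySurjective f :=
      Presheaf.isLocallySurjective_of_isLocallySurjective J (toSheafify J P) f.hom
    exact (Sheaf.isLocallySurjective_iff_epi f).1 this
  · apply (adj.homEquiv _ _).injective
    rw [Adjunction.homEquiv_naturality_left, Adjunction.homEquiv_naturality_right,
      Equiv.apply_symm_apply]
    apply (sh.homEquiv _ _).injective
    rw [Adjunction.homEquiv_naturality_right, Adjunction.homEquiv_naturality_right,
      Equiv.apply_symm_apply, Equiv.apply_symm_apply]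
    exact pullback.condition

/-- Elementwise Čech acyclicity along all epimorphisms. -/
def CechAcyclic (F : Sheaf J AddCommGrpCat.{u}) : Prop :=
  ∀ (K' K : Sheaf J (Type u)) (f : K' ⟶ K), Epi f → ∀ (n : ℕ)
    (x : (freeNerveCx f).X (n + 1) ⟶ F), (freeNerveCx f).d (n + 2) (n + 1) ≫ x = 0 →
      ∃ y : (freeNerveCx f).X n ⟶ F, (freeNerveCx f).d (n + 1) n ≫ y = x

theorem cechAcyclic_of_isZero (F : Sheaf J AddCommGrpCat.{u})
    (h : ∀ (K' K : Sheaf J (Type u)) (f : K' ⟶ K), Epi f →
      ∀ q : ℕ, IsZero ((CohCx.cechNerveCx F f).homology (q + 1))) : CechAcyclic F :=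
  fun K' K f hf n => (isZero_cech_homology_iff f F n).1 (h K' K f hf n)

theorem isTotallyAcyclic_of_injective (I : Sheaf J AddCommGrpCat.{u}) [Injective I] :
    CohCx.IsTotallyAcyclic I :=
  fun K p => Ext.subsingleton_of_injective _ I p

set_option backward.isDefEq.respectTransparency false in
set_option backward.isDefEq.respectTransparency.types false in
theorem hk_one (F : Sheaf J AddCommGrpCat.{u}) (hF : CechAcyclic F) (K : Sheaf J (Type u)) :
    Subsingleton (CohCx.HK K F 1) := by
  refine subsingleton_of_forall_eq 0 fun x => ?_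
  have hS := SiteCoh.injSES_shortExact F
  have : Mono (SiteCoh.injSES F).f := hS.mono_f
  have : Epi (SiteCoh.injSES F).g := hS.epi_g
  have : Subsingleton (Ext.{u} ((SiteCoh.freeAb J).obj K) (SiteCoh.injSES F).X₂ (0 + 1)) :=
    Ext.subsingleton_of_injective _ (Injective.under F) 0
  obtain ⟨c', rfl⟩ := SiteCoh.exists_comp_extClass hS ((SiteCoh.freeAb J).obj K) 0 x
  obtain ⟨c, rfl⟩ := (Ext.mk₀_bijective _ _).2 c'
  suffices ∃ y, y ≫ (SiteCoh.injSES F).g = c by
    obtain ⟨y, rfl⟩ := this
    rw [← Ext.mk₀_comp_mk₀, Ext.comp_assoc_of_second_deg_zero, hS.comp_extClass, Ext.comp_zero]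
  obtain ⟨K', f, hf, b, hb⟩ := exists_epi_lift (SiteCoh.injSES F).g c
  let π₀ : (Arrow.mk f).cechNerve.obj (op ⦋0⦌) ⟶ K' :=
    WidePullback.π (fun _ : Fin (0 + 1) => f) 0
  let b0 : (freeNerveCx f).X 0 ⟶ (SiteCoh.injSES F).X₂ := (SiteCoh.freeAb J).map π₀ ≫ b
  have haug : (SiteCoh.freeAb J).map π₀ ≫ (SiteCoh.freeAb J).map f = freeAug f := by
    rw [← Functor.map_comp]
    refine (congrArg ((SiteCoh.freeAb J).map) (base_eq f (op ⦋0⦌)).symm).trans ?_
    exact (Category.comp_id _).symm
  have hb0 : b0 ≫ (SiteCoh.injSES F).g = freeAug f ≫ c := by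
    refine (Category.assoc _ _ _).trans ((congrArg (fun t => _ ≫ t) hb.symm).trans ?_)
    exact (Category.assoc _ _ _).symm.trans (congrArg (fun t => t ≫ c) haug)
  clear_value b0
  have hw : (freeNerveCx f).d 1 0 ≫ freeAug f = 0 := by
    have := quasiIso_freeNerve f
    obtain ⟨w, -⟩ := resolution_zero (P := freeNerveCx f) (Q := (SiteCoh.freeAb J).obj K)
      (AlternatingFaceMapComplex.ε.app (freeNerve f))
    simpa only [augMap, AlternatingFaceMapComplex.ε_app_f_zero] using w
  have h1 : ((freeNerveCx f).d 1 0 ≫ b0) ≫ (SiteCoh.injSES F).g = 0 := by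
    rw [Category.assoc, hb0, ← Category.assoc, hw, zero_comp]
  let a : (freeNerveCx f).X 1 ⟶ F := hS.exact.lift _ h1
  have ha : a ≫ (SiteCoh.injSES F).f = (freeNerveCx f).d 1 0 ≫ b0 := hS.exact.lift_f _ h1
  have hcoc : (freeNerveCx f).d 2 1 ≫ a = 0 := by
    refine (cancel_mono (SiteCoh.injSES F).f).1 ?_
    refine (Category.assoc _ _ _).trans ?_
    rw [ha, ← Category.assoc, HomologicalComplex.d_comp_d, zero_comp, zero_comp]
  obtain ⟨a0, ha0'⟩ := hF K' K f hf 0 a hcoc
  have ha0 : (freeNerveCx f).d 1 0 ≫ a0 = a := ha0'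
  have h2 : (freeNerveCx f).d 1 0 ≫ (b0 - a0 ≫ (SiteCoh.injSES F).f) = 0 := by
    rw [Preadditive.comp_sub, ← Category.assoc, ha0, ha, sub_self]
  obtain ⟨y, hy, -⟩ := cech_desc f _ _ h2
  refine ⟨y, ?_⟩
  have h3 : (freeNerveCx f).d 1 0 ≫ (freeAug f ≫ c) = 0 := by
    rw [← Category.assoc, hw, zero_comp]
  refine (cech_desc f _ _ h3).unique ?_ rfl
  rw [← Category.assoc, hy, Preadditive.sub_comp, Category.assoc, ShortComplex.zero, comp_zero,
    sub_zero, hb0]

set_option backward.isDefEq.respectTransparency false in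
set_option backward.isDefEq.respectTransparency.types false in
theorem cechAcyclic_cokernel (F : Sheaf J AddCommGrpCat.{u}) (hF : CechAcyclic F) :
    CechAcyclic (SiteCoh.injSES F).X₃ := by
  intro K' K f hf n x hx
  have hS := SiteCoh.injSES_shortExact F
  have : Mono (SiteCoh.injSES F).f := hS.mono_f
  have : Injective (SiteCoh.injSES F).X₂ := inferInstanceAs (Injective (Injective.under F))
  have h1 : (Ext.mk₀ x).comp hS.extClass (zero_add 1) = 0 :=
    @Subsingleton.elim _ (hk_one F hF ((Arrow.mk f).cechNerve.obj (op ⦋n + 1⦌))) _ _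
  obtain ⟨x', hx'⟩ := Ext.covariant_sequence_exact₃ _ hS (Ext.mk₀ x) rfl h1
  obtain ⟨x', rfl⟩ := (Ext.mk₀_bijective _ _).2 x'
  rw [Ext.mk₀_comp_mk₀] at hx'
  have hx'' : x' ≫ (SiteCoh.injSES F).g = x := (Ext.mk₀_bijective _ _).1 hx'
  subst hx''
  have h2 : ((freeNerveCx f).d (n + 2) (n + 1) ≫ x') ≫ (SiteCoh.injSES F).g = 0 := by
    rw [Category.assoc]; exact hx
  let a : (freeNerveCx f).X (n + 2) ⟶ F := hS.exact.lift _ h2
  have ha : a ≫ (SiteCoh.injSES F).f = (freeNerveCx f).d (n + 2) (n + 1) ≫ x' :=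
    hS.exact.lift_f _ h2
  have hcoc : (freeNerveCx f).d (n + 3) (n + 2) ≫ a = 0 := by
    refine (cancel_mono (SiteCoh.injSES F).f).1 ?_
    refine (Category.assoc _ _ _).trans ?_
    rw [ha, ← Category.assoc, HomologicalComplex.d_comp_d, zero_comp, zero_comp]
  obtain ⟨a0, ha0'⟩ := hF K' K f hf (n + 1) a hcoc
  have ha0 : (freeNerveCx f).d (n + 2) (n + 1) ≫ a0 = a := ha0'
  have h3 : (freeNerveCx f).d (n + 2) (n + 1) ≫ (x' - a0 ≫ (SiteCoh.injSES F).f) = 0 := by
    rw [Preadditive.comp_sub, ← Category.assoc, ha0, ha, sub_self]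
  obtain ⟨y, hy⟩ := cech_preimage f (SiteCoh.injSES F).X₂
    (isTotallyAcyclic_of_injective _) n _ h3
  refine ⟨y ≫ (SiteCoh.injSES F).g, ?_⟩
  rw [← Category.assoc, hy, Preadditive.sub_comp, Category.assoc, ShortComplex.zero, comp_zero,
    sub_zero]

theorem isTotallyAcyclic_of_cechAcyclic (p : ℕ) :
    ∀ (F : Sheaf J AddCommGrpCat.{u}), CechAcyclic F → ∀ K : Sheaf J (Type u),
      Subsingleton (CohCx.HK K F (p + 1)) := by
  induction p with
  | zero => exact fun F hF K => hk_one F hF K
  | succ p ih =>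
    intro F hF K
    refine subsingleton_of_forall_eq 0 fun x => ?_
    have hS := SiteCoh.injSES_shortExact F
    have : Subsingleton (Ext.{u} ((SiteCoh.freeAb J).obj K) (SiteCoh.injSES F).X₂ (p + 1 + 1)) :=
      Ext.subsingleton_of_injective _ (Injective.under F) (p + 1)
    obtain ⟨z, rfl⟩ := SiteCoh.exists_comp_extClass hS ((SiteCoh.freeAb J).obj K) (p + 1) x
    rw [@Subsingleton.elim _ (ih _ (cechAcyclic_cokernel F hF) K) z 0, Ext.zero_comp]

end Groth.Agent.Fib44
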