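import Mathlib.CategoryTheory.Sites.CoversTop.Basic
import Mathlib.Logic.Small.Basic
import Mathlib.Algebra.Category.Grp.Basic
import Groth.Prelude.Def_NonAbH1

/-!
Torsors trivialised by a family of objects and Čech classes.
-/

universe w' w v u

open CategoryTheory Opposite

namespace Groth.Agent.Fib44

variable {C : Type u} [Category.{v} C] {J : GrothendieckTopology C} {G : Sheaf J GrpCat.{w}}
variable {I : Type w'} {U : I → C}

/-- The free group on one generator. -/
abbrev oneGen : GrpCat.{w} := GrpCat.of (ULift.{w} (Multiplicative ℤ))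

/-- The homomorphism from the free group on one generator with prescribed value. -/
def genHom {H : GrpCat.{w}} (x : H) : oneGen.{w} ⟶ H :=
  GrpCat.ofHom ((zpowersHom H x).comp MulEquiv.ulift.toMonoidHom)

/-- The generator. -/
def gen : oneGen.{w} := ULift.up (Multiplicative.ofAdd (1 : ℤ))

theorem genHom_gen {H : GrpCat.{w}} (x : H) : genHom x gen = x := zpow_one x

theorem genHom_comp {H H' : GrpCat.{w}} (x : H) (f : H ⟶ H') : genHom x ≫ f = genHom (f x) := by
  refine GrpCat.hom_ext (MonoidHom.ext fun n => ?_)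
  exact map_zpow f.hom x n.down.toAdd

theorem eq_genHom {H : GrpCat.{w}} (m : oneGen.{w} ⟶ H) : m = genHom (m gen) := by
  refine GrpCat.hom_ext (MonoidHom.ext fun n => ?_)
  change m n = (m gen) ^ n.down.toAdd
  rw [← map_zpow m.hom]
  congr 1
  refine ULift.ext _ _ (Multiplicative.toAdd.injective ?_)
  simp [gen, oneGen]

/-- Compatible families of a sheaf of groups glue uniquely. -/
theorem grp_glue {X : C} {S : Sieve X} (hS : S ∈ J X)
    (x : ∀ ⦃Y : C⦄ (f : Y ⟶ X), S f → G.obj.obj (op Y))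
    (hx : ∀ ⦃Z Y : C⦄ (k : Z ⟶ Y) (f : Y ⟶ X) (hf : S f),
      G.obj.map k.op (x f hf) = x (k ≫ f) (S.downward_closed hf k)) :
    ∃! g : G.obj.obj (op X), ∀ ⦃Y : C⦄ (f : Y ⟶ X) (hf : S f), G.obj.map f.op g = x f hf := by
  have hsh := G.property oneGen.{w} S hS
  obtain ⟨m, hm, hu⟩ := hsh (fun Y f hf => genHom (x f hf))
    ((Presieve.compatible_iff_sieveCompatible _).mpr fun Y Z f k hf => by
      change genHom (x (k ≫ f) _) = genHom (x f hf) ≫ G.obj.map k.op
      rw [genHom_comp, hx k f hf])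
  let m' : oneGen.{w} ⟶ G.obj.obj (op X) := m
  refine ⟨m' gen, fun Y f hf => ?_, fun g hg => ?_⟩
  · have e : m' ≫ G.obj.map f.op = genHom (x f hf) := hm f hf
    exact (ConcreteCategory.congr_hom e gen).trans (genHom_gen _)
  · have e : genHom g = m' := hu (genHom g) fun Y f hf => ?_
    · exact (genHom_gen g).symm.trans (ConcreteCategory.congr_hom e gen)
    change genHom g ≫ G.obj.map f.op = genHom (x f hf)
    rw [genHom_comp, hg f hf]

theorem grp_ext {X : C} {S : Sieve X} (hS : S ∈ J X) {a b : G.obj.obj (op X)}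
    (h : ∀ ⦃Y : C⦄ (f : Y ⟶ X), S f → G.obj.map f.op a = G.obj.map f.op b) : a = b := by
  obtain ⟨g, -, hu⟩ := grp_glue hS (fun Y f _ => G.obj.map f.op b) fun Z Y k f _ => by simp
  exact (hu a h).trans (hu b fun _ _ _ => rfl).symm

theorem gsheaf_cancel {P : NonAbH1.GSheaf G} (hP : P.IsPseudoTorsor) {X : Cᵒᵖ}
    {g g' : G.obj.obj X} {p : P.P.obj.obj X} (h : P.smul g p = P.smul g' p) : g = g' :=
  (hP X p (P.smul g' p)).unique h rfl

theorem type_glue (P : Sheaf J (Type w)) {X : C} {S : Sieve X} (hS : S ∈ J X)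
    (x : ∀ ⦃Y : C⦄ (f : Y ⟶ X), S f → P.obj.obj (op Y))
    (hx : ∀ ⦃Z Y : C⦄ (k : Z ⟶ Y) (f : Y ⟶ X) (hf : S f),
      P.obj.map k.op (x f hf) = x (k ≫ f) (S.downward_closed hf k)) :
    ∃! p : P.obj.obj (op X), ∀ ⦃Y : C⦄ (f : Y ⟶ X) (hf : S f), P.obj.map f.op p = x f hf := by
  obtain ⟨p, hp, hu⟩ := ((isSheaf_iff_isSheaf_of_type _ _).mp P.property S hS)
    (fun Y f hf => x f hf)
    ((Presieve.compatible_iff_sieveCompatible _).mpr fun Y Z f k hf => (hx k f hf).symm)
  exact ⟨p, fun Y f hf => hp f hf, fun q hq => hu q fun Y f hf => hq f hf⟩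

theorem exists_isCocycleOf {P : NonAbH1.GSheaf G} (hP : P.IsPseudoTorsor)
    (s : ∀ i, P.P.obj.obj (op (U i))) :
    ∃ γ : PresheafOfGroups.OneCocycle G.obj U, P.IsCocycleOf U s γ := by
  choose g hg hgu using fun (i j : I) (T : C) (a : T ⟶ U i) (b : T ⟶ U j) =>
    hP (op T) (P.P.obj.map b.op (s j)) (P.P.obj.map a.op (s i))
  refine ⟨{ ev := fun i j T a b => g i j T a b
            ev_precomp := fun i j T T' φ a b => ?_
            ev_trans := fun i j k T a b c => ?_ }, hg⟩
  · refine hgu _ _ _ _ _ _ ?_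
    simp only [op_comp, Functor.map_comp_apply]
    rw [← P.map_smul, hg]
  · refine hgu _ _ _ _ _ _ ?_
    change P.smul (_ * _) _ = _
    rw [P.mul_smul, hg, hg]

theorem existsUnique_hasCechClass (P : NonAbH1.Torsor G) (hP : P.TrivialisedBy U) :
    ∃! c : PresheafOfGroups.H1 G.obj U, P.HasCechClass U c := by
  have hps := P.isTorsor.1
  let s := fun i => (hP i).some
  obtain ⟨γ, hγ⟩ := exists_isCocycleOf hps s
  refine ⟨γ.class, ⟨s, γ, hγ, rfl⟩, ?_⟩
  rintro c ⟨s', γ', hγ', rfl⟩
  choose α hα using fun i => (hps (op (U i)) (s i) (s' i)).exists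
  refine PresheafOfGroups.OneCocycle.IsCohomologous.class_eq
    ((PresheafOfGroups.OneCocycle.equivalence_isCohomologous G.obj U).symm ⟨α, ?_⟩)
  intro i j T a b
  refine gsheaf_cancel hps (p := P.P.obj.map b.op (s j)) ?_
  rw [P.mul_smul, hγ i j a b, P.mul_smul, ← P.map_smul, ← P.map_smul, hα, hα]
  exact (hγ' i j a b).symm

theorem exists_torsor_map (hU : J.CoversTop U) {P Q : NonAbH1.GSheaf G} (hP : P.IsPseudoTorsor)
    (s : ∀ i, P.P.obj.obj (op (U i))) (t : ∀ i, Q.P.obj.obj (op (U i)))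
    (γ : PresheafOfGroups.OneCocycle G.obj U) (hs : P.IsCocycleOf U s γ)
    (ht : Q.IsCocycleOf U t γ) :
    ∃ f : P ⟶ Q, ∀ (X : C) (p : P.P.obj.obj (op X)) (T : C) (h : T ⟶ X) (i : I) (a : T ⟶ U i)
      (g : G.obj.obj (op T)), P.P.obj.map h.op p = P.smul g (P.P.obj.map a.op (s i)) →
        Q.P.obj.map h.op (f.hom.hom.app (op X) p) = Q.smul g (Q.P.obj.map a.op (t i)) := by
  have key : ∀ (X : C) (p : P.P.obj.obj (op X)), ∃! q : Q.P.obj.obj (op X),
      ∀ (T : C) (h : T ⟶ X) (i : I) (a : T ⟶ U i) (g : G.obj.obj (op T)),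
        P.P.obj.map h.op p = P.smul g (P.P.obj.map a.op (s i)) →
          Q.P.obj.map h.op q = Q.smul g (Q.P.obj.map a.op (t i)) := by
    intro X p
    have hex : ∀ ⦃T : C⦄ (h : T ⟶ X), Sieve.ofObjects U X h → ∃ q : Q.P.obj.obj (op T),
        ∀ (i : I) (a : T ⟶ U i) (g : G.obj.obj (op T)),
          P.P.obj.map h.op p = P.smul g (P.P.obj.map a.op (s i)) →
            q = Q.smul g (Q.P.obj.map a.op (t i)) := by
      rintro T h ⟨i, ⟨a⟩⟩
      obtain ⟨g, hg, -⟩ := hP (op T) (P.P.obj.map a.op (s i)) (P.P.obj.map h.op p)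
      refine ⟨Q.smul g (Q.P.obj.map a.op (t i)), fun j b g' hg' => ?_⟩
      have e : g' = g * γ.ev i j a b := gsheaf_cancel hP (p := P.P.obj.map b.op (s j))
        (by rw [P.mul_smul, hs, hg, hg'])
      rw [e, Q.mul_smul, ht]
    choose q hq using hex
    obtain ⟨Q₀, hQ₀, hQu⟩ := type_glue Q.P (hU X) (fun T h hh => q h hh) fun Z Y k f hf => by
      obtain ⟨i, ⟨a⟩⟩ := id hf
      obtain ⟨g, hg, -⟩ := hP (op Y) (P.P.obj.map a.op (s i)) (P.P.obj.map f.op p)
      rw [hq f hf i a g hg.symm, Q.map_smul, ← Functor.map_comp_apply, ← op_comp]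
      refine (hq (k ≫ f) _ i (k ≫ a) (G.obj.map k.op g) ?_).symm
      simp only [op_comp, Functor.map_comp_apply]
      rw [← hg, P.map_smul]
    refine ⟨Q₀, fun T h i a g hg => (hQ₀ h ⟨i, ⟨a⟩⟩).trans (hq h ⟨i, ⟨a⟩⟩ i a g hg),
      fun q' hq' => hQu q' fun T h hh => ?_⟩
    obtain ⟨i, ⟨a⟩⟩ := id hh
    obtain ⟨g, hg, -⟩ := hP (op T) (P.P.obj.map a.op (s i)) (P.P.obj.map h.op p)
    exact (hq' T h i a g hg.symm).trans (hq h hh i a g hg.symm).symm
  choose q hq hqu using key
  refine ⟨⟨⟨{ app := fun X => ↾(q X.unop), naturality := fun X Y k => ?_ }⟩, fun {X} g p => ?_⟩,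
    hq⟩
  · ext p
    refine (hqu _ _ _ fun T h i a g hg => ?_).symm
    change Q.P.obj.map h.op (Q.P.obj.map k (q X.unop p)) = _
    rw [← Functor.map_comp_apply]
    refine hq X.unop p T (h ≫ k.unop) i a g ?_
    rw [← hg]
    exact Functor.map_comp_apply P.P.obj k h.op p
  · change q X.unop (P.smul g p) = Q.smul g (q X.unop p)
    symm
    refine hqu _ _ _ fun T h i a g' hg' => ?_
    obtain ⟨g₀, hg₀, -⟩ := hP (op T) (P.P.obj.map a.op (s i)) (P.P.obj.map h.op p)
    rw [Q.map_smul, hq _ p T h i a g₀ hg₀.symm, ← Q.mul_smul]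
    congr 1
    refine gsheaf_cancel hP (p := P.P.obj.map a.op (s i)) ?_
    rw [P.mul_smul, hg₀, ← P.map_smul]
    exact hg'

theorem torsor_map_comp_eq (hU : J.CoversTop U) {P Q : NonAbH1.GSheaf G} (hP : P.IsPseudoTorsor)
    (s : ∀ i, P.P.obj.obj (op (U i))) (t : ∀ i, Q.P.obj.obj (op (U i)))
    (f : P ⟶ Q) (f' : Q ⟶ P)
    (hf : ∀ (X : C) (p : P.P.obj.obj (op X)) (T : C) (h : T ⟶ X) (i : I) (a : T ⟶ U i)
      (g : G.obj.obj (op T)), P.P.obj.map h.op p = P.smul g (P.P.obj.map a.op (s i)) →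
        Q.P.obj.map h.op (f.hom.hom.app (op X) p) = Q.smul g (Q.P.obj.map a.op (t i)))
    (hf' : ∀ (X : C) (p : Q.P.obj.obj (op X)) (T : C) (h : T ⟶ X) (i : I) (a : T ⟶ U i)
      (g : G.obj.obj (op T)), Q.P.obj.map h.op p = Q.smul g (Q.P.obj.map a.op (t i)) →
        P.P.obj.map h.op (f'.hom.hom.app (op X) p) = P.smul g (P.P.obj.map a.op (s i))) :
    f ≫ f' = 𝟙 P := by
  refine NonAbH1.GSheaf.hom_ext (Sheaf.hom_ext (NatTrans.ext (funext fun X => ?_)))
  ext p
  obtain ⟨X⟩ := X
  change f'.hom.hom.app (op X) (f.hom.hom.app (op X) p) = p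
  obtain ⟨r, -, hu⟩ := type_glue P.P (hU X) (fun T h _ => P.P.obj.map h.op p)
    fun Z Y k h _ => by simp
  refine (hu _ fun T h hh => ?_).trans (hu p fun _ _ _ => rfl).symm
  obtain ⟨i, ⟨a⟩⟩ := hh
  obtain ⟨g, hg, -⟩ := hP (op T) (P.P.obj.map a.op (s i)) (P.P.obj.map h.op p)
  exact (hf' X _ T h i a g (hf X p T h i a g hg.symm)).trans hg

theorem nonempty_iso_of_hasCechClass (hU : J.CoversTop U) (P Q : NonAbH1.Torsor G)
    (c : PresheafOfGroups.H1 G.obj U) (hPc : P.HasCechClass U c) (hQc : Q.HasCechClass U c) :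
    Nonempty (P.toGSheaf ≅ Q.toGSheaf) := by
  obtain ⟨s, γ, hs, rfl⟩ := hPc
  obtain ⟨t, γ', ht, hc⟩ := hQc
  obtain ⟨α, hα⟩ := (PresheafOfGroups.OneCocycle.class_eq_iff γ γ').mp hc.symm
  let t' : ∀ i, Q.P.obj.obj (op (U i)) := fun i => Q.smul (α i)⁻¹ (t i)
  have ht' : Q.IsCocycleOf U t' γ := fun i j T a b => by
    simp only [t', Q.map_smul, map_inv, ← Q.mul_smul]
    rw [← ht i j a b, ← Q.mul_smul]
    congr 1
    rw [eq_inv_mul_iff_mul_eq, ← mul_assoc, hα i j a b, mul_inv_cancel_right]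
  obtain ⟨f, hf⟩ := exists_torsor_map hU P.isTorsor.1 s t' γ hs ht'
  obtain ⟨f', hf'⟩ := exists_torsor_map hU Q.isTorsor.1 t' s γ ht' hs
  exact ⟨⟨f, f', torsor_map_comp_eq hU P.isTorsor.1 s t' f f' hf hf',
    torsor_map_comp_eq hU Q.isTorsor.1 t' s f' f hf' hf⟩⟩

section Construct

variable (γ : PresheafOfGroups.OneCocycle G.obj U)

/-- A section over `X` of the torsor glued from `γ`, before shrinking: its coordinates in the
local trivialisations. -/
@[ext]
structure Twist (X : C) where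
  /-- the coordinate at `h : T ⟶ X` in the trivialisation given by `a : T ⟶ U i` -/
  val : ∀ ⦃T : C⦄ (_ : T ⟶ X) (i : I) (_ : T ⟶ U i), G.obj.obj (op T)
  val_map : ∀ ⦃T' T : C⦄ (k : T' ⟶ T) (h : T ⟶ X) (i : I) (a : T ⟶ U i),
    G.obj.map k.op (val h i a) = val (k ≫ h) i (k ≫ a)
  val_change : ∀ ⦃T : C⦄ (h : T ⟶ X) (i j : I) (a : T ⟶ U i) (b : T ⟶ U j),
    val h j b = val h i a * γ.ev i j a b

variable {γ}

/-- The action on coordinates. -/
def Twist.act {X : C} (g : G.obj.obj (op X)) (p : Twist γ X) : Twist γ X where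
  val T h i a := G.obj.map h.op g * p.val h i a
  val_map T' T k h i a := by simp [p.val_map]
  val_change T h i j a b := by rw [p.val_change h i j a b, mul_assoc]

/-- Restriction of coordinates. -/
def Twist.restr {X Y : C} (k : Y ⟶ X) (p : Twist γ X) : Twist γ Y where
  val T h i a := p.val (h ≫ k) i a
  val_map T' T l h i a := by simp [p.val_map]
  val_change T h i j a b := p.val_change (h ≫ k) i j a b

theorem Twist.existsUnique_act (hU : J.CoversTop U) {X : C} (p q : Twist γ X) :
    ∃! g : G.obj.obj (op X), Twist.act g p = q := by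
  have hc : ∀ ⦃T : C⦄ (h : T ⟶ X) (i j : I) (a : T ⟶ U i) (b : T ⟶ U j),
      q.val h i a * (p.val h i a)⁻¹ = q.val h j b * (p.val h j b)⁻¹ := fun T h i j a b => by
    rw [p.val_change h i j a b, q.val_change h i j a b, mul_inv_rev, mul_assoc (q.val h i a),
      mul_inv_cancel_left]
  choose ι hι using fun (T : C) (h : T ⟶ X) (hh : Sieve.ofObjects U X h) => hh
  let a₀ := fun (T : C) (h : T ⟶ X) (hh : Sieve.ofObjects U X h) => (hι T h hh).some
  obtain ⟨g, hg, hgu⟩ := grp_glue (hU X)
    (fun T h hh => q.val h (ι T h hh) (a₀ T h hh) * (p.val h (ι T h hh) (a₀ T h hh))⁻¹)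
    fun Z Y k f hf => by
      simp only [map_mul, map_inv, p.val_map, q.val_map]
      exact hc _ _ _ _ _
  refine ⟨g, Twist.ext (funext fun T => funext fun h => funext fun i => funext fun a => ?_),
    fun g' hg' => hgu g' fun T h hh => ?_⟩
  · change G.obj.map h.op g * p.val h i a = q.val h i a
    rw [hg h ⟨i, ⟨a⟩⟩, hc h _ i _ a, inv_mul_cancel_right]
  · subst hg'
    simp [Twist.act]

theorem Twist.small (hU : J.CoversTop U) (X : C) : Small.{w} (Twist γ X) := by
  by_cases h : Nonempty (Twist γ X)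
  · obtain ⟨p⟩ := h
    refine small_of_surjective (f := fun g : G.obj.obj (op X) => Twist.act g p) fun q => ?_
    exact (Twist.existsUnique_act hU p q).exists
  · rw [not_nonempty_iff] at h
    infer_instance

/-- The section given by a member of the family. -/
def Twist.sec (i : I) : Twist γ (U i) where
  val T h j b := γ.ev i j h b
  val_map T' T k h j b := γ.ev_precomp i j k h b
  val_change T h j k a b := (γ.ev_trans i j k h a b).symm

theorem exists_torsor_of_cocycle (hU : J.CoversTop U) (γ : PresheafOfGroups.OneCocycle G.obj U) :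
    ∃ P : NonAbH1.Torsor G, P.TrivialisedBy U ∧ P.HasCechClass U γ.class := by
  have hsm := fun X => Twist.small (γ := γ) hU X
  let e := fun X : Cᵒᵖ => equivShrink.{w} (Twist γ X.unop)
  let F : Cᵒᵖ ⥤ Type w :=
    { obj := fun X => Shrink.{w} (Twist γ X.unop)
      map := fun {X Y} k => ↾fun x => e Y (Twist.restr k.unop ((e X).symm x))
      map_id := fun X => by
        refine ConcreteCategory.hom_ext _ _ fun x => ?_
        obtain ⟨p, rfl⟩ := (e X).surjective x
        change e X (Twist.restr _ ((e X).symm (e X p))) = e X p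
        simp [Twist.restr]
      map_comp := fun {X Y Z} k l => by
        refine ConcreteCategory.hom_ext _ _ fun x => ?_
        obtain ⟨p, rfl⟩ := (e X).surjective x
        change e Z (Twist.restr _ ((e X).symm (e X p))) =
          e Z (Twist.restr _ ((e Y).symm (e Y (Twist.restr _ ((e X).symm (e X p))))))
        simp [Twist.restr] }
  have hF : Presheaf.IsSheaf J F := by
    rw [isSheaf_iff_isSheaf_of_type]
    intro X R hR x hx
    rw [Presieve.compatible_iff_sieveCompatible] at hx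
    let x' := fun (T : C) (f : T ⟶ X) (hf : R f) => (e (op T)).symm (x f hf)
    have hx' : ∀ (Z Y : C) (k : Z ⟶ Y) (f : Y ⟶ X) (hf : R f),
        x' Z (k ≫ f) (R.downward_closed hf k) = Twist.restr k (x' Y f hf) := fun Z Y k f hf => by
      refine (e (op Z)).injective ?_
      simp only [x', Equiv.apply_symm_apply]
      exact hx f k hf
    have hcongr : ∀ {Z T : C} (f f' : Z ⟶ X) (_ : f = f') (hf : R f) (hf' : R f') (h : T ⟶ Z)
        (i : I) (a : T ⟶ U i), (x' Z f hf).val h i a = (x' Z f' hf').val h i a := by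
      intro Z T f f' hff hf hf' h i a
      subst hff
      rfl
    have hv : ∀ ⦃T : C⦄ (h : T ⟶ X) (i : I) (a : T ⟶ U i), ∃! g : G.obj.obj (op T),
        ∀ ⦃T' : C⦄ (k : T' ⟶ T) (hk : R.pullback h k),
          G.obj.map k.op g = (x' T' (k ≫ h) hk).val (𝟙 T') i (k ≫ a) := fun T h i a =>
      grp_glue (J.pullback_stable h hR) (fun T' k hk => (x' T' (k ≫ h) hk).val (𝟙 T') i (k ≫ a))
        fun Z Y l k hk => by
          rw [(x' Y (k ≫ h) hk).val_map]
          refine ((hcongr ((l ≫ k) ≫ h) (l ≫ k ≫ h) (Category.assoc _ _ _) _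
            (R.downward_closed hk l) _ _ _).trans ?_).symm
          rw [hx' Z Y l (k ≫ h) hk]
          simp [Twist.restr]
    choose v hv hvu using hv
    let σ : Twist γ X :=
      { val := v
        val_map := fun T' T k h i a => hvu _ _ _ _ fun W l hl => by
          have hl' : R.pullback h (l ≫ k) := by
            simpa [Sieve.pullback_apply] using hl
          rw [← Functor.map_comp_apply, ← op_comp, hv h i a (l ≫ k) hl']
          refine (hcongr ((l ≫ k) ≫ h) (l ≫ k ≫ h) (Category.assoc _ _ _) hl' hl _ _ _).trans ?_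
          simp
        val_change := fun T h i j a b => by
          symm
          refine hvu h j b _ fun W l hl => ?_
          rw [map_mul, hv h i a l hl, γ.ev_precomp, ← Twist.val_change] }
    have hσ : ∀ (Y : C) (f : Y ⟶ X) (hf : R f), Twist.restr f σ = x' Y f hf := fun Y f hf => by
      refine Twist.ext (funext fun T => funext fun h => funext fun i => funext fun a => ?_)
      change v (h ≫ f) i a = (x' Y f hf).val h i a
      symm
      refine hvu _ _ _ _ fun W l hl => ?_
      rw [(x' Y f hf).val_map]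
      refine ((hcongr (l ≫ h ≫ f) ((l ≫ h) ≫ f) (Category.assoc _ _ _).symm hl
        (R.downward_closed hf _) _ _ _).trans ?_).symm
      rw [hx' W Y (l ≫ h) f hf]
      simp [Twist.restr]
    refine ⟨e (op X) σ, fun Y f hf => ?_, fun y hy => ?_⟩
    · change e (op Y) (Twist.restr f ((e (op X)).symm (e (op X) σ))) = x f hf
      rw [Equiv.symm_apply_apply, hσ Y f hf]
      exact (e (op Y)).apply_symm_apply _
    · obtain ⟨τ, rfl⟩ := (e (op X)).surjective y
      refine congrArg (e (op X))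
        (Twist.ext (funext fun T => funext fun h => funext fun i => funext fun a => ?_))
      refine hvu h i a _ fun W l hl => ?_
      have : x' W (l ≫ h) hl = Twist.restr (l ≫ h) τ := by
        refine (e (op W)).injective ?_
        simp only [x', Equiv.apply_symm_apply]
        rw [← hy (l ≫ h) hl]
        change e (op W) (Twist.restr (l ≫ h) ((e (op X)).symm (e (op X) τ))) = _
        rw [Equiv.symm_apply_apply]
      rw [this, τ.val_map]
      simp [Twist.restr]
  let P : NonAbH1.GSheaf G :=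
    { P := ⟨F, hF⟩
      smul := fun {X} g x => e X (Twist.act g ((e X).symm x))
      one_smul := fun {X} x => by
        obtain ⟨p, rfl⟩ := (e X).surjective x
        refine congrArg (e X) ?_
        simp only [Equiv.symm_apply_apply]
        ext T h i a
        simp [Twist.act]
      mul_smul := fun {X} g g' x => by
        obtain ⟨p, rfl⟩ := (e X).surjective x
        refine congrArg (e X) ?_
        simp only [Equiv.symm_apply_apply]
        ext T h i a
        simp [Twist.act, mul_assoc]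
      map_smul := fun {X Y} k g x => by
        obtain ⟨p, rfl⟩ := (e X).surjective x
        change e Y (Twist.restr _ ((e X).symm (e X _))) =
          e Y (Twist.act _ ((e Y).symm (e Y _)))
        refine congrArg (e Y) ?_
        simp only [Equiv.symm_apply_apply]
        ext T h i a
        simp [Twist.act, Twist.restr] }
  have hps : P.IsPseudoTorsor := fun X x y => by
    obtain ⟨p, rfl⟩ := (e X).surjective x
    obtain ⟨q, rfl⟩ := (e X).surjective y
    obtain ⟨g, hg, hgu⟩ := Twist.existsUnique_act hU p q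
    refine ⟨g, ?_, fun g' hg' => hgu g' ?_⟩
    · change e X (Twist.act g ((e X).symm (e X p))) = e X q
      rw [Equiv.symm_apply_apply, hg]
    · refine (e X).injective ?_
      have : e X (Twist.act g' ((e X).symm (e X p))) = e X q := hg'
      rwa [Equiv.symm_apply_apply] at this
  have hne : P.LocallyNonempty := fun X =>
    ⟨_, hU X, fun V f ⟨i, ⟨a⟩⟩ => ⟨e (op V) (Twist.restr a (Twist.sec i))⟩⟩
  refine ⟨⟨P, hps, hne⟩, fun i => ⟨e (op (U i)) (Twist.sec i)⟩,
    fun i => e (op (U i)) (Twist.sec i), γ, fun i j T a b => ?_, rfl⟩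
  change e (op T) (Twist.act _ ((e (op T)).symm (e (op T)
      (Twist.restr b ((e (op (U j))).symm (e (op (U j)) _)))))) =
    e (op T) (Twist.restr a ((e (op (U i))).symm (e (op (U i)) _)))
  refine congrArg (e (op T)) ?_
  simp only [Equiv.symm_apply_apply]
  ext W h k c
  simp [Twist.act, Twist.restr, Twist.sec, γ.ev_trans]

theorem exists_torsor_hasCechClass (hU : J.CoversTop U) (c : PresheafOfGroups.H1 G.obj U) :
    ∃ P : NonAbH1.Torsor G, P.TrivialisedBy U ∧ P.HasCechClass U c := by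
  obtain ⟨γ, rfl⟩ := Quot.exists_rep c
  exact exists_torsor_of_cocycle hU γ

end Construct

end Groth.Agent.Fib44
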