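import Groth.Agent.Fib44.Basic

/-!
Composites of functors, categories fibred in sets.
-/

set_option backward.isDefEq.respectTransparency false
set_option backward.isDefEq.respectTransparency.types false

universe v₄ u₄ v₃ u₃ v₂ u₂ v u

open CategoryTheory CategoryTheory.Functor

namespace Groth.Agent.Fib44

variable {C : Type u} [Category.{v} C] {𝒢 : Type u₂} [Category.{v₂} 𝒢] {ℱ : Type u₃}
  [Category.{v₃} ℱ] (F : ℱ ⥤ 𝒢) (G : 𝒢 ⥤ C)

theorem isSC_comp_functor {x y : ℱ} (φ : x ⟶ y) (hF : F.IsStronglyCartesian (F.map φ) φ)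
    (hG : G.IsStronglyCartesian (G.map (F.map φ)) (F.map φ)) :
    (F ⋙ G).IsStronglyCartesian ((F ⋙ G).map φ) φ := by
  have h1 := (isSC_iff F φ).mp hF
  have h2 := (isSC_iff G (F.map φ)).mp hG
  rw [isSC_iff]
  intro z g ψ hψ
  obtain ⟨k, ⟨hk, hk'⟩, hku⟩ := h2 g (F.map ψ) hψ
  obtain ⟨χ, ⟨hχ, hχ'⟩, hχu⟩ := h1 k ψ hk'.symm
  refine ⟨χ, ⟨by simp [hχ, hk], hχ'⟩, fun τ ⟨hτ, hτ'⟩ => hχu τ ⟨?_, hτ'⟩⟩
  exact hku (F.map τ) ⟨hτ, by rw [← Functor.map_comp, hτ']⟩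

theorem isHomLift_comp {R S : C} {A B : 𝒢} {a b : ℱ} (f : R ⟶ S) (k : A ⟶ B) (φ : a ⟶ b)
    [F.IsHomLift k φ] [hk : G.IsHomLift f k] : (F ⋙ G).IsHomLift f φ := by
  subst_hom_lift F k φ
  exact IsHomLift.of_fac' (F ⋙ G) f φ (IsHomLift.domain_eq G f (F.map φ) :)
    (IsHomLift.codomain_eq G f (F.map φ) :) (IsHomLift.fac' G f (F.map φ) :)

theorem isFibered_comp [F.IsFibered] [G.IsFibered] : (F ⋙ G).IsFibered :=
  IsFibered.of_exists_isStronglyCartesian fun a R f => by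
    obtain ⟨B, k, hk⟩ := exists_sc_lift G (x := F.obj a) rfl f
    obtain ⟨b, φ, hφ⟩ := exists_sc_lift F rfl k
    have := isHomLift_comp F G f k φ
    have h1 := isSC_self_of_isSC F k φ
    have h2 : G.IsStronglyCartesian (G.map (F.map φ)) (F.map φ) := by
      obtain rfl : F.obj b = B := IsHomLift.domain_eq F k φ
      obtain rfl : k = F.map φ := IsHomLift.eq_of_isHomLift F k φ
      exact isSC_self_of_isSC G f (F.map φ)
    exact ⟨b, φ, isSC_of_isSC_self _ f φ (isSC_comp_functor F G φ h1 h2)⟩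

theorem isFibGrpd_comp (hF : FibCat.IsFibGrpd F) (hG : FibCat.IsFibGrpd G) :
    FibCat.IsFibGrpd (F ⋙ G) where
  exists_lift {x V} f := by
    obtain ⟨B, k, hk⟩ := hG.exists_lift (x := F.obj x) f
    obtain ⟨b, φ, hφ⟩ := hF.exists_lift k
    exact ⟨b, φ, isHomLift_comp F G f k φ⟩
  isStronglyCartesian φ :=
    isSC_comp_functor F G φ (hF.isStronglyCartesian φ) (hG.isStronglyCartesian _)

variable (p : 𝒢 ⥤ C)

theorem lift_unique_of_isFibSet (hp : FibCat.IsFibSet p) {η : 𝒢} {U : C} (f : U ⟶ p.obj η)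
    (φ φ' : Σ ξ : 𝒢, (ξ ⟶ η)) [p.IsHomLift f φ.2] [p.IsHomLift f φ'.2] : φ = φ' := by
  obtain ⟨ξ, φ⟩ := φ
  obtain ⟨ξ', φ'⟩ := φ'
  have := isSC_of_fibGrpd p hp.1 f φ'
  let χ := IsCartesian.map p f φ' φ
  have hd := hp.2 U
  let A : p.Fiber U := Fiber.mk (IsHomLift.domain_eq p f φ)
  let B : p.Fiber U := Fiber.mk (IsHomLift.domain_eq p f φ')
  have hAB : A = B := IsDiscrete.eq_of_hom (⟨χ, inferInstance⟩ : A ⟶ B)
  have h : ξ = ξ' := congrArg Subtype.val hAB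
  subst h
  have hs : Subsingleton (A ⟶ A) := inferInstance
  have : (⟨χ, inferInstance⟩ : A ⟶ A) = 𝟙 A := hs.elim _ _
  have e : χ = 𝟙 ξ := congrArg Subtype.val this
  have hfac : χ ≫ φ' = φ := IsCartesian.fac p f φ' φ
  rw [e, Category.id_comp] at hfac
  rw [hfac]

theorem hom_ext_of_isFibSet (hp : FibCat.IsFibSet p) {a b : 𝒢} {φ φ' : a ⟶ b}
    (h : p.map φ = p.map φ') : φ = φ' := by
  have : p.IsHomLift (p.map φ) φ' := (isHomLift_iff_map_eq p _ _).mpr h.symm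
  simpa using lift_unique_of_isFibSet p hp (p.map φ) ⟨a, φ⟩ ⟨a, φ'⟩

theorem isFibSet_iff_existsUnique_lift :
    FibCat.IsFibSet p ↔
      ∀ (η : 𝒢) (U : C) (f : U ⟶ p.obj η), ∃! φ : (Σ ξ : 𝒢, (ξ ⟶ η)), p.IsHomLift f φ.2 := by
  constructor
  · intro hp η U f
    obtain ⟨ξ, φ, hφ⟩ := hp.1.exists_lift f
    exact ⟨⟨ξ, φ⟩, hφ, fun φ' (_ : p.IsHomLift f φ'.2) => lift_unique_of_isFibSet p hp f φ' ⟨ξ, φ⟩⟩
  · intro h
    refine ⟨{ exists_lift := fun {η U} f => ?_, isStronglyCartesian := fun {y x} φ => ?_ },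
      fun U => ?_⟩
    · obtain ⟨⟨ξ, φ⟩, hφ, -⟩ := h η U f
      exact ⟨ξ, φ, hφ⟩
    · rw [isSC_iff]
      intro z g ψ hψ
      obtain ⟨⟨z', χ⟩, hχ, hu⟩ := h y (p.obj z) g
      have h1 : p.IsHomLift (p.map ψ) (χ ≫ φ) := by
        rw [hψ]; infer_instance
      obtain ⟨w, -, hw⟩ := h x (p.obj z) (p.map ψ)
      have e := (hw ⟨z', χ ≫ φ⟩ h1).trans (hw ⟨z, ψ⟩ (IsHomLift.map p ψ)).symm
      obtain rfl : z' = z := congrArg Sigma.fst e
      refine ⟨χ, ⟨(isHomLift_iff_map_eq p _ χ).mp hχ, eq_of_heq (Sigma.mk.inj_iff.mp e).2⟩,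
        fun τ hτ => ?_⟩
      exact eq_of_heq (Sigma.mk.inj_iff.mp
        (hu ⟨z', τ⟩ ((isHomLift_iff_map_eq p _ τ).mpr hτ.1))).2
    · have key : ∀ {a b : p.Fiber U} (φ : a ⟶ b),
          (⟨a.1, φ.1⟩ : Σ ξ : 𝒢, ξ ⟶ b.1) = ⟨b.1, 𝟙 b.1⟩ := fun {a b} φ => by
        obtain ⟨b, hb⟩ := b
        subst hb
        obtain ⟨w, -, hw⟩ := h b (p.obj b) (𝟙 _)
        exact (hw _ φ.2).trans (hw _ (IsHomLift.id rfl)).symm
      exact
        { subsingleton := fun a b => ⟨fun φ ψ => Subtype.ext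
            (eq_of_heq (Sigma.mk.inj_iff.mp ((key φ).trans (key ψ).symm)).2)⟩
          eq_of_hom := fun φ => Subtype.ext (congrArg Sigma.fst (key φ)) }

variable {G} (hG : FibCat.IsFibSet G)
include hG

theorem isSC_of_isSC_comp {x y : ℱ} (φ : x ⟶ y)
    (h : (F ⋙ G).IsStronglyCartesian ((F ⋙ G).map φ) φ) :
    F.IsStronglyCartesian (F.map φ) φ := by
  rw [isSC_iff] at h ⊢
  intro z k ψ hψ
  obtain ⟨χ, ⟨hχ, hχ'⟩, hu⟩ := h (G.map k) ψ (by simp [hψ])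
  exact ⟨χ, ⟨hom_ext_of_isFibSet G hG hχ, hχ'⟩, fun τ ⟨hτ, hτ'⟩ => hu τ ⟨by simp [hτ], hτ'⟩⟩

theorem isHomLift_of_comp {U : 𝒢} {η x : ℱ} (k : U ⟶ F.obj η) (φ : x ⟶ η)
    [(F ⋙ G).IsHomLift (G.map k) φ] : F.IsHomLift k φ := by
  have hd : G.obj (F.obj x) = G.obj U := IsHomLift.domain_eq (F ⋙ G) (G.map k) φ
  have : G.IsHomLift (G.map k) (F.map φ) :=
    IsHomLift.of_fac' G _ _ hd rfl (IsHomLift.fac' (F ⋙ G) (G.map k) φ)
  have e := lift_unique_of_isFibSet G hG (G.map k) ⟨F.obj x, F.map φ⟩ ⟨U, k⟩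
  obtain ⟨h1, h2⟩ := Sigma.mk.inj_iff.mp e
  subst h1
  obtain rfl := eq_of_heq h2
  exact IsHomLift.map F φ

theorem isFibered_iff_comp_of_isFibSet : F.IsFibered ↔ (F ⋙ G).IsFibered := by
  constructor
  · intro
    have := isFibered_of_isFibGrpd G (h := hG.1)
    exact isFibered_comp F G
  · intro
    refine IsFibered.of_exists_isStronglyCartesian fun a R k => ?_
    obtain ⟨b, φ, hφ⟩ := exists_sc_lift (F ⋙ G) (x := a) rfl (G.map k)
    have := isHomLift_of_comp F hG k φ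
    exact ⟨b, φ, isSC_of_isSC_self F k φ
      (isSC_of_isSC_comp F hG φ (isSC_self_of_isSC _ (G.map k) φ))⟩

theorem isFibGrpd_iff_comp_of_isFibSet : FibCat.IsFibGrpd F ↔ FibCat.IsFibGrpd (F ⋙ G) := by
  refine ⟨fun h => isFibGrpd_comp F G h hG.1, fun h => ⟨fun {x U} k => ?_,
    fun φ => isSC_of_isSC_comp F hG φ (h.isStronglyCartesian φ)⟩⟩
  obtain ⟨b, φ, hφ⟩ := h.exists_lift (x := x) (G.map k)
  exact ⟨b, φ, isHomLift_of_comp F hG k φ⟩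

theorem isFibSet_iff_comp_of_isFibSet : FibCat.IsFibSet F ↔ FibCat.IsFibSet (F ⋙ G) := by
  rw [isFibSet_iff_existsUnique_lift F, isFibSet_iff_existsUnique_lift (F ⋙ G)]
  constructor
  · intro h η U f
    obtain ⟨B, k, hk⟩ := hG.1.exists_lift (x := F.obj η) f
    obtain ⟨⟨a, φ⟩, hφ, hu⟩ := h η B k
    refine ⟨⟨a, φ⟩, isHomLift_comp F G f k φ, fun ψ h' => ?_⟩
    obtain ⟨a', φ'⟩ := ψ
    change (F ⋙ G).IsHomLift f φ' at h'
    apply hu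
    have hd : G.obj (F.obj a') = U := IsHomLift.domain_eq (F ⋙ G) f φ'
    have : G.IsHomLift f (F.map φ') :=
      IsHomLift.of_fac' G _ _ hd rfl (IsHomLift.fac' (F ⋙ G) f φ')
    obtain ⟨h1, h2⟩ := Sigma.mk.inj_iff.mp
      (lift_unique_of_isFibSet G hG f ⟨F.obj a', F.map φ'⟩ ⟨B, k⟩)
    subst h1
    obtain rfl := eq_of_heq h2
    exact IsHomLift.map F φ'
  · intro h η B k
    obtain ⟨⟨a, φ⟩, hφ, hu⟩ := h η _ (G.map k)
    refine ⟨⟨a, φ⟩, isHomLift_of_comp F hG k φ,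
      fun ψ h' => ?_⟩
    have : F.IsHomLift k ψ.2 := h'
    exact hu _ (isHomLift_comp F G (G.map k) k ψ.2)

omit hG in
theorem overForget_isFibSet (U : C) : FibCat.IsFibSet (Over.forget U) := by
  rw [isFibSet_iff_existsUnique_lift]
  intro η V f
  refine ⟨⟨Over.mk (f ≫ η.hom), Over.homMk f rfl⟩, IsHomLift.map (Over.forget U)
    (Over.homMk f rfl : Over.mk (f ≫ η.hom) ⟶ η), ?_⟩
  intro ψ hψ
  obtain ⟨ξ, ψ⟩ := ψ
  have : (Over.forget U).IsHomLift f ψ := hψ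
  obtain ⟨l, ⟨⟨⟩⟩, h⟩ := ξ
  obtain rfl : l = V := IsHomLift.domain_eq (Over.forget U) f ψ
  obtain rfl : ψ.left = f := by simpa using IsHomLift.fac' (Over.forget U) f ψ
  have aux : ∀ (h : l ⟶ U) (g : l ⟶ η.left) (w : g ≫ η.hom = h),
      (⟨Over.mk h, Over.homMk g w⟩ : Σ ξ : Over U, ξ ⟶ η) =
        ⟨Over.mk (g ≫ η.hom), Over.homMk g rfl⟩ := by
    intro h g w
    subst w
    rfl
  exact aux h ψ.left (Over.w ψ)

end Groth.Agent.Fib44
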