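import Mathlib.CategoryTheory.Sites.ConstantSheaf
import Mathlib.CategoryTheory.Sites.Limits
import Mathlib.CategoryTheory.Sites.LocallyBijective
import Mathlib.CategoryTheory.Sites.EpiMono
import Mathlib.CategoryTheory.Adjunction.Additive
import Mathlib.Algebra.Category.Grp.AB
import Mathlib.CategoryTheory.Abelian.GrothendieckAxioms.Sheaf

/-!
Constant sheaves turn surjective maps of groups into split epimorphisms of sheaves of sets.
-/

set_option autoImplicit false

universe u

open CategoryTheory CategoryTheory.Limits Opposite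

namespace Groth.Agent.Fib44.Const

variable {C : Type u} [SmallCategory C] (J : GrothendieckTopology C) {B B' : AddCommGrpCat.{u}}

/-- The unit at the constant presheaf. -/
noncomputable abbrev unit (B : AddCommGrpCat.{u}) :
    (Functor.const Cᵒᵖ).obj B ⟶ ((constantSheaf J AddCommGrpCat.{u}).obj B).obj :=
  toSheafify J ((Functor.const Cᵒᵖ).obj B)

lemma W_unit (B : AddCommGrpCat.{u}) :
    J.W (Functor.whiskerRight (unit J B) (forget AddCommGrpCat.{u})) := by
  have h := (J.W_iff_isLocallyBijective _).1 (J.W_toSheafify ((Functor.const Cᵒᵖ).obj B))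
  have : Presheaf.IsLocallyInjective J (unit J B) := h.1
  have : Presheaf.IsLocallySurjective J (unit J B) := h.2
  have := (Presheaf.isLocallySurjective_iff_whisker_forget J (unit J B)).1 inferInstance
  exact J.W_of_isLocallyBijective _

/-- A set map of constants, as a map into the underlying sheaf of sets. -/
noncomputable def pre (σ : B' → B) :
    ((Functor.const Cᵒᵖ).obj B') ⋙ forget AddCommGrpCat.{u} ⟶
      ((constantSheaf J AddCommGrpCat.{u}).obj B).obj ⋙ forget AddCommGrpCat.{u} where
  app V := ↾fun c => (unit J B).app V (σ c)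
  naturality V W g := by
    ext c
    exact NatTrans.naturality_apply (unit J B) g (σ c)

/-- A set-theoretic section of a surjection splits the map of sheaves of sets. -/
theorem exists_section (φ : B ⟶ B') (h : Function.Surjective φ) :
    ∃ η : ((constantSheaf J AddCommGrpCat.{u}).obj B').obj ⋙ forget AddCommGrpCat.{u} ⟶
        ((constantSheaf J AddCommGrpCat.{u}).obj B).obj ⋙ forget AddCommGrpCat.{u},
      η ≫ Functor.whiskerRight ((constantSheaf J AddCommGrpCat.{u}).map φ).hom (forget AddCommGrpCat.{u}) =
        𝟙 _ := by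
  choose σ hσ using h
  have hB := ((sheafCompose J (forget AddCommGrpCat.{u})).obj
    ((constantSheaf J AddCommGrpCat.{u}).obj B)).property
  have hB' := ((sheafCompose J (forget AddCommGrpCat.{u})).obj
    ((constantSheaf J AddCommGrpCat.{u}).obj B')).property
  obtain ⟨η, hη⟩ := (W_unit J B' _ hB).2 (pre J σ)
  refine ⟨η, (W_unit J B' _ hB').1 ?_⟩
  change Functor.whiskerRight (unit J B') _ ≫ η ≫ _ = Functor.whiskerRight (unit J B') _ ≫ 𝟙 _
  rw [Category.comp_id]
  refine (Category.assoc _ _ _).symm.trans ?_
  refine (congrArg (· ≫ _) hη).trans ?_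
  ext V c
  refine (ConcreteCategory.congr_hom (NatTrans.congr_app
    (toSheafify_naturality J ((Functor.const Cᵒᵖ).map φ)).symm V) (σ c)).trans ?_
  exact congrArg ((unit J B').app V) (hσ c)

/-- Surjectivity on all sections. -/
theorem app_surjective (φ : B ⟶ B') (h : Function.Surjective φ) (V : Cᵒᵖ) :
    Function.Surjective (((constantSheaf J AddCommGrpCat.{u}).map φ).hom.app V) := fun s => by
  obtain ⟨η, hη⟩ := exists_section J φ h
  exact ⟨η.app V s, ConcreteCategory.congr_hom (NatTrans.congr_app hη V) s⟩

/-- Morphisms out of the constant sheaf `ℤ` lift along such a map. -/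
theorem exists_lift (φ : B ⟶ B') (h : Function.Surjective φ)
    (z : (constantSheaf J AddCommGrpCat.{u}).obj (AddCommGrpCat.of (ULift.{u} ℤ)) ⟶
      (constantSheaf J AddCommGrpCat.{u}).obj B') :
    ∃ z', z' ≫ (constantSheaf J AddCommGrpCat.{u}).map φ = z := by
  obtain ⟨η, hη⟩ := exists_section J φ h
  let w := ((sheafificationAdjunction J AddCommGrpCat.{u}).homEquiv _ _ z)
  let e : ∀ V : Cᵒᵖ, ((constantSheaf J AddCommGrpCat.{u}).obj B).obj.obj V :=
    fun V => η.app V (w.app V (ULift.up 1))
  have he : ∀ {V W : Cᵒᵖ} (g : V ⟶ W), ((constantSheaf J AddCommGrpCat.{u}).obj B).obj.map g (e V) = e W :=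
    fun {V W} g => by
      refine (NatTrans.naturality_apply η g (w.app V (ULift.up 1))).symm.trans ?_
      exact congrArg (η.app W) (NatTrans.naturality_apply w g (ULift.up 1)).symm
  let p : (Functor.const Cᵒᵖ).obj (AddCommGrpCat.of (ULift.{u} ℤ)) ⟶
      ((constantSheaf J AddCommGrpCat.{u}).obj B).obj :=
    { app := fun V => AddCommGrpCat.ofHom
        ((zmultiplesHom _ (e V)).comp (AddEquiv.ulift.{0, u} (α := ℤ)).toAddMonoidHom)
      naturality := fun {V W} g => by
        ext n
        change n.down • e W = ((constantSheaf J AddCommGrpCat.{u}).obj B).obj.map g (n.down • e V)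
        rw [map_zsmul, he] }
  refine ⟨((sheafificationAdjunction J AddCommGrpCat.{u}).homEquiv _ _).symm p, ?_⟩
  refine ((sheafificationAdjunction J AddCommGrpCat.{u}).homEquiv _ _).injective ?_
  refine ((sheafificationAdjunction J AddCommGrpCat.{u}).homEquiv_naturality_right _ _).trans ?_
  rw [Equiv.apply_symm_apply]
  ext V n
  obtain ⟨n⟩ := n
  change ((constantSheaf J AddCommGrpCat.{u}).map φ).hom.app V (n • e V) = w.app V (ULift.up n)
  rw [map_zsmul]
  refine Eq.trans (congrArg (fun x => n • x) (ConcreteCategory.congr_hom (NatTrans.congr_app hη V) (w.app V (ULift.up 1)))) ?_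
  refine (map_zsmul (w.app V).hom n (ULift.up (1 : ℤ))).symm.trans (congrArg (w.app V) ?_)
  exact ULift.ext _ _ (show n • (1 : ℤ) = n by simp)

instance preservesZeroMorphisms_const :
    (constantSheaf J AddCommGrpCat.{u}).PreservesZeroMorphisms := by
  have : (presheafToSheaf J AddCommGrpCat.{u}).Additive :=
    (sheafificationAdjunction J AddCommGrpCat.{u}).left_adjoint_additive
  have : (Functor.const Cᵒᵖ : AddCommGrpCat.{u} ⥤ _).PreservesZeroMorphisms := ⟨fun X Y => by ext; rfl⟩
  exact inferInstanceAs
    ((Functor.const Cᵒᵖ ⋙ presheafToSheaf J AddCommGrpCat.{u}).PreservesZeroMorphisms)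

theorem map_shortExact {S : ShortComplex AddCommGrpCat.{u}} (hS : S.ShortExact) :
    (S.map (constantSheaf J AddCommGrpCat.{u})).ShortExact := by
  have : PreservesFiniteLimits (Functor.const Cᵒᵖ : AddCommGrpCat.{u} ⥤ _) :=
    ⟨fun K _ _ => inferInstance⟩
  have : PreservesFiniteColimits (Functor.const Cᵒᵖ : AddCommGrpCat.{u} ⥤ _) :=
    ⟨fun K _ _ => inferInstance⟩
  have : PreservesFiniteLimits (constantSheaf J AddCommGrpCat.{u}) := comp_preservesFiniteLimits _ _
  have : PreservesFiniteColimits (constantSheaf J AddCommGrpCat.{u}) := comp_preservesFiniteColimits _ _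
  exact hS.map_of_exact _

end Groth.Agent.Fib44.Const
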