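import Groth.Agent.SiteCoh.TypePush
import Groth.Agent.Fib44.CechSurjective
import Groth.Agent.Fib44.CechInjective

/-!
Cartan's criterion on a site with fibre products.
-/

set_option autoImplicit false

universe u

open CategoryTheory CategoryTheory.Limits Opposite CategoryTheory.Abelian

namespace Groth.Agent.Fib44.SiteCech

variable {C : Type u} [SmallCategory C] [HasPullbacks C] {J : GrothendieckTopology C}
variable {U : C} {ι : Type u} (Y : ι → Over U)

/-- Cochains of a presheaf. -/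
abbrev Co (P : Cᵒᵖ ⥤ AddCommGrpCat.{u}) (n : ℕ) : Type u :=
  Cech.Coch Y ((Over.forget U).op ⋙ P) n

/-- The differential on cochains. -/
noncomputable def dC (P : Cᵒᵖ ⥤ AddCommGrpCat.{u}) (n : ℕ) : Co Y P n →+ Co Y P (n + 1) :=
  (Cech.equiv Y _ (n + 1)).toAddMonoidHom.comp
    ((((cechComplexFunctor Y).obj ((Over.forget U).op ⋙ P)).d n (n + 1)).hom.comp
      (Cech.equiv Y _ n).symm.toAddMonoidHom)

set_option backward.isDefEq.respectTransparency false in
lemma dC_apply (P : Cᵒᵖ ⥤ AddCommGrpCat.{u}) (n : ℕ) (f : Co Y P n) (a : Fin (n + 2) → ι) :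
    dC Y P n f a = ∑ j : Fin (n + 2), (-1 : ℤ) ^ (j : ℕ) •
      ((Over.forget U).op ⋙ P).map (Cech.face Y a j.succAbove).op (f (a ∘ j.succAbove)) := by
  refine (Cech.equiv_d Y _ n _ a).trans ?_
  rw [AddEquiv.coe_toAddMonoidHom, AddEquiv.apply_symm_apply]

lemma dC_dC (P : Cᵒᵖ ⥤ AddCommGrpCat.{u}) (n : ℕ) (f : Co Y P n) :
    dC Y P (n + 1) (dC Y P n f) = 0 := by
  simp only [dC, AddMonoidHom.comp_apply, AddEquiv.coe_toAddMonoidHom, AddEquiv.symm_apply_apply]
  refine (congrArg (Cech.equiv Y _ (n + 2)) ?_).trans (map_zero _)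
  exact ConcreteCategory.congr_hom
    (((cechComplexFunctor Y).obj ((Over.forget U).op ⋙ P)).d_comp_d n (n + 1) (n + 2)) _

theorem isZero_iff (P : Cᵒᵖ ⥤ AddCommGrpCat.{u}) (p : ℕ) :
    IsZero (CohCx.cechH P Y (p + 1)) ↔
      ∀ f : Co Y P (p + 1), dC Y P (p + 1) f = 0 → ∃ g, dC Y P p g = f := by
  rw [Cech.isZero_homology_succ_iff]
  constructor
  · intro h f hf
    obtain ⟨g, hg⟩ := h f fun a => (dC_apply Y P (p + 1) f a).symm.trans (congrFun hf a)
    exact ⟨g, funext fun a => (dC_apply Y P p g a).trans (hg a)⟩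
  · intro h f hf
    obtain ⟨g, hg⟩ := h f (funext fun a => (dC_apply Y P (p + 1) f a).trans (hf a))
    exact ⟨g, fun a => (dC_apply Y P p g a).symm.trans (congrFun hg a)⟩

/-- Functoriality on cochains. -/
noncomputable def mapC {P Q : Cᵒᵖ ⥤ AddCommGrpCat.{u}} (φ : P ⟶ Q) (n : ℕ) : Co Y P n →+ Co Y Q n :=
  AddMonoidHom.mk' (fun f a => φ.app (op (∏ᶜ (Y ∘ a)).left) (f a))
    fun f g => funext fun a => map_add (φ.app (op (∏ᶜ (Y ∘ a)).left)).hom _ _

lemma dC_mapC {P Q : Cᵒᵖ ⥤ AddCommGrpCat.{u}} (φ : P ⟶ Q) (n : ℕ) (f : Co Y P n) :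
    dC Y Q n (mapC Y φ n f) = mapC Y φ (n + 1) (dC Y P n f) := by
  funext a
  rw [dC_apply]
  change _ = φ.app (op (∏ᶜ (Y ∘ a)).left) (dC Y P n f a)
  rw [dC_apply]
  refine Eq.trans ?_ (map_sum (φ.app (op (∏ᶜ (Y ∘ a)).left)).hom _ _).symm
  refine Finset.sum_congr rfl fun j _ => ?_
  refine Eq.trans ?_ (map_zsmul (φ.app (op (∏ᶜ (Y ∘ a)).left)).hom _ _).symm
  exact congrArg _ (NatTrans.naturality_apply φ (Cech.face Y a j.succAbove).left.op _).symm

variable {S : ShortComplex (Sheaf J AddCommGrpCat.{u})}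

lemma app_injective (hS : S.ShortExact) (V : C) : Function.Injective (S.f.hom.app (op V)) :=
  (exists_sections_preimage S hS V 0 (map_zero _)).1

lemma app_g_f (V : C) (z : S.X₁.obj.obj (op V)) :
    S.g.hom.app (op V) (S.f.hom.app (op V) z) = 0 :=
  ConcreteCategory.congr_hom (NatTrans.congr_app (congrArg InducedCategory.Hom.hom S.zero) _) z

lemma mapC_injective (hS : S.ShortExact) (n : ℕ) : Function.Injective (mapC Y S.f.hom n) :=
  fun _ _ h => funext fun a => app_injective hS _ (congrFun h a)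

lemma mapC_g_f (n : ℕ) (f : Co Y S.X₁.obj n) : mapC Y S.g.hom n (mapC Y S.f.hom n f) = 0 :=
  funext fun _ => app_g_f _ _

lemma exists_mapC_f (hS : S.ShortExact) (n : ℕ) (b : Co Y S.X₂.obj n)
    (hb : mapC Y S.g.hom n b = 0) : ∃ a, mapC Y S.f.hom n a = b := by
  choose a ha using fun t => (exists_sections_preimage S hS _ (b t) (congrFun hb t)).2
  exact ⟨a, funext ha⟩

/-- The cokernel of a monomorphism into a Čech acyclic sheaf inherits Čech acyclicity. -/
theorem isZero_cokernel (hS : S.ShortExact) (p : ℕ)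
    (hsurj : ∀ a : Fin (p + 2) → ι, Function.Surjective (S.g.hom.app (op (∏ᶜ (Y ∘ a)).left)))
    (h1 : IsZero (CohCx.cechH S.X₁.obj Y (p + 2)))
    (h2 : IsZero (CohCx.cechH S.X₂.obj Y (p + 1))) :
    IsZero (CohCx.cechH S.X₃.obj Y (p + 1)) := by
  rw [isZero_iff]
  intro g hg
  obtain ⟨b, hb'⟩ : ∃ b : Co Y S.X₂.obj (p + 1), mapC Y S.g.hom (p + 1) b = g := by
    choose b hb using fun a => hsurj a (g a)
    exact ⟨b, funext hb⟩
  obtain ⟨e, he⟩ := exists_mapC_f Y hS (p + 2) (dC Y _ (p + 1) b) (by rw [← dC_mapC, hb', hg])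
  obtain ⟨a, ha⟩ := (isZero_iff Y _ (p + 1)).1 h1 e
    (mapC_injective Y hS (p + 3) (by rw [← dC_mapC, he, dC_dC, map_zero]))
  obtain ⟨c, hc⟩ := (isZero_iff Y _ p).1 h2 (b - mapC Y S.f.hom (p + 1) a)
    (by rw [map_sub, dC_mapC, ha, he, sub_self])
  exact ⟨mapC Y S.g.hom p c, by rw [dC_mapC, hc, map_sub, mapC_g_f, sub_zero, hb']⟩

section Cartan

variable (J) (B : Set C) (Cov : ∀ (U : C) (ι : Type u), (ι → Over U) → Prop)
  (h1 : ∀ (U : C) (ι : Type u) (Y : ι → Over U), Cov U ι Y → U ∈ B ∧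
    Sieve.ofArrows (fun i => (Y i).left) (fun i => (Y i).hom) ∈ J U ∧
    ∀ (p : ℕ) (a : Fin (p + 1) → ι), (∏ᶜ fun k => Y (a k)).left ∈ B)
  (h2 : ∀ U ∈ B, ∀ T ∈ J U, ∃ (ι : Type u) (Y : ι → Over U), Cov U ι Y ∧ ∀ i, T.arrows (Y i).hom)

include h1 h2 in
theorem cartan : ∀ (p : ℕ) (F : Sheaf J AddCommGrpCat.{u}),
    (∀ (U : C) (ι : Type u) (Y : ι → Over U), Cov U ι Y → ∀ q, IsZero (CohCx.cechH F.obj Y (q + 1))) →
    ∀ U ∈ B, Subsingleton (Ext (CohCx.freeSheaf J U) F (p + 1)) := by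
  have hs : ∀ (F : Sheaf J AddCommGrpCat.{u}),
      (∀ (U : C) (ι : Type u) (Y : ι → Over U), Cov U ι Y → ∀ q, IsZero (CohCx.cechH F.obj Y (q + 1))) →
      ∀ U ∈ B, Function.Surjective ((SiteCoh.injSES F).g.hom.app (op U)) := by
    intro F hF U hU
    refine surjective_of_cechH_one _ (SiteCoh.injSES_shortExact F) U fun T hT => ?_
    obtain ⟨ι, Y, hY, hT'⟩ := h2 U hU T hT
    exact ⟨ι, Y, hT', (h1 U ι Y hY).2.1, hF U ι Y hY 0⟩
  intro p
  induction p with
  | zero =>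
    intro F hF U hU
    refine subsingleton_of_forall_eq 0 fun x => ?_
    have hS := SiteCoh.injSES_shortExact F
    have : Subsingleton (Ext.{u} (CohCx.freeSheaf J U) (SiteCoh.injSES F).X₂ (0 + 1)) :=
      Ext.subsingleton_of_injective _ (Injective.under F) 0
    obtain ⟨c, rfl⟩ := SiteCoh.exists_comp_extClass hS (CohCx.freeSheaf J U) 0 x
    obtain ⟨s, rfl⟩ := (SiteCoh.hu0Equiv (SiteCoh.injSES F).X₃ U).symm.surjective c
    obtain ⟨t, rfl⟩ := hs F hF U hU s
    rw [← SiteCoh.hu0Equiv_symm_comp_mk₀, Ext.comp_assoc_of_second_deg_zero, hS.comp_extClass,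
      Ext.comp_zero]
  | succ p ih =>
    intro F hF U hU
    refine subsingleton_of_forall_eq 0 fun x => ?_
    have hS := SiteCoh.injSES_shortExact F
    have hG : ∀ (U : C) (ι : Type u) (Y : ι → Over U), Cov U ι Y →
        ∀ q, IsZero (CohCx.cechH (SiteCoh.injSES F).X₃.obj Y (q + 1)) := fun U ι Y hY q =>
      isZero_cokernel Y hS q (fun a => hs F hF _ ((h1 U ι Y hY).2.2 (q + 1) a)) (hF U ι Y hY (q + 1))
        (@CechInj.isZero_cechH _ _ U ι Y _ J (SiteCoh.injSES F).X₂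
          (inferInstanceAs (Injective (Injective.under F))) q)
    have : Subsingleton (Ext.{u} (CohCx.freeSheaf J U) (SiteCoh.injSES F).X₂ (p + 1 + 1)) :=
      Ext.subsingleton_of_injective _ (Injective.under F) (p + 1)
    obtain ⟨y, rfl⟩ := SiteCoh.exists_comp_extClass hS (CohCx.freeSheaf J U) (p + 1) x
    rw [@Subsingleton.elim _ (ih _ hG U hU) y 0, Ext.zero_comp]

end Cartan

end Groth.Agent.Fib44.SiteCech
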