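import Groth.Agent.Fib44.ConstSections
import Groth.Agent.Fib44.SiteCech

/-!
Classes killed by a locally nonzero section of the constant sheaf of integers.
-/

set_option autoImplicit false

universe u

open CategoryTheory CategoryTheory.Limits Opposite

namespace Groth.Agent.Fib44.Const

variable {C : Type u} [SmallCategory C] (J : GrothendieckTopology C) {A : AddCommGrpCat.{u}}

/-- The underlying constant sheaf. -/
noncomputable abbrev cst (A : AddCommGrpCat.{u}) : Sheaf J AddCommGrpCat.{u} :=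
  (constantSheaf J AddCommGrpCat.{u}).obj A

variable {J} in
lemma sep {F : Sheaf J AddCommGrpCat.{u}} {V : C} {S : Sieve V} (hS : S ∈ J V) {s t : F.obj.obj (op V)}
    (h : ∀ (W : C) (g : W ⟶ V), S g → F.obj.map g.op s = F.obj.map g.op t) : s = t :=
  (((isSheaf_iff_isSheaf_of_type _ _).1 ((sheafCompose J (forget AddCommGrpCat.{u})).obj F).property)
    _ hS).isSeparatedFor.ext fun W g hg => h W g hg

variable {J} in
lemma sections_eq {V : C} (h : (⊥ : Sieve V) ∈ J V) (F : Sheaf J AddCommGrpCat.{u})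
    (s t : F.obj.obj (op V)) : s = t :=
  sep h fun _ _ hg => hg.elim

lemma exists_const (V : C) (a : (cst J A).obj.obj (op V)) :
    ∃ S ∈ J V, ∀ (W : C) (g : W ⟶ V), S g →
      ∃ a₀ : A, (cst J A).obj.map g.op a = (unit J A).app (op W) a₀ := by
  have : Presheaf.IsLocallySurjective J (unit J A) :=
    ((J.W_iff_isLocallyBijective _).1 (J.W_toSheafify ((Functor.const Cᵒᵖ).obj A))).2
  exact ⟨_, Presheaf.imageSieve_mem J (unit J A) a, fun W g ⟨a₀, ha⟩ => ⟨a₀, ha.symm⟩⟩

/-- A set map of `A`, on the constant sheaf. -/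
lemma exists_ext (σ : A → A) :
    ∃ η : (cst J A).obj ⋙ forget AddCommGrpCat.{u} ⟶ (cst J A).obj ⋙ forget AddCommGrpCat.{u},
      ∀ (V : Cᵒᵖ) (a₀ : A), η.app V ((unit J A).app V a₀) = (unit J A).app V (σ a₀) := by
  obtain ⟨η, hη⟩ := (W_unit J A _ ((sheafCompose J (forget AddCommGrpCat.{u})).obj (cst J A)).property).2
    (pre J σ)
  exact ⟨η, fun V a₀ => ConcreteCategory.congr_hom (NatTrans.congr_app hη V) a₀⟩

/-- Canonical quotients. -/
lemma exists_quot (hA : ∀ (m : ℤ) (a : A), m ≠ 0 → m • a = 0 → a = 0) {n : ℤ} (hn : n ≠ 0) :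
    ∃ δ : A → A, ∀ a b, δ (a + n • b) = δ a + b := by
  let H : AddSubgroup A := (DistribSMul.toAddMonoidHom A n).range
  let r : A → A := fun a => (QuotientAddGroup.mk a : A ⧸ H).out
  have hr : ∀ a, ∃ b, n • b = a - r a := fun a => by
    have h : -r a + a ∈ H := (QuotientAddGroup.eq).1 (Quotient.out_eq _)
    obtain ⟨b, hb⟩ := h
    exact ⟨b, hb.trans (neg_add_eq_sub _ _)⟩
  choose δ hδ using hr
  refine ⟨δ, fun a b => ?_⟩
  have e : r (a + n • b) = r a := congrArg Quotient.out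
    ((QuotientAddGroup.eq).2 (show -(a + n • b) + a ∈ H from ⟨-b, show n • -b = _ by rw [zsmul_neg]; abel⟩))
  refine sub_eq_zero.1 (hA n _ hn ?_)
  rw [zsmul_sub, zsmul_add, hδ, hδ, e]
  abel

variable {S : ShortComplex (Sheaf J AddCommGrpCat.{u})} (e : cst J A ≅ S.X₁)

include e in
/-- Torsion lemma: a map into the cokernel whose multiple lifts, lifts. -/
theorem exists_lift_of_smul (hS : S.ShortExact) (hA : ∀ (m : ℤ) (a : A), m ≠ 0 → m • a = 0 → a = 0)
    {φ : cst J (AddCommGrpCat.of (ULift.{u} ℤ)) ⟶ cst J (AddCommGrpCat.of (ULift.{u} ℤ))}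
    {ι : Type u} (U : ι → C) (n : ι → ℤ) (hn : ∀ i, n i ≠ 0)
    (hφ : ∀ (i : ι) (V : C) (_ : V ⟶ U i), φ.hom.app (op V) = n i • 𝟙 _)
    (hcov : ∀ V : C, ∃ R ∈ J V, ∀ ⦃W : C⦄ (g : W ⟶ V), R g → ∃ i, Nonempty (W ⟶ U i))
    (z : cst J (AddCommGrpCat.of (ULift.{u} ℤ)) ⟶ S.X₃)
    (w : cst J (AddCommGrpCat.of (ULift.{u} ℤ)) ⟶ S.X₂) (hw : w ≫ S.g = φ ≫ z) :
    ∃ y, y ≫ S.g = z := by
  let Zu := AddCommGrpCat.of (ULift.{u} ℤ)
  let one : ∀ V : Cᵒᵖ, (cst J Zu).obj.obj V := fun V => (unit J Zu).app V (ULift.up 1)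
  have hone : ∀ {V W : Cᵒᵖ} (g : V ⟶ W), (cst J Zu).obj.map g (one V) = one W := fun {V W} g =>
    (NatTrans.naturality_apply (unit J Zu) g (ULift.up 1)).symm
  let s : ∀ V : Cᵒᵖ, S.X₃.obj.obj V := fun V => z.hom.app V (one V)
  have hs : ∀ {V W : Cᵒᵖ} (g : V ⟶ W), S.X₃.obj.map g (s V) = s W := fun {V W} g =>
    (NatTrans.naturality_apply z.hom g (one V)).symm.trans (congrArg (z.hom.app W) (hone g))
  let t : ∀ V : Cᵒᵖ, S.X₂.obj.obj V := fun V => w.hom.app V (one V)
  have ht : ∀ {V W : Cᵒᵖ} (g : V ⟶ W), S.X₂.obj.map g (t V) = t W := fun {V W} g =>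
    (NatTrans.naturality_apply w.hom g (one V)).symm.trans (congrArg (w.hom.app W) (hone g))
  have hgt : ∀ (i : ι) (V : C) (_ : V ⟶ U i), S.g.hom.app (op V) (t (op V)) = n i • s (op V) :=
    fun i V f => by
      refine (ConcreteCategory.congr_hom (NatTrans.congr_app
        (congrArg InducedCategory.Hom.hom hw) (op V)) (one (op V))).trans ?_
      change z.hom.app (op V) (φ.hom.app (op V) (one (op V))) = _
      rw [hφ i V f]
      exact map_zsmul (z.hom.app (op V)).hom (n i) _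
  have heq : ∀ (i j : ι) (V : C) (_ : V ⟶ U i) (_ : V ⟶ U j), n i = n j ∨ (⊥ : Sieve V) ∈ J V :=
    fun i j V f f' => by
      refine or_iff_not_imp_left.2 fun hne => ?_
      have h1 : (n i - n j) • one (op V) = 0 := by
        have h := ConcreteCategory.congr_hom ((hφ i V f).symm.trans (hφ j V f')) (one (op V))
        rw [sub_zsmul, add_neg_eq_zero]
        exact h
      have h2 : (unit J Zu).app (op V) (ULift.up (n i - n j)) = (unit J Zu).app (op V) 0 := by
        refine Eq.trans ?_ (map_zero ((unit J Zu).app (op V)).hom).symm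
        refine Eq.trans ?_ h1
        refine Eq.trans ?_ (map_zsmul ((unit J Zu).app (op V)).hom _ _)
        exact congrArg _ (ULift.ext _ _ (show n i - n j = (n i - n j) • (1 : ℤ) by simp))
      have : Presheaf.IsLocallyInjective J (unit J Zu) :=
        ((J.W_iff_isLocallyBijective _).1 (J.W_toSheafify ((Functor.const Cᵒᵖ).obj Zu))).1
      refine J.superset_covering (fun W g hg => ?_) (Presheaf.equalizerSieve_mem J (unit J Zu) _ _ h2)
      exact absurd (sub_eq_zero.1 (congrArg ULift.down hg)) hne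
  choose δ₀ hδ₀ using fun m : {m : ℤ // m ≠ 0} => exists_quot hA m.2
  choose δ hδ using fun m => exists_ext J (δ₀ m)
  let D : {m : ℤ // m ≠ 0} → ∀ V : C, (cst J A).obj.obj (op V) → (cst J A).obj.obj (op V) :=
    fun m V a => (δ m).app (op V) a
  have hDres : ∀ (m : {m : ℤ // m ≠ 0}) (V W : C) (g : W ⟶ V) (a : (cst J A).obj.obj (op V)),
      D m W ((cst J A).obj.map g.op a) = (cst J A).obj.map g.op (D m V a) :=
    fun m V W g a => NatTrans.naturality_apply (δ m) g.op a
  have hid : ∀ (m : {m : ℤ // m ≠ 0}) (V : C) (a b : (cst J A).obj.obj (op V)),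
      D m V (a + m.1 • b) = D m V a + b := by
    intro m V a b
    obtain ⟨P, hP, hPa⟩ := exists_const J V a
    obtain ⟨Q, hQ, hQb⟩ := exists_const J V b
    refine sep (J.intersection_covering hP hQ) fun W g hg => ?_
    obtain ⟨a₀, ha⟩ := hPa W g hg.1
    obtain ⟨b₀, hb⟩ := hQb W g hg.2
    rw [← hDres, map_add, map_add, map_zsmul, ← hDres, ha, hb,
      show (unit J A).app (op W) a₀ + m.1 • (unit J A).app (op W) b₀ =
        (unit J A).app (op W) (a₀ + m.1 • b₀) from
      ((map_add _ _ _).trans (congrArg _ (map_zsmul _ _ _))).symm,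
      show D m W ((unit J A).app (op W) (a₀ + m.1 • b₀)) = _ from hδ m _ _,
      show D m W ((unit J A).app (op W) a₀) = _ from hδ m _ _, hδ₀]
    exact map_add _ _ _
  let k : ∀ V : Cᵒᵖ, (cst J A).obj.obj V →+ S.X₂.obj.obj V := fun V => ((e.hom ≫ S.f).hom.app V).hom
  have hk : ∀ V : C, Function.Injective (k (op V)) := fun V => by
    have : Mono S.f := hS.mono_f
    have : Mono ((sheafToPresheaf J AddCommGrpCat.{u} ⋙
      (evaluation Cᵒᵖ AddCommGrpCat.{u}).obj (op V)).map (e.hom ≫ S.f)) := inferInstance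
    exact (AddCommGrpCat.mono_iff_injective _).1 this
  have hgk : ∀ (V : C) (a : (cst J A).obj.obj (op V)), S.g.hom.app (op V) (k (op V) a) = 0 :=
    fun V a => ConcreteCategory.congr_hom (NatTrans.congr_app
      (congrArg InducedCategory.Hom.hom S.zero) (op V)) (e.hom.hom.app (op V) a)
  have hker : ∀ (V : C) (y : S.X₂.obj.obj (op V)), S.g.hom.app (op V) y = 0 → ∃ a, k (op V) a = y :=
    fun V y hy => by
      obtain ⟨a, rfl⟩ := (exists_sections_preimage S hS V y hy).2
      refine ⟨e.inv.hom.app (op V) a, congrArg (S.f.hom.app (op V)) ?_⟩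
      exact ConcreteCategory.congr_hom (NatTrans.congr_app
        (congrArg InducedCategory.Hom.hom e.inv_hom_id) (op V)) a
  let Q : ι → ∀ V : C, S.X₂.obj.obj (op V) → Prop := fun i V y =>
    S.g.hom.app (op V) y = s (op V) ∧
      ∃ a, k (op V) a = n i • y - t (op V) ∧ D ⟨n i, hn i⟩ V a = 0
  have hQres : ∀ (i : ι) (V W : C) (g : W ⟶ V) (y : S.X₂.obj.obj (op V)), Q i V y →
      Q i W (S.X₂.obj.map g.op y) := by
    rintro i V W g y ⟨hy, a, ha, hda⟩
    refine ⟨(NatTrans.naturality_apply S.g.hom g.op y).trans ((congrArg _ hy).trans (hs g.op)),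
      (cst J A).obj.map g.op a, ?_, ?_⟩
    · refine (NatTrans.naturality_apply (e.hom ≫ S.f).hom g.op a).trans ?_
      refine (congrArg (S.X₂.obj.map g.op) ha).trans ?_
      rw [map_sub, map_zsmul, ht]
    · rw [hDres, hda, map_zero]
  have hQuniq : ∀ (i j : ι) (V : C) (_ : V ⟶ U i) (_ : V ⟶ U j) (y y' : S.X₂.obj.obj (op V)),
      Q i V y → Q j V y' → y = y' := by
    intro i j V f f' y y' h h'
    rcases heq i j V f f' with hij | hbot
    swap
    · exact sections_eq hbot _ _ _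
    obtain ⟨hy, a, ha, hda⟩ := h
    obtain ⟨hy', a', ha', hda'⟩ := h'
    rw [← hij] at ha'
    rw [show (⟨n j, hn j⟩ : {m : ℤ // m ≠ 0}) = ⟨n i, hn i⟩ from Subtype.ext hij.symm] at hda'
    obtain ⟨b, hb⟩ := hker V (y' - y) (by rw [map_sub, hy, hy', sub_self])
    have hab : a' = a + n i • b := hk V (by
      rw [map_add, map_zsmul, ha, ha', hb, zsmul_sub]; abel)
    have hb0 : b = 0 := by
      have := hid ⟨n i, hn i⟩ V a b
      rw [← hab, hda', hda, zero_add] at this
      exact this.symm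
    rw [hb0, map_zero] at hb
    exact (sub_eq_zero.1 hb.symm).symm
  let Gd : C → Prop := fun V => ∃ (y : S.X₂.obj.obj (op V)) (i : ι), Nonempty (V ⟶ U i) ∧ Q i V y
  have hGres : ∀ (V W : C), (W ⟶ V) → Gd V → Gd W := fun V W g ⟨y, i, ⟨f⟩, h⟩ =>
    ⟨_, i, ⟨g ≫ f⟩, hQres i V W g y h⟩
  choose c hc using fun (V : C) (h : Gd V) => h
  have hcres : ∀ (V W : C) (g : W ⟶ V) (h : Gd V),
      S.X₂.obj.map g.op (c V h) = c W (hGres V W g h) := by
    intro V W g h
    obtain ⟨i, ⟨f⟩, hi⟩ := hc V h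
    obtain ⟨j, ⟨f'⟩, hj⟩ := hc W (hGres V W g h)
    exact hQuniq i j W (g ≫ f) f' _ _ (hQres i V W g _ hi) hj
  let GS : ∀ V : C, Sieve V := fun V =>
    { arrows := fun W _ => Gd W
      downward_closed := fun {_ _ _} h g => hGres _ _ g h }
  have hexists : ∀ (V : C) (i : ι) (_ : V ⟶ U i) (y : S.X₂.obj.obj (op V)),
      S.g.hom.app (op V) y = s (op V) → Gd V := by
    intro V i f y hy
    obtain ⟨a, ha⟩ := hker V (n i • y - t (op V))
      (by rw [map_sub, map_zsmul, hy, hgt i V f, sub_self])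
    refine ⟨y - k (op V) (D ⟨n i, hn i⟩ V a), i, ⟨f⟩, ?_, a - n i • D ⟨n i, hn i⟩ V a, ?_, ?_⟩
    · rw [map_sub, hy, hgk, sub_zero]
    · rw [map_sub, map_zsmul, ha, zsmul_sub]
      abel
    · have h := hid ⟨n i, hn i⟩ V a (-D ⟨n i, hn i⟩ V a)
      rw [zsmul_neg, ← sub_eq_add_neg, add_neg_cancel] at h
      exact h
  have hGS : ∀ V : C, GS V ∈ J V := by
    intro V
    obtain ⟨R, hR, hRU⟩ := hcov V
    have : Epi S.g := hS.epi_g
    have : Presheaf.IsLocallySurjective J S.g.hom :=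
      (Sheaf.isLocallySurjective_iff_epi' AddCommGrpCat.{u} S.g).2 inferInstance
    refine J.superset_covering (fun W g hg => ?_)
      (J.intersection_covering hR (Presheaf.imageSieve_mem J S.g.hom (s (op V))))
    obtain ⟨i, ⟨f⟩⟩ := hRU g hg.1
    obtain ⟨y, hy⟩ := hg.2
    exact hexists W i f y (hy.trans (hs g.op))
  have hamal : ∀ V : C, ∃ x : S.X₂.obj.obj (op V),
      ∀ (W : C) (g : W ⟶ V) (h : Gd W), S.X₂.obj.map g.op x = c W h := by
    intro V
    let x : Presieve.FamilyOfElements (S.X₂.obj ⋙ forget AddCommGrpCat.{u}) (GS V).arrows :=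
      fun W _ h => c W h
    have hx : x.Compatible := by
      rw [Presieve.compatible_iff_sieveCompatible]
      intro W W' g g' hg
      exact (hcres W W' g' hg).symm
    obtain ⟨x₀, hx₀, -⟩ := ((isSheaf_iff_isSheaf_of_type _ _).1
      ((sheafCompose J (forget AddCommGrpCat.{u})).obj S.X₂).property) _ (hGS V) x hx
    exact ⟨x₀, fun W g h => hx₀ g h⟩
  choose v hv using hamal
  have hvres : ∀ (V W : Cᵒᵖ) (g : V ⟶ W), S.X₂.obj.map g (v V.unop) = v W.unop := by
    intro V W g
    refine sep (hGS W.unop) fun X f h => ?_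
    rw [hv W.unop X f h]
    refine Eq.trans ?_ (hv V.unop X (f ≫ g.unop) h)
    exact (ConcreteCategory.congr_hom (S.X₂.obj.map_comp g f.op) (v V.unop)).symm
  have hgv : ∀ V : C, S.g.hom.app (op V) (v V) = s (op V) := fun V => by
    refine sep (hGS V) fun W g h => ?_
    refine (NatTrans.naturality_apply S.g.hom g.op (v V)).symm.trans ?_
    rw [hv V W g h, hs]
    exact (hc W h).choose_spec.2.1
  let p : (Functor.const Cᵒᵖ).obj Zu ⟶ S.X₂.obj :=
    { app := fun V => AddCommGrpCat.ofHom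
        ((zmultiplesHom _ (v V.unop)).comp (AddEquiv.ulift.{0, u} (α := ℤ)).toAddMonoidHom)
      naturality := fun {V W} g => by
        ext m
        change m.down • v W.unop = S.X₂.obj.map g (m.down • v V.unop)
        rw [map_zsmul, hvres] }
  refine ⟨((sheafificationAdjunction J AddCommGrpCat.{u}).homEquiv _ _).symm p, ?_⟩
  refine ((sheafificationAdjunction J AddCommGrpCat.{u}).homEquiv _ _).injective ?_
  refine ((sheafificationAdjunction J AddCommGrpCat.{u}).homEquiv_naturality_right _ _).trans ?_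
  rw [Equiv.apply_symm_apply]
  ext V m
  obtain ⟨m⟩ := m
  change S.g.hom.app V (m • v V.unop) = z.hom.app V ((unit J Zu).app V (ULift.up m))
  refine (map_zsmul (S.g.hom.app V).hom m (v V.unop)).trans ?_
  refine (congrArg (fun x => m • x) (hgv V.unop)).trans ?_
  refine (map_zsmul (z.hom.app V).hom m (one V)).symm.trans (congrArg (z.hom.app V) ?_)
  refine (map_zsmul ((unit J Zu).app V).hom m _).symm.trans (congrArg _ ?_)
  exact ULift.ext _ _ (show m • (1 : ℤ) = m by simp)

end Groth.Agent.Fib44.Const
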