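import Mathlib.AlgebraicTopology.AlternatingFaceMapComplex
import Mathlib.Algebra.Category.Grp.Adjunctions
import Mathlib.Algebra.Category.Grp.Abelian
import Mathlib.Algebra.Homology.ShortComplex.Ab
import Mathlib.CategoryTheory.Abelian.FunctorCategory
import Mathlib.CategoryTheory.Preadditive.Injective.Basic
import Mathlib.CategoryTheory.Abelian.Exact
import Mathlib.Algebra.Homology.ShortComplex.Exact

/-!
Injective cosimplicial abelian groups have no higher cohomotopy.
-/

set_option autoImplicit false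
set_option backward.isDefEq.respectTransparency false
set_option backward.isDefEq.respectTransparency.types false

universe u

open CategoryTheory CategoryTheory.Limits Simplicial Opposite

namespace Groth.Agent.Fib44.CosimpAb

/-- The represented functor, in a large universe. -/
abbrev rep (n : ℕ) : SimplexCategory ⥤ Type u := coyoneda.obj (op ⦋n⦌) ⋙ uliftFunctor.{u}

/-- The free cosimplicial group on a standard simplex. -/
noncomputable abbrev Z (n : ℕ) : SimplexCategory ⥤ AddCommGrpCat.{u} := rep n ⋙ AddCommGrpCat.free.{u}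

/-- Prepend the least vertex. -/
def cone {n : ℕ} {m : SimplexCategory} (f : ⦋n⦌ ⟶ m) : ⦋n + 1⦌ ⟶ m :=
  SimplexCategory.Hom.mk ⟨Fin.cases 0 f.toOrderHom, fun i j h => by
    induction i using Fin.cases with
    | zero => exact Fin.zero_le _
    | succ i =>
      induction j using Fin.cases with
      | zero => exact absurd h (by simp)
      | succ j =>
        simpa using f.toOrderHom.monotone (by simpa using h)⟩

lemma δ_zero_cone {n : ℕ} {m : SimplexCategory} (f : ⦋n⦌ ⟶ m) :
    SimplexCategory.δ 0 ≫ cone f = f := by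
  ext k : 3
  change Fin.cases (motive := fun _ => Fin (m.len + 1)) 0 f.toOrderHom ((0 : Fin (n + 2)).succAbove k) = _
  rw [Fin.succAbove_zero, Fin.cases_succ]

lemma δ_succ_cone {n : ℕ} {m : SimplexCategory} (f : ⦋n + 1⦌ ⟶ m) (i : Fin (n + 2)) :
    SimplexCategory.δ i.succ ≫ cone f = cone (SimplexCategory.δ i ≫ f) := by
  ext k : 3
  change Fin.cases (motive := fun _ => Fin (m.len + 1)) 0 f.toOrderHom (i.succ.succAbove k) =
    Fin.cases (motive := fun _ => Fin (m.len + 1)) 0 (SimplexCategory.δ i ≫ f).toOrderHom k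
  induction k using Fin.cases with
  | zero => rw [Fin.succ_succAbove_zero, Fin.cases_zero, Fin.cases_zero]
  | succ k => rw [Fin.succ_succAbove_succ, Fin.cases_succ, Fin.cases_succ]; rfl

/-- The boundary over an object. -/
noncomputable def dV (n : ℕ) (m : SimplexCategory) :
    FreeAbelianGroup (ULift.{u} (⦋n + 1⦌ ⟶ m)) →+ FreeAbelianGroup (ULift.{u} (⦋n⦌ ⟶ m)) :=
  FreeAbelianGroup.lift fun f => ∑ j : Fin (n + 2),
    (-1 : ℤ) ^ (j : ℕ) • FreeAbelianGroup.of (ULift.up (SimplexCategory.δ j ≫ f.down))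

/-- The homotopy. -/
noncomputable def hV (n : ℕ) (m : SimplexCategory) :
    FreeAbelianGroup (ULift.{u} (⦋n⦌ ⟶ m)) →+ FreeAbelianGroup (ULift.{u} (⦋n + 1⦌ ⟶ m)) :=
  FreeAbelianGroup.map fun f => ULift.up (cone f.down)

theorem homotopy (n : ℕ) (m : SimplexCategory) :
    (dV.{u} (n + 1) m).comp (hV (n + 1) m) + (hV n m).comp (dV n m) = AddMonoidHom.id _ := by
  refine FreeAbelianGroup.lift_ext _ _ fun x => ?_
  simp only [AddMonoidHom.add_apply, AddMonoidHom.comp_apply, AddMonoidHom.id_apply, hV, dV,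
    FreeAbelianGroup.map_of_apply, FreeAbelianGroup.lift_apply_of, map_sum, map_zsmul]
  rw [Fin.sum_univ_succ]
  simp only [Fin.val_zero, pow_zero, one_smul, δ_zero_cone, Fin.val_succ, δ_succ_cone,
    pow_succ, mul_neg, mul_one, neg_smul, Finset.sum_neg_distrib, ULift.up_down]
  abel

/-- The boundary. -/
noncomputable def dZ (n : ℕ) : Z.{u} (n + 1) ⟶ Z n where
  app m := AddCommGrpCat.ofHom (X := FreeAbelianGroup (ULift.{u} (⦋n + 1⦌ ⟶ m)))
    (Y := FreeAbelianGroup (ULift.{u} (⦋n⦌ ⟶ m))) (dV n m)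
  naturality {m m'} g := by
    refine AddCommGrpCat.hom_ext (FreeAbelianGroup.lift_ext _ _ fun f => ?_)
    change dV n m' (FreeAbelianGroup.map _ (FreeAbelianGroup.of f)) =
      FreeAbelianGroup.map _ (dV n m (FreeAbelianGroup.of f))
    rw [FreeAbelianGroup.map_of_apply]
    simp only [dV, FreeAbelianGroup.lift_apply_of, map_sum, map_zsmul, FreeAbelianGroup.map_of_apply]
    rfl

variable (K : SimplexCategory ⥤ AddCommGrpCat.{u})

/-- The map out of a free cosimplicial group given by an element. -/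
noncomputable def toZ {n : ℕ} (x : K.obj ⦋n⦌) : Z.{u} n ⟶ K where
  app m := AddCommGrpCat.ofHom (X := FreeAbelianGroup (ULift.{u} (⦋n⦌ ⟶ m))) (Y := K.obj m)
    (FreeAbelianGroup.lift fun f => K.map f.down x)
  naturality {m m'} g := by
    refine AddCommGrpCat.hom_ext (FreeAbelianGroup.lift_ext _ _ fun f => ?_)
    change FreeAbelianGroup.lift _ (FreeAbelianGroup.map _ (FreeAbelianGroup.of f)) =
      K.map g (FreeAbelianGroup.lift _ (FreeAbelianGroup.of f))
    rw [FreeAbelianGroup.map_of_apply, FreeAbelianGroup.lift_apply_of, FreeAbelianGroup.lift_apply_of]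
    exact ConcreteCategory.congr_hom (K.map_comp f.down g) x

/-- The differential on elements. -/
noncomputable abbrev d (n : ℕ) (x : K.obj ⦋n⦌) : K.obj ⦋n + 1⦌ :=
  ∑ j : Fin (n + 2), (-1 : ℤ) ^ (j : ℕ) • K.map (SimplexCategory.δ j) x

theorem exists_preimage [Injective K] (n : ℕ) (x : K.obj ⦋n + 1⦌) (hx : d K (n + 1) x = 0) :
    ∃ y, d K n y = x := by
  have h0 : kernel.ι (dZ.{u} n) ≫ toZ K x = 0 := by
    ext m k
    let z : FreeAbelianGroup (ULift.{u} (⦋n + 1⦌ ⟶ m)) := (kernel.ι (dZ.{u} n)).app m k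
    have hz : dV n m z = 0 :=
      ConcreteCategory.congr_hom (NatTrans.congr_app (kernel.condition (dZ.{u} n)) m) k
    have hz' : z = dV (n + 1) m (hV (n + 1) m z) := by
      have := DFunLike.congr_fun (homotopy.{u} n m) z
      simp only [AddMonoidHom.add_apply, AddMonoidHom.comp_apply, AddMonoidHom.id_apply, hz,
        map_zero, add_zero] at this
      exact this.symm
    have key : (FreeAbelianGroup.lift fun f : ULift.{u} (⦋n + 1⦌ ⟶ m) => K.map f.down x).comp
        (dV.{u} (n + 1) m) = 0 := by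
      refine FreeAbelianGroup.lift_ext _ _ fun f => ?_
      rw [AddMonoidHom.zero_apply, AddMonoidHom.comp_apply, dV, FreeAbelianGroup.lift_apply_of, map_sum]
      refine Eq.trans (Finset.sum_congr rfl fun j _ => ?_)
        ((map_sum (K.map f.down).hom _ _).symm.trans ((congrArg (K.map f.down) hx).trans (map_zero _)))
      rw [map_zsmul, map_zsmul, FreeAbelianGroup.lift_apply_of]
      exact congrArg _ (ConcreteCategory.congr_hom (K.map_comp _ _) x)
    change (FreeAbelianGroup.lift fun f : ULift.{u} (⦋n + 1⦌ ⟶ m) => K.map f.down x) z = 0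
    rw [hz']
    exact DFunLike.congr_fun key _
  have hE : (ShortComplex.mk (kernel.ι (dZ.{u} n)) (dZ n) (kernel.condition _)).Exact :=
    ShortComplex.exact_of_f_is_kernel _ (kernelIsKernel _)
  let y : Z.{u} n ⟶ K := hE.descToInjective (toZ K x) h0
  have hy : dZ n ≫ y = toZ K x := hE.comp_descToInjective (toZ K x) h0
  let y' : ∀ m, FreeAbelianGroup (ULift.{u} (⦋n⦌ ⟶ m)) →+ K.obj m := fun m => (y.app m).hom
  refine ⟨y' ⦋n⦌ (FreeAbelianGroup.of (ULift.up (𝟙 _))), ?_⟩
  have h := ConcreteCategory.congr_hom (NatTrans.congr_app hy ⦋n + 1⦌)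
    (FreeAbelianGroup.of (ULift.up (𝟙 _)) : FreeAbelianGroup (ULift.{u} (⦋n + 1⦌ ⟶ ⦋n + 1⦌)))
  change y' _ (dV n _ (FreeAbelianGroup.of (ULift.up (𝟙 _)))) =
    FreeAbelianGroup.lift (fun f : ULift.{u} (⦋n + 1⦌ ⟶ ⦋n + 1⦌) => K.map f.down x)
      (FreeAbelianGroup.of (ULift.up (𝟙 _))) at h
  rw [FreeAbelianGroup.lift_apply_of, dV, FreeAbelianGroup.lift_apply_of, map_sum] at h
  simp only [CategoryTheory.Functor.map_id, map_zsmul, Category.comp_id] at h
  refine Eq.trans (Finset.sum_congr rfl fun j _ => congrArg _ ?_) h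
  refine (NatTrans.naturality_apply y (SimplexCategory.δ j) _).symm.trans ?_
  refine congrArg (y' _) ((FreeAbelianGroup.map_of_apply _).trans ?_)
  exact congrArg FreeAbelianGroup.of (ULift.ext _ _ (show 𝟙 _ ≫ SimplexCategory.δ j = _ from Category.id_comp _))

end Groth.Agent.Fib44.CosimpAb
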