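import Groth.Agent.Fib44.DenseExtend
import Groth.Agent.AlgSt88.Based

/-!
Two stacks sharing a dense full subcategory are equivalent.
-/

set_option autoImplicit false
set_option linter.style.haveILetI false
set_option backward.isDefEq.respectTransparency false
set_option backward.isDefEq.respectTransparency.types false

universe v₄ u₄ v₃ u₃ v₂ u₂ v u

open CategoryTheory CategoryTheory.Functor

namespace Groth.Agent.Fib44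

variable {C : Type u} [Category.{v} C] {J : GrothendieckTopology C}
variable {𝒜 : BasedCategory.{v₂, u₂} C} {ℬ : BasedCategory.{v₃, u₃} C}
  {𝒳 : BasedCategory.{v₄, u₄} C}

theorem exists_equiv_of_dense (h𝒳 : Stk.IsStack J 𝒳) (hℬ : Stk.IsStack J ℬ)
    (hA' : ∀ {a : 𝒜.obj} {V : C} (g : V ⟶ 𝒜.p.obj a),
      ∃ (a' : 𝒜.obj) (k : a' ⟶ a), 𝒜.p.IsHomLift g k)
    (inc : 𝒜 ⥤ᵇ ℬ) [inc.toFunctor.Full] [inc.toFunctor.Faithful]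
    (F : 𝒜 ⥤ᵇ 𝒳) [F.toFunctor.Full] [F.toFunctor.Faithful]
    (hd : ∀ b : ℬ.obj, ∃ R ∈ J (ℬ.p.obj b), ∀ ⦃V : C⦄ (g : V ⟶ ℬ.p.obj b), R g →
      ∃ (a : 𝒜.obj) (m : inc.obj a ⟶ b), ℬ.p.IsHomLift g m)
    (hd' : ∀ b : 𝒳.obj, ∃ R ∈ J (𝒳.p.obj b), ∀ ⦃V : C⦄ (g : V ⟶ 𝒳.p.obj b), R g →
      ∃ (a : 𝒜.obj) (m : F.obj a ⟶ b), 𝒳.p.IsHomLift g m) :
    ∃ Φ : ℬ ⥤ᵇ 𝒳, FibCat.IsEquivOver Φ ∧ Nonempty (BasedFunctor.comp inc Φ ≅ F) := by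
  obtain ⟨Φ, ⟨e⟩⟩ := exists_extend (F := F) h𝒳 hℬ.1 hA' hd
  obtain ⟨Ψ, ⟨e'⟩⟩ := exists_extend (F := inc) hℬ h𝒳.1 hA' hd'
  let i1 : BasedFunctor.comp inc (BasedFunctor.comp Φ Ψ) ≅
      BasedFunctor.comp inc (BasedFunctor.id ℬ) :=
    AlgSt88.bRight e Ψ ≪≫ e'
  let i2 : BasedFunctor.comp F (BasedFunctor.comp Ψ Φ) ≅
      BasedFunctor.comp F (BasedFunctor.id 𝒳) :=
    AlgSt88.bRight e' Φ ≪≫ e
  exact ⟨Φ, ⟨Ψ, exists_natIso_of_restr hℬ hℬ.1 hA' hd _ _ i1,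
    exists_natIso_of_restr h𝒳 h𝒳.1 hA' hd' _ _ i2⟩, ⟨e⟩⟩

end Groth.Agent.Fib44
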