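import Groth.Agent.Fib44.Glue

/-!
Extension of a functor along a fully faithful, locally essentially surjective functor into a
category fibred in groupoids, when the target is a stack.
-/

set_option autoImplicit false
set_option linter.style.haveILetI false
set_option backward.isDefEq.respectTransparency false
set_option backward.isDefEq.respectTransparency.types false

universe v₄ u₄ v₃ u₃ v₂ u₂ v u

open CategoryTheory CategoryTheory.Functor

namespace Groth.Agent.Fib44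

variable {C : Type u} [Category.{v} C] {J : GrothendieckTopology C}
variable {𝒜 : BasedCategory.{v₂, u₂} C} {ℬ : BasedCategory.{v₃, u₃} C}
  {𝒳 : BasedCategory.{v₄, u₄} C}
variable (inc : 𝒜 ⥤ᵇ ℬ)

/-- The arrows over which the object has a preimage. -/
def preSieve (hA : ∀ {a : 𝒜.obj} {V : C} (g : V ⟶ 𝒜.p.obj a),
    ∃ (a' : 𝒜.obj) (k : a' ⟶ a), 𝒜.p.IsHomLift g k) (b : ℬ.obj) : Sieve (ℬ.p.obj b) where
  arrows V g := ∃ (a : 𝒜.obj) (m : inc.obj a ⟶ b), ℬ.p.IsHomLift g m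
  downward_closed := by
    rintro Y Z g ⟨a, m, hm⟩ h
    have hY : 𝒜.p.obj a = Y :=
      (inc.w_obj a).symm.trans (IsHomLift.domain_eq ℬ.p g m)
    obtain ⟨a', k, hk⟩ := hA (h ≫ eqToHom hY.symm)
    have hk' : 𝒜.p.IsHomLift h k := by
      have := IsHomLift.fac' 𝒜.p (h ≫ eqToHom hY.symm) k
      exact IsHomLift.of_fac' _ _ _ (IsHomLift.domain_eq 𝒜.p (h ≫ eqToHom hY.symm) k) hY
        (by simp [this])
    exact ⟨a', inc.map k ≫ m, inferInstance⟩

variable (F : 𝒜 ⥤ᵇ 𝒳)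

/-- A cocone under the preimages of an object. -/
structure Coc (b : ℬ.obj) where
  x : 𝒳.obj
  over : 𝒳.p.obj x = ℬ.p.obj b
  θ : ∀ (a : 𝒜.obj), (inc.obj a ⟶ b) → (F.obj a ⟶ x)
  lift : ∀ (a : 𝒜.obj) (m : inc.obj a ⟶ b), 𝒳.p.IsHomLift (ℬ.p.map m) (θ a m)
  nat : ∀ ⦃a' a : 𝒜.obj⦄ (k : a' ⟶ a) (m : inc.obj a ⟶ b), F.map k ≫ θ a m = θ a' (inc.map k ≫ m)

variable {inc F}
variable [inc.toFunctor.Full] [inc.toFunctor.Faithful]

theorem exists_fac (hB : FibCat.IsFibGrpd ℬ.p) {b : ℬ.obj} {a a₀ : 𝒜.obj} {V V₀ : C}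
    (m₀ : inc.obj a₀ ⟶ b) (g₀ : V₀ ⟶ ℬ.p.obj b) (h₀ : ℬ.p.IsHomLift g₀ m₀)
    (m : inc.obj a ⟶ b) (g : V ⟶ ℬ.p.obj b) (h : ℬ.p.IsHomLift g m)
    (k : V ⟶ V₀) (w : k ≫ g₀ = g) :
    ∃ l : a ⟶ a₀, 𝒜.p.IsHomLift k l ∧ inc.map l ≫ m₀ = m := by
  subst w
  have := isSC_of_fibGrpd ℬ.p hB g₀ m₀
  obtain ⟨χ, ⟨hχ, hf⟩, -⟩ :=
    IsStronglyCartesian.universal_property ℬ.p g₀ m₀ k (k ≫ g₀) rfl m
  obtain ⟨l, rfl⟩ := inc.toFunctor.map_surjective χ
  exact ⟨l, (BasedFunctor.isHomLift_iff inc k l).1 hχ, hf⟩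

theorem fac_unique (hB : FibCat.IsFibGrpd ℬ.p) {b : ℬ.obj} {a a₀ : 𝒜.obj} {V V₀ : C}
    (m₀ : inc.obj a₀ ⟶ b) (g₀ : V₀ ⟶ ℬ.p.obj b) (h₀ : ℬ.p.IsHomLift g₀ m₀)
    (k : V ⟶ V₀) (l l' : a ⟶ a₀) (hl : 𝒜.p.IsHomLift k l) (hl' : 𝒜.p.IsHomLift k l')
    (e : inc.map l ≫ m₀ = inc.map l' ≫ m₀) : l = l' := by
  have := isSC_of_fibGrpd ℬ.p hB g₀ m₀
  exact inc.toFunctor.map_injective (IsStronglyCartesian.ext ℬ.p g₀ m₀ k e)

section

variable (hB : FibCat.IsFibGrpd ℬ.p) (hA : ∀ {a : 𝒜.obj} {V : C} (g : V ⟶ 𝒜.p.obj a),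
    ∃ (a' : 𝒜.obj) (k : a' ⟶ a), 𝒜.p.IsHomLift g k)

/-- A chosen preimage over an arrow of the sieve. -/
noncomputable def preObj (b : ℬ.obj) (c : (preSieve inc hA b).arrows.category) : 𝒜.obj :=
  c.property.choose

/-- The comparison of a chosen preimage with the object. -/
noncomputable def preHom (b : ℬ.obj) (c : (preSieve inc hA b).arrows.category) :
    inc.obj (preObj hA b c) ⟶ b :=
  c.property.choose_spec.choose

theorem preHom_lift (b : ℬ.obj) (c : (preSieve inc hA b).arrows.category) :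
    ℬ.p.IsHomLift c.obj.hom (preHom hA b c) :=
  c.property.choose_spec.choose_spec

include hB in
theorem exists_preMap {b : ℬ.obj} {c d : (preSieve inc hA b).arrows.category} (f : c ⟶ d) :
    ∃ l : preObj hA b c ⟶ preObj hA b d,
      𝒜.p.IsHomLift f.hom.left l ∧ inc.map l ≫ preHom hA b d = preHom hA b c :=
  exists_fac hB _ _ (preHom_lift hA b d) _ _ (preHom_lift hA b c) _ (Over.w f.hom)

/-- The chosen preimages as a family over the sieve. -/
noncomputable def preFam (F : 𝒜 ⥤ᵇ 𝒳) (b : ℬ.obj) : Stk.sieveCat (preSieve inc hA b) ⥤ᵇ 𝒳 where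
  toFunctor :=
    { obj := fun c => F.obj (preObj hA b c)
      map := fun {c d} f => F.map (exists_preMap hB hA f).choose
      map_id := fun c => by
        rw [← F.toFunctor.map_id]
        congr 1
        refine fac_unique hB _ _ (preHom_lift hA b c) (𝟙 c.obj.left) _ _
          (exists_preMap hB hA (𝟙 c)).choose_spec.1 (IsHomLift.id ?_)
          ((exists_preMap hB hA (𝟙 c)).choose_spec.2.trans (by
            rw [inc.toFunctor.map_id, Category.id_comp]))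
        haveI := preHom_lift hA b c
        exact (inc.w_obj _).symm.trans (IsHomLift.domain_eq ℬ.p c.obj.hom (preHom hA b c))
      map_comp := fun {c d e} f g => by
        rw [← F.toFunctor.map_comp]
        congr 1
        have h1 := (exists_preMap hB hA f).choose_spec
        have h2 := (exists_preMap hB hA g).choose_spec
        have h3 := (exists_preMap hB hA (f ≫ g)).choose_spec
        haveI := h1.1
        haveI := h2.1
        exact fac_unique hB _ _ (preHom_lift hA b e) (f.hom.left ≫ g.hom.left) _ _ h3.1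
          inferInstance (h3.2.trans (by rw [inc.toFunctor.map_comp, Category.assoc, h2.2, h1.2])) }
  w := by
    refine CategoryTheory.Functor.ext (fun c => ?_) (fun c d f => ?_)
    · haveI := preHom_lift hA b c
      exact (F.w_obj _).trans ((inc.w_obj _).symm.trans (IsHomLift.domain_eq ℬ.p c.obj.hom
        (preHom hA b c)))
    · have := (exists_preMap hB hA f).choose_spec.1
      exact IsHomLift.fac' 𝒳.p f.hom.left (F.map (exists_preMap hB hA f).choose)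

theorem Coc.isGlue {b : ℬ.obj} (Q : Coc inc F b) :
    IsGlue (preFam hB hA F b) Q.x fun c => Q.θ (preObj hA b c) (preHom hA b c) where
  over := Q.over
  lift c := by
    have := preHom_lift hA b c
    have h1 := Q.lift (preObj hA b c) (preHom hA b c)
    have e1 := IsHomLift.fac' 𝒳.p (ℬ.p.map (preHom hA b c)) (Q.θ _ (preHom hA b c))
    have e2 := IsHomLift.fac' ℬ.p c.obj.hom (preHom hA b c)
    exact IsHomLift.of_fac' _ _ _
      ((F.w_obj _).trans ((inc.w_obj _).symm.trans (IsHomLift.domain_eq ℬ.p c.obj.hom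
        (preHom hA b c)))) Q.over (by simp [e1, e2])
  nat c d f := by
    change F.map (exists_preMap hB hA f).choose ≫ _ = _
    rw [Q.nat, (exists_preMap hB hA f).choose_spec.2]

include hB in
theorem exists_coc (h𝒳 : Stk.IsStack J 𝒳) (b : ℬ.obj) (hR : preSieve inc hA b ∈ J (ℬ.p.obj b)) :
    Nonempty (Coc inc F b) := by
  obtain ⟨x, γ, hγ⟩ := ((isStack_iff.1 h𝒳).2 _ hR).2 (preFam hB hA F b)
  let c : ∀ (a : 𝒜.obj) (m : inc.obj a ⟶ b), (preSieve inc hA b).arrows.category := fun a m =>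
    sObj (preSieve inc hA b) (ℬ.p.map m) ⟨a, m, inferInstance⟩
  have hl : ∀ (a : 𝒜.obj) (m : inc.obj a ⟶ b), ∃ l : a ⟶ preObj hA b (c a m),
      𝒜.p.IsHomLift (𝟙 (ℬ.p.obj (inc.obj a))) l ∧ inc.map l ≫ preHom hA b (c a m) = m := fun a m =>
    exists_fac hB _ _ (preHom_lift hA b (c a m)) m (ℬ.p.map m) inferInstance _ (Category.id_comp _)
  choose l hl hlf using hl
  refine ⟨⟨x, hγ.over, fun a m => F.map (l a m) ≫ γ (c a m), fun a m => ?_, fun a' a k m => ?_⟩⟩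
  · haveI := hl a m
    haveI : 𝒳.p.IsHomLift (ℬ.p.map m) (γ (c a m)) := hγ.lift (c a m)
    infer_instance
  · let j : c a' (inc.map k ≫ m) ⟶ c a m :=
      sHom (preSieve inc hA b) (ℬ.p.map (inc.map k)) (by
        change ℬ.p.map (inc.map k) ≫ ℬ.p.map m = ℬ.p.map (inc.map k ≫ m)
        rw [Functor.map_comp])
    have hk : 𝒜.p.IsHomLift (ℬ.p.map (inc.map k)) k :=
      (BasedFunctor.isHomLift_iff inc _ k).1 inferInstance
    haveI : 𝒜.p.IsHomLift (𝟙 (c a m).obj.left) (l a m) := hl a m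
    haveI : 𝒜.p.IsHomLift (𝟙 (ℬ.p.obj (inc.obj a))) (l a m) := hl a m
    haveI := hl a' (inc.map k ≫ m)
    have hj := (exists_preMap hB hA j).choose_spec
    haveI : 𝒜.p.IsHomLift (ℬ.p.map (inc.map k)) (exists_preMap hB hA j).choose := hj.1
    have e : k ≫ l a m = l a' (inc.map k ≫ m) ≫ (exists_preMap hB hA j).choose := by
      refine fac_unique hB _ _ (preHom_lift hA b (c a m)) (ℬ.p.map (inc.map k)) _ _
        (IsHomLift.comp_lift_id_right 𝒜.p _ _ _) (IsHomLift.comp_lift_id_left 𝒜.p _ _ _) ?_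
      rw [inc.toFunctor.map_comp, inc.toFunctor.map_comp, Category.assoc, Category.assoc, hlf, hj.2,
        hlf]
    change F.map k ≫ F.map (l a m) ≫ γ (c a m) = F.map (l a' (inc.map k ≫ m)) ≫ γ (c a' (inc.map k ≫ m))
    rw [← hγ.nat j, ← Category.assoc, ← F.toFunctor.map_comp, e, F.toFunctor.map_comp,
      Category.assoc]
    rfl

include hB in
theorem existsUnique_coc_hom (h𝒳 : Stk.IsStack J 𝒳)
    (hR : ∀ b : ℬ.obj, preSieve inc hA b ∈ J (ℬ.p.obj b)) {b' b : ℬ.obj} (Q' : Coc inc F b')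
    (Q : Coc inc F b) (n : b' ⟶ b) :
    ∃! k : Q'.x ⟶ Q.x, 𝒳.p.IsHomLift (ℬ.p.map n) k ∧
      ∀ (a : 𝒜.obj) (m : inc.obj a ⟶ b'), Q'.θ a m ≫ k = Q.θ a (m ≫ n) := by
  have hM := ((isStack_iff.1 h𝒳).2 _ (hR b')).1
  obtain ⟨w, ψ, hψ⟩ := exists_lift' 𝒳.p h𝒳.1 Q.over (ℬ.p.map n)
  haveI := isSC_of_fibGrpd 𝒳.p h𝒳.1 (ℬ.p.map n) ψ
  have hd : ∀ c : (preSieve inc hA b').arrows.category,
      ∃ d : (preFam hB hA F b').obj c ⟶ w, 𝒳.p.IsHomLift c.obj.hom d ∧
        d ≫ ψ = Q.θ (preObj hA b' c) (preHom hA b' c ≫ n) := fun c => by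
    have h1 := preHom_lift hA b' c
    have h2 := Q.lift (preObj hA b' c) (preHom hA b' c ≫ n)
    have e1 := IsHomLift.fac' 𝒳.p (ℬ.p.map (preHom hA b' c ≫ n))
      (Q.θ _ (preHom hA b' c ≫ n))
    have e2 := IsHomLift.fac' ℬ.p c.obj.hom (preHom hA b' c)
    haveI : 𝒳.p.IsHomLift (c.obj.hom ≫ ℬ.p.map n) (Q.θ _ (preHom hA b' c ≫ n)) :=
      IsHomLift.of_fac' _ _ _ ((F.w_obj _).trans ((inc.w_obj _).symm.trans
        (IsHomLift.domain_eq ℬ.p c.obj.hom (preHom hA b' c)))) Q.over (by simp [e1, e2])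
    obtain ⟨d, hd, -⟩ := IsStronglyCartesian.universal_property 𝒳.p (ℬ.p.map n) ψ c.obj.hom
      (c.obj.hom ≫ ℬ.p.map n) rfl (Q.θ _ (preHom hA b' c ≫ n))
    exact ⟨d, hd⟩
  choose d hdl hdf using hd
  have hδ : IsGlue (preFam hB hA F b') w d :=
    { over := IsHomLift.domain_eq 𝒳.p (ℬ.p.map n) ψ
      lift := hdl
      nat := fun c c' f => by
        haveI := hdl c
        haveI := hdl c'
        haveI : 𝒳.p.IsHomLift f.hom.left ((preFam hB hA F b').map f) := isHomLift_sieve_map _ f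
        haveI : 𝒳.p.IsHomLift c.obj.hom ((preFam hB hA F b').map f ≫ d c') := by
          rw [← Over.w f.hom]
          exact inferInstanceAs (𝒳.p.IsHomLift (f.hom.left ≫ c'.obj.hom) _)
        apply IsStronglyCartesian.ext 𝒳.p (ℬ.p.map n) ψ c.obj.hom
        rw [Category.assoc, hdf, hdf]
        change F.map (exists_preMap hB hA f).choose ≫ _ = _
        rw [Q.nat, ← Category.assoc, (exists_preMap hB hA f).choose_spec.2] }
  obtain ⟨k₀, ⟨hk₀, hk₀f⟩, -⟩ := existsUnique_glue_hom h𝒳.1 hM (Q'.isGlue hB hA) hδ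
  have hkl : 𝒳.p.IsHomLift (ℬ.p.map n) (k₀ ≫ ψ) := IsHomLift.comp_lift_id_left 𝒳.p _ _ _
  refine ⟨k₀ ≫ ψ, ⟨hkl, fun a m => ?_⟩, fun k ⟨hk, hkf⟩ => ?_⟩
  · obtain ⟨l, -, hlf⟩ := exists_fac hB _ _
      (preHom_lift hA b' (sObj (preSieve inc hA b') (ℬ.p.map m) ⟨a, m, inferInstance⟩)) m
      (ℬ.p.map m) inferInstance _ (Category.id_comp _)
    calc Q'.θ a m ≫ k₀ ≫ ψ = F.map l ≫ (Q'.θ _ (preHom hA b' _) ≫ k₀) ≫ ψ := by
          rw [Category.assoc, ← Category.assoc (F.map l), Q'.nat, hlf]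
      _ = Q.θ a (m ≫ n) := by rw [hk₀f, hdf, Q.nat, ← Category.assoc, hlf]
  · refine glue_hom_ext h𝒳.1 hM (Q'.isGlue hB hA) (ℬ.p.map n) _ _ fun c => ?_
    rw [hkf, ← Category.assoc, hk₀f, hdf]

end

/-- A functor into a stack extends along a fully faithful locally essentially surjective
functor. -/
theorem exists_extend (h𝒳 : Stk.IsStack J 𝒳) (hB : FibCat.IsFibGrpd ℬ.p)
    (hA' : ∀ {a : 𝒜.obj} {V : C} (g : V ⟶ 𝒜.p.obj a),
      ∃ (a' : 𝒜.obj) (k : a' ⟶ a), 𝒜.p.IsHomLift g k)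
    (hd : ∀ b : ℬ.obj, ∃ R ∈ J (ℬ.p.obj b), ∀ ⦃V : C⦄ (g : V ⟶ ℬ.p.obj b), R g →
      ∃ (a : 𝒜.obj) (m : inc.obj a ⟶ b), ℬ.p.IsHomLift g m) :
    ∃ Φ : ℬ ⥤ᵇ 𝒳, Nonempty (BasedFunctor.comp inc Φ ≅ F) := by
  have hR : ∀ b, preSieve inc hA' b ∈ J (ℬ.p.obj b) := fun b => by
    obtain ⟨R, hR, h⟩ := hd b
    exact J.superset_covering (fun V g hg => h g hg) hR
  let Q : ∀ b, Coc inc F b := fun b => (exists_coc hB hA' h𝒳 b (hR b)).some
  choose k hk hku using fun (b' b : ℬ.obj) (n : b' ⟶ b) =>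
    existsUnique_coc_hom hB hA' h𝒳 hR (Q b') (Q b) n
  let Φ : ℬ ⥤ᵇ 𝒳 :=
    { toFunctor :=
        { obj := fun b => (Q b).x
          map := fun {b' b} n => k b' b n
          map_id := fun b => (hku b b (𝟙 b) _ ⟨by
            rw [ℬ.p.map_id]; exact IsHomLift.id (Q b).over, fun a m => by
              rw [Category.comp_id, Category.comp_id]⟩).symm
          map_comp := fun {b'' b' b} n' n => by
            refine (hku b'' b (n' ≫ n) _ ⟨?_, fun a m => ?_⟩).symm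
            · haveI := (hk b'' b' n').1
              haveI := (hk b' b n).1
              rw [Functor.map_comp]
              infer_instance
            · rw [← Category.assoc, (hk b'' b' n').2, (hk b' b n).2, Category.assoc] }
      w := CategoryTheory.Functor.ext (fun b => (Q b).over) (fun b' b n => by
        haveI := (hk b' b n).1
        exact IsHomLift.fac' 𝒳.p (ℬ.p.map n) (k b' b n)) }
  have hθ : ∀ a : 𝒜.obj, 𝒳.p.IsHomLift (𝟙 (𝒜.p.obj a)) ((Q (inc.obj a)).θ a (𝟙 _)) := fun a => by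
    haveI := (Q (inc.obj a)).lift a (𝟙 _)
    have e := IsHomLift.fac' 𝒳.p (ℬ.p.map (𝟙 (inc.obj a))) ((Q (inc.obj a)).θ a (𝟙 _))
    exact IsHomLift.of_fac' _ _ _ (F.w_obj a) ((Q (inc.obj a)).over.trans (inc.w_obj a)) (by simp [e])
  let α : F ⟶ BasedFunctor.comp inc Φ :=
    ⟨{ app := fun a => (Q (inc.obj a)).θ a (𝟙 _)
       naturality := fun a' a f => by
        change F.map f ≫ _ = _ ≫ k _ _ (inc.map f)
        rw [(Q (inc.obj a)).nat, (hk _ _ (inc.map f)).2, Category.comp_id, Category.id_comp] }, hθ⟩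
  haveI := isIso_basedNatTrans_of_fibGrpd h𝒳.1 α
  exact ⟨Φ, ⟨(asIso α).symm⟩⟩

/-- Two functors into a stack that agree along a fully faithful locally essentially surjective
functor are isomorphic. -/
theorem exists_natIso_of_restr (h𝒳 : Stk.IsStack J 𝒳) (hB : FibCat.IsFibGrpd ℬ.p)
    (hA' : ∀ {a : 𝒜.obj} {V : C} (g : V ⟶ 𝒜.p.obj a),
      ∃ (a' : 𝒜.obj) (k : a' ⟶ a), 𝒜.p.IsHomLift g k)
    (hd : ∀ b : ℬ.obj, ∃ R ∈ J (ℬ.p.obj b), ∀ ⦃V : C⦄ (g : V ⟶ ℬ.p.obj b), R g →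
      ∃ (a : 𝒜.obj) (m : inc.obj a ⟶ b), ℬ.p.IsHomLift g m)
    (Φ Φ' : ℬ ⥤ᵇ 𝒳) (α : BasedFunctor.comp inc Φ ≅ BasedFunctor.comp inc Φ') :
    Nonempty (Φ ≅ Φ') := by
  have hR : ∀ b, preSieve inc hA' b ∈ J (ℬ.p.obj b) := fun b => by
    obtain ⟨R, hR, h⟩ := hd b
    exact J.superset_covering (fun V g hg => h g hg) hR
  let G : 𝒜 ⥤ᵇ 𝒳 := BasedFunctor.comp inc Φ
  have hl : ∀ (Ψ : ℬ ⥤ᵇ 𝒳) {b' b : ℬ.obj} (n : b' ⟶ b), 𝒳.p.IsHomLift (ℬ.p.map n) (Ψ.map n) :=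
    fun Ψ b' b n => based_isHomLift_self Ψ n
  have hα : ∀ a : 𝒜.obj, 𝒳.p.IsHomLift (𝟙 (𝒜.p.obj a)) (α.hom.toNatTrans.app a) := fun a =>
    α.hom.isHomLift' a
  let Q : ∀ b : ℬ.obj, Coc inc G b := fun b =>
    { x := Φ.obj b
      over := Φ.w_obj b
      θ := fun a m => Φ.map m
      lift := fun a m => hl Φ m
      nat := fun a' a k m => (Φ.toFunctor.map_comp _ _).symm }
  let Q' : ∀ b : ℬ.obj, Coc inc G b := fun b =>
    { x := Φ'.obj b
      over := Φ'.w_obj b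
      θ := fun a m => α.hom.toNatTrans.app a ≫ Φ'.map m
      lift := fun a m => by
        haveI := lift_id_of_eq 𝒳.p (inc.w_obj a).symm
          (Fib44.lift_id_of_eq 𝒳.p ((Φ.w_obj _).trans (inc.w_obj a)) (show 𝒳.p.IsHomLift
            (𝟙 (𝒳.p.obj (Φ.obj (inc.obj a)))) (α.hom.toNatTrans.app a) from
            Fib44.lift_id_of_eq 𝒳.p ((Φ.w_obj _).trans (inc.w_obj a)).symm (hα a)))
        haveI := hl Φ' m
        exact IsHomLift.comp_lift_id_left 𝒳.p _ _ _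
      nat := fun a' a k m => by
        have e := α.hom.toNatTrans.naturality k
        change Φ.map (inc.map k) ≫ _ = _ ≫ Φ'.map (inc.map k) at e
        change Φ.map (inc.map k) ≫ α.hom.toNatTrans.app a ≫ Φ'.map m = _
        rw [← Category.assoc, e, Category.assoc, ← Φ'.toFunctor.map_comp] }
  choose k hk hku using fun b : ℬ.obj => existsUnique_coc_hom hB hA' h𝒳 hR (Q b) (Q' b) (𝟙 b)
  have hk1 : ∀ b, 𝒳.p.IsHomLift (𝟙 (ℬ.p.obj b)) (k b) := fun b => by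
    have := (hk b).1
    rwa [ℬ.p.map_id] at this
  let β : Φ ⟶ Φ' :=
    ⟨{ app := k
       naturality := fun b' b n => by
        obtain ⟨k', -, hu⟩ := existsUnique_coc_hom hB hA' h𝒳 hR (Q b') (Q' b) n
        refine (hu _ ⟨?_, fun a m => ?_⟩).trans (hu _ ⟨?_, fun a m => ?_⟩).symm
        · haveI := hk1 b
          haveI := hl Φ n
          exact IsHomLift.comp_lift_id_right 𝒳.p _ _ _
        · change Φ.map m ≫ Φ.map n ≫ k b = _
          rw [← Category.assoc, ← Φ.toFunctor.map_comp]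
          refine ((hk b).2 a (m ≫ n)).trans ?_
          rw [Category.comp_id]
        · haveI := hk1 b'
          haveI := hl Φ' n
          exact IsHomLift.comp_lift_id_left 𝒳.p _ _ _
        · change Φ.map m ≫ k b' ≫ Φ'.map n = α.hom.toNatTrans.app a ≫ Φ'.map (m ≫ n)
          rw [← Category.assoc]
          refine (congrArg (· ≫ Φ'.map n) ((hk b').2 a m)).trans ?_
          change (α.hom.toNatTrans.app a ≫ Φ'.map (m ≫ 𝟙 b')) ≫ Φ'.map n = _
          rw [Category.comp_id, Category.assoc, ← Φ'.toFunctor.map_comp] }, hk1⟩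
  haveI := isIso_basedNatTrans_of_fibGrpd h𝒳.1 β
  exact ⟨asIso β⟩

end Groth.Agent.Fib44
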