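import Mathlib.Algebra.Homology.DerivedCategory.Fractions
import Mathlib.Algebra.Homology.DerivedCategory.FullyFaithful
import Mathlib.Algebra.Homology.Refinements
import Mathlib.Algebra.Homology.SingleHomology

/-!
Morphisms from an object in degree zero in the derived category, up to epimorphisms of the object.
-/

set_option autoImplicit false
set_option backward.isDefEq.respectTransparency false

universe w v u

open CategoryTheory Category Limits HomologicalComplex

namespace Groth.Agent.Fib44.DPoints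

variable {A : Type u} [Category.{v} A] [Abelian A] [HasDerivedCategory.{w} A]

/-- An object in degree zero. -/
noncomputable abbrev S0 : A ⥤ CochainComplex A ℤ := CochainComplex.singleFunctor A 0

/-- An object in degree zero, in the derived category. -/
noncomputable abbrev pt (P : A) : DerivedCategory A := DerivedCategory.Q.obj (S0.obj P)

/-- The induced map into the zeroth cohomology object. -/
noncomputable def θ {P : A} {X : DerivedCategory A} (φ : pt P ⟶ X) :
    P ⟶ (DerivedCategory.homologyFunctor A 0).obj X :=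
  (HomologicalComplex.homologyFunctorSingleIso A (ComplexShape.up ℤ) 0).inv.app P ≫
    (DerivedCategory.homologyFunctorFactors A 0).inv.app (S0.obj P) ≫
      (DerivedCategory.homologyFunctor A 0).map φ

lemma θ_comp {P : A} {X Y : DerivedCategory A} (φ : pt P ⟶ X) (g : X ⟶ Y) :
    θ (φ ≫ g) = θ φ ≫ (DerivedCategory.homologyFunctor A 0).map g := by
  simp [θ]

lemma θ_pre {P P' : A} (p : P' ⟶ P) {X : DerivedCategory A} (φ : pt P ⟶ X) :
    θ (DerivedCategory.Q.map (S0.map p) ≫ φ) = p ≫ θ φ := by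
  have h1 := (DerivedCategory.homologyFunctorFactors A 0).inv.naturality (S0.map p)
  have h2 := (HomologicalComplex.homologyFunctorSingleIso A (ComplexShape.up ℤ) 0).inv.naturality p
  simp only [θ, Functor.map_comp]
  erw [← reassoc_of% h1, ← reassoc_of% h2]

lemma θ_add {P : A} {X : DerivedCategory A} (φ ψ : pt P ⟶ X) : θ (φ + ψ) = θ φ + θ ψ := by
  simp [θ, Preadditive.comp_add]

variable {L : CochainComplex A ℤ}

lemma θ_Q {P : A} (ψ : S0.obj P ⟶ L) :
    θ (DerivedCategory.Q.map ψ) =
      L.liftCycles ((singleObjXSelf (ComplexShape.up ℤ) 0 P).inv ≫ ψ.f 0) 1 (by simp)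
          (by erw [assoc, ψ.comm, HomologicalComplex.single_obj_d, zero_comp, comp_zero]) ≫
        L.homologyπ 0 ≫ (DerivedCategory.homologyFunctorFactors A 0).inv.app L := by
  have h1 := (DerivedCategory.homologyFunctorFactors A 0).inv.naturality ψ
  simp only [θ]
  erw [← h1]
  change _ ≫ HomologicalComplex.homologyMap ψ 0 ≫ _ = _
  rw [show (HomologicalComplex.homologyFunctorSingleIso A (ComplexShape.up ℤ) 0).inv.app P =
    (singleObjHomologySelfIso (ComplexShape.up ℤ) 0 P).inv from rfl,
    ← singleObjCyclesSelfIso_inv_homologyπ, assoc]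
  erw [homologyπ_naturality_assoc]
  rw [← assoc]
  congr 1
  rw [← cancel_mono (L.iCycles 0), assoc, cyclesMap_i, liftCycles_i]
  erw [singleObjCyclesSelfIso_inv_iCycles_assoc]

theorem exists_lift {P : A} {X : DerivedCategory A}
    (f : P ⟶ (DerivedCategory.homologyFunctor A 0).obj X) :
    ∃ (P' : A) (p : P' ⟶ P) (_ : Epi p) (φ : pt P' ⟶ X), θ φ = p ≫ f := by
  obtain ⟨L, ⟨e⟩⟩ : ∃ L, Nonempty (DerivedCategory.Q.obj L ≅ X) :=
    ⟨_, ⟨DerivedCategory.Q.objObjPreimageIso X⟩⟩
  obtain ⟨P', p, hp, z, hz, h⟩ := L.eq_liftCycles_homologyπ_up_to_refinements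
    (f ≫ (DerivedCategory.homologyFunctor A 0).map e.inv ≫
      (DerivedCategory.homologyFunctorFactors A 0).hom.app L) 1 (by simp)
  let ψ : S0.obj P' ⟶ L := HomologicalComplex.mkHomFromSingle z (fun k hk => by
    obtain rfl : k = 1 := by simp at hk; lia
    exact hz)
  refine ⟨P', p, hp, DerivedCategory.Q.map ψ ≫ e.hom, ?_⟩
  rw [θ_comp, θ_Q]
  have hψ : (singleObjXSelf (ComplexShape.up ℤ) 0 P').inv ≫ ψ.f 0 = z := by
    simp [ψ, HomologicalComplex.mkHomFromSingle_f]
  simp only [hψ, assoc]
  rw [← reassoc_of% h]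
  erw [Iso.hom_inv_id_app_assoc, ← Functor.map_comp, e.inv_hom_id, CategoryTheory.Functor.map_id, comp_id]

theorem exists_kill {P : A} {X : DerivedCategory A} (φ : pt P ⟶ X) (h : θ φ = 0) :
    ∃ (P' : A) (p : P' ⟶ P) (_ : Epi p), DerivedCategory.Q.map (S0.map p) ≫ φ = 0 := by
  obtain ⟨L, ⟨e⟩⟩ : ∃ L, Nonempty (DerivedCategory.Q.obj L ≅ X) :=
    ⟨_, ⟨DerivedCategory.Q.objObjPreimageIso X⟩⟩
  obtain ⟨M, _, s, _, g, hφ⟩ := DerivedCategory.right_fac_of_isStrictlyLE (φ ≫ e.inv) 0
  let ι : S0.obj (M.X 0) ⟶ M :=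
    HomologicalComplex.mkHomFromSingle (𝟙 _) (fun k hk => by
      rw [id_comp]
      refine IsZero.eq_of_tgt (M.isZero_of_isStrictlyLE 0 k ?_) _ _
      simp at hk; lia)
  let p : M.X 0 ⟶ P := (CochainComplex.singleFunctor A 0).preimage (ι ≫ s)
  have hp : S0.map p = ι ≫ s := Functor.map_preimage _ _
  have hepi : Epi p := by
    refine ⟨fun {W} a b hab => ?_⟩
    rw [← sub_eq_zero]
    apply (DerivedCategory.singleFunctor A 0).map_injective
    rw [Functor.map_zero]
    change DerivedCategory.Q.map (S0.map (a - b)) = 0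
    rw [← cancel_epi (DerivedCategory.Q.map s), comp_zero, ← Functor.map_comp]
    have h0 : p ≫ (a - b) = 0 := by rw [Preadditive.comp_sub, hab, sub_self]
    have h1 := congrArg (fun f => (S0.map f).f 0) h0
    simp only [Functor.map_comp, Functor.map_zero] at h1
    rw [hp] at h1
    have h2 : s ≫ S0.map (a - b) = 0 := by
      apply HomologicalComplex.to_single_hom_ext
      have : IsIso (ι.f 0) := by
        simp only [ι, HomologicalComplex.mkHomFromSingle_f]
        infer_instance
      rw [← cancel_epi (ι.f 0)]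
      simpa using h1
    rw [h2, Functor.map_zero]
  have hpφ : DerivedCategory.Q.map (S0.map p) ≫ φ ≫ e.inv = DerivedCategory.Q.map (ι ≫ g) := by
    rw [hp, hφ, Functor.map_comp, assoc, IsIso.hom_inv_id_assoc, ← Functor.map_comp]
  have hθ : θ (DerivedCategory.Q.map (ι ≫ g)) = 0 := by
    rw [← hpφ, θ_pre, θ_comp, h, zero_comp, comp_zero]
  rw [θ_Q, ← assoc] at hθ
  obtain ⟨P', q, hq, γ, hγ⟩ := (L.liftCycles_comp_homologyπ_eq_zero_iff_up_to_refinements (-1) 0 1
    (by simp) (by simp) _ _).1
      ((cancel_mono ((DerivedCategory.homologyFunctorFactors A 0).inv.app L)).1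
        (hθ.trans zero_comp.symm))
  refine ⟨P', q ≫ p, inferInstance, ?_⟩
  let hom : ∀ i j : ℤ, (S0.obj P').X i ⟶ L.X j := fun i j =>
    if hij : i = 0 ∧ j = -1 then
      eqToHom (congrArg (S0.obj P').X hij.1) ≫ (singleObjXSelf (ComplexShape.up ℤ) 0 P').hom ≫ γ ≫
        eqToHom (congrArg L.X hij.2).symm
    else 0
  have hnull : S0.map q ≫ ι ≫ g = Homotopy.nullHomotopicMap hom := by
    apply HomologicalComplex.from_single_hom_ext
    rw [Homotopy.nullHomotopicMap_f (show (ComplexShape.up ℤ).Rel (-1) 0 by simp)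
      (show (ComplexShape.up ℤ).Rel 0 1 by simp)]
    simp only [hom, dif_pos (And.intro (rfl : (0 : ℤ) = 0) (rfl : (-1 : ℤ) = -1)), eqToHom_refl,
      id_comp, comp_id, assoc, HomologicalComplex.comp_f]
    rw [← hγ]
    erw [HomologicalComplex.single_map_f_self]
    simp
  have hz : DerivedCategory.Q.map (S0.map q ≫ ι ≫ g) = 0 := by
    rw [hnull, ← DerivedCategory.Q.map_zero (S0.obj P') L]
    exact DerivedCategory.Q_map_eq_of_homotopy (C := A) (K := S0.obj P') (L := L) (g := 0) (Homotopy.nullHomotopy hom (fun i j hij => by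
      simp only [hom]
      rw [dif_neg]
      rintro ⟨rfl, rfl⟩
      exact hij (by simp)))
  rw [← cancel_mono e.inv, zero_comp, assoc, Functor.map_comp, Functor.map_comp, assoc, hpφ,
    ← Functor.map_comp]
  exact hz

end Groth.Agent.Fib44.DPoints
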