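import Groth.Agent.Fib44.EdgeBasic

/-!
Existence of the comparison maps from Čech cohomology to cohomology of the associated sheaf.
-/

set_option autoImplicit false

universe u

open CategoryTheory CategoryTheory.Limits Opposite CategoryTheory.Abelian

namespace Groth.Agent.Fib44.Edge

variable {C : Type u} [SmallCategory C] [HasPullbacks C] {J : GrothendieckTopology C}
variable {U : C} {ι : Type u} (Y : ι → Over U)

variable (J) in
/-- Natural maps in a fixed degree. -/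
abbrev NatFam (p : ℕ) : Type (u + 1) :=
  {e : ∀ P : Cᵒᵖ ⥤ AddCommGrpCat.{u}, CohCx.cechH P Y p →+ CohSite.HU (CechEdge.shf J P) p U //
    ∀ (P Q : Cᵒᵖ ⥤ AddCommGrpCat.{u}) (φ : P ⟶ Q) (x : CohCx.cechH P Y p),
      e Q (CechEdge.cechHMap Y φ p x) = CechEdge.HUmap (CechEdge.shfMap J φ) p U (e P x)}

lemma sectH0_naturality {F G : Sheaf J AddCommGrpCat.{u}} (ψ : F ⟶ G) (s : F.obj.obj (op U)) :
    CechEdge.HUmap ψ 0 U (CechEdge.sectH0 J U F s) = CechEdge.sectH0 J U G (ψ.hom.app (op U) s) := by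
  obtain ⟨x, rfl⟩ := (CechEdge.sectH0 J U F).symm.surjective s
  rw [AddEquiv.apply_symm_apply]
  apply (CechEdge.sectH0 J U G).symm.injective
  rw [AddEquiv.symm_apply_apply]
  obtain ⟨φ, rfl⟩ := (Ext.mk₀_bijective _ _).2 x
  change (Ext.addEquiv₀.trans (CohFree.homEquivSect J U G))
      ((Ext.mk₀ φ).comp (Ext.mk₀ ψ) (add_zero 0)) =
    ψ.hom.app (op U) ((Ext.addEquiv₀.trans (CohFree.homEquivSect J U F)) (Ext.mk₀ φ))
  rw [Ext.mk₀_comp_mk₀]
  simp only [AddEquiv.trans_apply, show ∀ (A B : Sheaf J AddCommGrpCat.{u}) (m : A ⟶ B),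
    Ext.addEquiv₀ (Ext.mk₀ m) = m from fun A B m => Ext.addEquiv₀.apply_symm_apply m]
  rfl

variable (hY : Sieve.ofArrows (fun i => (Y i).left) (fun i => (Y i).hom) ∈ J U)

/-- The degree zero map. -/
noncomputable def edge₀ (P : Cᵒᵖ ⥤ AddCommGrpCat.{u}) :
    CohCx.cechH P Y 0 →+ CohSite.HU (CechEdge.shf J P) 0 U :=
  (CechEdge.sectH0 J U (CechEdge.shf J P)).toAddMonoidHom.comp
    ((AddEquiv.ofBijective (CechEdge.toCech Y (CechEdge.shf J P).obj)
      (toCech_bijective Y hY (CechEdge.shf J P))).symm.toAddMonoidHom.comp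
        (CechEdge.cechHMap Y (toSheafify J P) 0))

lemma edge₀_spec (P : Cᵒᵖ ⥤ AddCommGrpCat.{u}) (x : CohCx.cechH P Y 0)
    (s : (CechEdge.shf J P).obj.obj (op U))
    (h : CechEdge.toCech Y (CechEdge.shf J P).obj s = CechEdge.cechHMap Y (toSheafify J P) 0 x) :
    edge₀ Y hY P x = CechEdge.sectH0 J U (CechEdge.shf J P) s := by
  refine congrArg (CechEdge.sectH0 J U (CechEdge.shf J P)) ?_
  refine (toCech_bijective Y hY (CechEdge.shf J P)).1 ?_
  refine Eq.trans ?_ h.symm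
  exact (AddEquiv.ofBijective (CechEdge.toCech Y (CechEdge.shf J P).obj)
    (toCech_bijective Y hY (CechEdge.shf J P))).apply_symm_apply _

lemma edge₀_zero (P : Cᵒᵖ ⥤ AddCommGrpCat.{u}) (s : P.obj (op U)) :
    edge₀ Y hY P (CechEdge.toCech Y P s) =
      CechEdge.sectH0 J U (CechEdge.shf J P) (((toSheafify J P).app (op U)).hom s) :=
  edge₀_spec Y hY P _ _ (cechHMap_toCech Y (toSheafify J P) s).symm

lemma edge₀_natural (P Q : Cᵒᵖ ⥤ AddCommGrpCat.{u}) (φ : P ⟶ Q) (x : CohCx.cechH P Y 0) :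
    edge₀ Y hY Q (CechEdge.cechHMap Y φ 0 x) =
      CechEdge.HUmap (CechEdge.shfMap J φ) 0 U (edge₀ Y hY P x) := by
  obtain ⟨s, hs⟩ := (toCech_bijective Y hY (CechEdge.shf J P)).2
    (CechEdge.cechHMap Y (toSheafify J P) 0 x)
  rw [edge₀_spec Y hY P x s hs, sectH0_naturality]
  refine edge₀_spec Y hY Q _ _ ?_
  rw [← cechHMap_toCech, hs, ← cechHMap_comp, ← cechHMap_comp]
  exact congrArg (fun m => CechEdge.cechHMap Y m 0 x) (toSheafify_naturality J φ).symm

/-- A map of the standard sequences over a map of presheaves. -/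
noncomputable def preSESMap {S : ShortComplex (Cᵒᵖ ⥤ AddCommGrpCat.{u})} (hS : S.ShortExact)
    (Q : Cᵒᵖ ⥤ AddCommGrpCat.{u}) (φ : S.X₁ ⟶ Q) : S ⟶ preSES Q :=
  have := hS.mono_f
  have := hS.epi_g
  { τ₁ := φ
    τ₂ := Injective.factorThru (φ ≫ Injective.ι Q) S.f
    τ₃ := hS.exact.desc (Injective.factorThru (φ ≫ Injective.ι Q) S.f ≫ cokernel.π (Injective.ι Q))
      (by rw [Injective.comp_factorThru_assoc, Category.assoc, cokernel.condition, comp_zero])
    comm₁₂ := (Injective.comp_factorThru _ _).symm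
    comm₂₃ := (hS.exact.g_desc _ _).symm }

/-- The connecting map of the standard sequence of presheaves. -/
noncomputable abbrev dlt (P : Cᵒᵖ ⥤ AddCommGrpCat.{u}) (p : ℕ) :
    CohCx.cechH (preSES P).X₃ Y p →+ CohCx.cechH P Y (p + 1) :=
  ((cxFunctor_shortExact Y (preSES_shortExact P)).δ p (p + 1) rfl).hom

lemma shfSES (S : ShortComplex (Cᵒᵖ ⥤ AddCommGrpCat.{u})) (hS : S.ShortExact) :
    (S.map (presheafToSheaf J AddCommGrpCat.{u})).ShortExact :=
  hS.map_of_exact (presheafToSheaf J AddCommGrpCat.{u})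

/-- The composite defining the next degree. -/
noncomputable def nextAux {p : ℕ} (e : NatFam J Y p) (P : Cᵒᵖ ⥤ AddCommGrpCat.{u}) :
    CohCx.cechH (preSES P).X₃ Y p →+ CohSite.HU (CechEdge.shf J P) (p + 1) U :=
  (CechEdge.extδ (shfSES (preSES P) (preSES_shortExact P)) U p).comp (e.1 (preSES P).X₃)

lemma ker_le {p : ℕ} (e : NatFam J Y p) (P : Cᵒᵖ ⥤ AddCommGrpCat.{u}) :
    (dlt Y P p).ker ≤ (nextAux Y e P).ker := by
  intro x hx
  obtain ⟨y, hy⟩ := (ShortComplex.ab_exact_iff _).1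
    ((cxFunctor_shortExact Y (preSES_shortExact P)).homology_exact₃ p (p + 1) rfl) x hx
  rw [AddMonoidHom.mem_ker, ← hy]
  change CechEdge.extδ (shfSES (preSES P) (preSES_shortExact P)) U p
    (e.1 (preSES P).X₃ (CechEdge.cechHMap Y (preSES P).g p y)) = 0
  refine (congrArg _ (e.2 _ _ (preSES P).g y)).trans ?_
  exact extδ_HUmap_g (shfSES (preSES P) (preSES_shortExact P)) U p _

/-- The next degree. -/
noncomputable def next {p : ℕ} (e : NatFam J Y p) (P : Cᵒᵖ ⥤ AddCommGrpCat.{u}) :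
    CohCx.cechH P Y (p + 1) →+ CohSite.HU (CechEdge.shf J P) (p + 1) U :=
  (dlt Y P p).liftOfSurjective (preSES_δ_surjective Y P p) ⟨nextAux Y e P, ker_le Y e P⟩

lemma next_dlt {p : ℕ} (e : NatFam J Y p) (P : Cᵒᵖ ⥤ AddCommGrpCat.{u})
    (x : CohCx.cechH (preSES P).X₃ Y p) : next Y e P (dlt Y P p x) = nextAux Y e P x :=
  AddMonoidHom.liftOfRightInverse_comp_apply _ _ _ _ x

lemma next_delta {p : ℕ} (e : NatFam J Y p) (S : ShortComplex (Cᵒᵖ ⥤ AddCommGrpCat.{u}))
    (hS : S.ShortExact) (hC : (S.map (CechEdge.cxFunctor Y)).ShortExact)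
    (Q : Cᵒᵖ ⥤ AddCommGrpCat.{u}) (φ : S.X₁ ⟶ Q) (x : CohCx.cechH S.X₃ Y p) :
    next Y e Q (CechEdge.cechHMap Y φ (p + 1) ((hC.δ p (p + 1) rfl).hom x)) =
      CechEdge.HUmap (CechEdge.shfMap J φ) (p + 1) U
        (CechEdge.extδ (shfSES S hS) U p (e.1 S.X₃ x)) := by
  have h := δ_naturality_apply Y hC (cxFunctor_shortExact Y (preSES_shortExact Q))
    (preSESMap hS Q φ) p x
  refine (congrArg (next Y e Q) h).trans ?_
  refine (next_dlt Y e Q _).trans ?_
  change CechEdge.extδ (shfSES (preSES Q) (preSES_shortExact Q)) U p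
    (e.1 (preSES Q).X₃ (CechEdge.cechHMap Y (preSESMap hS Q φ).τ₃ p x)) = _
  refine (congrArg _ (e.2 _ _ (preSESMap hS Q φ).τ₃ x)).trans ?_
  exact (extδ_naturality (shfSES S hS) (shfSES (preSES Q) (preSES_shortExact Q))
    ((presheafToSheaf J AddCommGrpCat.{u}).mapShortComplex.map (preSESMap hS Q φ)) U p _).symm

lemma next_natural {p : ℕ} (e : NatFam J Y p) (P Q : Cᵒᵖ ⥤ AddCommGrpCat.{u}) (φ : P ⟶ Q)
    (x : CohCx.cechH P Y (p + 1)) :
    next Y e Q (CechEdge.cechHMap Y φ (p + 1) x) =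
      CechEdge.HUmap (CechEdge.shfMap J φ) (p + 1) U (next Y e P x) := by
  obtain ⟨y, rfl⟩ := preSES_δ_surjective Y P p x
  refine (next_delta Y e (preSES P) (preSES_shortExact P) _ Q φ y).trans ?_
  exact congrArg _ (next_dlt Y e P y).symm

/-- The comparison maps in every degree. -/
noncomputable def edge : ∀ p : ℕ, NatFam J Y p
  | 0 => ⟨edge₀ Y hY, edge₀_natural Y hY⟩
  | p + 1 => ⟨next Y (edge p), next_natural Y (edge p)⟩

/-- The comparison maps form an edge family. -/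
theorem isEdge : CechEdge.IsEdge J Y (fun P p => (edge Y hY p).1 P) where
  cover := hY
  zero := edge₀_zero Y hY
  natural P Q φ p x := (edge Y hY p).2 P Q φ x
  delta S hS hC p x := by
    have h := next_delta Y (edge Y hY p) S hS hC S.X₁ (𝟙 S.X₁) x
    rw [CechEdge.cechHMap, CategoryTheory.Functor.map_id, HomologicalComplex.homologyMap_id] at h
    refine h.trans ?_
    rw [CechEdge.shfMap, CategoryTheory.Functor.map_id]
    exact (HUmap_apply _ (p + 1) U _).trans (Ext.comp_mk₀_id _)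

end Groth.Agent.Fib44.Edge
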