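import Groth.Agent.Fib44.EdgeBasic

/-!
Injectivity and bijectivity of the comparison maps for sheaves; sheaf criterion; refinements.
-/

set_option autoImplicit false

universe u

open CategoryTheory CategoryTheory.Limits Opposite CategoryTheory.Abelian

namespace Groth.Agent.Fib44.Edge

variable {C : Type u} [SmallCategory C] [HasPullbacks C] {J : GrothendieckTopology C}
variable {U : C} {ι : Type u} (Y : ι → Over U)

theorem sheaf_iff (J : GrothendieckTopology C) (P : Cᵒᵖ ⥤ AddCommGrpCat.{u}) :
    Presheaf.IsSheaf J P ↔ ∀ (U : C) (ι : Type u) (Y : ι → Over U),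
      Sieve.ofArrows (fun i => (Y i).left) (fun i => (Y i).hom) ∈ J U →
        Function.Bijective (CechEdge.toCech Y P) := by
  refine ⟨fun hP U ι Y hY => toCech_bijective Y hY ⟨P, hP⟩, fun h => ?_⟩
  rw [Presheaf.isSheaf_iff_isSheaf_forget J P (forget AddCommGrpCat.{u}), isSheaf_iff_isSheaf_of_type]
  intro U S hS
  let Yf : (Σ V : C, {f : V ⟶ U // S f}) → Over U := fun i => Over.mk i.2.1
  have hY : Sieve.ofArrows (fun i => (Yf i).left) (fun i => (Yf i).hom) ∈ J U := by
    refine J.superset_covering (fun V f hf => ?_) hS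
    exact ⟨_, 𝟙 V, f, Presieve.ofArrows.mk (⟨V, f, hf⟩ : Σ V : C, {f : V ⟶ U // S f}), Category.id_comp f⟩
  have hb := h U _ Yf hY
  intro x hx
  let pr : ∀ a : Fin 1 → (Σ V : C, {f : V ⟶ U // S f}), (∏ᶜ (Yf ∘ a)).left ⟶ (a 0).1 :=
    fun a => (Limits.Pi.π (Yf ∘ a) 0).left
  let e : SiteCech.Co Yf P 0 := fun a => P.map (pr a).op (x (a 0).2.1 (a 0).2.2)
  have he : SiteCech.dC Yf P 0 e = 0 := by
    funext a
    rw [SiteCech.dC_apply, Fin.sum_univ_two]
    simp only [Fin.val_zero, pow_zero, one_smul, Fin.val_one, pow_one, neg_smul, Pi.zero_apply]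
    rw [← sub_eq_add_neg, sub_eq_zero]
    have key : ∀ j : Fin 2, P.map (Cech.face Yf a j.succAbove).left.op (e (a ∘ j.succAbove)) =
        P.map ((Cech.face Yf a j.succAbove).left ≫ pr (a ∘ j.succAbove)).op
          (x (a (j.succAbove 0)).2.1 (a (j.succAbove 0)).2.2) := fun j => by
      rw [op_comp, P.map_comp]
      rfl
    refine (key 0).trans (Eq.trans ?_ (key 1).symm)
    refine hx _ _ _ _ ?_
    have hw : ∀ j : Fin 2, ((Cech.face Yf a j.succAbove).left ≫ pr (a ∘ j.succAbove)) ≫
        (a (j.succAbove 0)).2.1 = (∏ᶜ (Yf ∘ a)).hom := fun j => by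
      rw [Category.assoc]
      exact (congrArg (_ ≫ ·) (Over.w (Limits.Pi.π (Yf ∘ (a ∘ j.succAbove)) 0))).trans
        (Over.w (Cech.face Yf a j.succAbove))
    exact (hw 0).trans (hw 1).symm
  obtain ⟨z, hz⟩ : ∃ z : (SiteCech.cxC Yf P).X 0, Cech.equiv Yf _ 0 z = e :=
    (Cech.equiv Yf ((Over.forget U).op ⋙ P) 0).surjective e
  have hdz : (SiteCech.cxC Yf P).d 0 1 z = 0 := by
    apply (Cech.equiv Yf ((Over.forget U).op ⋙ P) 1).injective
    rw [SiteCech.equiv_dC, hz, he, map_zero]
  let K := SiteCech.cxC Yf P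
  have hi : Function.Injective (K.iCycles 0) := (AddCommGrpCat.mono_iff_injective _).1 inferInstance
  have hπ : Function.Bijective (K.homologyπ 0) := ConcreteCategory.bijective_of_isIso _
  obtain ⟨c, hc⟩ : ∃ c, K.iCycles 0 c = z := by
    have hE : (ShortComplex.mk (K.iCycles 0) (K.d 0 1) (HomologicalComplex.iCycles_d _ _ _)).Exact :=
      ShortComplex.exact_of_f_is_kernel _ (K.cyclesIsKernel 0 1 (by simp))
    exact (ShortComplex.ab_exact_iff _).1 hE z hdz
  have hH : ∀ s : P.obj (op U), CechEdge.toCech Yf P s = K.homologyπ 0 c ↔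
      SiteCech.cres Yf P s = e := by
    intro s
    rw [toCech_eq]
    constructor
    · intro h1
      have h2 := congrArg (K.iCycles 0) (hπ.1 h1)
      rw [hc] at h2
      refine Eq.trans ?_ ((congrArg (Cech.equiv Yf _ 0) h2).trans hz)
      rw [← SiteCech.equiv_toX₀]
      exact congrArg (Cech.equiv Yf _ 0) (ConcreteCategory.congr_hom (K.liftCycles_i _ 1 _ _) s).symm
    · intro h1
      refine congrArg (K.homologyπ 0) (hi ?_)
      rw [hc]
      refine (ConcreteCategory.congr_hom (K.liftCycles_i _ 1 _ _) s).trans ?_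
      apply (Cech.equiv Yf ((Over.forget U).op ⋙ P) 0).injective
      rw [SiteCech.equiv_toX₀, h1, hz]
  have hiff : ∀ s : P.obj (op U), SiteCech.cres Yf P s = e ↔
      ∀ ⦃V : C⦄ (f : V ⟶ U) (hf : S f), P.map f.op s = x f hf := by
    intro s
    constructor
    · intro h1 V f hf
      let i : Σ V : C, {f : V ⟶ U // S f} := ⟨V, f, hf⟩
      let d : Yf i ⟶ ∏ᶜ (Yf ∘ fun _ : Fin 1 => i) :=
        Limits.Pi.lift (P := Yf i) (f := Yf ∘ fun _ : Fin 1 => i) fun _ => 𝟙 (Yf i)
      have hd : d.left ≫ pr (fun _ => i) = 𝟙 V :=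
        (Over.comp_left _ _ _ _ _).symm.trans (congrArg (fun m : Yf i ⟶ Yf i => m.left)
          (Limits.Pi.lift_π (f := Yf ∘ fun _ : Fin 1 => i) (fun _ => 𝟙 (Yf i)) 0))
      have h2 := congrArg (P.map d.left.op) (congrFun h1 fun _ => i)
      refine Eq.trans ?_ (h2.trans ?_)
      · refine Eq.trans ?_ (ConcreteCategory.congr_hom (P.map_comp _ d.left.op) s)
        exact congrArg (fun m => P.map (Quiver.Hom.op m) s) (Over.w d).symm
      · refine (ConcreteCategory.congr_hom (P.map_comp (pr fun _ => i).op d.left.op) (x f hf)).symm.trans ?_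
        exact (congrArg (fun m : V ⟶ V => P.map (Quiver.Hom.op m) (x f hf)) hd).trans
          (ConcreteCategory.congr_hom (P.map_id _) _)
    · intro h1
      funext a
      change P.map (∏ᶜ (Yf ∘ a)).hom.op s = e a
      rw [← Over.w (Limits.Pi.π (Yf ∘ a) 0), op_comp, P.map_comp]
      exact congrArg (P.map (pr a).op) (h1 (a 0).2.1 (a 0).2.2)
  obtain ⟨s, hs⟩ := hb.2 (K.homologyπ 0 c)
  refine ⟨s, (hiff s).1 ((hH s).1 hs), fun t ht => hb.1 ?_⟩
  exact ((hH t).2 ((hiff t).2 ht)).trans hs.symm

variable {e : ∀ (P : Cᵒᵖ ⥤ AddCommGrpCat.{u}) (p : ℕ), CohCx.cechH P Y p →+ CohSite.HU (CechEdge.shf J P) p U}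
variable (he : CechEdge.IsEdge J Y e)

include he in
lemma e_zero_bijective (F : Sheaf J AddCommGrpCat.{u}) : Function.Bijective (e F.obj 0) := by
  have hb := toCech_bijective Y he.cover F
  have h1 : Function.Bijective fun s : F.obj.obj (op U) =>
      CechEdge.sectH0 J U (CechEdge.shf J F.obj) (((toSheafify J F.obj).app (op U)).hom s) := by
    refine (CechEdge.sectH0 J U (CechEdge.shf J F.obj)).bijective.comp ?_
    have : IsIso (toSheafify J F.obj) := isIso_toSheafify J F.property
    exact ConcreteCategory.bijective_of_isIso ((toSheafify J F.obj).app (op U))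
  have h2 : (fun s => e F.obj 0 (CechEdge.toCech Y F.obj s)) = fun s : F.obj.obj (op U) =>
      CechEdge.sectH0 J U (CechEdge.shf J F.obj) (((toSheafify J F.obj).app (op U)).hom s) :=
    funext fun s => he.zero F.obj s
  rw [← h2] at h1
  exact ⟨fun x y hxy => by
    obtain ⟨s, rfl⟩ := hb.2 x
    obtain ⟨t, rfl⟩ := hb.2 y
    exact congrArg _ (h1.1 hxy), fun z => ⟨_, (h1.2 z).choose_spec⟩⟩

/-- An injective sheaf containing `F`, with presheaf cokernel. -/
noncomputable abbrev imgSES (F : Sheaf J AddCommGrpCat.{u}) : ShortComplex (Cᵒᵖ ⥤ AddCommGrpCat.{u}) :=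
  ShortComplex.mk (Injective.ι F).hom (cokernel.π (Injective.ι F).hom) (cokernel.condition _)

omit [HasPullbacks C] in
lemma imgSES_shortExact (F : Sheaf J AddCommGrpCat.{u}) : (imgSES F).ShortExact :=
  { exact := ShortComplex.exact_of_g_is_cokernel _ (cokernelIsCokernel (Injective.ι F).hom)
    mono_f := inferInstanceAs (Mono ((sheafToPresheaf J _).map (Injective.ι F)))
    epi_g := inferInstanceAs (Epi (cokernel.π _)) }

/-- The presheaf cokernel into the sheaf cokernel. -/
noncomputable abbrev toQ (F : Sheaf J AddCommGrpCat.{u}) :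
    (imgSES F).X₃ ⟶ (SiteCoh.injSES F).X₃.obj :=
  cokernel.desc _ (SiteCoh.injSES F).g.hom
    (congrArg InducedCategory.Hom.hom (SiteCoh.injSES F).zero)

omit [HasPullbacks C] in
lemma toQ_app_injective (F : Sheaf J AddCommGrpCat.{u}) (V : C) :
    Function.Injective ((toQ F).app (op V)) := by
  refine (injective_iff_map_eq_zero ((toQ F).app (op V)).hom).2 fun x hx => ?_
  obtain ⟨y, rfl⟩ := (AddCommGrpCat.epi_iff_surjective ((cokernel.π (Injective.ι F).hom).app (op V))).1
    inferInstance x
  have hy : (SiteCoh.injSES F).g.hom.app (op V) y = 0 :=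
    (ConcreteCategory.congr_hom (NatTrans.congr_app (cokernel.π_desc _ _ _) (op V)) y).symm.trans hx
  obtain ⟨z, rfl⟩ := (exists_sections_preimage _ (SiteCoh.injSES_shortExact F) V y hy).2
  exact ConcreteCategory.congr_hom (NatTrans.congr_app (cokernel.condition (Injective.ι F).hom) (op V)) z

lemma cechHMap_toQ_zero_injective (F : Sheaf J AddCommGrpCat.{u}) :
    Function.Injective (CechEdge.cechHMap Y (toQ F) 0) := by
  let K := SiteCech.cxC Y (imgSES F).X₃
  let L := SiteCech.cxC Y (SiteCoh.injSES F).X₃.obj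
  have hπ : Function.Bijective (K.homologyπ 0) := ConcreteCategory.bijective_of_isIso _
  have hπ' : Function.Bijective (L.homologyπ 0) := ConcreteCategory.bijective_of_isIso _
  have hi : Function.Injective (K.iCycles 0) := (AddCommGrpCat.mono_iff_injective _).1 inferInstance
  intro a b hab
  obtain ⟨a, rfl⟩ := hπ.2 a
  obtain ⟨b, rfl⟩ := hπ.2 b
  refine congrArg _ (hi ?_)
  have hnat : ∀ c, CechEdge.cechHMap Y (toQ F) 0 (K.homologyπ 0 c) =
      L.homologyπ 0 (HomologicalComplex.cyclesMap (SiteCech.cxMap Y (toQ F)) 0 c) := fun c =>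
    ConcreteCategory.congr_hom (HomologicalComplex.homologyπ_naturality (SiteCech.cxMap Y (toQ F)) 0) c
  have h1 := hπ'.1 ((hnat a).symm.trans (hab.trans (hnat b)))
  have h2 : ∀ c, L.iCycles 0 (HomologicalComplex.cyclesMap (SiteCech.cxMap Y (toQ F)) 0 c) =
      (SiteCech.cxMap Y (toQ F)).f 0 (K.iCycles 0 c) := fun c =>
    ConcreteCategory.congr_hom (HomologicalComplex.cyclesMap_i (SiteCech.cxMap Y (toQ F)) 0) c
  have h3 := (h2 a).symm.trans ((congrArg (L.iCycles 0) h1).trans (h2 b))
  refine (Cech.equiv Y ((Over.forget U).op ⋙ (imgSES F).X₃) 0).injective (funext fun t => ?_)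
  apply toQ_app_injective F
  exact congrFun ((SiteCech.equiv_map Y (toQ F) 0 _).symm.trans
    ((congrArg (Cech.equiv Y _ 0) h3).trans (SiteCech.equiv_map Y (toQ F) 0 _))) t

include he in
lemma e_imgSES_zero_injective (F : Sheaf J AddCommGrpCat.{u}) :
    Function.Injective (e (imgSES F).X₃ 0) := by
  intro a b h
  apply cechHMap_toQ_zero_injective Y F
  apply (e_zero_bijective Y he (SiteCoh.injSES F).X₃).1
  rw [he.natural, he.natural, h]

include he in
theorem e_one_injective (F : Sheaf J AddCommGrpCat.{u}) : Function.Injective (e F.obj 1) := by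
  refine (injective_iff_map_eq_zero _).2 fun x hx => ?_
  have hS := imgSES_shortExact F
  have hC := cxFunctor_shortExact Y hS
  have hI : IsZero (((imgSES F).map (CechEdge.cxFunctor Y)).X₂.homology 1) :=
    CechInj.isZero_cechH (J := J) Y (Injective.under F) 0
  have : Epi (hC.δ 0 1 rfl) := hC.epi_δ 0 1 rfl hI
  obtain ⟨q, rfl⟩ := (AddCommGrpCat.epi_iff_surjective _).1 this x
  have h0 : CechEdge.extδ (hS.map_of_exact (presheafToSheaf J AddCommGrpCat.{u})) U 0
      (e (imgSES F).X₃ 0 q) = 0 := (he.delta _ hS hC 0 q).symm.trans hx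
  obtain ⟨y, hy⟩ := Ext.covariant_sequence_exact₃ _
    (hS.map_of_exact (presheafToSheaf J AddCommGrpCat.{u})) _ rfl h0
  obtain ⟨y', rfl⟩ := (e_zero_bijective Y he (Injective.under F)).2 y
  have h1 : e (imgSES F).X₃ 0 q = e (imgSES F).X₃ 0 (CechEdge.cechHMap Y (imgSES F).g 0 y') :=
    hy.symm.trans (he.natural _ _ (imgSES F).g 0 y').symm
  rw [e_imgSES_zero_injective Y he F h1]
  exact ConcreteCategory.congr_hom (hC.comp_δ 0 1 rfl) y'

include he in
theorem e_bijective_of_acyclic (p : ℕ) : ∀ (F : Sheaf J AddCommGrpCat.{u}),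
    (∀ (n : ℕ) (a : Fin (n + 1) → ι) (q : ℕ),
      Subsingleton (Ext (CohCx.freeSheaf J (∏ᶜ (Y ∘ a)).left) F (q + 1))) →
    Function.Bijective (e F.obj p) := by
  induction p with
  | zero => exact fun F _ => e_zero_bijective Y he F
  | succ p ih =>
    intro F hF
    have hS := imgSES_shortExact F
    have hC := cxFunctor_shortExact Y hS
    have hS' := SiteCoh.injSES_shortExact F
    have hI : ∀ q, IsZero (((imgSES F).map (CechEdge.cxFunctor Y)).X₂.homology (q + 1)) :=
      fun q => CechInj.isZero_cechH (J := J) Y (Injective.under F) q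
    have : Epi (hC.δ p (p + 1) rfl) := hC.epi_δ p (p + 1) rfl (hI p)
    have hδ : Function.Surjective (hC.δ p (p + 1) rfl).hom := (AddCommGrpCat.epi_iff_surjective _).1 this
    have hT := hS.map_of_exact (presheafToSheaf J AddCommGrpCat.{u})
    have hT2 : Injective ((imgSES F).map (presheafToSheaf J AddCommGrpCat.{u})).X₂ :=
      Injective.of_iso (asIso ((sheafificationAdjunction J AddCommGrpCat.{u}).counit.app
        (Injective.under F))).symm (inferInstanceAs (Injective (Injective.under F)))
    have hE : ∀ q, Subsingleton (Ext.{u} (CohCx.freeSheaf J U)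
        ((imgSES F).map (presheafToSheaf J AddCommGrpCat.{u})).X₂ (q + 1)) :=
      fun q => Ext.subsingleton_of_injective _ _ q
    have hsurj : ∀ (n : ℕ) (a : Fin (n + 1) → ι),
        Function.Surjective ((SiteCoh.injSES F).g.hom.app (op (∏ᶜ (Y ∘ a)).left)) :=
      fun n a => SiteCech.surjective_of_subsingleton hS' _ (hF n a 0)
    have hQ : ∀ (n : ℕ) (a : Fin (n + 1) → ι) (q : ℕ),
        Subsingleton (Ext (CohCx.freeSheaf J (∏ᶜ (Y ∘ a)).left) (SiteCoh.injSES F).X₃ (q + 1)) :=
      fun n a q => by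
        have := hF n a (q + 1)
        exact (@SiteCech.conn_bijective _ _ _ J _ hS' _ (q + 1)
          (Ext.subsingleton_of_injective _ (Injective.under F) q)
          (Ext.subsingleton_of_injective _ (Injective.under F) (q + 1))).1.subsingleton
    have hb := ih (SiteCoh.injSES F).X₃ hQ
    have hj : IsIso (SiteCech.cxMap Y (toQ F)) := by
      have : ∀ n, IsIso ((SiteCech.cxMap Y (toQ F)).f n) := fun n => by
        rw [ConcreteCategory.isIso_iff_bijective]
        constructor
        · intro a b hab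
          refine (Cech.equiv Y ((Over.forget U).op ⋙ (imgSES F).X₃) n).injective (funext fun t => ?_)
          apply toQ_app_injective F
          exact congrFun ((SiteCech.equiv_map Y (toQ F) n _).symm.trans
            ((congrArg (Cech.equiv Y _ n) hab).trans (SiteCech.equiv_map Y (toQ F) n _))) t
        · intro c
          obtain ⟨b, hb⟩ : ∃ b, SiteCech.mapC Y (toQ F) n b = Cech.equiv Y _ n c := by
            choose y hy using fun t => hsurj n t
              (Cech.equiv Y ((Over.forget U).op ⋙ (SiteCoh.injSES F).X₃.obj) n c t)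
            refine ⟨fun t => (cokernel.π (Injective.ι F).hom).app _ (y t), funext fun t => ?_⟩
            exact (ConcreteCategory.congr_hom (NatTrans.congr_app (cokernel.π_desc _ _ _) _) (y t)).trans (hy t)
          obtain ⟨b, rfl⟩ := (Cech.equiv Y ((Over.forget U).op ⋙ (imgSES F).X₃) n).surjective b
          exact ⟨b, (Cech.equiv Y ((Over.forget U).op ⋙ (SiteCoh.injSES F).X₃.obj) n).injective
            ((SiteCech.equiv_map Y (toQ F) n b).trans hb)⟩
      exact HomologicalComplex.Hom.isIso_of_components _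
    have hjH : Function.Bijective (CechEdge.cechHMap Y (toQ F) p) :=
      ConcreteCategory.bijective_of_isIso (HomologicalComplex.homologyMap (SiteCech.cxMap Y (toQ F)) p)
    have hj' : IsIso (CechEdge.shfMap J (toQ F)) := by
      have h1 : Presheaf.IsLocallyInjective J (toQ F) :=
        Presheaf.isLocallyInjective_of_injective J _ fun V => toQ_app_injective F V.unop
      have : Epi (SiteCoh.injSES F).g := hS'.epi_g
      have h0 : Sheaf.IsLocallySurjective (SiteCoh.injSES F).g :=
        (Sheaf.isLocallySurjective_iff_epi' AddCommGrpCat.{u} _).2 inferInstance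
      have h3 : Presheaf.IsLocallySurjective J (cokernel.π (Injective.ι F).hom ≫ toQ F) := by
        rw [cokernel.π_desc]; exact h0
      have h2 : Presheaf.IsLocallySurjective J (toQ F) :=
        Presheaf.isLocallySurjective_of_isLocallySurjective J (cokernel.π (Injective.ι F).hom) _
      exact (J.W_iff _).1 (J.W_of_isLocallyBijective _)
    have hQ0 : Function.Bijective (e (imgSES F).X₃ p) := by
      have hh : (CechEdge.HUmap (CechEdge.shfMap J (toQ F)) p U) ∘ (e (imgSES F).X₃ p) =
          (e _ p) ∘ (CechEdge.cechHMap Y (toQ F) p) := funext fun x => (he.natural _ _ (toQ F) p x).symm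
      exact ((HUmap_bijective (CechEdge.shfMap J (toQ F)) p U).of_comp_iff' _).1 (hh ▸ hb.comp hjH)
    refine ⟨?_, ?_⟩
    · match p with
      | 0 => exact e_one_injective Y he F
      | q + 1 =>
        refine (injective_iff_map_eq_zero _).2 fun x hx => ?_
        obtain ⟨w, rfl⟩ := hδ x
        have h0 := (he.delta _ hS hC (q + 1) w).symm.trans hx
        have h1 := (@SiteCech.conn_bijective _ _ _ J _ hT U (q + 1) (hE q) (hE (q + 1))).1
          (h0.trans (map_zero _).symm)
        exact (congrArg _ ((injective_iff_map_eq_zero _).1 hQ0.1 w h1)).trans (map_zero _)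
    · intro z
      obtain ⟨w, rfl⟩ := @SiteCech.conn_surjective _ _ _ J _ hT U p (hE p) z
      obtain ⟨q, rfl⟩ := hQ0.2 w
      exact ⟨_, he.delta _ hS hC p q⟩

include he in
theorem edgeSh_bijective (F : Sheaf J AddCommGrpCat.{u}) (p : ℕ) (h : Function.Bijective (e F.obj p)) :
    Function.Bijective (CechEdge.edgeSh e F p) :=
  (HUmap_bijective ((sheafificationAdjunction J AddCommGrpCat.{u}).counit.app F) p U).comp h

include he in
theorem edgeSh_one_injective (F : Sheaf J AddCommGrpCat.{u}) :
    Function.Injective (CechEdge.edgeSh e F 1) :=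
  (HUmap_bijective ((sheafificationAdjunction J AddCommGrpCat.{u}).counit.app F) 1 U).1.comp
    (e_one_injective Y he F)

theorem cechRefine_natural {κ : Type u} {Y' : κ → Over U}
    (f : FormalCoproduct.mk ι Y ⟶ FormalCoproduct.mk κ Y') {P Q : Cᵒᵖ ⥤ AddCommGrpCat.{u}} (φ : P ⟶ Q) :
    (CechEdge.cxFunctor Y').map φ ≫ CohCx.cechRefine Q f =
      CohCx.cechRefine P f ≫ (CechEdge.cxFunctor Y).map φ :=
  ((AlgebraicTopology.alternatingCofaceMapComplex AddCommGrpCat.{u}).map_comp _ _).symm.trans
    ((congrArg (AlgebraicTopology.alternatingCofaceMapComplex AddCommGrpCat.{u}).map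
      (((Functor.whiskeringLeft _ _ _).map (NatTrans.rightOp (FormalCoproduct.cechFunctor.map f))).naturality
        ((FormalCoproduct.evalOp.{u} (Over U) AddCommGrpCat.{u}).map
          (Functor.whiskerLeft (Over.forget U).op φ)))).trans
      ((AlgebraicTopology.alternatingCofaceMapComplex AddCommGrpCat.{u}).map_comp _ _))

theorem refine_isEdge {κ : Type u} {Y' : κ → Over U}
    (f : FormalCoproduct.mk ι Y ⟶ FormalCoproduct.mk κ Y')
    (he : CechEdge.IsEdge J Y e)
    (hY' : Sieve.ofArrows (fun i => (Y' i).left) (fun i => (Y' i).hom) ∈ J U) :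
    CechEdge.IsEdge J Y' (fun P p =>
      (e P p).comp (HomologicalComplex.homologyMap (CohCx.cechRefine P f) p).hom) where
  cover := hY'
  zero P s := by
    refine Eq.trans (congrArg (e P 0) ?_) (he.zero P s)
    let K := CechEdge.cx P Y'
    let L := CechEdge.cx P Y
    change (K.homologyπ 0 ≫ HomologicalComplex.homologyMap (CohCx.cechRefine P f) 0)
        (CechEdge.toCycles P Y' s) = L.homologyπ 0 (CechEdge.toCycles P Y s)
    refine (ConcreteCategory.congr_hom
      (HomologicalComplex.homologyπ_naturality (CohCx.cechRefine P f) 0) _).trans ?_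
    refine congrArg (L.homologyπ 0) ?_
    have hi : Function.Injective (L.iCycles 0) := (AddCommGrpCat.mono_iff_injective _).1 inferInstance
    apply hi
    refine (ConcreteCategory.congr_hom (HomologicalComplex.cyclesMap_i (CohCx.cechRefine P f) 0) _).trans ?_
    refine (congrArg ((CohCx.cechRefine P f).f 0) (ConcreteCategory.congr_hom (CechEdge.toCycles_i P Y') s)).trans ?_
    refine Eq.trans ?_ (ConcreteCategory.congr_hom (CechEdge.toCycles_i P Y) s).symm
    have hh : CechEdge.toCech₀ P Y' ≫ (CohCx.cechRefine P f).f 0 = CechEdge.toCech₀ P Y := by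
      refine Limits.Pi.hom_ext _ _ fun a => ?_
      erw [Category.assoc, Limits.Pi.lift_π, Limits.Pi.lift_π_assoc, Limits.Pi.lift_π]
      change P.map _ ≫ P.map _ = P.map _
      refine (P.map_comp _ _).symm.trans ?_
      exact congrArg (fun m => P.map (Quiver.Hom.op m))
        (Over.w (((FormalCoproduct.cechFunctor.map f).app (op (SimplexCategory.mk 0))).φ a))
    exact ConcreteCategory.congr_hom hh s
  natural P Q φ p x := by
    refine Eq.trans (congrArg (e Q p) ?_) (he.natural P Q φ p _)
    exact ConcreteCategory.congr_hom ((HomologicalComplex.homologyMap_comp _ _ p).symm.trans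
      ((congrArg (fun m => HomologicalComplex.homologyMap m p) (cechRefine_natural Y f φ)).trans
        (HomologicalComplex.homologyMap_comp _ _ p))) x
  delta S hS hC p x := by
    refine Eq.trans (congrArg (e S.X₁ (p + 1)) ?_) (he.delta S hS (cxFunctor_shortExact Y hS) p _)
    exact ConcreteCategory.congr_hom (HomologicalComplex.HomologySequence.δ_naturality
      (ShortComplex.homMk (S₁ := S.map (CechEdge.cxFunctor Y')) (S₂ := S.map (CechEdge.cxFunctor Y))
        (CohCx.cechRefine S.X₁ f) (CohCx.cechRefine S.X₂ f) (CohCx.cechRefine S.X₃ f)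
        (cechRefine_natural Y f S.f).symm (cechRefine_natural Y f S.g).symm)
      hC (cxFunctor_shortExact Y hS) p (p + 1) rfl) x

end Groth.Agent.Fib44.Edge
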