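import Mathlib.Algebra.Homology.DerivedCategory.Ext.ExactSequences
import Mathlib.Algebra.Homology.QuasiIso
import Mathlib.Algebra.Homology.SingleHomology
import Mathlib.Algebra.Homology.ShortComplex.Exact

/-!
Mapping a resolution by objects without higher `Ext` into an object.
-/

set_option autoImplicit false

universe w v u

open CategoryTheory CategoryTheory.Limits CategoryTheory.Abelian

namespace Groth.Agent.Fib44

variable {A : Type u} [Category.{v} A] [Abelian A]
variable {P : ChainComplex A ℕ} {Q : A} (φ : P ⟶ (ChainComplex.single₀ A).obj Q) [QuasiIso φ]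

/-- the augmentation of a resolution -/
abbrev augMap : P.X 0 ⟶ Q := φ.f 0

set_option backward.isDefEq.respectTransparency false in
include φ in
theorem resolution_exact (n : ℕ) :
    (ShortComplex.mk (P.d (n + 2) (n + 1)) (P.d (n + 1) n) (P.d_comp_d _ _ _)).Exact := by
  have h : P.ExactAt (n + 1) :=
    (quasiIsoAt_iff_exactAt' φ (n + 1) (ChainComplex.exactAt_succ_single_obj Q n)).1 inferInstance
  exact (P.exactAt_iff' (n + 2) (n + 1) n (by simp) (by simp)).1 h

set_option backward.isDefEq.respectTransparency false in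
theorem resolution_zero :
    ∃ w : P.d 1 0 ≫ augMap φ = 0,
      (ShortComplex.mk (P.d 1 0) (augMap φ) w).Exact ∧ Epi (augMap φ) := by
  have h : QuasiIsoAt φ 0 := inferInstance
  rw [ChainComplex.quasiIsoAt₀_iff, ShortComplex.quasiIso_iff_of_zeros'] at h
  · exact ⟨_, h.1, h.2⟩
  all_goals simp

set_option backward.isDefEq.respectTransparency false in
/-- A morphism out of the degree `0` term killed by the differential factors uniquely through the
augmentation. -/
theorem existsUnique_desc {F : A} (x : P.X 0 ⟶ F) (hx : P.d 1 0 ≫ x = 0) :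
    ∃! y : Q ⟶ F, augMap φ ≫ y = x := by
  obtain ⟨w, hE, hepi⟩ := resolution_zero φ
  exact ⟨hE.desc x hx, hE.g_desc x hx, fun y hy => by
    rw [← cancel_epi (augMap φ), hy, hE.g_desc]⟩

variable [HasExt.{w} A]

theorem subsingleton_ext_of_iso {X Y : A} (e : X ≅ Y) (F : A) (n : ℕ)
    [Subsingleton (Ext Y F n)] : Subsingleton (Ext X F n) := by
  refine subsingleton_of_forall_eq 0 fun x => ?_
  have h : (Ext.mk₀ e.inv).comp x (zero_add n) = 0 := Subsingleton.elim _ _
  calc x = (Ext.mk₀ (𝟙 X)).comp x (zero_add n) := (Ext.mk₀_id_comp x).symm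
    _ = 0 := by rw [← e.hom_inv_id, ← Ext.mk₀_comp_mk₀_assoc, h, Ext.comp_zero]

section

variable (P)

/-- the cokernel of a differential -/
noncomputable abbrev syz (q : ℕ) : A := cokernel (P.d (q + 1) q)

noncomputable abbrev syzMap (q : ℕ) : syz P (q + 1) ⟶ P.X q :=
  cokernel.desc _ (P.d (q + 1) q) (P.d_comp_d _ _ _)

noncomputable abbrev syzSeq (q : ℕ) : ShortComplex A :=
  ShortComplex.mk (syzMap P q) (cokernel.π (P.d (q + 1) q)) (by
    rw [← cancel_epi (cokernel.π (P.d (q + 1 + 1) (q + 1)))]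
    simp)

end

include φ in
theorem syzSeq_shortExact (q : ℕ) : (syzSeq P q).ShortExact := by
  have hm : Mono (syzMap P q) := (resolution_exact φ q).mono_cokernelDesc
  refine ShortComplex.ShortExact.mk (S := syzSeq P q) ?_
  refine ShortComplex.exact_of_g_is_cokernel _ (CokernelCofork.IsColimit.ofπ _ _
    (fun g hg => cokernel.desc _ g ?_) (fun g hg => cokernel.π_desc _ _ _)
    (fun g hg m hm' => by rw [← cancel_epi (cokernel.π (P.d (q + 1) q)), cokernel.π_desc]; exact hm'))
  rw [← cokernel.π_desc (P.d (q + 1 + 1) (q + 1)) (P.d (q + 1) q) (P.d_comp_d _ _ _),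
    Category.assoc]
  exact (congrArg (fun t => _ ≫ t) hg).trans comp_zero

variable {F : A}

set_option backward.isDefEq.respectTransparency false in
include φ in
theorem subsingleton_ext_syz (hP : ∀ n p : ℕ, Subsingleton (Ext (P.X n) F (p + 1)))
    (hQ : ∀ p : ℕ, Subsingleton (Ext Q F (p + 1))) :
    ∀ q p : ℕ, Subsingleton (Ext (syz P q) F (p + 1)) := by
  intro q
  induction q with
  | zero =>
    intro p
    obtain ⟨w, hE, hepi⟩ := resolution_zero φ
    have := hQ p
    let e : syz P 0 ≅ Q :=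
      IsColimit.coconePointUniqueUpToIso (cokernelIsCokernel (P.d 1 0)) hE.gIsCokernel
    exact subsingleton_ext_of_iso e F (p + 1)
  | succ q ih =>
    intro p
    refine subsingleton_of_forall_eq 0 fun x => ?_
    have hS := syzSeq_shortExact φ q
    obtain ⟨y, hy⟩ := Ext.contravariant_sequence_exact₁ hS F x
      (n₁ := p + 2) (by omega) (@Subsingleton.elim _ (ih (p + 1)) _ _)
    rw [← hy, @Subsingleton.elim _ (hP q p) y 0, Ext.comp_zero]

set_option backward.isDefEq.respectTransparency false in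
include φ in
/-- A cocycle in positive degree is a coboundary. -/
theorem exists_preimage (hP : ∀ n p : ℕ, Subsingleton (Ext (P.X n) F (p + 1)))
    (hQ : ∀ p : ℕ, Subsingleton (Ext Q F (p + 1))) (n : ℕ) (x : P.X (n + 1) ⟶ F)
    (hx : P.d (n + 2) (n + 1) ≫ x = 0) : ∃ y : P.X n ⟶ F, P.d (n + 1) n ≫ y = x := by
  have hS := syzSeq_shortExact φ n
  let x' : syz P (n + 1) ⟶ F := cokernel.desc _ x hx
  obtain ⟨y, hy⟩ := Ext.contravariant_sequence_exact₁ hS F (Ext.mk₀ x') (n₁ := 1) rfl
    (@Subsingleton.elim _ (subsingleton_ext_syz φ hP hQ n 0) _ _)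
  obtain ⟨y', rfl⟩ := (Ext.mk₀_bijective (syzSeq P n).X₂ F).2 y
  rw [Ext.mk₀_comp_mk₀] at hy
  have := (Ext.mk₀_bijective _ _).1 hy
  refine ⟨y', ?_⟩
  rw [← cokernel.π_desc (P.d (n + 1 + 1) (n + 1)) (P.d (n + 1) n) (P.d_comp_d _ _ _),
    Category.assoc]
  exact (congrArg (fun t => _ ≫ t) this).trans (cokernel.π_desc _ _ _)

end Groth.Agent.Fib44
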