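import Mathlib.CategoryTheory.Abelian.Projective.Ext
import Mathlib.Algebra.Category.Grp.Abelian
import Mathlib.Algebra.Homology.ShortComplex.Ab
import Mathlib.GroupTheory.QuotientGroup.Basic

/-!
`Ext` as the cohomology of any complex of abelian groups isomorphic to the Hom complex out of a
projective resolution.
-/

set_option autoImplicit false

universe w v u

open CategoryTheory CategoryTheory.Limits CategoryTheory.Abelian

namespace Groth.Agent.Fib44.ExtProjRes

variable {A : Type u} [Category.{v} A] [Abelian A] [HasExt.{w} A] {X Y : A} (P : ProjectiveResolution X)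

lemma extMk_congr {n : ℕ} {f f' : P.complex.X n ⟶ Y} (h : f = f') {hf : P.complex.d (n + 1) n ≫ f = 0}
    {hf' : P.complex.d (n + 1) n ≫ f' = 0} : P.extMk f (n + 1) rfl hf = P.extMk f' (n + 1) rfl hf' := by
  subst h; rfl

lemma extMk_zero_eq_zero (f : P.complex.X 0 ⟶ Y) (hf : P.complex.d 1 0 ≫ f = 0)
    (h : P.extMk f 1 rfl hf = 0) : f = 0 := by
  have h' : P.extEquivCohomologyClass (P.extMk f 1 rfl hf) = 0 := by
    rw [h, ProjectiveResolution.extEquivCohomologyClass_zero]
  rw [ProjectiveResolution.extEquivCohomologyClass_extMk,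
    CochainComplex.HomComplex.CohomologyClass.mk_eq_zero_iff,
    CochainComplex.HomComplex.Cocycle.toSingleMk_mem_coboundaries_iff _ _ _ _ _ 1 (by simp)]
    at h'
  obtain ⟨g, hg⟩ := h'
  have hz : IsZero (P.cochainComplex.X 1) := P.cochainComplex.isZero_of_isStrictlyLE 0 1 (by lia)
  rw [hz.eq_of_src g 0, comp_zero] at hg
  rw [← cancel_epi (P.cochainComplexXIso (-(0 : ℕ)) 0 rfl).hom, comp_zero]
  exact hg.symm

variable {K : CochainComplex AddCommGrpCat.{v} ℕ} (e : ∀ n, K.X n ≃+ (P.complex.X n ⟶ Y))
  (hd : ∀ (n : ℕ) (x : K.X n), e (n + 1) (K.d n (n + 1) x) = P.complex.d (n + 1) n ≫ e n x)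

omit [HasExt.{w} A] in
include hd in
lemma d_comp (n : ℕ) (z : K.cycles n) : P.complex.d (n + 1) n ≫ e n (K.iCycles n z) = 0 := by
  rw [← hd, ← ConcreteCategory.comp_apply, HomologicalComplex.iCycles_d]
  exact map_zero (e (n + 1))

/-- The class of a cocycle. -/
noncomputable def toExt (n : ℕ) : K.cycles n →+ Ext.{w} X Y n :=
  AddMonoidHom.mk' (fun z => P.extMk (e n (K.iCycles n z)) (n + 1) rfl (d_comp P e hd n z))
    fun z z' => by
      rw [P.add_extMk _ _ (n + 1) rfl (d_comp P e hd n z) (d_comp P e hd n z')]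
      exact extMk_congr P (by rw [map_add, map_add])

lemma toExt_surjective (n : ℕ) : Function.Surjective (toExt P e hd n) := by
  intro x
  obtain ⟨f, hf, rfl⟩ := P.extMk_surjective x (n + 1) rfl
  obtain ⟨k, rfl⟩ := (e n).surjective f
  have h : (ShortComplex.mk _ _ (K.iCycles_d n (n + 1))).Exact :=
    ShortComplex.exact_of_f_is_kernel _ (K.cyclesIsKernel n (n + 1) (by simp))
  obtain ⟨z, hz⟩ := (ShortComplex.ab_exact_iff _).1 h k ((e (n + 1)).injective
    ((hd n k).trans (hf.trans (map_zero _).symm)))
  exact ⟨z, extMk_congr P (hf := d_comp P e hd n z) (congrArg (e n) hz)⟩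

lemma ker_toExt (n : ℕ) : (toExt P e hd n).ker = (K.homologyπ n).hom.ker := by
  have hi : Function.Injective (K.iCycles n) := (AddCommGrpCat.mono_iff_injective _).1 inferInstance
  ext z
  rw [AddMonoidHom.mem_ker, AddMonoidHom.mem_ker]
  change P.extMk (e n (K.iCycles n z)) (n + 1) rfl (d_comp P e hd n z) = 0 ↔ _
  rcases n with _ | p
  · constructor
    · intro h
      have h0 := extMk_zero_eq_zero P _ _ h
      rw [show z = 0 from hi ((e 0).injective (h0.trans ((congrArg (e 0) (map_zero _)).trans (map_zero _)).symm))]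
      exact map_zero _
    · intro h
      have : z = 0 := (ConcreteCategory.bijective_of_isIso (K.homologyπ 0)).1 (h.trans (map_zero _).symm)
      subst this
      rw [extMk_congr P (show e 0 (K.iCycles 0 0) = 0 by rw [map_zero, map_zero]) (hf' := comp_zero)]
      exact P.extMk_zero _ rfl
  · rw [P.extMk_eq_zero_iff _ _ rfl (d_comp P e hd (p + 1) z) p rfl]
    constructor
    · rintro ⟨g, hg⟩
      obtain ⟨k, rfl⟩ := (e p).surjective g
      rw [show z = K.toCycles p (p + 1) k from hi ((e (p + 1)).injective (by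
        rw [← ConcreteCategory.comp_apply, HomologicalComplex.toCycles_i, hd]
        exact hg.symm))]
      exact ConcreteCategory.congr_hom (K.toCycles_comp_homologyπ p (p + 1)) k
    · intro h
      have hE : (ShortComplex.mk _ _ (K.toCycles_comp_homologyπ p (p + 1))).Exact :=
        ShortComplex.exact_of_g_is_cokernel _ (K.homologyIsCokernel p (p + 1) (by simp))
      obtain ⟨k, hk⟩ := (ShortComplex.ab_exact_iff _).1 hE z h
      refine ⟨e p k, ?_⟩
      rw [← hd, ← hk, ← ConcreteCategory.comp_apply, HomologicalComplex.toCycles_i]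

/-- Cohomology of the complex is `Ext`. -/
noncomputable def homologyEquiv (n : ℕ) : K.homology n ≃+ Ext.{w} X Y n :=
  (QuotientAddGroup.quotientKerEquivOfSurjective (K.homologyπ n).hom
      ((AddCommGrpCat.epi_iff_surjective _).1 inferInstance)).symm.trans
    ((QuotientAddGroup.quotientAddEquivOfEq (ker_toExt P e hd n).symm).trans
      (QuotientAddGroup.quotientKerEquivOfSurjective _ (toExt_surjective P e hd n)))

end Groth.Agent.Fib44.ExtProjRes
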