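import Groth.Agent.Fib44.Basic
import Mathlib.CategoryTheory.Adjunction.Basic

/-!
Factorisation of a 1-morphism of fibred categories as a reflective inclusion followed by a
fibred category.
-/

set_option backward.isDefEq.respectTransparency false
set_option backward.isDefEq.respectTransparency.types false
set_option backward.defeqAttrib.useBackward true

universe v₃ u₃ v₂ u₂ v u

open CategoryTheory CategoryTheory.Functor

namespace Groth.Agent.Fib44

variable {C : Type u} [Category.{v} C] {𝒳 : BasedCategory.{v₂, u₂} C}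
  {𝒴 : BasedCategory.{v₃, u₃} C}

/-- Objects of the factorisation: a vertical arrow into the image of `F`. -/
structure FacObj (F : 𝒳 ⥤ᵇ 𝒴) where
  /-- the source object -/
  x : 𝒳.obj
  /-- the target object -/
  y : 𝒴.obj
  /-- the vertical arrow -/
  f : y ⟶ F.obj x
  hf : 𝒴.p.IsHomLift (𝟙 (𝒳.p.obj x)) f

variable {F : 𝒳 ⥤ᵇ 𝒴}

theorem FacObj.py (A : FacObj F) : 𝒴.p.obj A.y = 𝒳.p.obj A.x :=
  have := A.hf
  IsHomLift.domain_eq 𝒴.p (𝟙 (𝒳.p.obj A.x)) A.f

theorem FacObj.map_f (A : FacObj F) :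
    𝒴.p.map A.f = eqToHom (A.py.trans (F.w_obj A.x).symm) := by
  have := A.hf
  simp [IsHomLift.fac' 𝒴.p (𝟙 (𝒳.p.obj A.x)) A.f]

/-- Morphisms of the factorisation. -/
@[ext]
structure FacHom (A B : FacObj F) where
  /-- the component in `𝒳` -/
  a : A.x ⟶ B.x
  /-- the component in `𝒴` -/
  b : A.y ⟶ B.y
  w : b ≫ B.f = A.f ≫ F.map a

instance : Category (FacObj F) where
  Hom := FacHom
  id A := ⟨𝟙 _, 𝟙 _, by simp⟩
  comp φ ψ := ⟨φ.a ≫ ψ.a, φ.b ≫ ψ.b, by
    rw [Category.assoc, ψ.w, ← Category.assoc, φ.w, Category.assoc, Functor.map_comp]⟩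
  id_comp φ := FacHom.ext (Category.id_comp _) (Category.id_comp _)
  comp_id φ := FacHom.ext (Category.comp_id _) (Category.comp_id _)
  assoc φ ψ χ := FacHom.ext (Category.assoc _ _ _) (Category.assoc _ _ _)

theorem fac_pb {A B : FacObj F} (φ : A ⟶ B) :
    𝒴.p.map φ.b = eqToHom A.py ≫ 𝒳.p.map φ.a ≫ eqToHom B.py.symm := by
  have h := congrArg 𝒴.p.map φ.w
  rw [Functor.map_comp, Functor.map_comp, B.map_f, A.map_f, based_map F φ.a] at h
  rw [← cancel_mono (eqToHom (B.py.trans (F.w_obj B.x).symm)), h]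
  simp

variable (F) in
/-- The factorising category. -/
@[reducible]
def facCat : BasedCategory C where
  obj := FacObj F
  category := inferInstanceAs (Category (FacObj F))
  p :=
    ({ obj := fun A => 𝒳.p.obj A.x
       map := fun φ => 𝒳.p.map φ.a
       map_id := fun A => 𝒳.p.map_id _
       map_comp := fun φ ψ => 𝒳.p.map_comp _ _ } : FacObj F ⥤ C)

variable (F) in
/-- The inclusion. -/
def facIn : 𝒳 ⥤ᵇ facCat F where
  toFunctor :=
    { obj := fun x => ⟨x, F.obj x, 𝟙 _, inferInstance⟩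
      map := fun {x y} a => ⟨a, F.map a, (Category.comp_id _).trans (Category.id_comp _).symm⟩
      map_id := fun x => FacHom.ext rfl (F.toFunctor.map_id x)
      map_comp := fun a a' => FacHom.ext rfl (F.toFunctor.map_comp a a') }
  w := rfl

variable (F) in
/-- The fibred projection. -/
def facOut : facCat F ⥤ᵇ 𝒴 where
  toFunctor :=
    { obj := fun A => A.y
      map := fun φ => φ.b
      map_id := fun _ => rfl
      map_comp := fun _ _ => rfl }
  w := CategoryTheory.Functor.ext (fun A => A.py) fun _ _ φ => fac_pb φ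

variable (F) in
/-- The reflection. -/
def facRefl : facCat F ⥤ᵇ 𝒳 where
  toFunctor :=
    { obj := fun A => A.x
      map := fun φ => φ.a
      map_id := fun _ => rfl
      map_comp := fun _ _ => rfl }
  w := rfl

/-- The reflection is left adjoint to the inclusion. -/
def facAdj : (facRefl F).toFunctor ⊣ (facIn F).toFunctor :=
  Adjunction.mkOfHomEquiv
    { homEquiv := fun A x =>
        { toFun := fun a => ⟨a, A.f ≫ F.map a, Category.comp_id _⟩
          invFun := fun φ => φ.a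
          left_inv := fun _ => rfl
          right_inv := fun φ => FacHom.ext rfl (φ.w.symm.trans (Category.comp_id _)) }
      homEquiv_naturality_left_symm := fun _ _ => rfl
      homEquiv_naturality_right := fun {A x x'} a a' => FacHom.ext rfl (by
        change A.f ≫ F.map (a ≫ a') = (A.f ≫ F.map a) ≫ F.map a'
        simp) }

theorem facIn_full_faithful : (facIn F).toFunctor.Full ∧ (facIn F).toFunctor.Faithful := by
  refine ⟨⟨fun {x y} φ => ⟨φ.a, FacHom.ext rfl ?_⟩⟩, ⟨fun h => congrArg FacHom.a h⟩⟩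
  have h : φ.b ≫ 𝟙 _ = 𝟙 _ ≫ F.map φ.a := φ.w
  rw [Category.comp_id, Category.id_comp] at h
  exact h.symm

theorem fac_isSC {A B : FacObj F} (φ : A ⟶ B)
    (ha : 𝒳.p.IsStronglyCartesian (𝒳.p.map φ.a) φ.a)
    (hFa : 𝒴.p.IsStronglyCartesian (𝒴.p.map (F.map φ.a)) (F.map φ.a))
    (hb : 𝒴.p.IsStronglyCartesian (𝒴.p.map φ.b) φ.b) :
    (facCat F).p.IsStronglyCartesian ((facCat F).p.map φ) φ := by
  rw [isSC_iff]
  intro Z g ψ hψ
  change 𝒳.p.map ψ.a = g ≫ 𝒳.p.map φ.a at hψ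
  obtain ⟨χa, ⟨hχa, hχa'⟩, hua⟩ := (isSC_iff 𝒳.p φ.a).mp ha g ψ.a hψ
  obtain ⟨χb, ⟨hχb, hχb'⟩, hub⟩ := (isSC_iff 𝒴.p φ.b).mp hb
    (eqToHom Z.py ≫ g ≫ eqToHom A.py.symm) ψ.b (by
      rw [fac_pb ψ, fac_pb φ, hψ]
      simp)
  have w : χb ≫ A.f = Z.f ≫ F.map χa := by
    refine sc_hom_ext 𝒴.p (F.map φ.a) hFa ?_ ?_
    · rw [Functor.map_comp, Functor.map_comp, hχb, A.map_f, Z.map_f, based_map F χa, hχa]
      simp
    · rw [Category.assoc, ← φ.w, ← Category.assoc, hχb', ψ.w, Category.assoc,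
        ← Functor.map_comp, hχa']
  refine ⟨⟨χa, χb, w⟩, ⟨hχa, FacHom.ext hχa' hχb'⟩, ?_⟩
  rintro χ ⟨h1, h2⟩
  refine FacHom.ext (hua χ.a ⟨h1, congrArg FacHom.a h2⟩)
    (hub χ.b ⟨?_, congrArg FacHom.b h2⟩)
  rw [fac_pb χ]
  change eqToHom _ ≫ (facCat F).p.map χ ≫ _ = _
  rw [h1]

variable [𝒳.p.IsFibered] [𝒴.p.IsFibered] (hF : FibCat.PreservesStronglyCartesian F)

include hF

theorem fac_exists_lift (A : FacObj F) (R : C) (h : R ⟶ 𝒳.p.obj A.x) :
    ∃ (B : FacObj F) (φ : B ⟶ A), (facCat F).p.IsStronglyCartesian h φ ∧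
      𝒳.p.IsStronglyCartesian h φ.a ∧ 𝒴.p.IsStronglyCartesian h φ.b := by
  obtain ⟨x', a, ha⟩ := exists_sc_lift 𝒳.p rfl h
  obtain ⟨y', b, hb⟩ := exists_sc_lift 𝒴.p A.py h
  have hFa := hF h a ha
  have := A.hf
  let f' := IsCartesian.map 𝒴.p h (F.map a) (b ≫ A.f)
  have hx' : 𝒳.p.obj x' = R := IsHomLift.domain_eq 𝒳.p h a
  let B : FacObj F := ⟨x', y', f', lift_id_of_eq _ hx'.symm inferInstance⟩
  let φ : B ⟶ A := ⟨a, b, (IsCartesian.fac 𝒴.p h (F.map a) (b ≫ A.f)).symm⟩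
  refine ⟨B, φ, ?_, ha, hb⟩
  have : (facCat F).p.IsHomLift h φ :=
    IsHomLift.of_fac' _ _ _ hx' rfl (IsHomLift.fac' 𝒳.p h a)
  refine isSC_of_isSC_self _ h φ (fac_isSC φ (isSC_self_of_isSC 𝒳.p h a)
    (isSC_self_of_isSC 𝒴.p h (F.map a)) (isSC_self_of_isSC 𝒴.p h b))

theorem facCat_isFibered : (facCat F).p.IsFibered :=
  IsFibered.of_exists_isStronglyCartesian fun A R h => by
    obtain ⟨B, φ, h1, -, -⟩ := fac_exists_lift hF A R h
    exact ⟨B, φ, h1⟩

theorem fac_sc_components {R S : C} (h : R ⟶ S) {B A : (facCat F).obj} (φ : B ⟶ A)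
    (hφ : (facCat F).p.IsStronglyCartesian h φ) :
    𝒳.p.IsStronglyCartesian h φ.a ∧ 𝒴.p.IsStronglyCartesian h φ.b := by
  obtain rfl := IsHomLift.codomain_eq (facCat F).p h φ
  obtain ⟨B', ψ, hψ, ha, hb⟩ := fac_exists_lift hF A R h
  let e := IsCartesian.domainUniqueUpToIso (facCat F).p h ψ φ
  have he : e.hom ≫ ψ = φ := IsCartesian.fac _ h ψ φ
  have hl : (facCat F).p.IsHomLift (𝟙 R) e.hom := inferInstance
  have hla : 𝒳.p.IsHomLift (𝟙 R) e.hom.a :=
    (BasedFunctor.isHomLift_iff (facRefl F) _ e.hom).mpr hl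
  have hlb : 𝒴.p.IsHomLift (𝟙 R) e.hom.b :=
    (BasedFunctor.isHomLift_iff (facOut F) _ e.hom).mpr hl
  have : IsIso e.hom.a := inferInstanceAs (IsIso ((facRefl F).map e.hom))
  have : IsIso e.hom.b := inferInstanceAs (IsIso ((facOut F).map e.hom))
  have hsa : 𝒳.p.IsStronglyCartesian (𝟙 R ≫ h) (e.hom.a ≫ ψ.a) := inferInstance
  have hsb : 𝒴.p.IsStronglyCartesian (𝟙 R ≫ h) (e.hom.b ≫ ψ.b) := inferInstance
  rw [Category.id_comp] at hsa hsb
  exact ⟨congrArg FacHom.a he ▸ hsa, congrArg FacHom.b he ▸ hsb⟩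

theorem facIn_preserves : FibCat.PreservesStronglyCartesian (facIn F) := by
  intro R S h x y a ha
  have := hF h a ha
  have : (facCat F).p.IsHomLift h ((facIn F).map a) :=
    @BasedFunctor.preserves_isHomLift _ _ _ _ (facIn F) _ _ _ _ h a ha.toIsHomLift
  exact isSC_of_isSC_self _ h _ (fac_isSC ((facIn F).map a) (isSC_self_of_isSC 𝒳.p h a)
    (isSC_self_of_isSC 𝒴.p h (F.map a)) (isSC_self_of_isSC 𝒴.p h (F.map a)))

theorem facOut_preserves : FibCat.PreservesStronglyCartesian (facOut F) :=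
  fun _ _ h _ _ φ hφ => (fac_sc_components hF h φ hφ).2

theorem facRefl_preserves : FibCat.PreservesStronglyCartesian (facRefl F) :=
  fun _ _ h _ _ φ hφ => (fac_sc_components hF h φ hφ).1

theorem facOut_isFibered : (facOut F).toFunctor.IsFibered :=
  IsFibered.of_exists_isStronglyCartesian fun A y' k => by
    let g := 𝒴.p.map (k : y' ⟶ A.y) ≫ eqToHom A.py
    obtain ⟨x', a, ha⟩ := exists_sc_lift 𝒳.p rfl g
    have hFa := hF g a ha
    have := A.hf
    have hk : 𝒴.p.IsHomLift g (k : y' ⟶ A.y) :=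
      IsHomLift.of_fac' _ _ _ rfl A.py (by simp [g])
    let f' := IsCartesian.map 𝒴.p g (F.map a) ((k : y' ⟶ A.y) ≫ A.f)
    have hx' : 𝒳.p.obj x' = 𝒴.p.obj y' := IsHomLift.domain_eq 𝒳.p g a
    let B : FacObj F := ⟨x', y', f', lift_id_of_eq _ hx'.symm inferInstance⟩
    let φ : B ⟶ A := ⟨a, k, (IsCartesian.fac 𝒴.p g (F.map a) (_ ≫ A.f)).symm⟩
    refine ⟨B, φ, (?_ : (facOut F).toFunctor.IsStronglyCartesian
      ((facOut F).toFunctor.map φ) φ)⟩
    rw [isSC_iff]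
    intro Z g' ψ hψ
    change ψ.b = g' ≫ φ.b at hψ
    have hsa := isSC_self_of_isSC 𝒳.p g a
    obtain ⟨χa, ⟨hχa, hχa'⟩, hua⟩ := (isSC_iff 𝒳.p a).mp hsa
      (eqToHom Z.py.symm ≫ 𝒴.p.map g' ≫ eqToHom B.py) ψ.a (by
        have e1 := fac_pb ψ
        rw [hψ, Functor.map_comp, fac_pb φ] at e1
        change _ = _ ≫ 𝒳.p.map φ.a
        rw [← cancel_epi (eqToHom Z.py), ← cancel_mono (eqToHom A.py.symm), Category.assoc, ← e1]
        simp)
    have w : g' ≫ B.f = Z.f ≫ F.map χa := by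
      refine sc_hom_ext 𝒴.p (F.map φ.a) (isSC_self_of_isSC 𝒴.p g (F.map a)) ?_ ?_
      · rw [Functor.map_comp, Functor.map_comp, B.map_f, Z.map_f, based_map F χa, hχa]
        simp
      · rw [Category.assoc, ← φ.w, ← Category.assoc, ← hψ, ψ.w, Category.assoc,
          ← Functor.map_comp, hχa']
    refine ⟨⟨χa, g', w⟩, ⟨rfl, FacHom.ext hχa' hψ.symm⟩, ?_⟩
    rintro χ ⟨h1, h2⟩
    change χ.b = g' at h1
    refine FacHom.ext (hua χ.a ⟨?_, congrArg FacHom.a h2⟩) h1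
    subst h1
    rw [fac_pb χ]
    simp

end Groth.Agent.Fib44
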