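import Groth.Agent.Fib44.Equiv

/-!
Two-fibre products over the base.
-/

set_option backward.isDefEq.respectTransparency false
set_option backward.isDefEq.respectTransparency.types false

universe v₈ u₈ v₇ u₇ v₆ u₆ v₅ u₅ v₄ u₄ v₃ u₃ v₂ u₂ v u

open CategoryTheory CategoryTheory.Functor CategoryTheory.Limits

namespace Groth.Agent.Fib44

variable {C : Type u} [Category.{v} C]
variable {𝒳 : BasedCategory.{v₂, u₂} C} {𝒴 : BasedCategory.{v₃, u₃} C} {𝒮 : BasedCategory.{v₄, u₄} C}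
  {F : 𝒳 ⥤ᵇ 𝒮} {G : 𝒴 ⥤ᵇ 𝒮}

theorem fp_proj_snd (x : (FibCat.fp F G).obj) : 𝒴.p.obj x.obj.snd = 𝒳.p.obj x.obj.fst :=
  (FibCat.fpSnd F G).w_obj x

theorem fp_iso_lift (x : (FibCat.fp F G).obj) :
    𝒮.p.IsHomLift (𝟙 (𝒳.p.obj x.obj.fst)) x.obj.iso.hom := x.property

/-- Constructor of objects of a fibre product over the base. -/
abbrev fpMk (x : 𝒳.obj) (y : 𝒴.obj) (e : F.obj x ≅ G.obj y)
    (h : 𝒮.p.IsHomLift (𝟙 (𝒳.p.obj x)) e.hom) : (FibCat.fp F G).obj :=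
  ⟨⟨x, y, e⟩, h⟩

/-- Constructor of morphisms of a fibre product over the base. -/
abbrev fpHom {x y : (FibCat.fp F G).obj} (a : x.obj.fst ⟶ y.obj.fst) (b : x.obj.snd ⟶ y.obj.snd)
    (w : F.map a ≫ y.obj.iso.hom = x.obj.iso.hom ≫ G.map b) : x ⟶ y :=
  ObjectProperty.homMk ⟨a, b, w⟩

/-- Constructor of isomorphisms of a fibre product over the base. -/
abbrev fpIsoMk {x y : (FibCat.fp F G).obj} (a : x.obj.fst ≅ y.obj.fst) (b : x.obj.snd ≅ y.obj.snd)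
    (w : F.map a.hom ≫ y.obj.iso.hom = x.obj.iso.hom ≫ G.map b.hom) : x ≅ y :=
  ObjectProperty.isoMk _ (CategoricalPullback.mkIso a b w)

theorem fp_hom_ext {x y : (FibCat.fp F G).obj} {f g : x ⟶ y} (h1 : f.hom.fst = g.hom.fst)
    (h2 : f.hom.snd = g.hom.snd) : f = g := by
  apply ObjectProperty.hom_ext
  exact CategoricalPullback.hom_ext h1 h2

theorem fp_w {x y : (FibCat.fp F G).obj} (f : x ⟶ y) :
    F.map f.hom.fst ≫ y.obj.iso.hom = x.obj.iso.hom ≫ G.map f.hom.snd :=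
  f.hom.w

theorem fp_map {x y : (FibCat.fp F G).obj} (f : x ⟶ y) :
    (FibCat.fp F G).p.map f = 𝒳.p.map f.hom.fst := rfl

theorem fp_isHomLift_iff {R S : C} {x y : (FibCat.fp F G).obj} (f : R ⟶ S) (φ : x ⟶ y) :
    (FibCat.fp F G).p.IsHomLift f φ ↔ 𝒳.p.IsHomLift f φ.hom.fst :=
  (BasedFunctor.isHomLift_iff (FibCat.fpFst F G) f φ).symm

theorem fp_isHomLift_snd {R S : C} {x y : (FibCat.fp F G).obj} (f : R ⟶ S) (φ : x ⟶ y)
    [(FibCat.fp F G).p.IsHomLift f φ] : 𝒴.p.IsHomLift f φ.hom.snd :=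
  inferInstanceAs (𝒴.p.IsHomLift f ((FibCat.fpSnd F G).map φ))

theorem isSC_fp {R S : C} (f : R ⟶ S) {x y : (FibCat.fp F G).obj} (φ : x ⟶ y)
    (h1 : 𝒳.p.IsStronglyCartesian f φ.hom.fst) (h2 : 𝒴.p.IsStronglyCartesian f φ.hom.snd)
    (h3 : 𝒮.p.IsStronglyCartesian f (G.map φ.hom.snd)) :
    (FibCat.fp F G).p.IsStronglyCartesian f φ := by
  have : (FibCat.fp F G).p.IsHomLift f φ := (fp_isHomLift_iff f φ).mpr inferInstance
  refine { universal_property' := fun {z} g ψ hψ => ?_ }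
  have := (fp_isHomLift_iff (g ≫ f) ψ).mp hψ
  have := fp_isHomLift_snd (g ≫ f) ψ
  let a := IsStronglyCartesian.map 𝒳.p f φ.hom.fst (g := g) (f' := g ≫ f) rfl ψ.hom.fst
  let b := IsStronglyCartesian.map 𝒴.p f φ.hom.snd (g := g) (f' := g ≫ f) rfl ψ.hom.snd
  have hw : F.map a ≫ x.obj.iso.hom = z.obj.iso.hom ≫ G.map b := by
    have hR : 𝒳.p.obj x.obj.fst = R := IsHomLift.domain_eq 𝒳.p f φ.hom.fst
    have := fp_iso_lift z
    have : 𝒮.p.IsHomLift (𝟙 R) x.obj.iso.hom := lift_id_of_eq 𝒮.p hR x.property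
    have hz : 𝒳.p.obj z.obj.fst = (FibCat.fp F G).p.obj z := rfl
    have : 𝒮.p.IsHomLift g (z.obj.iso.hom ≫ G.map b) := by
      have : 𝒮.p.IsHomLift (𝟙 ((FibCat.fp F G).p.obj z)) z.obj.iso.hom := z.property
      infer_instance
    apply IsStronglyCartesian.ext 𝒮.p f (G.map φ.hom.snd) g
    rw [Category.assoc, Category.assoc, ← fp_w φ, ← Functor.map_comp_assoc, ← Functor.map_comp,
      IsStronglyCartesian.fac, IsStronglyCartesian.fac]
    exact fp_w ψ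
  refine ⟨fpHom a b hw, ⟨(fp_isHomLift_iff g _).mpr (inferInstanceAs (𝒳.p.IsHomLift g a)),
    fp_hom_ext (IsStronglyCartesian.fac 𝒳.p f φ.hom.fst (f' := g ≫ f) rfl ψ.hom.fst)
      (IsStronglyCartesian.fac 𝒴.p f φ.hom.snd (f' := g ≫ f) rfl ψ.hom.snd)⟩, ?_⟩
  rintro χ ⟨hχ, hc⟩
  have := (fp_isHomLift_iff g χ).mp hχ
  have := fp_isHomLift_snd g χ
  exact fp_hom_ext
    (IsStronglyCartesian.map_uniq 𝒳.p f φ.hom.fst (f' := g ≫ f) rfl ψ.hom.fst χ.hom.fst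
      (congrArg (fun k => k.hom.fst) hc))
    (IsStronglyCartesian.map_uniq 𝒴.p f φ.hom.snd (f' := g ≫ f) rfl ψ.hom.snd χ.hom.snd
      (congrArg (fun k => k.hom.snd) hc))

theorem exists_fp_lift [𝒳.p.IsFibered] [𝒴.p.IsFibered] (x : (FibCat.fp F G).obj) {V : C}
    (f : V ⟶ (FibCat.fp F G).p.obj x)
    (hF : ∀ ⦃a b : 𝒳.obj⦄ (φ : a ⟶ b), 𝒳.p.IsStronglyCartesian (𝒳.p.map φ) φ →
      𝒮.p.IsStronglyCartesian (𝒳.p.map φ) (F.map φ))
    (hG : ∀ ⦃a b : 𝒴.obj⦄ (φ : a ⟶ b), 𝒴.p.IsStronglyCartesian (𝒴.p.map φ) φ →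
      𝒮.p.IsStronglyCartesian (𝒴.p.map φ) (G.map φ)) :
    ∃ (y : (FibCat.fp F G).obj) (φ : y ⟶ x), (FibCat.fp F G).p.IsStronglyCartesian f φ := by
  obtain ⟨x', a, ha⟩ := exists_sc_lift 𝒳.p (x := x.obj.fst) rfl f
  obtain ⟨y', b, hb⟩ := exists_sc_lift 𝒴.p (fp_proj_snd x) f
  have hFa : 𝒮.p.IsStronglyCartesian f (F.map a) := by
    have := hF a (isSC_self_of_isSC 𝒳.p f a)
    exact isSC_of_isSC_self 𝒮.p f _ (isSC_self_of_isSC 𝒮.p (𝒳.p.map a) (F.map a))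
  have hGb : 𝒮.p.IsStronglyCartesian f (G.map b) := by
    have := hG b (isSC_self_of_isSC 𝒴.p f b)
    exact isSC_of_isSC_self 𝒮.p f _ (isSC_self_of_isSC 𝒮.p (𝒴.p.map b) (G.map b))
  have : 𝒮.p.IsHomLift (𝟙 ((FibCat.fp F G).p.obj x)) x.obj.iso.hom := x.property
  have : 𝒮.p.IsStronglyCartesian (f ≫ 𝟙 _) (F.map a ≫ x.obj.iso.hom) := inferInstance
  rw [Category.comp_id] at this
  let e := IsCartesian.domainUniqueUpToIso 𝒮.p f (G.map b) (F.map a ≫ x.obj.iso.hom)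
  have hx' : 𝒳.p.obj x' = V := IsHomLift.domain_eq 𝒳.p f a
  let y : (FibCat.fp F G).obj := fpMk x' y' e (lift_id_of_eq 𝒮.p hx'.symm
    (IsCartesian.domainUniqueUpToIso_inv_isHomLift 𝒮.p f (G.map b) (F.map a ≫ x.obj.iso.hom)))
  exact ⟨y, fpHom a b (IsCartesian.fac 𝒮.p f (G.map b) _).symm, isSC_fp f _ ha hb hGb⟩

theorem isFibered_fp [𝒳.p.IsFibered] [𝒴.p.IsFibered]
    (hF : ∀ ⦃a b : 𝒳.obj⦄ (φ : a ⟶ b), 𝒳.p.IsStronglyCartesian (𝒳.p.map φ) φ →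
      𝒮.p.IsStronglyCartesian (𝒳.p.map φ) (F.map φ))
    (hG : ∀ ⦃a b : 𝒴.obj⦄ (φ : a ⟶ b), 𝒴.p.IsStronglyCartesian (𝒴.p.map φ) φ →
      𝒮.p.IsStronglyCartesian (𝒴.p.map φ) (G.map φ)) : (FibCat.fp F G).p.IsFibered :=
  IsFibered.of_exists_isStronglyCartesian fun x _ f => exists_fp_lift x f hF hG

theorem isFibGrpd_fp (h𝒳 : FibCat.IsFibGrpd 𝒳.p) (h𝒴 : FibCat.IsFibGrpd 𝒴.p)
    (h𝒮 : FibCat.IsFibGrpd 𝒮.p) : FibCat.IsFibGrpd (FibCat.fp F G).p where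
  exists_lift {x V} f := by
    have := isFibered_of_isFibGrpd 𝒳.p (h := h𝒳)
    have := isFibered_of_isFibGrpd 𝒴.p (h := h𝒴)
    obtain ⟨y, φ, hφ⟩ := exists_fp_lift x f (preservesSC_of_fibGrpd h𝒮 F)
      (preservesSC_of_fibGrpd h𝒮 G)
    exact ⟨y, φ, inferInstance⟩
  isStronglyCartesian {x y} φ :=
    have : 𝒳.p.IsHomLift ((FibCat.fp F G).p.map φ) φ.hom.fst :=
      (fp_isHomLift_iff _ φ).mp inferInstance
    have := fp_isHomLift_snd ((FibCat.fp F G).p.map φ) φ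
    isSC_fp _ φ (isSC_of_fibGrpd 𝒳.p h𝒳 _ _) (isSC_of_fibGrpd 𝒴.p h𝒴 _ _)
      (based_isSC h𝒮 G _ φ.hom.snd)

theorem fp_iso_lift' (x : (FibCat.fp F G).obj) :
    𝒮.p.IsHomLift (𝟙 (𝒴.p.obj x.obj.snd)) x.obj.iso.hom :=
  lift_id_of_eq 𝒮.p (fp_proj_snd x).symm x.property

section fpMap

variable {𝒳' : BasedCategory.{v₅, u₅} C} {𝒴' : BasedCategory.{v₆, u₆} C}
  {𝒮' : BasedCategory.{v₇, u₇} C} {F' : 𝒳' ⥤ᵇ 𝒮'} {G' : 𝒴' ⥤ᵇ 𝒮'}
  (a : 𝒳 ⥤ᵇ 𝒳') (b : 𝒴 ⥤ᵇ 𝒴') (c : 𝒮 ⥤ᵇ 𝒮')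
  (s : BasedFunctor.comp a F' ≅ BasedFunctor.comp F c)
  (t : BasedFunctor.comp b G' ≅ BasedFunctor.comp G c)

variable (F G) in
/-- The 2-isomorphism defining `fpMap`. -/
def fpMapIso : BasedFunctor.comp (BasedFunctor.comp (FibCat.fpFst F G) a) F' ≅
    BasedFunctor.comp (BasedFunctor.comp (FibCat.fpSnd F G) b) G' :=
  BasedNatIso.mkNatIso (Functor.isoWhiskerLeft (FibCat.fpFst F G).toFunctor
        ((BasedNatTrans.forgetful _ _).mapIso s) ≪≫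
      Functor.isoWhiskerRight ((BasedNatTrans.forgetful _ _).mapIso (FibCat.fpIso F G)) c.toFunctor ≪≫
      Functor.isoWhiskerLeft (FibCat.fpSnd F G).toFunctor
        ((BasedNatTrans.forgetful _ _).mapIso t.symm))
    fun x => by
      have h1 : 𝒮'.p.IsHomLift (𝟙 (𝒳.p.obj x.obj.fst)) (s.hom.toNatTrans.app x.obj.fst) :=
        s.hom.isHomLift' _
      have h2 : 𝒮'.p.IsHomLift (𝟙 (𝒳.p.obj x.obj.fst)) (t.inv.toNatTrans.app x.obj.snd) :=
        lift_id_of_eq _ (fp_proj_snd x) (t.inv.isHomLift' x.obj.snd)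
      have h3 := x.property
      have h4 : 𝒮'.p.IsHomLift (𝟙 (𝒳.p.obj x.obj.fst)) (c.map x.obj.iso.hom) :=
        have : 𝒮.p.IsHomLift (𝟙 (𝒳.p.obj x.obj.fst)) x.obj.iso.hom := x.property
        inferInstance
      exact inferInstanceAs (𝒮'.p.IsHomLift (𝟙 (𝒳.p.obj x.obj.fst))
        (s.hom.toNatTrans.app x.obj.fst ≫ c.map x.obj.iso.hom ≫ t.inv.toNatTrans.app x.obj.snd))

variable (F G) in
/-- The functor of fibre products induced by a map of cospans over the base. -/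
def fpMap : FibCat.fp F G ⥤ᵇ FibCat.fp F' G' :=
  FibCat.fpLift (BasedFunctor.comp (FibCat.fpFst F G) a) (BasedFunctor.comp (FibCat.fpSnd F G) b)
    (fpMapIso F G a b c s t)

theorem fpMap_iso_hom (x : (FibCat.fp F G).obj) :
    ((fpMap F G a b c s t).obj x).obj.iso.hom =
      s.hom.toNatTrans.app x.obj.fst ≫ c.map x.obj.iso.hom ≫ t.inv.toNatTrans.app x.obj.snd :=
  rfl

theorem fpMap_faithful [a.toFunctor.Faithful] [b.toFunctor.Faithful] :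
    (fpMap F G a b c s t).toFunctor.Faithful where
  map_injective h := fp_hom_ext (a.toFunctor.map_injective (congrArg (fun k => k.hom.fst) h))
    (b.toFunctor.map_injective (congrArg (fun k => k.hom.snd) h))

theorem fpMap_full [a.toFunctor.Full] [b.toFunctor.Full] [c.toFunctor.Faithful] :
    (fpMap F G a b c s t).toFunctor.Full where
  map_surjective {x y} φ := by
    obtain ⟨α, hα⟩ := a.toFunctor.map_surjective (X := x.obj.fst) (Y := y.obj.fst) φ.hom.fst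
    obtain ⟨β, hβ⟩ := b.toFunctor.map_surjective (X := x.obj.snd) (Y := y.obj.snd) φ.hom.snd
    refine ⟨fpHom α β (c.toFunctor.map_injective ?_), fp_hom_ext hα hβ⟩
    have hw : F'.map (a.map α) ≫ s.hom.toNatTrans.app y.obj.fst ≫ c.map y.obj.iso.hom ≫
        t.inv.toNatTrans.app y.obj.snd = (s.hom.toNatTrans.app x.obj.fst ≫ c.map x.obj.iso.hom ≫
        t.inv.toNatTrans.app x.obj.snd) ≫ G'.map (b.map β) := by
      have := fp_w φ
      rw [fpMap_iso_hom, fpMap_iso_hom, ← hα, ← hβ] at this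
      exact this
    have ns : F'.map (a.map α) ≫ s.hom.toNatTrans.app y.obj.fst =
        s.hom.toNatTrans.app x.obj.fst ≫ c.map (F.map α) := s.hom.toNatTrans.naturality α
    have nt : c.map (G.map β) ≫ t.inv.toNatTrans.app y.obj.snd =
        t.inv.toNatTrans.app x.obj.snd ≫ G'.map (b.map β) := t.inv.toNatTrans.naturality β
    rw [← Category.assoc, ns] at hw
    simp only [Category.assoc] at hw
    rw [← nt] at hw
    have := based_iso_app_isIso s x.obj.fst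
    have := based_iso_app_isIso t.symm y.obj.snd
    have e := (cancel_epi (s.hom.toNatTrans.app x.obj.fst)).mp hw
    simp only [← Category.assoc] at e
    have e2 := (cancel_mono (t.symm.hom.toNatTrans.app y.obj.snd)).mp e
    simpa using e2

theorem fpMap_essSurjOver (ha : EssSurjOver a) (hb : EssSurjOver b) [c.toFunctor.Full]
    [c.toFunctor.Faithful] : EssSurjOver (fpMap F G a b c s t) := fun η => by
  obtain ⟨x, ea, hea⟩ := ha η.obj.fst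
  obtain ⟨y, eb, heb⟩ := hb η.obj.snd
  let e' : c.obj (F.obj x) ≅ c.obj (G.obj y) := (isoApp s x).symm ≪≫ F'.toFunctor.mapIso ea ≪≫
    η.obj.iso ≪≫ G'.toFunctor.mapIso eb.symm ≪≫ isoApp t y
  have hx : 𝒳.p.obj x = 𝒳'.p.obj η.obj.fst := EssSurjOver.lift_eq ea
  have hy : 𝒴.p.obj y = 𝒳'.p.obj η.obj.fst := (EssSurjOver.lift_eq eb).trans (fp_proj_snd η)
  have he : 𝒮.p.IsHomLift (𝟙 (𝒳.p.obj x)) (c.toFunctor.preimageIso e').hom := by
    rw [← BasedFunctor.isHomLift_iff c, Functor.preimageIso_hom, c.toFunctor.map_preimage]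
    have h1 : 𝒮'.p.IsHomLift (𝟙 (𝒳.p.obj x)) (s.inv.toNatTrans.app x) := s.inv.isHomLift' x
    have h2 : 𝒮'.p.IsHomLift (𝟙 (𝒳.p.obj x)) (t.hom.toNatTrans.app y) :=
      lift_id_of_eq _ (hy.trans hx.symm) (t.hom.isHomLift' y)
    have h3 : 𝒳'.p.IsHomLift (𝟙 (𝒳.p.obj x)) ea.hom := lift_id_of_eq _ hx.symm hea
    have h4 : 𝒴'.p.IsHomLift (𝟙 (𝒳.p.obj x)) eb.hom :=
      lift_id_of_eq _ ((fp_proj_snd η).trans hx.symm) heb
    have h5 : 𝒮'.p.IsHomLift (𝟙 (𝒳.p.obj x)) η.obj.iso.hom := lift_id_of_eq _ hx.symm η.property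
    exact inferInstanceAs (𝒮'.p.IsHomLift (𝟙 (𝒳.p.obj x))
      (s.inv.toNatTrans.app x ≫ F'.map ea.hom ≫ η.obj.iso.hom ≫ G'.map eb.inv ≫
        t.hom.toNatTrans.app y))
  refine ⟨fpMk x y (c.toFunctor.preimageIso e') he, fpIsoMk ea eb ?_,
    (fp_isHomLift_iff (F := F') (G := G') _ _).mpr hea⟩
  rw [fpMap_iso_hom]
  change _ = (s.hom.toNatTrans.app x ≫ c.toFunctor.map (c.toFunctor.preimage e'.hom) ≫
    t.inv.toNatTrans.app y) ≫ G'.map eb.hom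
  rw [c.toFunctor.map_preimage]
  change _ = ((isoApp s x).hom ≫ e'.hom ≫ (isoApp t y).inv) ≫ (G'.toFunctor.mapIso eb).hom
  simp [e', -isoApp_hom, -isoApp_inv]

theorem fpMap_isEquivOver (ha : FibCat.IsEquivOver a) (hb : FibCat.IsEquivOver b)
    [c.toFunctor.Full] [c.toFunctor.Faithful] : FibCat.IsEquivOver (fpMap F G a b c s t) :=
  have := full_of_isEquivOver ha
  have := faithful_of_isEquivOver ha
  have := full_of_isEquivOver hb
  have := faithful_of_isEquivOver hb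
  have := fpMap_faithful (F := F) (G := G) a b c s t
  have := fpMap_full (F := F) (G := G) a b c s t
  isEquivOver_of_essSurjOver _
    (fpMap_essSurjOver a b c s t (essSurjOver_of_isEquivOver ha) (essSurjOver_of_isEquivOver hb))

end fpMap

end Groth.Agent.Fib44
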