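import Groth.Agent.Fib44.Glue
import Groth.Agent.Fib44.Fp
import Mathlib.CategoryTheory.Sites.Over

/-!
A category with a faithful functor to a stack, with stack fibres, is a stack.
-/

set_option backward.isDefEq.respectTransparency false
set_option backward.isDefEq.respectTransparency.types false

universe v₄ u₄ v₃ u₃ v₂ u₂ v u

open CategoryTheory CategoryTheory.Functor

namespace Groth.Agent.Fib44

variable {C : Type u} [Category.{v} C] {𝒮 : BasedCategory.{v₂, u₂} C}
  {𝒯 : BasedCategory.{v₃, u₃} C} (F : 𝒮 ⥤ᵇ 𝒯)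

/-- The 2-fibre product of an object with `F`, as a category over the slice. -/
abbrev fibreOf {U : C} (Y : FibCat.overCat U ⥤ᵇ 𝒯) :=
  BasedCategory.ofFunctor ((FibCat.fpFst Y F).toFunctor : (FibCat.fp Y F).obj ⥤ Over U)

theorem morGlue_of_faithful [F.toFunctor.Faithful] (hS : FibCat.IsFibGrpd 𝒮.p)
    (hT : FibCat.IsFibGrpd 𝒯.p) {U : C} {R : Sieve U} (hMT : MorGlue 𝒯 R)
    (hP : ∀ Y : FibCat.overCat U ⥤ᵇ 𝒯,
      MorGlue (fibreOf F Y) (U := idObj U) ((Sieve.overEquiv (idObj U)).symm R)) :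
    MorGlue 𝒮 R := by
  intro x y hx hy θ hθ hnat
  have := isFibered_of_isFibGrpd 𝒮.p (h := hS)
  obtain ⟨X, e, he, -⟩ := exists_ofObj (𝒳 := 𝒮) hx
  let ψ : ∀ a : R.arrows.category, X.obj a.obj ⟶ x := fun a => X.map (toId a.obj) ≫ e.hom
  have hψl : ∀ a : R.arrows.category, 𝒮.p.IsHomLift a.obj.hom (ψ a) := fun a => by
    have := isHomLift_toId X a.obj
    exact inferInstanceAs (𝒮.p.IsHomLift a.obj.hom (X.map (toId a.obj) ≫ e.hom))
  have hR : ∀ a : R.arrows.category, R (𝒮.p.map (ψ a) ≫ eqToHom hx) := fun a => by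
    have := hψl a
    rw [IsHomLift.fac' 𝒮.p a.obj.hom (ψ a)]
    simpa using R.downward_closed a.property (eqToHom (obj_over X a.obj))
  have hgX : IsGlue ((Stk.resSieve R 𝒮).obj X) x ψ := (isGlue_res (R := R) X).comp_hom e.hom
  have hgY : IsGlue ((Stk.resSieve R 𝒮).obj X) y fun a => θ (ψ a) (hR a) :=
    { over := hy
      lift := fun a => by
        have := hψl a
        have := hθ (ψ a) (hR a)
        refine IsHomLift.of_fac' 𝒮.p _ _ (obj_over X a.obj) hy ?_
        have e1 := IsHomLift.fac' 𝒮.p a.obj.hom (ψ a)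
        simp [IsHomLift.fac' 𝒮.p (𝒮.p.map (ψ a) ≫ eqToHom hx) (θ (ψ a) (hR a)), e1]
      nat := fun a b f => by
        change X.map f.hom ≫ θ (ψ b) (hR b) = θ (ψ a) (hR a)
        have e1 : X.map f.hom ≫ ψ b = ψ a := hgX.nat f
        rw [← hnat (X.map f.hom) (ψ b) (hR b) (by rw [e1]; exact hR a)]
        congr 1 }
  obtain ⟨k₀, hk₀, hk₀f⟩ := exists_glue_iso hT hMT (hgX.map F) (hgY.map F)
  let Y := BasedFunctor.comp X F
  have hFe : 𝒯.p.IsHomLift (𝟙 U) (F.toFunctor.mapIso e).hom :=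
    inferInstanceAs (𝒯.p.IsHomLift (𝟙 U) (F.map e.hom))
  have hFk : 𝒯.p.IsHomLift (𝟙 U) (F.toFunctor.mapIso e ≪≫ k₀).hom :=
    inferInstanceAs (𝒯.p.IsHomLift (𝟙 U) (F.map e.hom ≫ k₀.hom))
  let A : (fibreOf F Y).obj := fpMk (idObj U) x (F.toFunctor.mapIso e) hFe
  let B : (fibreOf F Y).obj := fpMk (idObj U) y (F.toFunctor.mapIso e ≪≫ k₀) hFk
  have hS' : ∀ ⦃z : 𝒮.obj⦄ (φ : z ⟶ x) (h : R (𝒮.p.map φ ≫ eqToHom hx)),
      F.map (θ φ h) = F.map φ ≫ k₀.hom := fun z φ h => by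
    let a : R.arrows.category := sObj R _ h
    have := hψl a
    have : 𝒮.p.IsStronglyCartesian a.obj.hom (ψ a) := isSC_of_fibGrpd 𝒮.p hS _ _
    have : 𝒮.p.IsHomLift a.obj.hom φ := IsHomLift.of_fac' 𝒮.p _ φ rfl hx (by simp [a])
    let χ := IsCartesian.map 𝒮.p a.obj.hom (ψ a) φ
    have hχ : χ ≫ ψ a = φ := IsCartesian.fac 𝒮.p a.obj.hom (ψ a) φ
    have h2 : θ φ h = χ ≫ θ (ψ a) (hR a) := by
      rw [← hnat χ (ψ a) (hR a) (by rw [hχ]; exact h)]
      congr 1
      exact hχ.symm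
    calc F.map (θ φ h) = F.map χ ≫ F.map (θ (ψ a) (hR a)) := by rw [h2, Functor.map_comp]
      _ = F.map χ ≫ F.map (ψ a) ≫ k₀.hom := by rw [hk₀f a]
      _ = F.map φ ≫ k₀.hom := by rw [← Functor.map_comp_assoc, hχ]
  have key : ∀ ⦃z : (fibreOf F Y).obj⦄ (φ : z ⟶ A),
      ((Sieve.overEquiv (idObj U)).symm R) ((fibreOf F Y).p.map φ ≫ eqToHom rfl) →
      R (𝒮.p.map φ.hom.snd ≫ eqToHom hx) := fun z φ h => by
    have h' : R (φ.hom.fst.left) := by
      have h1 : R ((fibreOf F Y).p.map φ ≫ eqToHom rfl).left := h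
      simp at h1
      exact h1
    have : 𝒮.p.IsHomLift φ.hom.fst.left φ.hom.snd :=
      FibCat.fp_isHomLift_snd Y F φ
    rw [IsHomLift.fac' 𝒮.p φ.hom.fst.left φ.hom.snd]
    simpa using R.downward_closed h' (eqToHom (fp_proj_snd z))
  obtain ⟨l, ⟨hl, -⟩, -⟩ := hP Y (x := A) (y := B) rfl rfl
    (fun z φ h => fpHom φ.hom.fst (θ φ.hom.snd (key φ h)) (by
      rw [hS']
      change Y.map φ.hom.fst ≫ F.map e.hom ≫ k₀.hom = _
      rw [← Category.assoc, ← Category.assoc z.obj.iso.hom]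
      exact congrArg (fun t => t ≫ k₀.hom) (fp_w φ)))
    (fun z φ h => IsHomLift.of_fac' (FibCat.fpFst Y F).toFunctor _ _ rfl rfl
      (by simp [A, B, fibreOf, FibCat.fpFst]; rfl))
    (fun z' z t φ h h' => fp_hom_ext rfl (hnat t.hom.snd φ.hom.snd _ _))
  have hl1 : l.hom.fst = 𝟙 (idObj U) := by
    have : (FibCat.fpFst Y F).toFunctor.IsHomLift (𝟙 (idObj U)) l := hl
    exact (IsHomLift.fac' (FibCat.fpFst Y F).toFunctor (𝟙 (idObj U)) l).trans (by simp [A, B]; rfl)
  have hFl : F.map l.hom.snd = k₀.hom := by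
    have h2 := fp_w l
    rw [hl1] at h2
    erw [Y.map_id, Category.id_comp] at h2
    exact ((cancel_epi (F.map e.hom)).mp h2).symm
  have hk : 𝒮.p.IsHomLift (𝟙 U) l.hom.snd := by
    rw [← BasedFunctor.isHomLift_iff F, hFl]
    exact hk₀
  refine ⟨l.hom.snd, ⟨hk, fun z φ h => F.toFunctor.map_injective ?_⟩,
    fun k' ⟨hk', hk'f⟩ => F.toFunctor.map_injective ?_⟩
  · rw [Functor.map_comp, hFl, hS' φ h]
  · obtain ⟨u, -, hu⟩ := existsUnique_glue_hom hT hMT (hgX.map F) (hgY.map F)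
    rw [hFl]
    refine (hu (F.map k') ⟨inferInstance, fun a => ?_⟩).trans (hu k₀.hom ⟨hk₀, hk₀f⟩).symm
    rw [← Functor.map_comp, hk'f (ψ a) (hR a)]

theorem objGlue_of_faithful (hT : FibCat.IsFibGrpd 𝒯.p) {U : C} {R : Sieve U}
    (hOT : ObjGlue 𝒯 R)
    (hP : ∀ Y : FibCat.overCat U ⥤ᵇ 𝒯,
      ObjGlue (fibreOf F Y) (U := idObj U) ((Sieve.overEquiv (idObj U)).symm R)) :
    ObjGlue 𝒮 R := by
  intro G
  obtain ⟨y, δ, hδ⟩ := hOT (BasedFunctor.comp G F)
  have := isFibered_of_isFibGrpd 𝒯.p (h := hT)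
  obtain ⟨Y, e, he, -⟩ := exists_ofObj (𝒳 := 𝒯) hδ.over
  let R' := (Sieve.overEquiv (idObj U)).symm R
  have hmem : ∀ r : R'.arrows.category, R r.obj.left.hom := fun r => by
    have h := r.property
    have h2 : r.obj.hom.left = r.obj.left.hom := by
      have := Over.w r.obj.hom
      simpa using this
    rw [Sieve.overEquiv_symm_iff, h2] at h
    exact h
  let q : R'.arrows.category ⥤ R.arrows.category :=
    { obj := fun r => sObj R r.obj.left.hom (hmem r)
      map := fun f => ObjectProperty.homMk f.hom.left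
      map_id := fun _ => rfl
      map_comp := fun _ _ => rfl }
  have hι : ∀ r : R'.arrows.category, ∃ i : Y.obj r.obj.left ≅ F.obj (G.obj (q.obj r)),
      𝒯.p.IsHomLift (𝟙 r.obj.left.left) i.hom ∧
        i.hom ≫ δ (q.obj r) = Y.map (toId r.obj.left) ≫ e.hom := fun r => by
    have : 𝒯.p.IsHomLift r.obj.left.hom (δ (q.obj r)) := hδ.lift (q.obj r)
    have := isSC_of_fibGrpd 𝒯.p hT r.obj.left.hom (δ (q.obj r))
    have := isHomLift_toId Y r.obj.left
    let c := IsCartesian.map 𝒯.p r.obj.left.hom (δ (q.obj r)) (Y.map (toId r.obj.left) ≫ e.hom)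
    have : IsIso c := isIso_of_fibGrpd 𝒯.p hT (𝟙 r.obj.left.left) c
    exact ⟨asIso c, IsCartesian.map_isHomLift 𝒯.p r.obj.left.hom (δ (q.obj r)) _,
      IsCartesian.fac 𝒯.p r.obj.left.hom (δ (q.obj r)) _⟩
  choose i hil hif using hι
  let m : ∀ {r s : R'.arrows.category} (f : r ⟶ s),
      (fpMk (F := Y) (G := F) r.obj.left (G.obj (q.obj r)) (i r) (hil r)) ⟶
        fpMk s.obj.left (G.obj (q.obj s)) (i s) (hil s) := fun {r s} f =>
    fpHom f.hom.left (G.map (q.map f)) (by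
      have := hil r
      have := hil s
      have : 𝒯.p.IsHomLift s.obj.left.hom (δ (q.obj s)) := hδ.lift (q.obj s)
      have := isSC_of_fibGrpd 𝒯.p hT s.obj.left.hom (δ (q.obj s))
      have : 𝒯.p.IsHomLift f.hom.left.left (Y.map f.hom.left) := isHomLift_map_left Y f.hom.left
      have : 𝒯.p.IsHomLift f.hom.left.left (F.map (G.map (q.map f))) :=
        isHomLift_sieve_map (BasedFunctor.comp G F) (q.map f)
      have : 𝒯.p.IsHomLift f.hom.left.left ((i r).hom ≫ F.map (G.map (q.map f))) :=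
        IsHomLift.comp_lift_id_left 𝒯.p f.hom.left.left _ (i r).hom
      have : 𝒯.p.IsHomLift f.hom.left.left (Y.map f.hom.left ≫ (i s).hom) :=
        IsHomLift.comp_lift_id_right 𝒯.p f.hom.left.left _ (i s).hom
      apply IsStronglyCartesian.ext 𝒯.p s.obj.left.hom (δ (q.obj s)) f.hom.left.left
      have h2 : F.map (G.map (q.map f)) ≫ δ (q.obj s) = δ (q.obj r) := hδ.nat (q.map f)
      rw [Category.assoc, Category.assoc, h2, hif, hif, ← Category.assoc, ← Y.map_comp]
      exact congrArg (fun t => Y.map t ≫ e.hom)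
        (Over.OverMorphism.ext (Over.w f.hom.left)))
  let G' : Stk.sieveCat R' ⥤ᵇ fibreOf F Y :=
    { obj := fun r => fpMk r.obj.left (G.obj (q.obj r)) (i r) (hil r)
      map := fun f => m f
      map_id := fun r => fp_hom_ext rfl (by
        change G.map (q.map (𝟙 r)) = 𝟙 _
        erw [q.map_id, G.map_id])
      map_comp := fun f g => fp_hom_ext rfl (by
        change G.map (q.map (f ≫ g)) = G.map (q.map f) ≫ G.map (q.map g)
        erw [q.map_comp, G.map_comp])
      w := rfl }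
  obtain ⟨X, γ, hγ⟩ := hP Y G'
  let r : R.arrows.category → R'.arrows.category := fun a =>
    sObj R' (toId a.obj) a.property
  refine ⟨X.obj.snd, fun a => (γ (r a)).hom.snd, ?_, fun a => ?_, fun a b f => ?_⟩
  · exact (fp_proj_snd X).trans (congrArg (fun o => o.left) hγ.over)
  · have : (FibCat.fpFst Y F).toFunctor.IsHomLift (toId a.obj) (γ (r a)) := hγ.lift (r a)
    have : (FibCat.fp Y F).p.IsHomLift a.obj.hom (γ (r a)) :=
      IsHomLift.of_fac' _ _ _ rfl (congrArg (fun o => o.left) hγ.over) (by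
        have e1 := congrArg CommaMorphism.left
          (IsHomLift.fac' (FibCat.fpFst Y F).toFunctor (toId a.obj) (γ (r a)))
        have hR2 : ∀ {o p q : Over U} (hop : o = p) (g : p ⟶ q) {q' : Over U} (hq : q = q'),
            (eqToHom hop ≫ g ≫ eqToHom hq).left =
              eqToHom (congrArg (fun t => t.left) hop) ≫ g.left ≫
                eqToHom (congrArg (fun t => t.left) hq) := by
          intro o p q hop g q' hq
          subst hop hq
          simp
        exact (show (γ (r a)).hom.fst.left = _ from e1).trans (hR2 _ _ _))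
    exact fp_isHomLift_snd a.obj.hom (γ (r a))
  · let j : r a ⟶ r b := sHom R' f.hom (Over.OverMorphism.ext (Over.w f.hom))
    exact congrArg (fun t => t.hom.snd) (hγ.nat j)

end Groth.Agent.Fib44
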