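import Groth.Agent.Fib44.FibSiteTotal
import Mathlib.CategoryTheory.GuitartExact.KanExtension
import Mathlib.CategoryTheory.Sites.Pullback
import Mathlib.CategoryTheory.Sites.CoverLifting

/-!
Exchange of restriction and inverse image of sheaves along exact squares of sites, and the exact
squares given by the fibres of a fibred site.
-/

set_option backward.isDefEq.respectTransparency false
set_option backward.isDefEq.respectTransparency.types false
set_option backward.defeqAttrib.useBackward true

universe u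

open CategoryTheory CategoryTheory.Functor CategoryTheory.Limits Opposite Pseudofunctor
  Pseudofunctor.CoGrothendieck Bicategory
open scoped CategoryTheory.Pseudofunctor.StrongTrans

namespace Groth.Agent.Fib44

noncomputable section

section Square

/-- A square of categories whose factorisation categories have a terminal object is exact. -/
theorem guitartExact_op_of_exists {C₁ C₂ C₃ C₄ : Type u} [SmallCategory C₁] [SmallCategory C₂]
    [SmallCategory C₃] [SmallCategory C₄] {T : C₁ ⥤ C₂} {L : C₁ ⥤ C₃} {R : C₂ ⥤ C₄} {B : C₃ ⥤ C₄}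
    (w : TwoSquare T.op L.op R.op B.op)
    (h : ∀ (X : C₂) (V : C₃) (φ : B.obj V ⟶ R.obj X),
      ∃ (U₀ : C₁) (a₀ : T.obj U₀ ⟶ X) (b₀ : V ⟶ L.obj U₀),
        B.map b₀ ≫ (w.natTrans.app (op U₀)).unop ≫ R.map a₀ = φ ∧
        ∀ (U : C₁) (a : T.obj U ⟶ X) (b : V ⟶ L.obj U),
          B.map b ≫ (w.natTrans.app (op U)).unop ≫ R.map a = φ →
            ∃ t : U ⟶ U₀, T.map t ≫ a₀ = a ∧ b ≫ L.map t = b₀) :
    w.GuitartExact := by
  rw [TwoSquare.guitartExact_iff_isConnected_downwards]
  intro X₂ X₃ g
  obtain ⟨U₀, a₀, b₀, h₀, hu⟩ := h X₂.unop X₃.unop g.unop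
  let A₀ : w.CostructuredArrowDownwards g :=
    TwoSquare.CostructuredArrowDownwards.mk w g (op U₀) a₀.op b₀.op
      (Quiver.Hom.unop_inj (by simpa using h₀))
  have : Nonempty (w.CostructuredArrowDownwards g) := ⟨A₀⟩
  refine zigzag_isConnected fun A A' => ?_
  suffices H : ∀ A : w.CostructuredArrowDownwards g, Nonempty (A₀ ⟶ A) from
    (Zigzag.of_inv (H A).some).trans (Zigzag.of_hom (H A').some)
  intro A
  obtain ⟨U, a, b, comm, rfl⟩ := TwoSquare.CostructuredArrowDownwards.mk_surjective A
  obtain ⟨t, ht₁, ht₂⟩ := hu U.unop a.unop b.unop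
    (by simpa using congrArg Quiver.Hom.unop comm)
  refine ⟨CostructuredArrow.homMk (StructuredArrow.homMk t.op ?_) ?_⟩
  · exact Quiver.Hom.unop_inj (by simpa [A₀] using ht₁)
  · ext
    exact Quiver.Hom.unop_inj (by simpa [A₀] using ht₂)

variable {C D : Type u} [SmallCategory C] [SmallCategory D] (G : C ⥤ D)
  (J : GrothendieckTopology C) (K : GrothendieckTopology D) [G.IsContinuous J K]

/-- Sheafification commutes with inverse images. -/
def lanSheafifyIso : G.op.lan ⋙ presheafToSheaf K (Type u) ≅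
    presheafToSheaf J (Type u) ⋙ G.sheafPullback (Type u) J K :=
  (((G.op.lanAdjunction (Type u)).comp (sheafificationAdjunction K (Type u))).ofNatIsoRight
    (G.sheafPushforwardContinuousCompSheafToPresheafIso (Type u) J K).symm).leftAdjointUniq
    ((sheafificationAdjunction J (Type u)).comp (G.sheafAdjunctionContinuous (Type u) J K))

variable {C₁ C₂ C₃ C₄ : Type u} [SmallCategory C₁] [SmallCategory C₂] [SmallCategory C₃]
  [SmallCategory C₄] {T : C₁ ⥤ C₂} {L : C₁ ⥤ C₃} {R : C₂ ⥤ C₄} {B : C₃ ⥤ C₄}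
  (w : TwoSquare T.op L.op R.op B.op) [w.GuitartExact]
  (J₂ : GrothendieckTopology C₂) (J₃ : GrothendieckTopology C₃) (J₄ : GrothendieckTopology C₄)
  [R.IsContinuous J₂ J₄] [B.IsContinuous J₃ J₄] [B.IsCocontinuous J₃ J₄]

/-- Restriction after inverse image, computed on presheaves through an exact square. -/
def exchangeIso :
    presheafToSheaf J₂ (Type u) ⋙ R.sheafPullback (Type u) J₂ J₄ ⋙
        B.sheafPushforwardContinuous (Type u) J₃ J₄ ≅
      (whiskeringLeft _ _ (Type u)).obj T.op ⋙ L.op.lan ⋙ presheafToSheaf J₃ (Type u) :=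
  (Functor.associator _ _ _).symm ≪≫
    isoWhiskerRight (lanSheafifyIso R J₂ J₄).symm _ ≪≫
    Functor.associator _ _ _ ≪≫
    isoWhiskerLeft _ (B.pushforwardContinuousSheafificationCompatibility (Type u) J₃ J₄).symm ≪≫
    (Functor.associator _ _ _).symm ≪≫
    isoWhiskerRight (asIso (w.lanBaseChange (D := Type u))).symm _ ≪≫
    Functor.associator _ _ _

/-- Restriction after inverse image is inverse image after restriction, through an exact
square. -/
def exchangeSheafIso (J₁ : GrothendieckTopology C₁) [T.IsContinuous J₁ J₂]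
    [L.IsContinuous J₁ J₃] :
    R.sheafPullback (Type u) J₂ J₄ ⋙ B.sheafPushforwardContinuous (Type u) J₃ J₄ ≅
      T.sheafPushforwardContinuous (Type u) J₁ J₂ ⋙ L.sheafPullback (Type u) J₁ J₃ :=
  (Functor.leftUnitor _).symm ≪≫
    isoWhiskerRight (asIso (sheafificationAdjunction J₂ (Type u)).counit).symm _ ≪≫
    Functor.associator _ _ _ ≪≫
    isoWhiskerLeft _ (exchangeIso w J₂ J₃ J₄) ≪≫
    (Functor.associator _ _ _).symm ≪≫
    isoWhiskerLeft _ (lanSheafifyIso L J₁ J₃) ≪≫
    (Functor.associator _ _ _).symm ≪≫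
    isoWhiskerRight (isoWhiskerRight
        (T.sheafPushforwardContinuousCompSheafToPresheafIso (Type u) J₁ J₂).symm _ ≪≫
      Functor.associator _ _ _ ≪≫
      isoWhiskerLeft _ (asIso (sheafificationAdjunction J₁ (Type u)).counit) ≪≫
      Functor.rightUnitor _) _

end Square

section Fibres

variable {𝒮 : Type u} [SmallCategory 𝒮] {F G : Pseudofunctor (LocallyDiscrete 𝒮ᵒᵖ) Cat.{u, u}}
  {J : FibSite.Topologies F} {K : FibSite.Topologies G}

/-- A strong transformation commutes with the fibre inclusions. -/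
def ιMapIso (α : G ⟶ F) (S : 𝒮) :
    ι G S ⋙ CoGrothendieck.map α ≅ (α.app ⟨op S⟩).toFunctor ⋙ ι F S :=
  NatIso.ofComponents (fun U => Iso.refl _) (fun {U V} m => by
    dsimp
    ext
    · simp
    · simp [CoGrothendieck.map, StrongTrans.naturality_id_hom_app]
      rw [← Functor.map_comp_assoc (α.app ⟨op S⟩).toFunctor
        ((G.mapId _).inv.toNatTrans.app V)]
      have hn := (F.mapId ⟨op S⟩).inv.toNatTrans.naturality ((α.app ⟨op S⟩).toFunctor.map m)
      dsimp at hn
      simp [← Cat.Hom₂.comp_app, ← reassoc_of% hn])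

/-- The square formed by the fibre inclusions and a strong transformation. -/
def mapSquare (α : G ⟶ F) (S : 𝒮) :
    TwoSquare (ι G S).op (α.app ⟨op S⟩).toFunctor.op (CoGrothendieck.map α).op (ι F S).op :=
  TwoSquare.mk _ _ _ _ (NatTrans.op (ιMapIso α S).inv)

theorem map_cartesianLift (α : G ⟶ F) {R S : 𝒮} (f : R ⟶ S) (U : G.obj ⟨op S⟩) :
    (CoGrothendieck.map α).map (cartesianLift U f) =
      (ι F R).map ((α.naturality f.op.toLoc).hom.toNatTrans.app U) ≫
        cartesianLift ((α.app ⟨op S⟩).toFunctor.obj U) f := by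
  refine (ι_lift_decomp _).trans ?_
  simp [CoGrothendieck.map]

instance mapSquare_guitartExact (α : G ⟶ F) (S : 𝒮) : (mapSquare α S).GuitartExact := by
  refine guitartExact_op_of_exists _ fun X V φ => ?_
  let f : S ⟶ X.base := φ.base
  have hn : IsIso ((α.naturality f.op.toLoc).hom.toNatTrans.app X.fiber) :=
    (Cat.Hom.toNatIso (α.naturality f.op.toLoc)).app X.fiber |>.isIso_hom
  let n := (α.naturality f.op.toLoc).hom.toNatTrans.app X.fiber
  have key : ∀ b : V ⟶ (α.app ⟨op S⟩).toFunctor.obj ((FibSite.invImage G f).obj X.fiber),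
      (ι F S).map b ≫ (CoGrothendieck.map α).map (cartesianLift X.fiber f) =
        (ι F S).map (b ≫ n) ≫ cartesianLift ((α.app ⟨op X.base⟩).toFunctor.obj X.fiber) f :=
    fun b => by rw [map_cartesianLift, Functor.map_comp, Category.assoc]
  refine ⟨(FibSite.invImage G f).obj X.fiber, cartesianLift X.fiber f, φ.fiber ≫ inv n, ?_, ?_⟩
  · change (ι F S).map _ ≫ 𝟙 _ ≫ _ = _
    rw [Category.id_comp, key, Category.assoc, IsIso.inv_hom_id, Category.comp_id]
    exact (ι_lift_decomp φ).symm
  · intro U a b e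
    change (ι F S).map b ≫ 𝟙 _ ≫ _ = _ at e
    rw [Category.id_comp] at e
    obtain ⟨f', t⟩ := a
    obtain rfl : f' = f := by
      have := congrArg (fun m => Pseudofunctor.CoGrothendieck.Hom.base m) e
      simpa using! this
    refine ⟨t, (ι_lift_decomp (Y := (ι G S).obj U) (X := X) ⟨f, t⟩).symm, ?_⟩
    have hd : (⟨f, t⟩ : (ι G S).obj U ⟶ X) =
        (ι G S).map t ≫ cartesianLift X.fiber f := ι_lift_decomp _
    rw [hd, Functor.map_comp] at e
    have hw : (CoGrothendieck.map α).map ((ι G S).map t) =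
        (ι F S).map ((α.app ⟨op S⟩).toFunctor.map t) := by
      simpa [ιMapIso] using (ιMapIso α S).hom.naturality t
    rw [hw, ← Category.assoc, ← Functor.map_comp, key] at e
    have := lift_cancel f (e.trans (ι_lift_decomp φ))
    exact (IsIso.eq_comp_inv n).mpr this

/-- The cartesian lifts along `f` form a square. -/
def liftSquare (F : Pseudofunctor (LocallyDiscrete 𝒮ᵒᵖ) Cat.{u, u}) {i j : 𝒮} (f : j ⟶ i) :
    TwoSquare (𝟭 _).op (FibSite.invImage F f).op (ι F i).op (ι F j).op :=
  TwoSquare.mk _ _ _ _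
    { app := fun U => (cartesianLift U.unop f).op
      naturality := fun U V m => Quiver.Hom.unop_inj (ι_map_lift f m.unop).symm }

theorem liftSquare_guitartExact {i j : 𝒮} (f : j ⟶ i) (hf : ∀ g : j ⟶ i, g = f) :
    (liftSquare F f).GuitartExact := by
  refine guitartExact_op_of_exists _ fun X V φ => ?_
  obtain rfl : f = φ.base := (hf φ.base).symm
  refine ⟨X, 𝟙 _, φ.fiber, ?_, fun U a b e => ⟨a, Category.comp_id _, ?_⟩⟩
  · change (ι F j).map φ.fiber ≫ cartesianLift X φ.base ≫ (ι F i).map (𝟙 X) = _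
    rw [CategoryTheory.Functor.map_id]
    erw [Category.comp_id]
    exact (ι_lift_decomp φ).symm
  · change (ι F j).map b ≫ cartesianLift U φ.base ≫ (ι F i).map a = _ at e
    rw [← Category.assoc] at e
    erw [ι_fac] at e
    exact lift_cancel φ.base (e.trans (ι_lift_decomp φ))

theorem preservesFiniteLimits_of_restr (hF : FibSite.IsPreFibSite F J) {A : Type*} [Category A]
    (Φ : A ⥤ FibSite.TotSh F J (Type u))
    (h : ∀ S : 𝒮, haveI := isContinuous_ι hF S
      PreservesFiniteLimits (Φ ⋙ FibSite.restr F J (Type u) S)) :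
    PreservesFiniteLimits Φ := by
  refine ⟨fun K _ _ => ⟨fun {D} => ⟨fun {c} hc => ⟨?_⟩⟩⟩⟩
  refine isLimitOfReflects (sheafToPresheaf _ _) (evaluationJointlyReflectsLimits _ fun X => ?_)
  obtain ⟨⟨S, U⟩⟩ := X
  have := isContinuous_ι hF S
  have := h S
  exact isLimitOfPreserves ((Φ ⋙ FibSite.restr F J (Type u) S) ⋙ sheafToPresheaf _ _ ⋙
    (evaluation _ _).obj (op U)) hc

/-- The inverse image along the total functor, restricted to a fibre. -/
def restrPullbackMapIso (hF : FibSite.IsPreFibSite F J) (α : G ⟶ F)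
    [(CoGrothendieck.map α).IsContinuous (FibSite.totalTopology G K) (FibSite.totalTopology F J)]
    (S : 𝒮) [(α.app ⟨op S⟩).toFunctor.IsContinuous (K S) (J S)]
    [(ι G S).IsContinuous (K S) (FibSite.totalTopology G K)]
    [(ι F S).IsContinuous (J S) (FibSite.totalTopology F J)] :
    (CoGrothendieck.map α).sheafPullback (Type u) (FibSite.totalTopology G K)
        (FibSite.totalTopology F J) ⋙ FibSite.restr F J (Type u) S ≅
      FibSite.restr G K (Type u) S ⋙
        (α.app ⟨op S⟩).toFunctor.sheafPullback (Type u) (K S) (J S) :=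
  haveI := isCocontinuous_ι hF S
  exchangeSheafIso (mapSquare α S) _ _ _ (K S)

theorem map_morphism_of_fibres (hF : FibSite.IsPreFibSite F J) (hG : FibSite.IsPreFibSite G K)
    (α : G ⟶ F)
    (hα : ∀ S : 𝒮, ∃ (_ : (α.app ⟨op S⟩).toFunctor.IsContinuous (K S) (J S))
      (_ : ((α.app ⟨op S⟩).toFunctor.sheafPushforwardContinuous (Type u) (K S) (J S)).IsRightAdjoint),
      PreservesFiniteLimits ((α.app ⟨op S⟩).toFunctor.sheafPullback (Type u) (K S) (J S))) :
    ∃ (_ : (CoGrothendieck.map α).IsContinuous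
        (FibSite.totalTopology G K) (FibSite.totalTopology F J))
      (_ : ((CoGrothendieck.map α).sheafPushforwardContinuous (Type u)
        (FibSite.totalTopology G K) (FibSite.totalTopology F J)).IsRightAdjoint),
      PreservesFiniteLimits ((CoGrothendieck.map α).sheafPullback (Type u)
        (FibSite.totalTopology G K) (FibSite.totalTopology F J)) := by
  have : ∀ S, (α.app ⟨op S⟩).toFunctor.IsContinuous (K S) (J S) := fun S => (hα S).1
  have := isContinuous_ι hF
  have := isContinuous_ι hG
  have hc : (CoGrothendieck.map α).IsContinuous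
      (FibSite.totalTopology G K) (FibSite.totalTopology F J) :=
    (isContinuous_total_iff hG _ _).mpr fun S =>
      have := isContinuous_comp (α.app ⟨op S⟩).toFunctor (ι F S) (K S) (J S)
        (FibSite.totalTopology F J)
      isContinuous_of_iso (ιMapIso α S).symm (K S) (FibSite.totalTopology F J)
  refine ⟨hc, inferInstance, preservesFiniteLimits_of_restr hF _ fun S => ?_⟩
  obtain ⟨_, _, _⟩ := hα S
  have := isCocontinuous_ι hG S
  have : PreservesFiniteLimits (FibSite.restr G K (Type u) S) := by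
    have := (ι G S).sheafAdjunctionContinuous (Type u) (K S) (FibSite.totalTopology G K)
    exact ⟨fun _ _ _ => (this.rightAdjoint_preservesLimits.{0, 0}).1⟩
  have := comp_preservesFiniteLimits (FibSite.restr G K (Type u) S)
    ((α.app ⟨op S⟩).toFunctor.sheafPullback (Type u) (K S) (J S))
  exact preservesFiniteLimits_of_natIso (restrPullbackMapIso hF α S).symm

end Fibres

end

end Groth.Agent.Fib44
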