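import Groth.Agent.Fib44.FibSiteExt
import Groth.Agent.Fib44.FibSiteSquare
import Mathlib.CategoryTheory.Sites.LeftExact
import Mathlib.CategoryTheory.Limits.Constructions.LimitsOfProductsAndEqualizers

/-!
A cartesian functor which is a morphism of total sites is a morphism of sites on every fibre.
-/

set_option backward.isDefEq.respectTransparency false
set_option backward.isDefEq.respectTransparency.types false
set_option backward.defeqAttrib.useBackward true

universe u

open CategoryTheory CategoryTheory.Functor CategoryTheory.Limits Opposite Pseudofunctor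
  Pseudofunctor.CoGrothendieck
open scoped CategoryTheory.Pseudofunctor.StrongTrans

namespace Groth.Agent.Fib44

noncomputable section

section Abstract

/-- A functor cut out of a pullback-preserving one by a natural family of cartesian squares over
a terminal object preserves pullbacks. -/
theorem isPullback_of_cut {C D : Type*} [Category C] [Category D] [HasTerminal C] {L M : C ⥤ D}
    (η : L ⟶ M) (hη : ∀ X : C, IsPullback (η.app X) (L.map (terminal.from X))
      (M.map (terminal.from X)) (η.app (⊤_ C)))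
    {P A B Z : C} {fst : P ⟶ A} {snd : P ⟶ B} {f : A ⟶ Z} {g : B ⟶ Z}
    (h : IsPullback fst snd f g)
    (hM : IsPullback (M.map fst) (M.map snd) (M.map f) (M.map g)) :
    IsPullback (L.map fst) (L.map snd) (L.map f) (L.map g) := by
  have hsq : ∀ {X Y : C} (k : X ⟶ Y),
      IsPullback (η.app X) (L.map k) (M.map k) (η.app Y) := fun {X Y} k => by
    refine IsPullback.of_bot ?_ (η.naturality k).symm (hη Y)
    rw [← Functor.map_comp, ← Functor.map_comp, terminal.comp_from]
    exact hη X
  have h₁ := (hsq snd).paste_horiz hM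
  rw [← η.naturality fst, ← η.naturality g] at h₁
  exact h₁.of_right (by rw [← Functor.map_comp, h.w, Functor.map_comp]) (hsq f)

theorem preservesPullbacks_of_isPullback {C D : Type*} [Category C] [Category D] [HasPullbacks C]
    (L : C ⥤ D) (h : ∀ {P A B Z : C} {fst : P ⟶ A} {snd : P ⟶ B} {f : A ⟶ Z} {g : B ⟶ Z},
      IsPullback fst snd f g → IsPullback (L.map fst) (L.map snd) (L.map f) (L.map g)) :
    PreservesLimitsOfShape WalkingCospan L :=
  ⟨fun {K} => by
    have : PreservesLimit (cospan (K.map WalkingCospan.Hom.inl) (K.map WalkingCospan.Hom.inr)) L :=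
      preservesLimit_of_preserves_limit_cone (pullbackIsPullback _ _)
        ((isLimitMapConePullbackConeEquiv L pullback.condition).symm
          (h (IsPullback.of_hasPullback _ _)).isLimit)
    exact preservesLimit_of_iso_diagram L (diagramIsoCospan K).symm⟩

end Abstract

variable {𝒮 : Type u} [SmallCategory 𝒮]

section Rest

variable {F : Pseudofunctor (LocallyDiscrete 𝒮ᵒᵖ) Cat.{u, u}} {S : 𝒮}
  (a : (F.obj ⟨op S⟩)ᵒᵖ ⥤ Type u)

theorem pull_g_eq {U V : F.obj ⟨op S⟩} (m : V ⟶ U) (p : ExtPt a ((ι F S).obj U)) :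
    (ExtPt.pull ((ι F S).map m) p).g = p.g :=
  Category.id_comp _

/-- The complement of the summand. -/
def restPsh : (F.obj ⟨op S⟩)ᵒᵖ ⥤ Type u where
  obj U := {p : ExtPt a ((ι F S).obj U.unop) // p.g ≠ 𝟙 S}
  map {U V} m := ↾(fun p => ⟨((extFun F S).obj a).map ((ι F S).op.map m) p.1,
    fun h => p.2 ((pull_g_eq a m.unop p.1).symm.trans h)⟩)
  map_id U := by
    ext p
    change ((extFun F S).obj a).map _ p.1 = p.1
    rw [CategoryTheory.Functor.map_id]
    simp
  map_comp {U V W} m n := by
    ext p
    change ((extFun F S).obj a).map _ p.1 =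
      ((extFun F S).obj a).map _ (((extFun F S).obj a).map _ p.1)
    rw [Functor.map_comp, Functor.map_comp_apply]

/-- The inclusion of the complement. -/
def restIncl : restPsh a ⟶ (ι F S).op ⋙ (extFun F S).obj a where
  app U := ↾Subtype.val
  naturality _ _ _ := rfl

/-- The complement is functorial. -/
def restMap {a b : (F.obj ⟨op S⟩)ᵒᵖ ⥤ Type u} (τ : a ⟶ b) : restPsh a ⟶ restPsh b where
  app U := ↾(fun p => ⟨ExtPt.push τ p.1, p.2⟩)
  naturality U V m := by
    ext p
    exact Subtype.ext rfl

theorem restMap_incl {a b : (F.obj ⟨op S⟩)ᵒᵖ ⥤ Type u} (τ : a ⟶ b) :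
    restMap τ ≫ restIncl b = restIncl a ≫ whiskerLeft (ι F S).op ((extFun F S).map τ) := rfl

/-- The restriction of the extension, as a coproduct. -/
abbrev extCofan : BinaryCofan a (restPsh a) :=
  BinaryCofan.mk (P := (ι F S).op ⋙ (extFun F S).obj a) ((extUnit F S).app a) (restIncl a)

open Classical in
/-- The components of a map out of the coproduct. -/
def extDesc {T : (F.obj ⟨op S⟩)ᵒᵖ ⥤ Type u} (u : a ⟶ T) (v : restPsh a ⟶ T)
    (U : (F.obj ⟨op S⟩)ᵒᵖ) (p : ExtPt a ((ι F S).obj U.unop)) : T.obj U :=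
  if h : p.g = 𝟙 S then u.app U (extProj p h) else v.app U ⟨p, h⟩

theorem extDesc_emb {T : (F.obj ⟨op S⟩)ᵒᵖ ⥤ Type u} (u : a ⟶ T) (v : restPsh a ⟶ T)
    (U : (F.obj ⟨op S⟩)ᵒᵖ) (x : a.obj U) :
    extDesc a u v U (extEmb a U.unop x) = u.app U x := by
  rw [extDesc, dif_pos (show (extEmb a U.unop x).g = 𝟙 S from rfl)]
  congr 1
  exact extProj_emb a U.unop x

theorem extDesc_rest {T : (F.obj ⟨op S⟩)ᵒᵖ ⥤ Type u} (u : a ⟶ T) (v : restPsh a ⟶ T)
    (U : (F.obj ⟨op S⟩)ᵒᵖ) (p : (restPsh a).obj U) : extDesc a u v U p.1 = v.app U p := by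
  rw [extDesc, dif_neg p.2]
  rfl

theorem emb_or_rest (U : (F.obj ⟨op S⟩)ᵒᵖ) (p : ExtPt a ((ι F S).obj U.unop)) :
    (∃ x, extEmb a U.unop x = p) ∨ ∃ q : (restPsh a).obj U, q.1 = p := by
  by_cases h : p.g = 𝟙 S
  · exact Or.inl ⟨_, extEmb_proj p h⟩
  · exact Or.inr ⟨⟨p, h⟩, rfl⟩

/-- The restriction of the extension is the coproduct of the presheaf and the complement. -/
def isColimitExtCofan : IsColimit (extCofan a) :=
  BinaryCofan.isColimitMk
    (fun s =>
      { app := fun U => ↾(extDesc a s.inl s.inr U)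
        naturality := fun U V m => by
          ext p
          change extDesc a _ _ V (ExtPt.pull ((ι F S).map m.unop) p) =
            s.pt.map m (extDesc a _ _ U p)
          obtain ⟨x, rfl⟩ | ⟨q, rfl⟩ := emb_or_rest a U p
          · rw [extEmb_natural]
            erw [extDesc_emb, extDesc_emb]
            exact NatTrans.naturality_apply s.inl m x
          · rw [show ExtPt.pull ((ι F S).map m.unop) q.1 = ((restPsh a).map m q).1 from rfl,
              extDesc_rest, extDesc_rest]
            exact NatTrans.naturality_apply s.inr m q })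
    (fun s => by
      ext U x
      exact extDesc_emb a _ _ U x)
    (fun s => by
      ext U p
      exact extDesc_rest a _ _ U p)
    (fun s k h₁ h₂ => by
      ext U p
      obtain ⟨x, rfl⟩ | ⟨q, rfl⟩ := emb_or_rest a U p
      · refine Eq.trans ?_ (extDesc_emb a s.inl s.inr U x).symm
        exact ConcreteCategory.congr_hom (NatTrans.congr_app h₁ U) x
      · refine Eq.trans ?_ (extDesc_rest a s.inl s.inr U q).symm
        exact ConcreteCategory.congr_hom (NatTrans.congr_app h₂ U) q)

variable {E : Type*} [Category E] [FinitaryExtensive E]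

theorem isPullback_extUnit (L : ((F.obj ⟨op S⟩)ᵒᵖ ⥤ Type u) ⥤ E) [L.IsLeftAdjoint]
    {a b : (F.obj ⟨op S⟩)ᵒᵖ ⥤ Type u} (τ : a ⟶ b) :
    IsPullback (L.map ((extUnit F S).app a)) (L.map τ)
      (L.map (whiskerLeft (ι F S).op ((extFun F S).map τ))) (L.map ((extUnit F S).app b)) := by
  have := (Adjunction.ofIsLeftAdjoint L).leftAdjoint_preservesColimits
  have ha := mapIsColimitOfPreservesOfIsColimit L _ _ (isColimitExtCofan a)
  have hb := mapIsColimitOfPreservesOfIsColimit L _ _ (isColimitExtCofan b)
  have hn : τ ≫ (extUnit F S).app b =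
      (extUnit F S).app a ≫ whiskerLeft (ι F S).op ((extFun F S).map τ) :=
    (extUnit F S).naturality τ
  exact ((BinaryCofan.isVanKampen_iff _).mp (FinitaryExtensive.van_kampen' _ hb) _
    (L.map τ) (L.map (restMap τ)) (L.map (whiskerLeft (ι F S).op ((extFun F S).map τ)))
    ((L.map_comp _ _).symm.trans ((congrArg L.map hn).trans (L.map_comp _ _)))
    ((L.map_comp _ _).symm.trans ((congrArg L.map (restMap_incl τ)).trans (L.map_comp _ _)))).mp
    ⟨ha⟩ |>.1

/-- A colimit-preserving functor on presheaves on a fibre whose composite with restriction from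
the total category is left exact is left exact. -/
theorem preservesFiniteLimits_of_restriction (L : ((F.obj ⟨op S⟩)ᵒᵖ ⥤ Type u) ⥤ E)
    [L.IsLeftAdjoint]
    [PreservesFiniteLimits ((whiskeringLeft _ _ (Type u)).obj (ι F S).op ⋙ L)] :
    PreservesFiniteLimits L := by
  let W := (whiskeringLeft _ _ (Type u)).obj (ι F S).op
  have h1 : PreservesLimit (Functor.empty.{0} ((F.obj ⟨op S⟩)ᵒᵖ ⥤ Type u)) L := by
    have hW : IsTerminal (W.obj (⊤_ ((∫ᶜ F)ᵒᵖ ⥤ Type u))) :=
      terminalIsTerminal.isTerminalObj W _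
    exact preservesLimit_of_preserves_limit_cone hW ((isLimitMapConeEmptyConeEquiv L _).symm
      (terminalIsTerminal.isTerminalObj (W ⋙ L) _))
  have : PreservesLimitsOfShape (Discrete.{0} PEmpty) L :=
    preservesLimitsOfShape_pempty_of_preservesTerminal L
  have : PreservesLimitsOfShape WalkingCospan L :=
    preservesPullbacks_of_isPullback L fun {P A B Z fst snd f g} h =>
      isPullback_of_cut (M := extFun F S ⋙ W ⋙ L)
        (whiskerRight (extUnit F S) L) (fun X => isPullback_extUnit L (terminal.from X)) h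
        ((extFun_isPullback h).map (W ⋙ L))
  exact preservesFiniteLimits_of_preservesTerminal_and_pullbacks L

end Rest

section Converse

variable {F G : Pseudofunctor (LocallyDiscrete 𝒮ᵒᵖ) Cat.{u, u}}
  {J : FibSite.Topologies F} {K : FibSite.Topologies G}

theorem ιMap_eq (α : G ⟶ F) {S : 𝒮} {U V : G.obj ⟨op S⟩} (t : U ⟶ V) :
    (CoGrothendieck.map α).map ((ι G S).map t) =
      (ι F S).map ((α.app ⟨op S⟩).toFunctor.map t) := by
  simpa [ιMapIso] using (ιMapIso α S).hom.naturality t

/-- A functor into a fibre is continuous if it preserves covers and its composite with the fibre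
inclusion is continuous. -/
theorem isContinuous_of_ι (hF : FibSite.IsPreFibSite F J) {C : Type u} [SmallCategory C]
    (L : C ⥤ ∫ᶜ F) (S : 𝒮) (A : C ⥤ F.obj ⟨op S⟩) (e : L ≅ A ⋙ ι F S)
    (T : GrothendieckTopology C) [L.IsContinuous T (FibSite.totalTopology F J)] :
    A.IsContinuous T (J S) := by
  have := isContinuous_ι hF S
  have : (A ⋙ ι F S).IsContinuous T (FibSite.totalTopology F J) :=
    isContinuous_of_iso e T (FibSite.totalTopology F J)
  have hcov : ∀ {U : C} {R : Sieve U}, R ∈ T U →
      Sieve.functorPushforward A R ∈ J S (A.obj U) := by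
    intro U R hR
    have h := (mem_total_iff_pullback hF _).mp
      ((CoverPreserving.of_isContinuous (A ⋙ ι F S) T
        (FibSite.totalTopology F J)).cover_preserve hR)
    refine (J S).superset_covering ?_ h
    rintro V g ⟨W, r, k, hr, e⟩
    change (ι F S).map g = _ at e
    obtain ⟨a, rfl⟩ := exists_ι_map_eq k (by
      have := congrArg (fun t => Pseudofunctor.CoGrothendieck.Hom.base t) e
      simp at this
      exact this.symm)
    change (ι F S).map g = (ι F S).map a ≫ (ι F S).map _ at e
    rw [← Functor.map_comp] at e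
    rw [ι_map_injective e]
    exact ⟨W, r, a, hr, rfl⟩
  refine ⟨fun G' => ?_⟩
  have hG' : Presieve.IsSheaf (J S) G'.obj := (isSheaf_iff_isSheaf_of_type _ _).1 G'.property
  intro U R hR x hx
  have key : ∀ {V : F.obj ⟨op S⟩} {U₁ U₂ : C} (h₁ : V ⟶ A.obj U₁) (h₂ : V ⟶ A.obj U₂)
      {r₁ : U₁ ⟶ U} {r₂ : U₂ ⟶ U} (hr₁ : R r₁) (hr₂ : R r₂),
      h₁ ≫ A.map r₁ = h₂ ≫ A.map r₂ →
        G'.obj.map h₁.op (x r₁ hr₁) = G'.obj.map h₂.op (x r₂ hr₂) := by
    intro V U₁ U₂ h₁ h₂ r₁ r₂ hr₁ hr₂ eq
    obtain ⟨M, hM, hMe⟩ := exists_cover_of_continuous.{u} (A ⋙ ι F S) R T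
      (FibSite.totalTopology F J) hR hr₁ hr₂ ((ι F S).map h₁) ((ι F S).map h₂)
      (by simp only [Functor.comp_map, ← Functor.map_comp, eq])
    suffices H : ∀ (V' : F.obj ⟨op S⟩) (m : V' ⟶ V), M ((ι F S).map m) →
        G'.obj.map m.op (G'.obj.map h₁.op (x r₁ hr₁)) =
          G'.obj.map m.op (G'.obj.map h₂.op (x r₂ hr₂)) from
      (hG' _ ((mem_total_iff_pullback hF M).mp hM)).isSeparatedFor.ext fun V' m hm => H V' m hm
    intro V' m hm
    refine extEmb_injective _ _ ?_
    rw [← extEmb_natural, ← extEmb_natural, ← extEmb_natural, ← extEmb_natural]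
    have h := hMe ((ι F S).map m) hm ((extFun F S).obj G'.obj)
      (fun W r hr => extEmb G'.obj (A.obj W) (x r hr)) (by
        intro Y₁ Y₂ Z g₁ g₂ f₁ f₂ k₁ k₂ eq'
        change ExtPt.pull ((ι F S).map (A.map g₁)) _ = ExtPt.pull ((ι F S).map (A.map g₂)) _
        rw [extEmb_natural, extEmb_natural]
        exact congrArg _ (hx g₁ g₂ k₁ k₂ eq'))
    rw [op_comp, op_comp, Functor.map_comp_apply, Functor.map_comp_apply] at h
    exact h
  have hp : ∀ {V : F.obj ⟨op S⟩} (g : V ⟶ A.obj U), Sieve.functorPushforward A R g →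
      ∃ (W : C) (r : W ⟶ U) (k : V ⟶ A.obj W), R r ∧ g = k ≫ A.map r := fun g h => h
  choose W r k hr hk using @hp
  let xbar : Presieve.FamilyOfElements G'.obj (Sieve.functorPushforward A R).arrows :=
    fun V g h => G'.obj.map (k g h).op (x (r g h) (hr g h))
  have hxbar : xbar.Compatible := by
    intro Y₁ Y₂ Z g₁ g₂ p₁ p₂ h₁ h₂ eq
    change G'.obj.map g₁.op (G'.obj.map _ _) = G'.obj.map g₂.op (G'.obj.map _ _)
    rw [← Functor.map_comp_apply, ← Functor.map_comp_apply, ← op_comp, ← op_comp]
    refine key _ _ _ _ ?_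
    rw [Category.assoc, Category.assoc, ← hk, ← hk, eq]
  obtain ⟨s, hs, hu⟩ := hG' _ (hcov hR) xbar hxbar
  refine ⟨s, fun V' r' hr' => ?_, fun t ht => hu t fun V g hg => ?_⟩
  · change G'.obj.map (A.map r').op s = _
    rw [hs _ (Sieve.image_mem_functorPushforward A R hr')]
    refine (key _ (𝟙 _) _ hr' ?_).trans (by simp)
    rw [← hk, Category.id_comp]
  · change G'.obj.map g.op t = G'.obj.map _ _
    conv_lhs => rw [hk g hg]
    rw [op_comp, Functor.map_comp_apply]
    congr 1
    exact ht _ (hr g hg)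

theorem fibre_morphism_of_map (hF : FibSite.IsPreFibSite F J) (hG : FibSite.IsPreFibSite G K)
    (α : G ⟶ F)
    (hα : ∃ (_ : (CoGrothendieck.map α).IsContinuous
        (FibSite.totalTopology G K) (FibSite.totalTopology F J))
      (_ : ((CoGrothendieck.map α).sheafPushforwardContinuous (Type u)
        (FibSite.totalTopology G K) (FibSite.totalTopology F J)).IsRightAdjoint),
      PreservesFiniteLimits ((CoGrothendieck.map α).sheafPullback (Type u)
        (FibSite.totalTopology G K) (FibSite.totalTopology F J))) (S : 𝒮) :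
    ∃ (_ : (α.app ⟨op S⟩).toFunctor.IsContinuous (K S) (J S))
      (_ : ((α.app ⟨op S⟩).toFunctor.sheafPushforwardContinuous (Type u) (K S) (J S)).IsRightAdjoint),
      PreservesFiniteLimits ((α.app ⟨op S⟩).toFunctor.sheafPullback (Type u) (K S) (J S)) := by
  obtain ⟨_, _, _⟩ := hα
  have := isContinuous_ι hG S
  have := isContinuous_ι hF S
  have := isCocontinuous_ι hF S
  have := isContinuous_comp (ι G S) (CoGrothendieck.map α) (K S) (FibSite.totalTopology G K)
    (FibSite.totalTopology F J)
  have hc : (α.app ⟨op S⟩).toFunctor.IsContinuous (K S) (J S) :=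
    isContinuous_of_ι hF _ S _ (ιMapIso α S) (K S)
  refine ⟨hc, inferInstance, ?_⟩
  let L := (α.app ⟨op S⟩).toFunctor.op.lan ⋙ presheafToSheaf (J S) (Type u)
  have : L.IsLeftAdjoint :=
    (((α.app ⟨op S⟩).toFunctor.op.lanAdjunction (Type u)).comp
      (sheafificationAdjunction (J S) (Type u))).isLeftAdjoint
  have : PreservesFiniteLimits ((ι F S).sheafPushforwardContinuous (Type u) (J S)
      (FibSite.totalTopology F J)) :=
    ⟨fun _ _ _ => (((ι F S).sheafAdjunctionContinuous (Type u) (J S)
      (FibSite.totalTopology F J)).rightAdjoint_preservesLimits.{0, 0}).1⟩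
  have := comp_preservesFiniteLimits ((CoGrothendieck.map α).sheafPullback (Type u)
    (FibSite.totalTopology G K) (FibSite.totalTopology F J))
    ((ι F S).sheafPushforwardContinuous (Type u) (J S) (FibSite.totalTopology F J))
  have := comp_preservesFiniteLimits (presheafToSheaf (FibSite.totalTopology G K) (Type u))
    ((CoGrothendieck.map α).sheafPullback (Type u) (FibSite.totalTopology G K)
      (FibSite.totalTopology F J) ⋙
      (ι F S).sheafPushforwardContinuous (Type u) (J S) (FibSite.totalTopology F J))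
  have : PreservesFiniteLimits ((whiskeringLeft _ _ (Type u)).obj (ι G S).op ⋙ L) :=
    preservesFiniteLimits_of_natIso (exchangeIso (mapSquare α S)
      (FibSite.totalTopology G K) (J S) (FibSite.totalTopology F J))
  have := preservesFiniteLimits_of_restriction L
  have := comp_preservesFiniteLimits (sheafToPresheaf (K S) (Type u)) L
  have : PreservesFiniteLimits (Functor.sheafPullbackConstruction.sheafPullback
      (α.app ⟨op S⟩).toFunctor (Type u) (K S) (J S)) := this
  exact preservesFiniteLimits_of_natIso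
    (Functor.sheafPullbackConstruction.sheafPullbackIso _ (Type u) (K S) (J S)).symm

end Converse

end

end Groth.Agent.Fib44
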