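import Groth.Agent.Fib44.FibSiteTotal
import Mathlib.CategoryTheory.Limits.Types.Pullbacks

/-!
A pullback-preserving extension of presheaves on a fibre to the total category, containing the
given presheaf as a complemented summand of its restriction.

An element over `X` is an arrow `g : X.base ⟶ S` with a compatible family of elements on the
objects of the fibre mapping to `X` by sections of `g`.
-/

set_option backward.isDefEq.respectTransparency false
set_option backward.isDefEq.respectTransparency.types false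
set_option backward.defeqAttrib.useBackward true

universe u

open CategoryTheory CategoryTheory.Functor CategoryTheory.Limits Opposite Pseudofunctor
  Pseudofunctor.CoGrothendieck

namespace Groth.Agent.Fib44

noncomputable section

variable {𝒮 : Type u} [SmallCategory 𝒮] {F : Pseudofunctor (LocallyDiscrete 𝒮ᵒᵖ) Cat.{u, u}}
  {S : 𝒮}

/-- The arrow of the fibre behind an arrow between objects of the fibre over the identity. -/
def fibPre {U V : F.obj ⟨op S⟩} (φ : (ι F S).obj U ⟶ (ι F S).obj V) (h : φ.base = 𝟙 S) :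
    U ⟶ V :=
  (exists_ι_map_eq φ h).choose

theorem ι_map_fibPre {U V : F.obj ⟨op S⟩} (φ : (ι F S).obj U ⟶ (ι F S).obj V)
    (h : φ.base = 𝟙 S) : (ι F S).map (fibPre φ h) = φ :=
  (exists_ι_map_eq φ h).choose_spec

theorem fibPre_eq {U V : F.obj ⟨op S⟩} {φ : (ι F S).obj U ⟶ (ι F S).obj V} (h : φ.base = 𝟙 S)
    (a : U ⟶ V) (e : (ι F S).map a = φ) : fibPre φ h = a :=
  ι_map_injective ((ι_map_fibPre φ h).trans e.symm)

/-- Elements of the extension. -/
structure ExtPt (a : (F.obj ⟨op S⟩)ᵒᵖ ⥤ Type u) (X : ∫ᶜ F) : Type u where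
  /-- the arrow to `S` -/
  g : X.base ⟶ S
  /-- the sections -/
  sec : ∀ (W : F.obj ⟨op S⟩) (φ : (ι F S).obj W ⟶ X), φ.base ≫ g = 𝟙 S → a.obj (op W)
  nat : ∀ {W W' : F.obj ⟨op S⟩} (m : W' ⟶ W) (φ : (ι F S).obj W ⟶ X) (h : φ.base ≫ g = 𝟙 S)
    (φ' : (ι F S).obj W' ⟶ X) (h' : φ'.base ≫ g = 𝟙 S), (ι F S).map m ≫ φ = φ' →
      sec W' φ' h' = a.map m.op (sec W φ h)

theorem ExtPt.ext' {a : (F.obj ⟨op S⟩)ᵒᵖ ⥤ Type u} {X : ∫ᶜ F} {p q : ExtPt a X} (hg : p.g = q.g)
    (hs : ∀ W φ h h', p.sec W φ h = q.sec W φ h') : p = q := by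
  obtain ⟨g, s, n⟩ := p
  obtain ⟨g', s', n'⟩ := q
  subst hg
  have : s = s' := by
    funext W φ h
    exact hs W φ h h
  subst this
  rfl

/-- Pulling back an element along an arrow of the total category. -/
def ExtPt.pull {a : (F.obj ⟨op S⟩)ᵒᵖ ⥤ Type u} {X Y : ∫ᶜ F} (ψ : Y ⟶ X) (p : ExtPt a X) :
    ExtPt a Y where
  g := ψ.base ≫ p.g
  sec W φ h := p.sec W (φ ≫ ψ) (by simpa using! h)
  nat m φ h φ' h' e := p.nat m (φ ≫ ψ) _ (φ' ≫ ψ) _ (by rw [← e, Category.assoc])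

/-- Mapping an element along a morphism of presheaves. -/
def ExtPt.push {a b : (F.obj ⟨op S⟩)ᵒᵖ ⥤ Type u} (τ : a ⟶ b) {X : ∫ᶜ F} (p : ExtPt a X) :
    ExtPt b X where
  g := p.g
  sec W φ h := τ.app (op W) (p.sec W φ h)
  nat m φ h φ' h' e := by
    rw [p.nat m φ h φ' h' e]
    exact NatTrans.naturality_apply τ m.op _

variable (F S) in
/-- The extension functor. -/
def extFun : ((F.obj ⟨op S⟩)ᵒᵖ ⥤ Type u) ⥤ ((∫ᶜ F)ᵒᵖ ⥤ Type u) where
  obj a :=
    { obj := fun X => ExtPt a X.unop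
      map := fun ψ => ↾(ExtPt.pull ψ.unop)
      map_id := fun X => by
        ext p
        exact ExtPt.ext' (by simp [ExtPt.pull]) fun W φ h h' => by
          simp [ExtPt.pull]
      map_comp := fun ψ χ => by
        ext p
        exact ExtPt.ext' (by simp [ExtPt.pull]) fun W φ h h' => by
          simp [ExtPt.pull] }
  map τ :=
    { app := fun X => ↾(ExtPt.push τ)
      naturality := fun X Y ψ => rfl }
  map_id a := by
    ext X p
    exact ExtPt.ext' rfl fun W φ h h' => rfl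
  map_comp τ σ := by
    ext X p
    exact ExtPt.ext' rfl fun W φ h h' => rfl

theorem extFun_isPullback {P A B C : (F.obj ⟨op S⟩)ᵒᵖ ⥤ Type u} {fst : P ⟶ A} {snd : P ⟶ B}
    {f : A ⟶ C} {g : B ⟶ C} (h : IsPullback fst snd f g) :
    IsPullback ((extFun F S).map fst) ((extFun F S).map snd) ((extFun F S).map f)
      ((extFun F S).map g) := by
  refine IsPullback.of_forall_isPullback_app fun X => ?_
  have hW : ∀ W : F.obj ⟨op S⟩, IsPullback (fst.app (op W)) (snd.app (op W)) (f.app (op W))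
      (g.app (op W)) := fun W => h.map ((evaluation _ _).obj (op W))
  rw [Types.isPullback_iff]
  refine ⟨?_, fun p q e => ?_, fun pa pb e => ?_⟩
  · rw [← NatTrans.comp_app, ← NatTrans.comp_app, ← Functor.map_comp, ← Functor.map_comp, h.w]
  · obtain ⟨e₁, e₂⟩ := e
    have hg : p.g = q.g := congrArg (ExtPt.g (a := A)) e₁
    refine ExtPt.ext' hg fun W φ k k' => Types.ext_of_isPullback (hW W) ?_ ?_
    · obtain ⟨gp, sp, np⟩ := p
      obtain ⟨gq, sq, nq⟩ := q
      subst hg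
      have := congrArg (fun t : ExtPt A X.unop => (⟨t.g, t.sec⟩ : Σ g : X.unop.base ⟶ S,
        ∀ (W : F.obj ⟨op S⟩) (φ : (ι F S).obj W ⟶ X.unop), φ.base ≫ g = 𝟙 S → A.obj (op W))) e₁
      exact congrFun (congrFun (congrFun (eq_of_heq (Sigma.mk.inj this).2) W) φ) k
    · obtain ⟨gp, sp, np⟩ := p
      obtain ⟨gq, sq, nq⟩ := q
      subst hg
      have := congrArg (fun t : ExtPt B X.unop => (⟨t.g, t.sec⟩ : Σ g : X.unop.base ⟶ S,
        ∀ (W : F.obj ⟨op S⟩) (φ : (ι F S).obj W ⟶ X.unop), φ.base ≫ g = 𝟙 S → B.obj (op W))) e₂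
      exact congrFun (congrFun (congrFun (eq_of_heq (Sigma.mk.inj this).2) W) φ) k
  · obtain ⟨ga, sa, na⟩ := pa
    obtain ⟨gb, sb, nb⟩ := pb
    obtain rfl : ga = gb := congrArg ExtPt.g e
    have hs : ∀ W φ k, f.app (op W) (sa W φ k) = g.app (op W) (sb W φ k) := fun W φ k => by
      have := congrArg (fun t : ExtPt C X.unop => (⟨t.g, t.sec⟩ : Σ g : X.unop.base ⟶ S,
        ∀ (W : F.obj ⟨op S⟩) (φ : (ι F S).obj W ⟶ X.unop), φ.base ≫ g = 𝟙 S → C.obj (op W))) e
      exact congrFun (congrFun (congrFun (eq_of_heq (Sigma.mk.inj this).2) W) φ) k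
    choose s hs₁ hs₂ using fun W φ k => Types.exists_of_isPullback (hW W) _ _ (hs W φ k)
    refine ⟨⟨ga, s, fun {W W'} m φ k φ' k' e' => Types.ext_of_isPullback (hW W') ?_ ?_⟩,
      ExtPt.ext' rfl fun W φ k k' => hs₁ W φ k, ExtPt.ext' rfl fun W φ k k' => hs₂ W φ k⟩
    · rw [hs₁, NatTrans.naturality_apply, hs₁, na m φ k φ' k' e']
    · rw [hs₂, NatTrans.naturality_apply, hs₂, nb m φ k φ' k' e']

theorem comp_base_eq {U W : F.obj ⟨op S⟩} {φ : (ι F S).obj W ⟶ (ι F S).obj U} {g : S ⟶ S}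
    (hg : g = 𝟙 S) (h : φ.base ≫ g = 𝟙 S) : φ.base = 𝟙 S := by
  subst hg
  exact (Category.comp_id _).symm.trans h

/-- A section of the fibre, as an element of the extension. -/
def extEmb (a : (F.obj ⟨op S⟩)ᵒᵖ ⥤ Type u) (U : F.obj ⟨op S⟩) (x : a.obj (op U)) :
    ExtPt a ((ι F S).obj U) where
  g := 𝟙 S
  sec W φ h := a.map (fibPre φ (comp_base_eq rfl h)).op x
  nat {W W'} m φ h φ' h' e := by
    rw [← Functor.map_comp_apply, ← op_comp]
    refine congrArg (fun t : _ ⟶ _ => a.map (Quiver.Hom.op t) x) ?_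
    exact fibPre_eq _ _ (by rw [(ι F S).map_comp, ι_map_fibPre, e])

theorem extEmb_natural (a : (F.obj ⟨op S⟩)ᵒᵖ ⥤ Type u) {U V : F.obj ⟨op S⟩} (m : V ⟶ U)
    (x : a.obj (op U)) :
    ExtPt.pull ((ι F S).map m) (extEmb a U x) = extEmb a V (a.map m.op x) := by
  refine ExtPt.ext' (Category.comp_id _) fun W φ h h' => ?_
  change a.map _ x = a.map _ (a.map _ x)
  rw [← Functor.map_comp_apply, ← op_comp]
  refine congrArg (fun t : _ ⟶ _ => a.map (Quiver.Hom.op t) x) ?_
  exact fibPre_eq _ _ (by rw [(ι F S).map_comp, ι_map_fibPre])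

theorem extEmb_push {a b : (F.obj ⟨op S⟩)ᵒᵖ ⥤ Type u} (τ : a ⟶ b) (U : F.obj ⟨op S⟩)
    (x : a.obj (op U)) : ExtPt.push τ (extEmb a U x) = extEmb b U (τ.app (op U) x) :=
  ExtPt.ext' rfl fun _ φ h _ => NatTrans.naturality_apply τ (fibPre φ (comp_base_eq rfl h)).op x

/-- The element of the fibre behind an element of the summand. -/
def extProj {a : (F.obj ⟨op S⟩)ᵒᵖ ⥤ Type u} {U : F.obj ⟨op S⟩} (p : ExtPt a ((ι F S).obj U))
    (h : p.g = 𝟙 S) : a.obj (op U) :=
  p.sec U (𝟙 _) ((Category.id_comp p.g).trans h)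

theorem extProj_emb (a : (F.obj ⟨op S⟩)ᵒᵖ ⥤ Type u) (U : F.obj ⟨op S⟩) (x : a.obj (op U)) :
    extProj (extEmb a U x) rfl = x := by
  change a.map _ x = x
  rw [fibPre_eq _ (𝟙 U) ((ι F S).map_id U)]
  simp

theorem extEmb_proj {a : (F.obj ⟨op S⟩)ᵒᵖ ⥤ Type u} {U : F.obj ⟨op S⟩}
    (p : ExtPt a ((ι F S).obj U)) (h : p.g = 𝟙 S) : extEmb a U (extProj p h) = p :=
  ExtPt.ext' h.symm fun W φ k k' =>
    (p.nat (fibPre φ (comp_base_eq rfl k)) (𝟙 _) _ φ k'
      ((Category.comp_id _).trans (ι_map_fibPre _ _))).symm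

theorem extEmb_injective (a : (F.obj ⟨op S⟩)ᵒᵖ ⥤ Type u) (U : F.obj ⟨op S⟩)
    {x y : a.obj (op U)} (e : extEmb a U x = extEmb a U y) : x = y := by
  have h : ∀ p q : ExtPt a ((ι F S).obj U), p = q → ∀ hp hq, extProj p hp = extProj q hq := by
    rintro p _ rfl hp hq
    rfl
  rw [← extProj_emb a U x, ← extProj_emb a U y]
  exact h _ _ e _ _

variable (F S) in
/-- The inclusion of a presheaf on the fibre into the restriction of its extension. -/
def extUnit : 𝟭 _ ⟶ extFun F S ⋙ (whiskeringLeft _ _ (Type u)).obj (ι F S).op where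
  app a :=
    { app := fun U => ↾(extEmb a U.unop)
      naturality := fun U V m => by
        ext x
        exact (extEmb_natural a m.unop x).symm }
  naturality a b τ := by
    ext U x
    exact (extEmb_push τ _ x).symm

end

end Groth.Agent.Fib44
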