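import Groth.Agent.Fib44.FibSiteSquare
import Mathlib.CategoryTheory.Adjunction.Triple

/-!
Extension by zero from the fibre over a terminal object of the base.
-/

set_option backward.isDefEq.respectTransparency false
set_option backward.isDefEq.respectTransparency.types false

universe u

open CategoryTheory CategoryTheory.Functor CategoryTheory.Limits Opposite Pseudofunctor
  Pseudofunctor.CoGrothendieck

namespace Groth.Agent.Fib44

variable {𝒮 : Type u} [SmallCategory 𝒮] {F : Pseudofunctor (LocallyDiscrete 𝒮ᵒᵖ) Cat.{u, u}}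
  {J : FibSite.Topologies F}

theorem ι_full_of_isTerminal {i : 𝒮} (hi : IsTerminal i) : (ι F i).Full :=
  ⟨fun {_ _} φ => exists_ι_map_eq φ (hi.hom_ext _ _)⟩

theorem extend_full_faithful (hF : FibSite.IsPreFibSite F J) {i : 𝒮} (hi : IsTerminal i)
    [(ι F i).IsContinuous (J i) (FibSite.totalTopology F J)]
    [((ι F i).sheafPushforwardContinuous (Type u) (J i) (FibSite.totalTopology F J)).IsRightAdjoint] :
    (FibSite.extend F J (Type u) i).Full ∧ (FibSite.extend F J (Type u) i).Faithful := by
  have := isCocontinuous_ι hF i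
  have := ι_full_of_isTerminal (F := F) hi
  have : (ι F i).Faithful := ⟨fun h => ι_map_injective h⟩
  let t : Adjunction.Triple (FibSite.extend F J (Type u) i) (FibSite.restr F J (Type u) i)
      ((ι F i).sheafPushforwardCocontinuous (Type u) (J i) (FibSite.totalTopology F J)) :=
    ⟨(ι F i).sheafAdjunctionContinuous (Type u) (J i) _,
      (ι F i).sheafAdjunctionCocontinuous (Type u) (J i) _⟩
  have : IsIso t.adj₂.counit := by
    have : ∀ a, IsIso (t.adj₂.counit.app a) := fun a => by
      have h : IsIso (t.adj₂.counit.app a).hom := by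
        rw [(ι F i).sheafAdjunctionCocontinuous_counit_app_hom]
        infer_instance
      have : IsIso ((sheafToPresheaf _ _).map (t.adj₂.counit.app a)) := h
      exact isIso_of_reflects_iso _ (sheafToPresheaf _ _)
    exact NatIso.isIso_of_isIso_app _
  have h := t.fullyFaithfulEquiv.symm t.adj₂.fullyFaithfulROfIsIsoCounit
  exact ⟨h.full, h.faithful⟩

theorem preservesFiniteLimits_extend (hF : FibSite.IsFibSite F J) {i : 𝒮} (hi : IsTerminal i)
    [(ι F i).IsContinuous (J i) (FibSite.totalTopology F J)]
    [((ι F i).sheafPushforwardContinuous (Type u) (J i) (FibSite.totalTopology F J)).IsRightAdjoint] :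
    PreservesFiniteLimits (FibSite.extend F J (Type u) i) := by
  refine preservesFiniteLimits_of_restr hF.isPreFibSite _ fun j => ?_
  have := isContinuous_ι hF.isPreFibSite j
  have := isCocontinuous_ι hF.isPreFibSite j
  let f := hi.from j
  obtain ⟨_, _, h⟩ := hF f
  have := liftSquare_guitartExact (F := F) f fun g => hi.hom_ext g f
  have h' : PreservesFiniteLimits
      ((FibSite.invImage F f).sheafPullback (Type u) (J i) (J j)) := h
  have : PreservesFiniteLimits ((𝟭 (F.obj ⟨op i⟩)).sheafPushforwardContinuous (Type u) (J i) (J i)) :=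
    ⟨fun _ _ _ => (((𝟭 (F.obj ⟨op i⟩)).sheafAdjunctionContinuous (Type u) (J i)
      (J i)).rightAdjoint_preservesLimits.{0, 0}).1⟩
  have := comp_preservesFiniteLimits
    ((𝟭 (F.obj ⟨op i⟩)).sheafPushforwardContinuous (Type u) (J i) (J i))
    ((FibSite.invImage F f).sheafPullback (Type u) (J i) (J j))
  exact preservesFiniteLimits_of_natIso
    (exchangeSheafIso (liftSquare F f) (J i) (J j) (FibSite.totalTopology F J) (J i)).symm

end Groth.Agent.Fib44
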