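import Groth.Agent.Fib44.FibSiteSigma
import Groth.Agent.Fib44.FibSiteConverse

/-!
Restriction of the coextension as a product, and bicovering morphisms along a fibre inclusion.
-/

set_option backward.isDefEq.respectTransparency false
set_option backward.isDefEq.respectTransparency.types false
set_option backward.defeqAttrib.useBackward true

universe u

open CategoryTheory CategoryTheory.Functor CategoryTheory.Limits Opposite Pseudofunctor
  Pseudofunctor.CoGrothendieck

namespace Groth.Agent.Fib44

noncomputable section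

variable {𝒮 : Type u} [SmallCategory 𝒮] {F : Pseudofunctor (LocallyDiscrete 𝒮ᵒᵖ) Cat.{u, u}}
  {J : FibSite.Topologies F}

theorem exists_fan_restr_coextend (i j : 𝒮)
    [∀ S : 𝒮, (ι F S).IsContinuous (J S) (FibSite.totalTopology F J)]
    [(ι F i).IsCocontinuous (J i) (FibSite.totalTopology F J)]
    [∀ (R S : 𝒮) (f : R ⟶ S), (FibSite.invImage F f).IsContinuous (J S) (J R)]
    (a : Sheaf (J i) (Type u)) :
    ∃ c : Fan fun f : i ⟶ j =>
        ((FibSite.invImage F f).sheafPushforwardContinuous (Type u) (J j) (J i)).obj a,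
      Nonempty (IsLimit c) ∧ Nonempty (c.pt ≅
        (FibSite.restr F J (Type u) j).obj ((FibSite.coextend F J (Type u) i).obj a)) := by
  let X := (FibSite.restr F J (Type u) j).obj ((FibSite.coextend F J (Type u) i).obj a)
  let π := fun f : i ⟶ j => (⟨ranComp a.obj f⟩ : X ⟶
    ((FibSite.invImage F f).sheafPushforwardContinuous (Type u) (J j) (J i)).obj a)
  have hlift : ∀ (Y : Sheaf (J j) (Type u)) (s : ∀ f : i ⟶ j, Y ⟶
      ((FibSite.invImage F f).sheafPushforwardContinuous (Type u) (J j) (J i)).obj a),
      ∃! m : Y ⟶ X, ∀ f, m ≫ π f = s f := by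
    intro Y s
    obtain ⟨m, hm, hu⟩ := existsUnique_ranComp_lift (G := a.obj) fun f => (s f).hom
    exact ⟨⟨m⟩, fun f => (sheafToPresheaf _ _).map_injective (hm f), fun m' hm' =>
      (sheafToPresheaf _ _).map_injective (hu m'.hom fun f => congrArg (·.hom) (hm' f))⟩
  exact ⟨Fan.mk X π, ⟨mkFanLimit _ (fun s => (hlift s.pt fun f => s.proj f).choose)
    (fun s f => (hlift s.pt fun f => s.proj f).choose_spec.1 f)
    (fun s m hm => (hlift s.pt fun f => s.proj f).choose_spec.2 m hm)⟩, ⟨Iso.refl _⟩⟩

theorem W_iff_W_lan (hF : FibSite.IsPreFibSite F J) (i : 𝒮)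
    {a b : (F.obj ⟨op i⟩)ᵒᵖ ⥤ Type u} (τ : a ⟶ b) :
    (J i).W τ ↔ (FibSite.totalTopology F J).W (((ι F i).op.lan (H := Type u)).map τ) := by
  have := isContinuous_ι hF i
  have := isCocontinuous_ι hF i
  constructor
  · intro h
    rw [GrothendieckTopology.W_iff] at h ⊢
    exact (NatIso.isIso_map_iff (lanSheafifyIso (ι F i) (J i) (FibSite.totalTopology F J)) τ).mpr
      (Functor.map_isIso ((ι F i).sheafPullback (Type u) (J i) (FibSite.totalTopology F J))
        ((presheafToSheaf (J i) (Type u)).map τ))
  · intro h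
    rw [GrothendieckTopology.W_iff] at h ⊢
    let L := presheafToSheaf (J i) (Type u)
    let W := (whiskeringLeft _ _ (Type u)).obj (ι F i).op
    let l := (ι F i).op.lan (H := Type u)
    let adj := (ι F i).op.lanAdjunction (Type u)
    have hi : IsIso (L.map (W.map (l.map τ))) :=
      (NatIso.isIso_map_iff ((ι F i).pushforwardContinuousSheafificationCompatibility
        (Type u) (J i) (FibSite.totalTopology F J)) (l.map τ)).mpr
        (Functor.map_isIso ((ι F i).sheafPushforwardContinuous (Type u) (J i)
          (FibSite.totalTopology F J))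
          ((presheafToSheaf (FibSite.totalTopology F J) (Type u)).map (l.map τ)))
    have : L.IsLeftAdjoint := (sheafificationAdjunction (J i) (Type u)).isLeftAdjoint
    have hp := isPullback_extUnit L τ
    let κ := fun x => (adj.homEquiv x ((extFun F i).obj x)).symm ((extUnit F i).app x)
    have hκ : ∀ x, adj.unit.app x ≫ W.map (κ x) = (extUnit F i).app x := fun x =>
      (adj.homEquiv_unit _ _ _).symm.trans (Equiv.apply_symm_apply _ _)
    have hnat : l.map τ ≫ κ b = κ a ≫ (extFun F i).map τ := by
      simp only [κ]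
      rw [← Adjunction.homEquiv_naturality_left_symm,
        ← Adjunction.homEquiv_naturality_right_symm]
      exact congrArg _ ((extUnit F i).naturality τ)
    let q : L.obj b ⟶ L.obj (W.obj ((extFun F i).obj a)) :=
      L.map (adj.unit.app b) ≫ inv (L.map (W.map (l.map τ))) ≫ L.map (W.map (κ a))
    have hq : q ≫ L.map (W.map ((extFun F i).map τ)) =
        𝟙 _ ≫ L.map ((extUnit F i).app b) := by
      simp only [q, Category.assoc, Category.id_comp]
      rw [← Functor.map_comp L, ← Functor.map_comp W, ← hnat, Functor.map_comp,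
        Functor.map_comp, IsIso.inv_hom_id_assoc, ← Functor.map_comp, hκ]
    have hu : L.map τ ≫ q = L.map ((extUnit F i).app a) := by
      simp only [q]
      rw [← Functor.map_comp_assoc,
        show τ ≫ adj.unit.app b = adj.unit.app a ≫ W.map (l.map τ) from adj.unit.naturality τ,
        Functor.map_comp, Category.assoc, IsIso.hom_inv_id_assoc, ← Functor.map_comp, hκ]
    refine ⟨⟨hp.lift q (𝟙 _) hq, hp.hom_ext ?_ ?_, hp.lift_snd _ _ _⟩⟩
    · rw [Category.assoc, hp.lift_fst, Category.id_comp, hu]
    · rw [Category.assoc, hp.lift_snd, Category.id_comp, Category.comp_id]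

end

end Groth.Agent.Fib44
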