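import Groth.Agent.Fib44.FibSiteTotal
import Mathlib.CategoryTheory.Limits.Types.Limits

/-!
Restriction to a fibre of the extension from another fibre is a coproduct of inverse images.
-/

set_option backward.isDefEq.respectTransparency false
set_option backward.isDefEq.respectTransparency.types false
set_option backward.defeqAttrib.useBackward true

universe u

open CategoryTheory CategoryTheory.Functor CategoryTheory.Limits Opposite Pseudofunctor
  Pseudofunctor.CoGrothendieck

namespace Groth.Agent.Fib44

noncomputable section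

variable {𝒮 : Type u} [SmallCategory 𝒮] {F : Pseudofunctor (LocallyDiscrete 𝒮ᵒᵖ) Cat.{u, u}}
  {i j : 𝒮} (G : (F.obj ⟨op j⟩)ᵒᵖ ⥤ Type u)

/-- The component along `f` of the right Kan extension from the fibre over `j`, restricted to the
fibre over `i`. -/
def ranComp (f : j ⟶ i) :
    (ι F i).op ⋙ (ι F j).op.ran.obj G ⟶ (FibSite.invImage F f).op ⋙ G where
  app U := ((ι F j).op.ran.obj G).map (cartesianLift U.unop f).op ≫
    ((ι F j).op.ranCounit.app G).app (op ((FibSite.invImage F f).obj U.unop))
  naturality U V m := by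
    have h1 := ((ι F j).op.ranCounit.app G).naturality ((FibSite.invImage F f).map m.unop).op
    dsimp at h1 ⊢
    rw [← Category.assoc, ← Functor.map_comp, Category.assoc, ← h1, ← Category.assoc,
      ← Functor.map_comp, ← op_comp, ← op_comp, ι_map_lift]

variable {G}

theorem fibre_value_eq {U : F.obj ⟨op i⟩} {V : F.obj ⟨op j⟩}
    (y : ∀ f : j ⟶ i, G.obj (op ((FibSite.invImage F f).obj U)))
    (φ : (ι F j).obj V ⟶ (ι F i).obj U) (f : j ⟶ i) (t : V ⟶ (FibSite.invImage F f).obj U)
    (h : φ = (ι F j).map t ≫ cartesianLift U f) :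
    G.map (Quiver.Hom.op (X := V) (Y := (FibSite.invImage F φ.base).obj U) φ.fiber)
        (y φ.base) = G.map t.op (y f) := by
  obtain rfl : φ.base = f := by
    have := congrArg (fun m => Pseudofunctor.CoGrothendieck.Hom.base m) h
    simpa using! this
  have : (φ.fiber : V ⟶ (FibSite.invImage F φ.base).obj U) = t :=
    lift_cancel φ.base ((ι_lift_decomp φ).symm.trans h)
  rw [this]

theorem existsUnique_ranComp (U : F.obj ⟨op i⟩)
    (y : ∀ f : j ⟶ i, G.obj (op ((FibSite.invImage F f).obj U))) :
    ∃! x : ((ι F j).op.ran.obj G).obj (op ((ι F i).obj U)),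
      ∀ f, (ranComp G f).app (op U) x = y f := by
  let hR := (ι F j).op.isPointwiseRightKanExtensionRanCounit G (op ((ι F i).obj U))
  let e := Types.isLimitEquivSections hR
  let s : (StructuredArrow.proj (op ((ι F i).obj U)) (ι F j).op ⋙ G).sections :=
    ⟨fun A => G.map (Quiver.Hom.op (X := A.right.unop)
      (Y := (FibSite.invImage F A.hom.unop.base).obj U) A.hom.unop.fiber) (y A.hom.unop.base), by
      intro A B k
      have hk := congrArg Quiver.Hom.unop (StructuredArrow.w k)
      simp only [Functor.op_map, unop_comp, Quiver.Hom.unop_op] at hk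
      refine Eq.trans ?_ (fibre_value_eq y B.hom.unop A.hom.unop.base
        (k.right.unop ≫ A.hom.unop.fiber) ?_).symm
      · dsimp
        rw [← Functor.map_comp_apply]
      · rw [← hk, Functor.map_comp, Category.assoc]
        exact congrArg (_ ≫ ·) (ι_lift_decomp A.hom.unop)⟩
  have comp_eq : ∀ (x : ((ι F j).op.ran.obj G).obj (op ((ι F i).obj U)))
      (A : StructuredArrow (op ((ι F i).obj U)) (ι F j).op),
      (e x).1 A = G.map (Quiver.Hom.op (X := A.right.unop)
          (Y := (FibSite.invImage F A.hom.unop.base).obj U) A.hom.unop.fiber)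
        ((ranComp G A.hom.unop.base).app (op U) x) := by
    intro x A
    have hA : A.hom = (cartesianLift U A.hom.unop.base).op ≫
        ((ι F j).map (X := A.right.unop) (Y := (FibSite.invImage F A.hom.unop.base).obj U)
          A.hom.unop.fiber).op := by
      rw [← op_comp]
      exact congrArg Quiver.Hom.op (ι_lift_decomp A.hom.unop)
    change ((ι F j).op.ranCounit.app G).app A.right
      (((ι F j).op.ran.obj G).map A.hom x) = _
    conv_lhs => rw [hA]
    rw [Functor.map_comp_apply]
    exact NatTrans.naturality_apply ((ι F j).op.ranCounit.app G)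
      (Quiver.Hom.op (X := A.right.unop) (Y := (FibSite.invImage F A.hom.unop.base).obj U)
        A.hom.unop.fiber) _
  refine ⟨e.symm s, fun f => ?_, fun x hx => e.eq_symm_apply.mpr (Subtype.ext (funext fun A => ?_))⟩
  · change (e (e.symm s)).1 (StructuredArrow.mk (Y := op ((FibSite.invImage F f).obj U))
      (cartesianLift U f).op) = _
    rw [Equiv.apply_symm_apply]
    change G.map (𝟙 _) (y f) = y f
    simp
  · rw [comp_eq]
    exact congrArg _ (hx _)

theorem ranComp_naturality {G G' : (F.obj ⟨op j⟩)ᵒᵖ ⥤ Type u} (τ : G ⟶ G') (f : j ⟶ i) :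
    ranComp G f ≫ whiskerLeft (FibSite.invImage F f).op τ =
      whiskerLeft (ι F i).op ((ι F j).op.ran.map τ) ≫ ranComp G' f := by
  ext U : 2
  have h := NatTrans.congr_app ((ι F j).op.ranCounit.naturality τ)
    (op ((FibSite.invImage F f).obj U.unop))
  dsimp [ranComp] at h ⊢
  rw [Category.assoc, ← h, ← Category.assoc, ← Category.assoc]
  congr 1
  exact ((ι F j).op.ran.map τ).naturality (cartesianLift U.unop f).op

theorem existsUnique_ranComp_lift {a : (F.obj ⟨op i⟩)ᵒᵖ ⥤ Type u}
    (s : ∀ f : j ⟶ i, a ⟶ (FibSite.invImage F f).op ⋙ G) :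
    ∃! m : a ⟶ (ι F i).op ⋙ (ι F j).op.ran.obj G, ∀ f, m ≫ ranComp G f = s f := by
  choose x hx hu using fun (U : (F.obj ⟨op i⟩)ᵒᵖ) (z : a.obj U) =>
    existsUnique_ranComp (G := G) U.unop fun f => (s f).app U z
  refine ⟨{ app := fun U => ↾(x U), naturality := fun U V m => ?_ }, fun f => ?_, fun m hm => ?_⟩
  · ext z
    refine (hu V (a.map m z) _ fun f => ?_).symm
    refine (NatTrans.naturality_apply (ranComp G f) m (x U z)).trans ?_
    have := hx U z f
    refine (congrArg _ this).trans ?_
    exact (NatTrans.naturality_apply (s f) m z).symm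
  · ext U z
    exact hx U z f
  · ext U z
    exact hu U z _ fun f => ConcreteCategory.congr_hom (NatTrans.congr_app (hm f) U) z

section Sheaves

variable {J : FibSite.Topologies F}

theorem exists_cofan_restr_extend (hF : FibSite.IsPreFibSite F J) (i j : 𝒮)
    [∀ S : 𝒮, (ι F S).IsContinuous (J S) (FibSite.totalTopology F J)]
    [((ι F i).sheafPushforwardContinuous (Type u) (J i) (FibSite.totalTopology F J)).IsRightAdjoint]
    [∀ (R S : 𝒮) (f : R ⟶ S), (FibSite.invImage F f).IsContinuous (J S) (J R)]
    [∀ (R S : 𝒮) (f : R ⟶ S),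
      ((FibSite.invImage F f).sheafPushforwardContinuous (Type u) (J S) (J R)).IsRightAdjoint]
    (a : Sheaf (J i) (Type u)) :
    ∃ c : Cofan fun f : j ⟶ i =>
        ((FibSite.invImage F f).sheafPullback (Type u) (J i) (J j)).obj a,
      Nonempty (IsColimit c) ∧
        Nonempty (c.pt ≅ (FibSite.restr F J (Type u) j).obj
          ((FibSite.extend F J (Type u) i).obj a)) := by
  have := isCocontinuous_ι hF j
  let adj := ((ι F i).sheafAdjunctionContinuous (Type u) (J i)
    (FibSite.totalTopology F J)).comp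
    ((ι F j).sheafAdjunctionCocontinuous (Type u) (J j) (FibSite.totalTopology F J))
  let adjf := fun f : j ⟶ i =>
    (FibSite.invImage F f).sheafAdjunctionContinuous (Type u) (J i) (J j)
  let T : Sheaf (J j) (Type u) ⥤ Sheaf (J i) (Type u) :=
    (ι F j).sheafPushforwardCocontinuous (Type u) (J j) (FibSite.totalTopology F J) ⋙
      (ι F i).sheafPushforwardContinuous (Type u) (J i) (FibSite.totalTopology F J)
  let θ : ∀ (f : j ⟶ i) (H : Sheaf (J j) (Type u)), T.obj H ⟶
      ((FibSite.invImage F f).sheafPushforwardContinuous (Type u) (J i) (J j)).obj H :=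
    fun f H => ⟨ranComp H.obj f⟩
  have θnat : ∀ (f : j ⟶ i) {H H' : Sheaf (J j) (Type u)} (k : H ⟶ H'),
      θ f H ≫ ((FibSite.invImage F f).sheafPushforwardContinuous (Type u) (J i) (J j)).map k =
        T.map k ≫ θ f H' := fun f _ _ k =>
    (sheafToPresheaf _ _).map_injective (ranComp_naturality k.hom f)
  let X := (FibSite.restr F J (Type u) j).obj ((FibSite.extend F J (Type u) i).obj a)
  let inj := fun f : j ⟶ i => ((adjf f).homEquiv a X).symm (adj.unit.app a ≫ θ f X)
  have key : ∀ {Y : Sheaf (J j) (Type u)} (h : X ⟶ Y) (f : j ⟶ i),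
      inj f ≫ h = ((adjf f).homEquiv a Y).symm (adj.homEquiv a Y h ≫ θ f Y) := by
    intro Y h f
    rw [← Adjunction.homEquiv_naturality_right_symm, Category.assoc, θnat, ← Category.assoc]
    rfl
  have hlift : ∀ (Y : Sheaf (J j) (Type u)) (s : ∀ f : j ⟶ i, a ⟶
      ((FibSite.invImage F f).sheafPushforwardContinuous (Type u) (J i) (J j)).obj Y),
      ∃! m : a ⟶ T.obj Y, ∀ f, m ≫ θ f Y = s f := by
    intro Y s
    obtain ⟨m, hm, hu⟩ := existsUnique_ranComp_lift (G := Y.obj) fun f => (s f).hom
    exact ⟨⟨m⟩, fun f => (sheafToPresheaf _ _).map_injective (hm f), fun m' hm' =>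
      (sheafToPresheaf _ _).map_injective (hu m'.hom fun f => congrArg (·.hom) (hm' f))⟩
  refine ⟨Cofan.mk X inj, ⟨Limits.Cofan.IsColimit.mk _
    (fun s => (adj.homEquiv a s.pt).symm
      (hlift s.pt fun f => (adjf f).homEquiv a s.pt (s.inj f)).choose)
    (fun s f => ?_) (fun s m hm => ?_)⟩, ⟨Iso.refl _⟩⟩
  · refine (key _ f).trans ?_
    rw [Equiv.apply_symm_apply,
      (hlift s.pt fun f => (adjf f).homEquiv a s.pt (s.inj f)).choose_spec.1 f,
      Equiv.symm_apply_apply]
  · refine (adj.homEquiv a s.pt).eq_symm_apply.mpr ?_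
    refine (hlift s.pt fun f => (adjf f).homEquiv a s.pt (s.inj f)).choose_spec.2 _ fun f => ?_
    have h := (key m f).symm.trans (hm f)
    exact ((adjf f).homEquiv a s.pt).symm_apply_eq.mp h

end Sheaves

end

end Groth.Agent.Fib44
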