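import Groth.Agent.CohDer42.Classical

/-!
Maps from compact objects into towers built from a family factor through the envelope of a finite
subfamily.
-/

universe v u

open CategoryTheory Limits Pretriangulated

set_option linter.unusedSectionVars false

namespace Groth.Agent.Fib44

variable {D : Type u} [Category.{v} D] [Preadditive D] [HasZeroObject D] [HasShift D ℤ]
  [∀ n : ℤ, (shiftFunctor D n).Additive] [Pretriangulated D] [IsTriangulated D]
variable {ι : Type v} (E : ι → D)

/-- The members of a finite subfamily. -/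
def finFam (s : Finset ι) : ObjectProperty D := fun Y => ∃ i ∈ s, Y = E i

/-- The members of the family. -/
def fullFam : ObjectProperty D := fun Y => ∃ i, Y = E i

/-- Objects in the envelope of some finite subfamily. -/
def finEnv : ObjectProperty D := fun W => ∃ s : Finset ι, (finFam E s).triangEnvelope W

theorem finFam_mono {s t : Finset ι} (h : s ⊆ t) : finFam E s ≤ finFam E t :=
  fun _ ⟨i, hi, e⟩ => ⟨i, h hi, e⟩

theorem exists_finset_of_triangEnvelope [Nonempty ι] {W : D}
    (hW : (fullFam E).triangEnvelope W) : finEnv E W := by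
  classical
  let i₀ := Classical.arbitrary ι
  have hne : ∀ s : Finset ι, (finFam E (insert i₀ s)).Nonempty := fun s =>
    ⟨E i₀, i₀, Finset.mem_insert_self _ _, rfl⟩
  have : (finEnv E).ContainsZero := by
    have := hne ∅
    obtain ⟨Z, hZ, hZ'⟩ := (finFam E (insert i₀ ∅)).triangEnvelope.exists_prop_of_containsZero
    exact ⟨Z, hZ, _, hZ'⟩
  have : (finEnv E).IsStableUnderShift ℤ :=
    ⟨fun n => ⟨fun W ⟨s, hs⟩ => ⟨s, (finFam E s).triangEnvelope.le_shift n W hs⟩⟩⟩
  have : (finEnv E).IsClosedUnderIsomorphisms :=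
    ⟨fun e ⟨s, hs⟩ => ⟨s, (finFam E s).triangEnvelope.prop_of_iso e hs⟩⟩
  have : (finEnv E).IsTriangulatedClosed₂ :=
    ObjectProperty.IsTriangulatedClosed₂.mk' fun T hT ⟨s, hs⟩ ⟨t, ht⟩ => ⟨insert i₀ (s ∪ t), by
      exact (finFam E _).triangEnvelope.ext_of_isTriangulatedClosed₂ T hT
        (ObjectProperty.monotone_triangEnvelope
          (finFam_mono E (Finset.subset_union_left.trans (Finset.subset_insert _ _))) _ hs)
        (ObjectProperty.monotone_triangEnvelope
          (finFam_mono E (Finset.subset_union_right.trans (Finset.subset_insert _ _))) _ ht)⟩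
  have : (finEnv E).IsTriangulated := { }
  have : (finEnv E).IsStableUnderRetracts :=
    ⟨fun r ⟨s, hs⟩ => ⟨s, (finFam E s).triangEnvelope.prop_of_retract r hs⟩⟩
  refine ((fullFam E).triangEnvelope_le_iff (Q := finEnv E)).2 ?_ W hW
  rintro Y ⟨i, rfl⟩
  exact ⟨{i}, (finFam E {i}).le_triangEnvelope _ ⟨i, Finset.mem_singleton_self i, rfl⟩⟩

variable [HasCoproducts.{v} D]

theorem compact_factors_tower [Nonempty ι] (hc : ∀ i, CohDer.IsCompactObject (E i))
    (K : ℕ → D) (f : ∀ n, K n ⟶ K (n + 1))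
    (h0 : ∃ (κ : Type v) (a : κ → ι) (m : κ → ℤ),
      Nonempty (K 0 ≅ ∐ (fun k => (shiftFunctor D (m k)).obj (E (a k)))))
    (hstep : ∀ n, ∃ (κ : Type v) (a : κ → ι) (m : κ → ℤ)
      (y : (∐ fun k => (shiftFunctor D (m k)).obj (E (a k))) ⟶ K n)
      (z : K (n + 1) ⟶ (shiftFunctor D (1 : ℤ)).obj (∐ fun k => (shiftFunctor D (m k)).obj (E (a k)))),
      Triangle.mk y (f n) z ∈ distinguishedTriangles)
    (n : ℕ) : CohDer42.FactorsCompact (fullFam E) (K n) := by
  have hP : (fullFam E).Nonempty := ⟨E (Classical.arbitrary ι), _, rfl⟩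
  have hcP : ∀ X, fullFam E X → CohDer.IsCompactObject X := by
    rintro X ⟨i, rfl⟩
    exact hc i
  have hmem : ∀ {κ : Type v} (a : κ → ι) (m : κ → ℤ) (k : κ),
      (fullFam E).triangEnvelope ((shiftFunctor D (m k)).obj (E (a k))) := fun a m k =>
    (fullFam E).triangEnvelope.le_shift (m k) _ ((fullFam E).le_triangEnvelope _ ⟨a k, rfl⟩)
  induction n with
  | zero =>
    obtain ⟨κ, a, m, ⟨i⟩⟩ := h0
    intro C hC g
    obtain ⟨W, p, q, hW, hpq⟩ :=
      CohDer42.factorsCompact_coproduct hP _ (hmem a m) C hC (g ≫ i.hom)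
    exact ⟨W, p, q ≫ i.inv, hW, by rw [reassoc_of% hpq, Iso.hom_inv_id, Category.comp_id]⟩
  | succ n ih =>
    obtain ⟨κ, a, m, y, z, hT⟩ := hstep n
    exact CohDer42.factorsCompact_ext hP hcP (rot_of_distTriang _ hT) ih
      ((CohDer42.factorsCompact_coproduct hP _ (hmem a m)).shift 1)

end Groth.Agent.Fib44
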