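import Groth.Agent.Fib44.Fp
import Groth.Agent.Fib44.Comp

/-!
Further facts on two-fibre products: projections, products over the base, setoids.
-/

set_option backward.isDefEq.respectTransparency false
set_option backward.isDefEq.respectTransparency.types false

universe v₄ u₄ v₃ u₃ v₂ u₂ v u

open CategoryTheory CategoryTheory.Functor CategoryTheory.Limits

namespace Groth.Agent.Fib44

variable {C : Type u} [Category.{v} C]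

theorem selfOver_isFibGrpd : FibCat.IsFibGrpd (FibCat.selfOver C).p where
  exists_lift {x V} f := ⟨V, f, IsHomLift.map (𝟭 C) f⟩
  isStronglyCartesian {y x} φ := by
    rw [isSC_iff]
    intro z g ψ hψ
    exact ⟨g, ⟨rfl, hψ.symm⟩, fun χ hχ => hχ.1⟩

variable {𝒳 : BasedCategory.{v₂, u₂} C} {𝒴 : BasedCategory.{v₃, u₃} C} {𝒮 : BasedCategory.{v₄, u₄} C}
  {F : 𝒳 ⥤ᵇ 𝒮} {G : 𝒴 ⥤ᵇ 𝒮}

/-- An object of the product over the base. -/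
abbrev selfMk (x : 𝒳.obj) (y : 𝒴.obj) (h : 𝒴.p.obj y = 𝒳.p.obj x) :
    (FibCat.fp (FibCat.toSelf 𝒳) (FibCat.toSelf 𝒴)).obj :=
  fpMk x y (eqToIso h.symm : 𝒳.p.obj x ≅ 𝒴.p.obj y)
    (IsHomLift.of_fac' (𝟭 C) (𝟙 _) (eqToHom h.symm) rfl h (by simp))

theorem self_iso_hom (x : (FibCat.fp (FibCat.toSelf 𝒳) (FibCat.toSelf 𝒴)).obj) :
    x.obj.iso.hom = eqToHom (fp_proj_snd x).symm := by
  have := x.property
  have : (FibCat.selfOver C).p.IsHomLift (𝟙 (𝒳.p.obj x.obj.fst)) x.obj.iso.hom := x.property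
  have h := IsHomLift.fac' (FibCat.selfOver C).p (𝟙 (𝒳.p.obj x.obj.fst)) x.obj.iso.hom
  exact h.trans (by simp)

theorem self_w {x y : (FibCat.fp (FibCat.toSelf 𝒳) (FibCat.toSelf 𝒴)).obj}
    (a : x.obj.fst ⟶ y.obj.fst) (b : x.obj.snd ⟶ y.obj.snd) {R S : C} (f : R ⟶ S)
    [𝒳.p.IsHomLift f a] [𝒴.p.IsHomLift f b] :
    (FibCat.toSelf 𝒳).map a ≫ y.obj.iso.hom = x.obj.iso.hom ≫ (FibCat.toSelf 𝒴).map b := by
  rw [self_iso_hom, self_iso_hom]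
  change 𝒳.p.map a ≫ eqToHom _ = eqToHom _ ≫ 𝒴.p.map b
  rw [IsHomLift.fac' 𝒳.p f a, IsHomLift.fac' 𝒴.p f b]
  simp

theorem isFibGrpd_fpSnd (h𝒳 : FibCat.IsFibGrpd 𝒳.p) (h𝒴 : FibCat.IsFibGrpd 𝒴.p)
    (h𝒮 : FibCat.IsFibGrpd 𝒮.p) : FibCat.IsFibGrpd (FibCat.fpSnd F G).toFunctor where
  exists_lift {x V} k := by
    obtain ⟨y, φ, hφ⟩ := (isFibGrpd_fp (F := F) (G := G) h𝒳 h𝒴 h𝒮).exists_lift (x := x)
      (eqToHom rfl ≫ 𝒴.p.map k ≫ eqToHom (fp_proj_snd x))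
    have h1 := fp_isHomLift_snd (eqToHom rfl ≫ 𝒴.p.map k ≫ eqToHom (fp_proj_snd x)) φ
    have h2 : 𝒴.p.IsHomLift (eqToHom rfl ≫ 𝒴.p.map k ≫ eqToHom (fp_proj_snd x)) k :=
      IsHomLift.of_fac' _ _ _ rfl (fp_proj_snd x) (by simp)
    have := isSC_of_fibGrpd 𝒴.p h𝒴 (eqToHom rfl ≫ 𝒴.p.map k ≫ eqToHom (fp_proj_snd x)) φ.hom.snd
    have := isSC_of_fibGrpd 𝒴.p h𝒴 (eqToHom rfl ≫ 𝒴.p.map k ≫ eqToHom (fp_proj_snd x)) k
    let θ := IsCartesian.domainUniqueUpToIso 𝒴.p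
      (eqToHom rfl ≫ 𝒴.p.map k ≫ eqToHom (fp_proj_snd x)) k φ.hom.snd
    have hd : 𝒳.p.obj y.obj.fst = 𝒴.p.obj V :=
      IsHomLift.domain_eq (FibCat.fp F G).p (eqToHom rfl ≫ 𝒴.p.map k ≫ eqToHom (fp_proj_snd x)) φ
    have hθ : 𝒴.p.IsHomLift (𝟙 (𝒳.p.obj y.obj.fst)) θ.hom :=
      lift_id_of_eq 𝒴.p hd.symm (IsCartesian.domainUniqueUpToIso_inv_isHomLift 𝒴.p _ k φ.hom.snd)
    have he := y.property
    have he' : 𝒮.p.IsHomLift (𝟙 (𝒳.p.obj y.obj.fst)) (y.obj.iso.hom ≫ G.map θ.hom) :=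
      have : 𝒮.p.IsHomLift (𝟙 (𝒳.p.obj y.obj.fst)) y.obj.iso.hom := he
      inferInstance
    let y' : (FibCat.fp F G).obj := fpMk y.obj.fst V (y.obj.iso ≪≫ G.toFunctor.mapIso θ) he'
    refine ⟨y', fpHom φ.hom.fst k ?_, IsHomLift.map (FibCat.fpSnd F G).toFunctor
      (fpHom φ.hom.fst k _ : y' ⟶ x)⟩
    change _ = (y.obj.iso.hom ≫ G.map θ.hom) ≫ G.map k
    rw [Category.assoc, ← Functor.map_comp]
    rw [show θ.hom ≫ k = φ.hom.snd from IsCartesian.fac 𝒴.p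
      (eqToHom rfl ≫ 𝒴.p.map k ≫ eqToHom (fp_proj_snd x)) k φ.hom.snd]
    exact fp_w φ
  isStronglyCartesian {y x} φ := by
    rw [isSC_iff]
    intro z g ψ hψ
    have hg := based_map (FibCat.fpSnd F G) ψ
    change 𝒴.p.map ψ.hom.snd = _ at hg
    let f : (FibCat.fp F G).p.obj z ⟶ (FibCat.fp F G).p.obj y :=
      eqToHom (fp_proj_snd z).symm ≫ 𝒴.p.map g ≫ eqToHom (fp_proj_snd y)
    have hgl : 𝒴.p.IsHomLift f g :=
      IsHomLift.of_fac' _ _ _ (fp_proj_snd z) (fp_proj_snd y) (by simp [f])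
    have hf : (FibCat.fp F G).p.map ψ = f ≫ (FibCat.fp F G).p.map φ := by
      have e1 := based_map (FibCat.fpSnd F G) φ
      change 𝒴.p.map φ.hom.snd = _ at e1
      have e2 : 𝒴.p.map ψ.hom.snd = 𝒴.p.map g ≫ 𝒴.p.map φ.hom.snd := by
        rw [← Functor.map_comp]; exact congrArg 𝒴.p.map hψ
      rw [e1, hg] at e2
      rw [← cancel_epi (eqToHom ((FibCat.fpSnd F G).w_obj z)),
        ← cancel_mono (eqToHom ((FibCat.fpSnd F G).w_obj x).symm)]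
      simp only [Category.assoc]
      rw [e2]
      simp [f]
    obtain ⟨χ, ⟨h1, h2⟩, hu⟩ :=
      (isSC_iff _ φ).mp ((isFibGrpd_fp (F := F) (G := G) h𝒳 h𝒴 h𝒮).isStronglyCartesian φ) f ψ hf
    have hχ : χ.hom.snd = g := by
      have : (FibCat.fp F G).p.IsHomLift f χ := (isHomLift_iff_map_eq _ f χ).mpr h1
      have := fp_isHomLift_snd f χ
      have := fp_isHomLift_snd ((FibCat.fp F G).p.map φ) φ
      have := isSC_of_fibGrpd 𝒴.p h𝒴 ((FibCat.fp F G).p.map φ) φ.hom.snd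
      apply IsStronglyCartesian.ext 𝒴.p ((FibCat.fp F G).p.map φ) φ.hom.snd f
      exact (congrArg (fun k => k.hom.snd) h2).trans hψ
    refine ⟨χ, ⟨hχ, h2⟩, fun τ ⟨hτ, hτ'⟩ => hu τ ⟨?_, hτ'⟩⟩
    have hτ2 : τ.hom.snd = g := hτ
    have e3 := based_map (FibCat.fpSnd F G) τ
    change 𝒴.p.map τ.hom.snd = _ at e3
    rw [hτ2] at e3
    simp [f, e3]

theorem isFibSetoid_fp_of_faithful [F.toFunctor.Faithful] (h𝒳 : FibCat.IsFibGrpd 𝒳.p)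
    (h𝒴 : FibCat.IsFibSetoid 𝒴.p) (h𝒮 : FibCat.IsFibGrpd 𝒮.p) :
    FibCat.IsFibSetoid (FibCat.fp F G).p := by
  refine ⟨isFibGrpd_fp h𝒳 h𝒴.1 h𝒮, fun U x y => ⟨fun f g => ?_⟩⟩
  have hx : 𝒴.p.obj x.1.obj.snd = U := (fp_proj_snd x.1).trans x.2
  have hy : 𝒴.p.obj y.1.obj.snd = U := (fp_proj_snd y.1).trans y.2
  have := f.2
  have := g.2
  have hb : f.1.hom.snd = g.1.hom.snd :=
    congrArg Subtype.val ((h𝒴.2 U ⟨_, hx⟩ ⟨_, hy⟩).elim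
      ⟨f.1.hom.snd, fp_isHomLift_snd (𝟙 U) f.1⟩ ⟨g.1.hom.snd, fp_isHomLift_snd (𝟙 U) g.1⟩)
  refine Subtype.ext (fp_hom_ext (F.toFunctor.map_injective ?_) hb)
  rw [← cancel_mono y.1.obj.iso.hom]
  exact (fp_w f.1).trans ((congrArg (fun k => _ ≫ G.map k) hb).trans (fp_w g.1).symm)

end Groth.Agent.Fib44
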