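import Mathlib.CategoryTheory.Sites.CoverLifting
import Mathlib.CategoryTheory.Sites.Pullback
import Mathlib.CategoryTheory.Sites.Over
import Mathlib.CategoryTheory.Adjunction.Triple
import Mathlib.CategoryTheory.Functor.KanExtension.Adjunction
import Mathlib.CategoryTheory.Adjunction.FullyFaithful

/-!
Units and counits along a fully faithful continuous and cocontinuous functor.
-/

set_option autoImplicit false
set_option backward.isDefEq.respectTransparency false
set_option backward.isDefEq.respectTransparency.types false

universe w v v' v'' u u' u''

open CategoryTheory CategoryTheory.Limits Opposite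

namespace Groth.Agent.Fib44

variable {C : Type u} [Category.{v} C] {D : Type u'} [Category.{v'} D] (G : C ⥤ D)
  (A : Type u'') [Category.{v''} A] (J : GrothendieckTopology C) (K : GrothendieckTopology D)
  [G.IsContinuous J K] [G.IsCocontinuous J K] [G.Full] [G.Faithful]
  [∀ F : Cᵒᵖ ⥤ A, G.op.HasPointwiseRightKanExtension F]

theorem isIso_counit_cocontinuous (F : Sheaf J A) :
    IsIso ((G.sheafAdjunctionCocontinuous A J K).counit.app F) := by
  have h : IsIso ((G.sheafAdjunctionCocontinuous A J K).counit.app F).hom := by
    rw [G.sheafAdjunctionCocontinuous_counit_app_hom]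
    infer_instance
  have : IsIso ((sheafToPresheaf _ _).map ((G.sheafAdjunctionCocontinuous A J K).counit.app F)) := h
  exact isIso_of_reflects_iso _ (sheafToPresheaf _ _)

theorem isIso_unit_continuous [(G.sheafPushforwardContinuous A J K).IsRightAdjoint] (F : Sheaf J A) :
    IsIso ((G.sheafAdjunctionContinuous A J K).unit.app F) := by
  let t : Adjunction.Triple (G.sheafPullback A J K) (G.sheafPushforwardContinuous A J K)
      (G.sheafPushforwardCocontinuous A J K) :=
    ⟨G.sheafAdjunctionContinuous A J K, G.sheafAdjunctionCocontinuous A J K⟩
  have : IsIso t.adj₂.counit := by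
    have : ∀ a, IsIso (t.adj₂.counit.app a) := isIso_counit_cocontinuous G A J K
    exact NatIso.isIso_of_isIso_app _
  have h := t.fullyFaithfulEquiv.symm t.adj₂.fullyFaithfulROfIsIsoCounit
  have := h.full
  have := h.faithful
  infer_instance

end Groth.Agent.Fib44
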