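import Mathlib.AlgebraicGeometry.AlgClosed.Basic
import Mathlib.AlgebraicGeometry.Sites.Fpqc
import Mathlib.CategoryTheory.Sites.Over
import Groth.Prelude.Def_AlgSp

/-!
A covering sieve of a geometric point for the fppf topology contains the identity.
-/

universe u

open CategoryTheory AlgebraicGeometry TopologicalSpace

namespace Groth.Agent.Fib44

theorem id_mem_of_covering_geomPt {S : Scheme.{u}} {Ω : Type u} [Field Ω] [IsAlgClosed Ω]
    (t : Spec (CommRingCat.of Ω) ⟶ S) {R : Sieve (Over.mk t)}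
    (hR : R ∈ QuotSh.J Scheme.fppfPrecoverage S (Over.mk t)) : R (𝟙 _) := by
  have h : Sieve.overEquiv (Over.mk t) R ∈ Scheme.fppfTopology (Spec (CommRingCat.of Ω)) :=
    (GrothendieckTopology.mem_over_iff _ _).1 hR
  have : (@Flat ⊓ @LocallyOfFinitePresentation :
      MorphismProperty Scheme.{u}).IsStableUnderBaseChange :=
    MorphismProperty.IsStableUnderBaseChange.inf
  have : MorphismProperty.IsMultiplicative
      (@Flat ⊓ @LocallyOfFinitePresentation : MorphismProperty Scheme.{u}) :=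
    { id_mem := fun X => ⟨(inferInstance : Flat (𝟙 X)),
        (inferInstance : LocallyOfFinitePresentation (𝟙 X))⟩
      comp_mem := fun f g ⟨_, _⟩ ⟨_, _⟩ => ⟨(inferInstance : Flat (f ≫ g)),
        (inferInstance : LocallyOfFinitePresentation (f ≫ g))⟩ }
  obtain ⟨𝒰, h𝒰⟩ := Scheme.exists_cover_of_mem_grothendieckTopology
    (P := @Flat ⊓ @LocallyOfFinitePresentation) h
  obtain ⟨i, y, -⟩ := 𝒰.exists_eq (IsLocalRing.closedPoint Ω)
  have : LocallyOfFinitePresentation (𝒰.f i) := (𝒰.map_prop i).2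
  have : JacobsonSpace (𝒰.X i) := LocallyOfFiniteType.jacobsonSpace (𝒰.f i)
  obtain ⟨x, -, hx⟩ := nonempty_inter_closedPoints (Z := Set.univ) ⟨y, trivial⟩
    isClosed_univ.isLocallyClosed
  have hmem := (Sieve.overEquiv_iff R _).1 (h𝒰 _ _ ⟨i⟩)
  let σ : Over.mk t ⟶ Over.mk (𝒰.f i ≫ t) := Over.homMk (pointOfClosedPoint (𝒰.f i) x hx)
    (pointOfClosedPoint_comp_assoc (𝒰.f i) x hx t)
  have := R.downward_closed hmem σ
  convert this using 1
  exact Over.OverMorphism.ext (pointOfClosedPoint_comp (𝒰.f i) x hx).symm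

end Groth.Agent.Fib44
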