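import Groth.Agent.Fib44.Descent
import Groth.Agent.Fib44.Post

/-!
Tools for glueing along sieves.
-/

set_option backward.isDefEq.respectTransparency false
set_option backward.isDefEq.respectTransparency.types false

universe v₄ u₄ v₃ u₃ v₂ u₂ v u

open CategoryTheory CategoryTheory.Functor

namespace Groth.Agent.Fib44

variable {C : Type u} [Category.{v} C] {U : C} {R : Sieve U}
variable {𝒳 : BasedCategory.{v₂, u₂} C} {𝒴 : BasedCategory.{v₃, u₃} C}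

theorem IsGlue.map {H : Stk.sieveCat R ⥤ᵇ 𝒳} {x : 𝒳.obj}
    {γ : ∀ a : R.arrows.category, H.obj a ⟶ x} (hγ : IsGlue H x γ) (F : 𝒳 ⥤ᵇ 𝒴) :
    IsGlue (BasedFunctor.comp H F) (F.obj x) fun a => F.map (γ a) where
  over := (F.w_obj x).trans hγ.over
  lift a := by have := hγ.lift a; infer_instance
  nat a b f := by
    change F.map (H.map f) ≫ F.map (γ b) = F.map (γ a)
    rw [← Functor.map_comp, hγ.nat]

theorem IsGlue.isSC {H : Stk.sieveCat R ⥤ᵇ 𝒳} {x : 𝒳.obj}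
    {γ : ∀ a : R.arrows.category, H.obj a ⟶ x} (hγ : IsGlue H x γ) (hg : FibCat.IsFibGrpd 𝒳.p)
    (a : R.arrows.category) : 𝒳.p.IsStronglyCartesian a.obj.hom (γ a) :=
  have := hγ.lift a
  isSC_of_fibGrpd 𝒳.p hg _ _

theorem exists_glue_iso (hg : FibCat.IsFibGrpd 𝒳.p) (hM : MorGlue 𝒳 R)
    {H : Stk.sieveCat R ⥤ᵇ 𝒳} {x y : 𝒳.obj}
    {γ : ∀ a : R.arrows.category, H.obj a ⟶ x} (hγ : IsGlue H x γ)
    {δ : ∀ a : R.arrows.category, H.obj a ⟶ y} (hδ : IsGlue H y δ) :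
    ∃ k : x ≅ y, 𝒳.p.IsHomLift (𝟙 U) k.hom ∧ ∀ a, γ a ≫ k.hom = δ a := by
  obtain ⟨k, ⟨hk, hkf⟩, -⟩ := existsUnique_glue_hom hg hM hγ hδ
  have := isIso_of_fibGrpd 𝒳.p hg (𝟙 U) k
  exact ⟨asIso k, hk, hkf⟩

theorem glue_hom_ext (hg : FibCat.IsFibGrpd 𝒳.p) (hM : MorGlue 𝒳 R)
    {H : Stk.sieveCat R ⥤ᵇ 𝒳} {x w : 𝒳.obj} {γ : ∀ a : R.arrows.category, H.obj a ⟶ x}
    (hγ : IsGlue H x γ) {S' : C} (f : U ⟶ S') (u v : x ⟶ w) [𝒳.p.IsHomLift f u]
    [𝒳.p.IsHomLift f v] (h : ∀ a, γ a ≫ u = γ a ≫ v) : u = v := by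
  obtain ⟨w', ψ, hψ⟩ := exists_lift' 𝒳.p hg (IsHomLift.codomain_eq 𝒳.p f u) f
  have := isSC_of_fibGrpd 𝒳.p hg f ψ
  let k := IsCartesian.map 𝒳.p f ψ u
  let k' := IsCartesian.map 𝒳.p f ψ v
  have hk : k ≫ ψ = u := IsCartesian.fac 𝒳.p f ψ u
  have hk' : k' ≫ ψ = v := IsCartesian.fac 𝒳.p f ψ v
  have e : k = k' := by
    obtain ⟨l, -, hl⟩ := existsUnique_glue_hom hg hM hγ (hγ.comp_hom k)
    refine (hl k ⟨inferInstance, fun a => rfl⟩).trans (hl k' ⟨inferInstance, fun a => ?_⟩).symm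
    have := hγ.lift a
    apply IsStronglyCartesian.ext 𝒳.p f ψ a.obj.hom
    rw [Category.assoc, Category.assoc, hk, hk', h]
  rw [← hk, ← hk', e]

theorem hom_ext_of_lifts (hg : FibCat.IsFibGrpd 𝒳.p) (hM : MorGlue 𝒳 R) {x w : 𝒳.obj}
    (hx : 𝒳.p.obj x = U) {S' : C} (f : U ⟶ S') (u v : x ⟶ w) [𝒳.p.IsHomLift f u]
    [𝒳.p.IsHomLift f v]
    (h : ∀ ⦃V : C⦄ (g : V ⟶ U), R g →
      ∃ (z : 𝒳.obj) (ψ : z ⟶ x), 𝒳.p.IsHomLift g ψ ∧ ψ ≫ u = ψ ≫ v) : u = v := by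
  have := isFibered_of_isFibGrpd 𝒳.p (h := hg)
  obtain ⟨Y, e, he, -⟩ := exists_ofObj (𝒳 := 𝒳) hx
  refine glue_hom_ext hg hM ((isGlue_res (R := R) Y).comp_hom e.hom) f u v fun a => ?_
  obtain ⟨z, ψ, hψ, hψe⟩ := h a.obj.hom a.property
  have := isSC_of_fibGrpd 𝒳.p hg a.obj.hom ψ
  have := isHomLift_toId Y a.obj
  rw [← IsCartesian.fac 𝒳.p a.obj.hom ψ (Y.map (toId a.obj) ≫ e.hom), Category.assoc,
    Category.assoc, hψe]

theorem post_fullyFaithful (F : 𝒳 ⥤ᵇ 𝒴) [F.toFunctor.Full] [F.toFunctor.Faithful]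
    {𝒜 : BasedCategory.{v₄, u₄} C} : (post 𝒜 F).Full ∧ (post 𝒜 F).Faithful := by
  refine ⟨⟨fun {P Q} α => ?_⟩, ⟨fun {P Q α β} h => basedNatTrans_ext fun a =>
    F.toFunctor.map_injective (congrArg (fun t => t.toNatTrans.app a) h)⟩⟩
  refine ⟨⟨{ app := fun a => F.toFunctor.preimage (α.toNatTrans.app a)
             naturality := fun a b g => F.toFunctor.map_injective ?_ }, fun a => ?_⟩,
    basedNatTrans_ext fun a => F.toFunctor.map_preimage _⟩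
  · simp only [Functor.map_comp, Functor.map_preimage]
    exact α.toNatTrans.naturality g
  · rw [← BasedFunctor.isHomLift_iff F, F.toFunctor.map_preimage]
    exact α.isHomLift' a

theorem morGlue_of_fullyFaithful (F : 𝒳 ⥤ᵇ 𝒴) [F.toFunctor.Full] [F.toFunctor.Faithful]
    (hg : FibCat.IsFibGrpd 𝒳.p) (hg' : FibCat.IsFibGrpd 𝒴.p) (hM : MorGlue 𝒴 R) :
    MorGlue 𝒳 R := by
  obtain ⟨_, _⟩ := isPrestackFor_of_morGlue hg' hM
  obtain ⟨_, _⟩ := post_fullyFaithful (𝒜 := FibCat.overCat U) F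
  obtain ⟨_, _⟩ := post_fullyFaithful (𝒜 := Stk.sieveCat R) F
  have h1 : (Stk.resSieve R 𝒳 ⋙ post (Stk.sieveCat R) F).Full :=
    inferInstanceAs (post (FibCat.overCat U) F ⋙ Stk.resSieve R 𝒴).Full
  have h2 : (Stk.resSieve R 𝒳 ⋙ post (Stk.sieveCat R) F).Faithful :=
    inferInstanceAs (post (FibCat.overCat U) F ⋙ Stk.resSieve R 𝒴).Faithful
  exact morGlue_of_isPrestackFor hg
    ⟨Functor.Full.of_comp_faithful (Stk.resSieve R 𝒳) (post (Stk.sieveCat R) F),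
      Functor.Faithful.of_comp (Stk.resSieve R 𝒳) (post (Stk.sieveCat R) F)⟩

theorem exists_descent_of_fullyFaithful (hg' : FibCat.IsFibGrpd 𝒴.p) (F : 𝒳 ⥤ᵇ 𝒴)
    [F.toFunctor.Full] [F.toFunctor.Faithful] {y : 𝒴.obj} (hy : 𝒴.p.obj y = U)
    (h : ∀ ⦃V : C⦄ (f : V ⟶ U), R f → ∃ (x : 𝒳.obj) (φ : F.obj x ⟶ y), 𝒴.p.IsHomLift f φ) :
    ∃ (H : Stk.sieveCat R ⥤ᵇ 𝒳) (δ : ∀ a : R.arrows.category, (BasedFunctor.comp H F).obj a ⟶ y),
      IsGlue (BasedFunctor.comp H F) y δ := by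
  have h' := fun a : R.arrows.category => h a.obj.hom a.property
  choose x φ hφ using h'
  have hsc : ∀ a : R.arrows.category, 𝒴.p.IsStronglyCartesian a.obj.hom (φ a) := fun a =>
    have := hφ a
    isSC_of_fibGrpd 𝒴.p hg' _ _
  have hk : ∀ {a b : R.arrows.category} (f : a ⟶ b),
      ∃ k : x a ⟶ x b, 𝒳.p.IsHomLift f.hom.left k ∧ F.map k ≫ φ b = φ a := fun {a b} f => by
    have := hsc a
    have := hsc b
    let k := IsStronglyCartesian.map 𝒴.p b.obj.hom (φ b) (g := f.hom.left) (Over.w f.hom).symm (φ a)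
    refine ⟨F.toFunctor.preimage k, ?_, ?_⟩
    · rw [← BasedFunctor.isHomLift_iff F, F.toFunctor.map_preimage]
      exact IsStronglyCartesian.map_isHomLift 𝒴.p b.obj.hom (φ b) (Over.w f.hom).symm (φ a)
    · rw [F.toFunctor.map_preimage]
      exact IsStronglyCartesian.fac 𝒴.p b.obj.hom (φ b) (Over.w f.hom).symm (φ a)
  choose m hm hmf using @hk
  have hobj : ∀ a : R.arrows.category, 𝒳.p.obj (x a) = a.obj.left := fun a =>
    have := hφ a
    (F.w_obj (x a)).symm.trans (IsHomLift.domain_eq 𝒴.p a.obj.hom (φ a))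
  have muniq : ∀ {a b : R.arrows.category} (f : a ⟶ b) (k : x a ⟶ x b),
      𝒳.p.IsHomLift f.hom.left k → F.map k ≫ φ b = φ a → k = m f := fun {a b} f k _ e => by
    have := hsc b
    have := hm f
    exact F.toFunctor.map_injective
      (IsStronglyCartesian.ext 𝒴.p b.obj.hom (φ b) f.hom.left (e.trans (hmf f).symm))
  let H : Stk.sieveCat R ⥤ᵇ 𝒳 :=
    { obj := x
      map := fun f => m f
      map_id := fun a => (muniq (𝟙 a) (𝟙 (x a)) (IsHomLift.id (hobj a)) (by simp)).symm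
      map_comp := fun {a b c} f g => (muniq (f ≫ g) (m f ≫ m g)
        (by
          have := hm f
          have := hm g
          exact inferInstanceAs (𝒳.p.IsHomLift (f.hom.left ≫ g.hom.left) (m f ≫ m g)))
        (by rw [Functor.map_comp, Category.assoc, hmf, hmf])).symm
      w := CategoryTheory.Functor.ext hobj fun a b f => by
        have := hm f
        exact IsHomLift.fac' 𝒳.p f.hom.left (m f) }
  exact ⟨H, φ, ⟨hy, hφ, fun a b f => hmf f⟩⟩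

end Groth.Agent.Fib44
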