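import Groth.Agent.Fib44.Site
import Groth.Agent.Fib44.Glue
import Groth.Agent.Fib44.Comp

/-!
Stacks over a category fibred in groupoids with the inherited topology.
-/

set_option backward.isDefEq.respectTransparency false
set_option backward.isDefEq.respectTransparency.types false

universe v₄ u₄ v₃ u₃ v₂ u₂ v u

open CategoryTheory CategoryTheory.Functor

namespace Groth.Agent.Fib44

variable {C : Type u} [Category.{v} C]
variable {𝒳 : BasedCategory.{v₂, u₂} C} {𝒴 : BasedCategory.{v₃, u₃} C}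

section OverBase

variable (F : 𝒳 ⥤ᵇ 𝒴)

theorem push_iff_of_over (h𝒴 : FibCat.IsFibGrpd 𝒴.p) {y : 𝒴.obj} (S : Sieve y) {a z : 𝒳.obj}
    (φ : z ⟶ a) (ha : F.obj a = y) (hx : 𝒳.p.obj a = 𝒴.p.obj y) :
    S.functorPushforward 𝒴.p (𝒳.p.map φ ≫ eqToHom hx) ↔ S (F.map φ ≫ eqToHom ha) := by
  subst ha
  rw [show 𝒳.p.map φ ≫ eqToHom hx = eqToHom (F.w_obj z).symm ≫ 𝒴.p.map (F.map φ) by
      simp [based_map F φ], push_arrows_iff h𝒴 _ _ (F.w_obj z)]
  simp

theorem morGlue_over_base (h𝒳 : FibCat.IsFibGrpd 𝒳.p) (h𝒴 : FibCat.IsFibGrpd 𝒴.p) {y : 𝒴.obj}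
    (S : Sieve y) (hMX : MorGlue 𝒳 (S.functorPushforward 𝒴.p))
    (hMY : MorGlue 𝒴 (S.functorPushforward 𝒴.p)) :
    MorGlue (BasedCategory.ofFunctor F.toFunctor) S := by
  intro a b ha hb θ hθ hnat
  have hxa : 𝒳.p.obj a = 𝒴.p.obj y := (F.w_obj a).symm.trans (congrArg 𝒴.p.obj ha)
  have hxb : 𝒳.p.obj b = 𝒴.p.obj y := (F.w_obj b).symm.trans (congrArg 𝒴.p.obj hb)
  have hiff := fun (z : 𝒳.obj) (φ : z ⟶ a) => push_iff_of_over F h𝒴 S φ ha hxa
  have hF : ∀ (z : 𝒳.obj) (φ : z ⟶ a) (h : S (F.map φ ≫ eqToHom ha)),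
      F.map (θ φ h) = F.map φ ≫ eqToHom ha ≫ eqToHom hb.symm := fun z φ h => by
    have : F.toFunctor.IsHomLift (F.map φ ≫ eqToHom ha) (θ φ h) := hθ φ h
    simpa using IsHomLift.fac' F.toFunctor (F.map φ ≫ eqToHom ha) (θ φ h)
  obtain ⟨k, ⟨hk, hkf⟩, hku⟩ := hMX hxa hxb (fun z φ h => θ φ ((hiff z φ).mp h))
    (fun z φ h => by
      have e := congrArg (fun t => eqToHom (F.w_obj z).symm ≫ 𝒴.p.map t)
        (hF z φ ((hiff z φ).mp h))
      simp [based_map F, eqToHom_map] at e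
      exact IsHomLift.of_fac' 𝒳.p _ _ rfl hxb (by
        rw [← cancel_mono (eqToHom (F.w_obj b).symm)]
        simpa using e))
    (fun z' z t φ h h' => hnat t φ _ _)
  have hFk : F.map k = eqToHom ha ≫ eqToHom hb.symm := by
    have hax : 𝒴.p.obj (F.obj a) = 𝒴.p.obj y := congrArg 𝒴.p.obj ha
    have hl : 𝒴.p.IsHomLift (𝟙 (𝒴.p.obj y)) (eqToHom ha ≫ eqToHom hb.symm) :=
      IsHomLift.of_fac' 𝒴.p _ _ hax (congrArg 𝒴.p.obj hb) (by simp [eqToHom_map])
    refine hom_ext_of_lifts h𝒴 hMY hax (𝟙 (𝒴.p.obj y)) _ _ fun V g hg => ?_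
    obtain ⟨z, φ, hφ⟩ := exists_lift' 𝒳.p h𝒳 hxa g
    have hz : 𝒳.p.obj z = V := IsHomLift.domain_eq 𝒳.p g φ
    have hS : S.functorPushforward 𝒴.p (𝒳.p.map φ ≫ eqToHom hxa) := by
      have := Sieve.downward_closed _ hg (eqToHom hz)
      simpa [IsHomLift.fac' 𝒳.p g φ] using this
    refine ⟨F.obj z, F.map φ, inferInstance, ?_⟩
    rw [← Functor.map_comp, hkf φ hS, hF z φ ((hiff z φ).mp hS)]
  refine ⟨k, ⟨IsHomLift.of_fac' F.toFunctor _ _ ha hb (by simpa using hFk),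
    fun z φ h => hkf φ ((hiff z φ).mpr h)⟩, fun k' ⟨hk', hk'f⟩ => hku k' ⟨?_, fun z φ h => ?_⟩⟩
  · have : F.toFunctor.IsHomLift (𝟙 y) k' := hk'
    have e := congrArg (fun t => 𝒴.p.map t) (IsHomLift.fac' F.toFunctor (𝟙 y) k')
    simp [based_map F, eqToHom_map] at e
    refine IsHomLift.of_fac' 𝒳.p _ _ hxa hxb ?_
    rw [← cancel_mono (eqToHom (F.w_obj b).symm), ← cancel_epi (eqToHom (F.w_obj a))]
    simp [e]
  · exact hk'f φ ((hiff z φ).mp h)

/-- An arrow in the sieve category of `S` over a prescribed arrow of the base. -/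
theorem exists_sieve_hom (h𝒴 : FibCat.IsFibGrpd 𝒴.p) {y : 𝒴.obj} {S : Sieve y}
    (s t : S.arrows.category) (g : 𝒴.p.obj s.obj.left ⟶ 𝒴.p.obj t.obj.left)
    (h : g ≫ 𝒴.p.map t.obj.hom = 𝒴.p.map s.obj.hom) :
    ∃ f : s ⟶ t, 𝒴.p.map f.hom.left = g := by
  obtain ⟨f, hf, hfe⟩ := ((isSC_iff 𝒴.p t.obj.hom).mp (h𝒴.isStronglyCartesian _) g s.obj.hom
    h.symm).exists
  exact ⟨ObjectProperty.homMk (Over.homMk f hfe), hf⟩

theorem sieve_hom_ext (h𝒴 : FibCat.IsFibGrpd 𝒴.p) {y : 𝒴.obj} {S : Sieve y}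
    {s t : S.arrows.category} (f g : s ⟶ t) (h : 𝒴.p.map f.hom.left = 𝒴.p.map g.hom.left) :
    f = g :=
  ObjectProperty.hom_ext _ <| Over.OverMorphism.ext <|
    sc_hom_ext 𝒴.p t.obj.hom (h𝒴.isStronglyCartesian _) h
      ((Over.w f.hom).trans (Over.w g.hom).symm)

theorem objGlue_over_base (hF : FibCat.IsFibGrpd F.toFunctor) (h𝒴 : FibCat.IsFibGrpd 𝒴.p)
    {y : 𝒴.obj} (S : Sieve y) (hOX : ObjGlue 𝒳 (S.functorPushforward 𝒴.p))
    (hMY : MorGlue 𝒴 (S.functorPushforward 𝒴.p)) :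
    ObjGlue (BasedCategory.ofFunctor F.toFunctor) S := by
  intro G
  let R := S.functorPushforward 𝒴.p
  have hl := fun a : R.arrows.category => exists_lift_arrow h𝒴 a.obj.hom
  choose w ψ hw he using hl
  have hS : ∀ a, S (ψ a) := fun a => by
    have := a.property
    rw [he a] at this
    exact (push_arrows_iff h𝒴 S (ψ a) (hw a)).mp this
  let o := fun a : R.arrows.category => sObj S (ψ a) (hS a)
  have hm : ∀ {a b : R.arrows.category} (f : a ⟶ b), ∃ m : o a ⟶ o b,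
      𝒴.p.map m.hom.left = eqToHom (hw a) ≫ f.hom.left ≫ eqToHom (hw b).symm := fun {a b} f =>
    exists_sieve_hom h𝒴 (o a) (o b) _ (by
      have := Over.w f.hom
      rw [he a, he b] at this
      simp [o, this])
  choose m hm using @hm
  let L : R.arrows.category ⥤ S.arrows.category :=
    { obj := o
      map := fun f => m f
      map_id := fun a => sieve_hom_ext h𝒴 _ _ (by simp [hm]; rfl)
      map_comp := fun f g => sieve_hom_ext h𝒴 _ _ (by simp [hm]) }
  have hG : ∀ t : S.arrows.category, F.obj (G.obj t) = t.obj.left := fun t => obj_sieve G t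
  have hGm : ∀ {s t : S.arrows.category} (j : s ⟶ t), F.map (G.map j) =
      eqToHom (hG s) ≫ j.hom.left ≫ eqToHom (hG t).symm := fun {s t} j => by
    have : F.toFunctor.IsHomLift j.hom.left (G.map j) := isHomLift_sieve_map G j
    exact IsHomLift.fac' F.toFunctor j.hom.left (G.map j)
  have hobj : ∀ a : R.arrows.category, 𝒳.p.obj (G.obj (o a)) = a.obj.left := fun a =>
    (F.w_obj _).symm.trans ((congrArg 𝒴.p.obj (hG (o a))).trans (hw a))
  let G' : Stk.sieveCat R ⥤ᵇ 𝒳 :=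
    { obj := fun a => G.obj (o a)
      map := fun f => G.map (L.map f)
      map_id := fun a => by
        erw [L.map_id, G.map_id]
      map_comp := fun f g => by
        erw [L.map_comp, G.map_comp]
      w := CategoryTheory.Functor.ext hobj fun a b f => by
        change 𝒳.p.map (G.map (m f)) = _ ≫ f.hom.left ≫ _
        have h1 := based_map F (G.map (m f))
        erw [hGm (m f)] at h1
        simp [eqToHom_map, hm] at h1
        rw [← cancel_mono (eqToHom (F.w_obj (G.obj (o b))).symm),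
          ← cancel_epi (eqToHom (F.w_obj (G.obj (o a))))]
        simp [h1] }
  obtain ⟨x, γ, hγ⟩ := hOX G'
  have hFG' : ∀ a, 𝒴.p.obj (F.obj (G'.obj a)) = a.obj.left := fun a =>
    (F.w_obj _).trans (hobj a)
  have hδ : IsGlue (BasedFunctor.comp G' F) y fun a => eqToHom (hG (o a)) ≫ ψ a :=
    { over := rfl
      lift := fun a => IsHomLift.of_fac' 𝒴.p _ _ (hFG' a) rfl (by simp [eqToHom_map, he a])
      nat := fun a b f => by
        change F.map (G.map (m f)) ≫ eqToHom (hG (o b)) ≫ ψ b = eqToHom (hG (o a)) ≫ ψ a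
        have := Over.w (m f).hom
        erw [hGm (m f)]
        simp [o] at this ⊢
        rw [this] }
  obtain ⟨k, hk, hkf⟩ := exists_glue_iso h𝒴 hMY (hγ.map F) hδ
  obtain ⟨x', τ, hτ⟩ := exists_lift' F.toFunctor hF rfl k.inv
  have : IsIso τ := isIso_of_fibGrpd F.toFunctor hF k.inv τ
  have hx' : F.obj x' = y := IsHomLift.domain_eq F.toFunctor k.inv τ
  have hτF : F.map τ = eqToHom hx' ≫ k.inv := by simpa using IsHomLift.fac' F.toFunctor k.inv τ
  have hinv : F.map (inv τ) = k.hom ≫ eqToHom hx'.symm := by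
    rw [Functor.map_inv]
    exact IsIso.inv_eq_of_hom_inv_id (by simp [hτF])
  have hι : ∀ s : S.arrows.category, ∃ (a : R.arrows.category) (ι : s ⟶ o a)
      (h : a.obj.left = 𝒴.p.obj s.obj.left),
      a.obj.hom = eqToHom h ≫ 𝒴.p.map s.obj.hom ∧
        𝒴.p.map ι.hom.left = eqToHom (h.symm.trans (hw a).symm) := fun s => by
    let a : R.arrows.category := sObj R (𝒴.p.map s.obj.hom)
      ((push_map_iff h𝒴 S s.obj.hom).mpr s.property)
    obtain ⟨ι, hι⟩ := exists_sieve_hom h𝒴 s (o a) (eqToHom (hw a).symm) (he a).symm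
    exact ⟨a, ι, rfl, by simp [a], by simpa using hι⟩
  choose a ι ha haeq hιeq using hι
  have hιψ : ∀ s, (ι s).hom.left ≫ ψ (a s) = s.obj.hom := fun s => Over.w (ι s).hom
  refine ⟨x', fun s => G.map (ι s) ≫ γ (a s) ≫ inv τ, ⟨hx', fun s => ?_, fun s t f => ?_⟩⟩
  · refine IsHomLift.of_fac' F.toFunctor _ _ (hG s) hx' ?_
    change F.map (G.map (ι s) ≫ γ (a s) ≫ inv τ) = _
    erw [Functor.map_comp, Functor.map_comp, hGm (ι s), hinv, ← Category.assoc (F.map (γ (a s))),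
      hkf]
    simp [o]
    erw [reassoc_of% (hιψ s)]
  · let j : a s ⟶ a t := sHom R (eqToHom (ha s) ≫ 𝒴.p.map f.hom.left ≫ eqToHom (ha t).symm) (by
      simp [haeq, ← Functor.map_comp, Over.w f.hom])
    have e : ι s ≫ L.map j = f ≫ ι t := sieve_hom_ext h𝒴 _ _ (by
      simp [L, hm, hιeq, j])
    change G.map f ≫ G.map (ι t) ≫ γ (a t) ≫ inv τ = _
    rw [← Category.assoc, ← G.map_comp, ← e, G.map_comp, Category.assoc]
    have h2 : G.map (L.map j) ≫ γ (a t) = γ (a s) := hγ.nat j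
    rw [← Category.assoc (G.map (L.map j)), h2]

end OverBase

end Groth.Agent.Fib44
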