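import Groth.Prelude.Def_StGerb
import Groth.Agent.Fib44.Post
import Groth.Agent.Fib44.Fp
import Groth.Agent.Fib44.StackBase

/-!
Gerbes over a site and over a stack: elementary permanence properties.
-/

set_option backward.isDefEq.respectTransparency false
set_option backward.isDefEq.respectTransparency.types false

universe v₅ u₅ v₄ u₄ v₃ u₃ v₂ u₂ v u

open CategoryTheory CategoryTheory.Functor

namespace Groth.Agent.Fib44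

variable {C : Type u} [Category.{v} C] (J : GrothendieckTopology C)

/-- `P` holds on the members of some covering sieve of `U`. -/
def OnCover (U : C) (P : ∀ ⦃V : C⦄, (V ⟶ U) → Prop) : Prop :=
  ∃ R ∈ J U, ∀ ⦃V : C⦄ (f : V ⟶ U), R f → P f

variable {J}

theorem OnCover.trans {U : C} {P Q : ∀ ⦃V : C⦄, (V ⟶ U) → Prop} (h : OnCover J U P)
    (h2 : ∀ ⦃V : C⦄ (f : V ⟶ U), P f → OnCover J V fun _ g => Q (g ≫ f)) : OnCover J U Q := by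
  obtain ⟨R, hR, hRP⟩ := h
  choose T hT hTQ using fun (V : C) (f : V ⟶ U) (hf : R f) => h2 f (hRP f hf)
  refine ⟨Sieve.bind R fun V f hf => T V f hf,
    J.bind_covering hR fun V f hf => hT V f hf, ?_⟩
  rintro W g ⟨Z, k, f, hf, hk, rfl⟩
  exact hTQ Z f hf k hk

theorem OnCover.mono {U : C} {P Q : ∀ ⦃V : C⦄, (V ⟶ U) → Prop} (h : OnCover J U P)
    (hPQ : ∀ ⦃V : C⦄ (f : V ⟶ U), P f → Q f) : OnCover J U Q :=
  let ⟨R, hR, hRP⟩ := h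
  ⟨R, hR, fun _ f hf => hPQ f (hRP f hf)⟩

theorem OnCover.of_forall {U : C} {P : ∀ ⦃V : C⦄, (V ⟶ U) → Prop}
    (h : ∀ ⦃V : C⦄ (f : V ⟶ U), P f) : OnCover J U P :=
  ⟨⊤, J.top_mem U, fun _ f _ => h f⟩

variable {𝒳 : BasedCategory.{v₂, u₂} C} {𝒴 : BasedCategory.{v₃, u₃} C}

theorem onCover_obj {F : 𝒳 ⥤ᵇ 𝒴} (hF : Gerb.LocSurjObj J F) (y : 𝒴.obj) {U : C}
    (hy : 𝒴.p.obj y = U) :
    OnCover J U fun _ f => ∃ (x : 𝒳.obj) (g : F.obj x ⟶ y), 𝒴.p.IsHomLift f g := by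
  subst hy
  exact hF y

theorem onCover_hom {F : 𝒳 ⥤ᵇ 𝒴} (hF : Gerb.LocSurjHom J F) (x x' : 𝒳.obj) {U : C}
    (hx : 𝒳.p.obj x = U) (b : F.obj x ⟶ F.obj x') (hb : 𝒴.p.IsHomLift (𝟙 U) b) :
    OnCover J U fun _ f => ∃ (x₀ : 𝒳.obj) (φ : x₀ ⟶ x) (ψ : x₀ ⟶ x'),
      𝒳.p.IsHomLift f φ ∧ 𝒳.p.IsHomLift f ψ ∧ F.map φ ≫ b = F.map ψ := by
  subst hx
  exact hF x x' b hb

/-- A morphism between images over any arrow of the base lifts, locally on its source. -/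
theorem onCover_lift (h𝒳 : FibCat.IsFibGrpd 𝒳.p) (h𝒴 : FibCat.IsFibGrpd 𝒴.p) {F : 𝒳 ⥤ᵇ 𝒴}
    (hF : Gerb.LocSurjHom J F) {a c : 𝒳.obj} {V U : C} (ha : 𝒳.p.obj a = V)
    (hc : 𝒳.p.obj c = U) (f : V ⟶ U) (m : F.obj a ⟶ F.obj c) (hm : 𝒴.p.IsHomLift f m) :
    OnCover J V fun _ k => ∃ (a' : 𝒳.obj) (α : a' ⟶ a) (β : a' ⟶ c),
      𝒳.p.IsHomLift k α ∧ 𝒳.p.IsHomLift (k ≫ f) β ∧ F.map α ≫ m = F.map β := by
  obtain ⟨c', θ, hθ⟩ := exists_lift' 𝒳.p h𝒳 hc f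
  have := based_isSC h𝒴 F f θ
  let b := IsCartesian.map 𝒴.p f (F.map θ) m
  have hb : b ≫ F.map θ = m := IsCartesian.fac 𝒴.p f (F.map θ) m
  refine (onCover_hom hF a c' ha b (IsCartesian.map_isHomLift 𝒴.p f (F.map θ) m)).mono ?_
  rintro W k ⟨a', α, β, hα, hβ, he⟩
  refine ⟨a', α, β ≫ θ, hα, inferInstance, ?_⟩
  rw [Functor.map_comp, ← he, Category.assoc, hb]

theorem isGerbeOver_comp {𝒵 : BasedCategory.{v₄, u₄} C} (h𝒳 : FibCat.IsFibGrpd 𝒳.p)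
    (h𝒴 : FibCat.IsFibGrpd 𝒴.p) {F : 𝒳 ⥤ᵇ 𝒴} {G : 𝒴 ⥤ᵇ 𝒵}
    (hF : Gerb.IsGerbeOver J F) (hG : Gerb.IsGerbeOver J G) :
    Gerb.IsGerbeOver J (BasedFunctor.comp F G) := by
  refine ⟨fun z => ?_, fun x x' b hb => ?_⟩
  · refine (onCover_obj hG.1 z rfl).trans ?_
    rintro V f ⟨y, g, hg⟩
    have hy : 𝒴.p.obj y = V := (G.w_obj y).symm.trans (IsHomLift.domain_eq 𝒵.p f g)
    refine (onCover_obj hF.1 y hy).mono ?_
    rintro W k ⟨x, h, hh⟩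
    exact ⟨x, G.map h ≫ g, inferInstance⟩
  · refine (onCover_hom hG.2 (F.obj x) (F.obj x') (F.w_obj x) b hb).trans ?_
    rintro V f ⟨y, φ, ψ, hφ, hψ, he⟩
    have hy : 𝒴.p.obj y = V := IsHomLift.domain_eq 𝒴.p f φ
    refine (onCover_obj hF.1 y hy).trans ?_
    rintro W k ⟨x₁, g, hg⟩
    have hx₁ : 𝒳.p.obj x₁ = W := (F.w_obj x₁).symm.trans (IsHomLift.domain_eq 𝒴.p k g)
    refine (onCover_lift h𝒳 h𝒴 hF.2 hx₁ rfl (k ≫ f) (g ≫ φ) inferInstance).trans ?_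
    rintro W₂ l ⟨a, α, β, hα, hβ, hαβ⟩
    have ha : 𝒳.p.obj a = W₂ := IsHomLift.domain_eq 𝒳.p l α
    have hx' : 𝒳.p.obj x' = 𝒳.p.obj x :=
      (F.w_obj x').symm.trans (IsHomLift.codomain_eq 𝒴.p f ψ)
    refine (onCover_lift h𝒳 h𝒴 hF.2 ha hx' (l ≫ k ≫ f) (F.map α ≫ g ≫ ψ) inferInstance).mono ?_
    rintro W₃ n ⟨a', γ, δ, hγ, hδ, hγδ⟩
    have h₁ : 𝒳.p.IsHomLift (n ≫ l ≫ k ≫ f) (γ ≫ β) := inferInstance
    refine ⟨a', γ ≫ β, δ, by simpa only [Category.assoc] using h₁,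
      by simpa only [Category.assoc] using hδ, ?_⟩
    change G.map (F.map (γ ≫ β)) ≫ b = G.map (F.map δ)
    rw [Functor.map_comp, ← hαβ, ← hγδ]
    simp only [Functor.map_comp, Category.assoc, he]

section Square

variable {𝒳' : BasedCategory.{v₄, u₄} C} {𝒴' : BasedCategory.{v₅, u₅} C}
variable {F : 𝒳 ⥤ᵇ 𝒴} {G : 𝒴' ⥤ᵇ 𝒴} {F' : 𝒳' ⥤ᵇ 𝒴'} {G' : 𝒳' ⥤ᵇ 𝒳}
  {e : BasedFunctor.comp F' G ≅ BasedFunctor.comp G' F}

theorem isGerbeOver_baseChange (h𝒳 : FibCat.IsFibGrpd 𝒳.p) (h𝒴 : FibCat.IsFibGrpd 𝒴.p)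
    (h𝒳' : FibCat.IsFibGrpd 𝒳'.p) (h𝒴' : FibCat.IsFibGrpd 𝒴'.p)
    (hc : FibCat.IsTwoCartOver F' G' e) (hF : Gerb.IsGerbeOver J F) :
    Gerb.IsGerbeOver J F' := by
  have hfull := full_of_isEquivOver hc
  refine ⟨fun y' => ?_, fun x₁ x₂ b hb => ?_⟩
  · refine (onCover_obj hF.1 (G.obj y') (G.w_obj y')).mono ?_
    rintro V f ⟨x, g, hg⟩
    obtain ⟨y'', φ, hφ⟩ := exists_lift' 𝒴'.p h𝒴' rfl f
    have hy : 𝒴'.p.obj y'' = V := IsHomLift.domain_eq 𝒴'.p f φ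
    have := based_isSC h𝒴 G f φ
    let i := IsCartesian.map 𝒴.p f (G.map φ) g
    have hi : 𝒴.p.IsHomLift (𝟙 V) i := IsCartesian.map_isHomLift 𝒴.p f (G.map φ) g
    have := isIso_of_fibGrpd 𝒴.p h𝒴 (𝟙 V) i
    let w : (FibCat.fp G F).obj := fpMk y'' x (asIso i).symm (by
      refine lift_id_of_eq 𝒴.p hy.symm ?_
      rw [Iso.symm_hom, asIso_inv]
      infer_instance)
    obtain ⟨x', ε, hε⟩ := essSurjOver_of_isEquivOver hc w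
    have hε' : 𝒴'.p.IsHomLift (𝟙 (𝒴'.p.obj y'')) ε.hom.hom.fst :=
      (fp_isHomLift_iff _ _).mp hε
    have := lift_id_of_eq 𝒴'.p hy hε'
    exact ⟨x', (ε.hom.hom.fst : F'.obj x' ⟶ y'') ≫ φ, inferInstance⟩
  · have hx₂ : 𝒳'.p.obj x₂ = 𝒳'.p.obj x₁ :=
      (F'.w_obj x₂).symm.trans (IsHomLift.codomain_eq 𝒴'.p (𝟙 (𝒳'.p.obj x₁)) b)
    let m : F.obj (G'.obj x₁) ⟶ F.obj (G'.obj x₂) :=
      e.inv.toNatTrans.app x₁ ≫ G.map b ≫ e.hom.toNatTrans.app x₂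
    have hm : 𝒴.p.IsHomLift (𝟙 (𝒳'.p.obj x₁)) m := by
      have := e.inv.isHomLift' x₁
      have := lift_id_of_eq 𝒴.p hx₂ (e.hom.isHomLift' x₂)
      infer_instance
    refine (onCover_hom hF.2 _ _ (G'.w_obj x₁) m hm).mono ?_
    rintro V f ⟨x₀, φ, ψ, hφ, hψ, he⟩
    obtain ⟨x₁', θ, hθ⟩ := exists_lift' 𝒳'.p h𝒳' rfl f
    have := based_isSC h𝒳 G' f θ
    let i := IsCartesian.map 𝒳.p f (G'.map θ) φ
    have hi : 𝒳.p.IsHomLift (𝟙 V) i := IsCartesian.map_isHomLift 𝒳.p f (G'.map θ) φ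
    have hiφ : i ≫ G'.map θ = φ := IsCartesian.fac 𝒳.p f (G'.map θ) φ
    have := isIso_of_fibGrpd 𝒳.p h𝒳 (𝟙 V) i
    have hnat : G.map (F'.map θ) ≫ e.hom.toNatTrans.app x₁ =
        e.hom.toNatTrans.app x₁' ≫ F.map (G'.map θ) := e.hom.toNatTrans.naturality θ
    have hid : e.hom.toNatTrans.app x₁ ≫ e.inv.toNatTrans.app x₁ = 𝟙 _ :=
      (isoApp e x₁).hom_inv_id
    have hw : G.map (F'.map θ ≫ b) ≫ e.hom.toNatTrans.app x₂ =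
        e.hom.toNatTrans.app x₁' ≫ F.map (inv i ≫ ψ) := by
      rw [← cancel_epi (e.inv.toNatTrans.app x₁')] at *
      have h1 : inv i ≫ φ = G'.map θ := by rw [← hiφ]; simp
      rw [Functor.map_comp F.toFunctor, ← he, ← Functor.map_comp_assoc, h1]
      have hinv : e.inv.toNatTrans.app x₁' ≫ e.hom.toNatTrans.app x₁' = 𝟙 _ :=
        (isoApp e x₁').inv_hom_id
      rw [← Category.assoc (e.inv.toNatTrans.app x₁') (e.hom.toNatTrans.app x₁'), hinv,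
        Category.id_comp] at hnat ⊢
      rw [← hnat, Functor.map_comp]
      simp [m, reassoc_of% hid]
    let χ : (FibCat.fpLift F' G' e).obj x₁' ⟶ (FibCat.fpLift F' G' e).obj x₂ :=
      fpHom (F'.map θ ≫ b) (inv i ≫ ψ) hw
    refine ⟨x₁', θ, (FibCat.fpLift F' G' e).toFunctor.preimage χ, hθ, ?_, ?_⟩
    · rw [← BasedFunctor.isHomLift_iff (FibCat.fpLift F' G' e), Functor.map_preimage,
        fp_isHomLift_iff]
      change 𝒴'.p.IsHomLift f (F'.map θ ≫ b)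
      infer_instance
    · have := congrArg (fun t => t.hom.fst)
        ((FibCat.fpLift F' G' e).toFunctor.map_preimage χ)
      exact this.symm

theorem isGerbeOver_descent (h𝒳 : FibCat.IsFibGrpd 𝒳.p) (h𝒴 : FibCat.IsFibGrpd 𝒴.p)
    (hc : FibCat.IsTwoCartOver F' G' e) (hG : Gerb.LocSurjObj J G)
    (hF : Gerb.IsGerbeOver J F') : Gerb.IsGerbeOver J F := by
  refine ⟨fun y => ?_, fun x₁ x₂ b hb => ?_⟩
  · refine (onCover_obj hG y rfl).trans ?_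
    rintro V f ⟨y', g, hg⟩
    have hy' : 𝒴'.p.obj y' = V := (G.w_obj y').symm.trans (IsHomLift.domain_eq 𝒴.p f g)
    refine (onCover_obj hF.1 y' hy').mono ?_
    rintro W k ⟨x', g', hg'⟩
    have hx' : 𝒳'.p.obj x' = W := (F'.w_obj x').symm.trans (IsHomLift.domain_eq 𝒴'.p k g')
    have := lift_id_of_eq 𝒴.p hx' (e.inv.isHomLift' x')
    refine ⟨G'.obj x', (e.inv.toNatTrans.app x' : F.obj (G'.obj x') ⟶ G.obj (F'.obj x')) ≫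
      G.map g' ≫ g, inferInstance⟩
  · refine (onCover_obj hG (F.obj x₁) (F.w_obj x₁)).trans ?_
    rintro V f ⟨y', g, hg⟩
    have hy' : 𝒴'.p.obj y' = V := (G.w_obj y').symm.trans (IsHomLift.domain_eq 𝒴.p f g)
    have hx₂ : 𝒳.p.obj x₂ = 𝒳.p.obj x₁ :=
      (F.w_obj x₂).symm.trans (IsHomLift.codomain_eq 𝒴.p (𝟙 (𝒳.p.obj x₁)) b)
    have key : ∀ (x : 𝒳.obj), 𝒳.p.obj x = 𝒳.p.obj x₁ → ∀ (m : G.obj y' ⟶ F.obj x),
        𝒴.p.IsHomLift f m → ∃ (w : 𝒳'.obj) (d : F'.obj w ≅ y') (s : G'.obj w ⟶ x),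
          𝒳'.p.obj w = V ∧ 𝒴'.p.IsHomLift (𝟙 V) d.hom ∧ 𝒳.p.IsHomLift f s ∧
          F.map s = e.inv.toNatTrans.app w ≫ G.map d.hom ≫ m := fun x hx m hm => by
      obtain ⟨xf, θ, hθ⟩ := exists_lift' 𝒳.p h𝒳 hx f
      have := based_isSC h𝒴 F f θ
      let γ := IsCartesian.map 𝒴.p f (F.map θ) m
      have hγ : 𝒴.p.IsHomLift (𝟙 V) γ := IsCartesian.map_isHomLift 𝒴.p f (F.map θ) m
      have := isIso_of_fibGrpd 𝒴.p h𝒴 (𝟙 V) γ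
      let o : (FibCat.fp G F).obj := fpMk y' xf (asIso γ) (lift_id_of_eq 𝒴.p hy'.symm hγ)
      obtain ⟨w, ε, hε⟩ := essSurjOver_of_isEquivOver hc o
      have hεl := lift_id_of_eq (FibCat.fp G F).p hy' hε
      have h1 : 𝒴'.p.IsHomLift (𝟙 V) ε.hom.hom.fst := (fp_isHomLift_iff _ _).mp hεl
      have h2 : 𝒳.p.IsHomLift (𝟙 V) ε.hom.hom.snd := fp_isHomLift_snd (𝟙 V) ε.hom
      refine ⟨w, (FibCat.fpFst G F).toFunctor.mapIso ε, (ε.hom.hom.snd : G'.obj w ⟶ xf) ≫ θ,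
        (F'.w_obj w).symm.trans (IsHomLift.domain_eq 𝒴'.p (𝟙 V) ε.hom.hom.fst), h1,
        inferInstance, ?_⟩
      have hid : e.inv.toNatTrans.app w ≫ e.hom.toNatTrans.app w = 𝟙 _ :=
        (isoApp e w).inv_hom_id
      have hw : G.map ε.hom.hom.fst ≫ γ = e.hom.toNatTrans.app w ≫ F.map ε.hom.hom.snd :=
        fp_w ε.hom
      change F.map (ε.hom.hom.snd ≫ θ) = e.inv.toNatTrans.app w ≫ G.map ε.hom.hom.fst ≫ m
      rw [← IsCartesian.fac 𝒴.p f (F.map θ) m, reassoc_of% hw, reassoc_of% hid, Functor.map_comp]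
    obtain ⟨w₁, d₁, s₁, hw₁, hd₁, hs₁, he₁⟩ := key x₁ rfl g hg
    obtain ⟨w₂, d₂, s₂, hw₂, hd₂, hs₂, he₂⟩ := key x₂ hx₂ (g ≫ b) inferInstance
    refine (onCover_hom hF.2 w₁ w₂ hw₁ (d₁.hom ≫ d₂.inv) inferInstance).mono ?_
    rintro W k ⟨w₀, α, β, hα, hβ, hαβ⟩
    have hαβ' : F'.map α ≫ d₁.hom = F'.map β ≫ d₂.hom := by simp [← hαβ]
    refine ⟨G'.obj w₀, G'.map α ≫ s₁, G'.map β ≫ s₂, inferInstance, inferInstance, ?_⟩
    have hna : F.map (G'.map α) ≫ e.inv.toNatTrans.app w₁ =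
        e.inv.toNatTrans.app w₀ ≫ G.map (F'.map α) := e.inv.toNatTrans.naturality α
    have hnb : F.map (G'.map β) ≫ e.inv.toNatTrans.app w₂ =
        e.inv.toNatTrans.app w₀ ≫ G.map (F'.map β) := e.inv.toNatTrans.naturality β
    rw [Functor.map_comp, Functor.map_comp, he₁, he₂]
    simp only [Category.assoc]
    rw [reassoc_of% hna, reassoc_of% hnb, ← Functor.map_comp_assoc, hαβ', Functor.map_comp_assoc]

end Square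

section Absolute

theorem locSurjObj_toSelf_iff : Gerb.LocSurjObj J (FibCat.toSelf 𝒳) ↔
    ∀ U : C, OnCover J U fun V _ => ∃ x : 𝒳.obj, 𝒳.p.obj x = V := by
  constructor
  · intro h U
    refine (onCover_obj h (U : (FibCat.selfOver C).obj) rfl).mono ?_
    rintro V f ⟨x, g, hg⟩
    exact ⟨x, IsHomLift.domain_eq (FibCat.selfOver C).p f g⟩
  · intro h U
    refine (h U).mono ?_
    rintro V f ⟨x, hx⟩
    exact ⟨x, (eqToHom hx ≫ f : 𝒳.p.obj x ⟶ _), IsHomLift.of_fac' _ _ _ hx rfl (by simp; rfl)⟩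

theorem locSurjHom_toSelf_iff : Gerb.LocSurjHom J (FibCat.toSelf 𝒳) ↔
    ∀ (x x' : 𝒳.obj), 𝒳.p.obj x' = 𝒳.p.obj x → OnCover J (𝒳.p.obj x) fun _ f =>
      ∃ (x₀ : 𝒳.obj) (φ : x₀ ⟶ x) (ψ : x₀ ⟶ x'), 𝒳.p.IsHomLift f φ ∧ 𝒳.p.IsHomLift f ψ := by
  constructor
  · intro h x x' hx
    refine (onCover_hom h x x' rfl (eqToHom hx.symm)
      (IsHomLift.of_fac' _ _ _ rfl hx (by simp; rfl))).mono ?_
    rintro V f ⟨x₀, φ, ψ, hφ, hψ, -⟩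
    exact ⟨x₀, φ, ψ, hφ, hψ⟩
  · intro h x x' b hb
    have hx : 𝒳.p.obj x' = 𝒳.p.obj x :=
      IsHomLift.codomain_eq (FibCat.selfOver C).p (𝟙 (𝒳.p.obj x)) b
    refine (h x x' hx).mono ?_
    rintro V f ⟨x₀, φ, ψ, hφ, hψ⟩
    refine ⟨x₀, φ, ψ, hφ, hψ, ?_⟩
    change 𝒳.p.map φ ≫ b = 𝒳.p.map ψ
    have e1 : b = eqToHom hx.symm := by
      exact (IsHomLift.fac' (FibCat.selfOver C).p (𝟙 (𝒳.p.obj x)) b).trans (by simp)
    subst e1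
    simp [IsHomLift.fac' 𝒳.p f φ, IsHomLift.fac' 𝒳.p f ψ]

theorem isGerbe_of_isEquivOver {F : 𝒳 ⥤ᵇ 𝒴} (hF : FibCat.IsEquivOver F) (h : Gerb.IsGerbe J 𝒳) :
    Gerb.IsGerbe J 𝒴 := by
  obtain ⟨hs, ho, hh⟩ := h
  refine ⟨(isStack_iff_of_isEquivOver hF J).mp hs, locSurjObj_toSelf_iff.mpr fun U => ?_,
    locSurjHom_toSelf_iff.mpr fun y y' hy => ?_⟩
  · refine (locSurjObj_toSelf_iff.mp ho U).mono ?_
    rintro V f ⟨x, hx⟩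
    exact ⟨F.obj x, (F.w_obj x).trans hx⟩
  · obtain ⟨ξ, ε, hε⟩ := essSurjOver_of_isEquivOver hF y
    obtain ⟨ξ', ε', hε'⟩ := essSurjOver_of_isEquivOver hF y'
    have h1 : 𝒳.p.obj ξ = 𝒴.p.obj y := EssSurjOver.lift_eq ε
    have h2 : 𝒳.p.obj ξ' = 𝒴.p.obj y := (EssSurjOver.lift_eq ε').trans hy
    have h0 := locSurjHom_toSelf_iff.mp hh ξ ξ' (h2.trans h1.symm)
    rw [h1] at h0
    refine h0.mono ?_
    rintro V f ⟨x₀, φ, ψ, hφ, hψ⟩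
    have := lift_id_of_eq 𝒴.p hy hε'
    exact ⟨F.obj x₀, F.map φ ≫ ε.hom, F.map ψ ≫ ε'.hom, inferInstance, inferInstance⟩

end Absolute

section OverStack

variable {𝒳' : BasedCategory.{v₂, u₂} C}

theorem isGerbe_over_base (h𝒳 : Stk.IsStack J 𝒳) (h𝒴 : Stk.IsStack J 𝒴) {F : 𝒳 ⥤ᵇ 𝒴}
    (hF : Gerb.IsGerbeOver J F) (a : 𝒳 ⥤ᵇ 𝒳') (ha : FibCat.IsEquivOver a) (F' : 𝒳' ⥤ᵇ 𝒴)
    (hF' : FibCat.IsFibGrpd F'.toFunctor) (hfac : BasedFunctor.comp a F' = F) :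
    Gerb.IsGerbe (𝒴.p.restrictedTopology J) (BasedCategory.ofFunctor F'.toFunctor) := by
  subst hfac
  have h𝒳' : Stk.IsStack J 𝒳' := (isStack_iff_of_isEquivOver ha J).mp h𝒳
  refine ⟨isStack_iff.mpr ⟨hF', fun y S hS => ?_⟩, locSurjObj_toSelf_iff.mpr fun y => ?_,
    locSurjHom_toSelf_iff.mpr fun x₁ x₂ hx => ?_⟩
  · rw [mem_restricted_iff h𝒴.1] at hS
    have hX := (isStack_iff.mp h𝒳').2 _ hS
    have hY := (isStack_iff.mp h𝒴).2 _ hS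
    exact ⟨morGlue_over_base F' h𝒳'.1 h𝒴.1 S hX.1 hY.1,
      objGlue_over_base F' hF' h𝒴.1 S hX.2 hY.1⟩
  · let T : Sieve y :=
      { arrows := fun y₁ _ => ∃ x : 𝒳'.obj, F'.obj x = y₁
        downward_closed := by
          rintro y₁ y₂ h ⟨x, hx⟩ k
          obtain ⟨x', φ, hφ⟩ := exists_lift' F'.toFunctor hF' hx k
          exact ⟨x', IsHomLift.domain_eq F'.toFunctor k φ⟩ }
    refine ⟨T, ?_, fun y₁ h hh => hh⟩
    rw [mem_restricted_iff h𝒴.1]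
    obtain ⟨R, hR, hRP⟩ := hF.1 y
    refine J.superset_covering ?_ hR
    intro V f hf
    obtain ⟨x, g, hg⟩ := hRP f hf
    exact ⟨_, g, eqToHom (IsHomLift.domain_eq 𝒴.p f g).symm, ⟨a.obj x, rfl⟩,
      by simp [IsHomLift.fac' 𝒴.p f g]⟩
  · change F'.obj x₂ = F'.obj x₁ at hx
    let T : Sieve (F'.obj x₁) :=
      { arrows := fun y₁ h => ∃ (x₀ : 𝒳'.obj) (φ : x₀ ⟶ x₁) (ψ : x₀ ⟶ x₂),
          F'.toFunctor.IsHomLift h φ ∧ F'.toFunctor.IsHomLift h ψ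
        downward_closed := by
          rintro y₁ y₂ h ⟨x₀, φ, ψ, hφ, hψ⟩ k
          obtain ⟨x₀', θ, hθ⟩ :=
            exists_lift' F'.toFunctor hF' (IsHomLift.domain_eq F'.toFunctor h φ) k
          exact ⟨x₀', θ ≫ φ, θ ≫ ψ, inferInstance, inferInstance⟩ }
    refine ⟨T, ?_, fun y₁ h hh => hh⟩
    change T ∈ 𝒴.p.restrictedTopology J (F'.obj x₁)
    rw [mem_restricted_iff h𝒴.1]
    obtain ⟨ξ₁, ε₁, hε₁⟩ := essSurjOver_of_isEquivOver ha x₁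
    obtain ⟨ξ₂, ε₂, hε₂⟩ := essSurjOver_of_isEquivOver ha x₂
    let U := 𝒴.p.obj (F'.obj x₁)
    have h1 : 𝒳'.p.obj x₁ = U := (F'.w_obj x₁).symm
    have h2 : 𝒳'.p.obj x₂ = U := ((F'.w_obj x₂).symm).trans (congrArg 𝒴.p.obj hx)
    have hl₁ := lift_id_of_eq 𝒳'.p h1 hε₁
    have hl₂ := lift_id_of_eq 𝒳'.p h2 hε₂
    have hξ₁ : 𝒳.p.obj ξ₁ = U := (EssSurjOver.lift_eq ε₁).trans h1
    let b : (BasedFunctor.comp a F').obj ξ₁ ⟶ (BasedFunctor.comp a F').obj ξ₂ :=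
      F'.map ε₁.hom ≫ eqToHom hx.symm ≫ F'.map ε₂.inv
    obtain ⟨R, hR, hRP⟩ := onCover_hom hF.2 ξ₁ ξ₂ hξ₁ b inferInstance
    refine J.superset_covering ?_ hR
    intro V f hf
    obtain ⟨ξ₀, φ, ψ, hφ, hψ, he⟩ := hRP f hf
    have hb : 𝒴.p.IsHomLift f (F'.map (a.map φ ≫ ε₁.hom)) := inferInstance
    refine ⟨F'.obj (a.obj ξ₀), F'.map (a.map φ ≫ ε₁.hom),
      eqToHom (IsHomLift.domain_eq 𝒴.p f (F'.map (a.map φ ≫ ε₁.hom))).symm,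
      ⟨a.obj ξ₀, a.map φ ≫ ε₁.hom, a.map ψ ≫ ε₂.hom, inferInstance, ?_⟩,
      by rw [IsHomLift.fac' 𝒴.p f (F'.map (a.map φ ≫ ε₁.hom))]; simp⟩
    refine IsHomLift.of_fac' _ _ _ rfl hx ?_
    change F'.map (a.map φ) ≫ b = F'.map (a.map ψ) at he
    simp [b, Functor.map_comp, ← he]

end OverStack

end Groth.Agent.Fib44
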