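import Mathlib.CategoryTheory.Sites.Whiskering
import Mathlib.Algebra.Category.Grp.Limits
import Groth.Agent.Fib44.Gerbe

/-!
The band of a gerbe with commutative automorphism groups: the sheaf of natural families of
automorphisms.
-/

set_option backward.isDefEq.respectTransparency false
set_option backward.isDefEq.respectTransparency.types false

universe v u

open CategoryTheory CategoryTheory.Functor Opposite

namespace Groth.Agent.Fib44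

variable {C : Type u} [Category.{v} C] {J : GrothendieckTopology C}
variable {𝒮 : BasedCategory.{v, max u v} C}

/-- The underlying morphism of an automorphism over the identity. -/
abbrev autHom {x : 𝒮.obj} (α : Gerb.AutO x) : x ⟶ x := α.hom.1

theorem autO_ext {x : 𝒮.obj} {α β : Gerb.AutO x} (h : autHom α = autHom β) : α = β :=
  Iso.ext (Subtype.ext h)

theorem autHom_mul {x : 𝒮.obj} (α β : Gerb.AutO x) : autHom (α * β) = autHom β ≫ autHom α := rfl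

theorem autHom_one (x : 𝒮.obj) : autHom (1 : Gerb.AutO x) = 𝟙 x := rfl

theorem autHom_map {x : 𝒮.obj} (α : Gerb.AutO x) : 𝒮.p.map (autHom α) = 𝟙 (𝒮.p.obj x) := by
  have : 𝒮.p.IsHomLift (𝟙 (𝒮.p.obj x)) (autHom α) := α.hom.2
  simpa using IsHomLift.fac' 𝒮.p (𝟙 (𝒮.p.obj x)) (autHom α)

theorem autHom_lift {x : 𝒮.obj} (α : Gerb.AutO x) :
    𝒮.p.IsHomLift (𝟙 (𝒮.p.obj x)) (autHom α) := α.hom.2

theorem exists_autO (hg : FibCat.IsFibGrpd 𝒮.p) {x : 𝒮.obj} (k : x ⟶ x)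
    (hk : 𝒮.p.IsHomLift (𝟙 (𝒮.p.obj x)) k) : ∃ α : Gerb.AutO x, autHom α = k := by
  have := isIso_of_fibGrpd 𝒮.p hg (𝟙 (𝒮.p.obj x)) k
  let a : Gerb.fib x ⟶ Gerb.fib x := ⟨k, hk⟩
  have : IsIso a.1 := inferInstanceAs (IsIso k)
  have := isIso_fiber_of_isIso 𝒮.p a
  exact ⟨asIso a, rfl⟩

/-- `β` is the restriction of `α` along `ψ`. -/
def IsRes {x z : 𝒮.obj} (ψ : z ⟶ x) (α : Gerb.AutO x) (β : Gerb.AutO z) : Prop :=
  autHom β ≫ ψ = ψ ≫ autHom α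

theorem exists_res (hg : FibCat.IsFibGrpd 𝒮.p) {x z : 𝒮.obj} (ψ : z ⟶ x) (α : Gerb.AutO x) :
    ∃ β : Gerb.AutO z, IsRes ψ α β := by
  obtain ⟨χ, hχ, hχf⟩ := ((isSC_iff 𝒮.p ψ).mp (hg.isStronglyCartesian ψ) (𝟙 _) (ψ ≫ autHom α)
    (by simp [autHom_map])).exists
  obtain ⟨β, hβ⟩ := exists_autO hg χ ((isHomLift_iff_map_eq 𝒮.p _ χ).mpr hχ)
  exact ⟨β, by rw [IsRes, hβ, hχf]⟩

theorem IsRes.unique (hg : FibCat.IsFibGrpd 𝒮.p) {x z : 𝒮.obj} {ψ : z ⟶ x} {α : Gerb.AutO x}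
    {β β' : Gerb.AutO z} (h : IsRes ψ α β) (h' : IsRes ψ α β') : β = β' :=
  autO_ext <| sc_hom_ext 𝒮.p ψ (hg.isStronglyCartesian ψ) ((autHom_map β).trans (autHom_map β').symm)
    (h.trans h'.symm)

theorem IsRes.comp {x z w : 𝒮.obj} {ψ : z ⟶ x} {φ : w ⟶ z} {α : Gerb.AutO x} {β : Gerb.AutO z}
    {γ : Gerb.AutO w} (h : IsRes ψ α β) (h' : IsRes φ β γ) : IsRes (φ ≫ ψ) α γ := by
  unfold IsRes at *
  rw [reassoc_of% h', h, Category.assoc]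

theorem IsRes.mul {x z : 𝒮.obj} {ψ : z ⟶ x} {α α' : Gerb.AutO x} {β β' : Gerb.AutO z}
    (h : IsRes ψ α β) (h' : IsRes ψ α' β') : IsRes ψ (α * α') (β * β') := by
  unfold IsRes at *
  rw [autHom_mul, autHom_mul, Category.assoc, h, reassoc_of% h']

theorem IsRes.inv {x z : 𝒮.obj} {ψ : z ⟶ x} {α : Gerb.AutO x} {β : Gerb.AutO z}
    (h : IsRes ψ α β) : IsRes ψ α⁻¹ β⁻¹ := by
  unfold IsRes at *
  have h1 : autHom α ≫ autHom α⁻¹ = 𝟙 x := by rw [← autHom_mul, inv_mul_cancel, autHom_one]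
  have h2 : autHom β⁻¹ ≫ autHom β = 𝟙 z := by rw [← autHom_mul, mul_inv_cancel, autHom_one]
  calc autHom β⁻¹ ≫ ψ = autHom β⁻¹ ≫ ψ ≫ autHom α ≫ autHom α⁻¹ := by rw [h1]; simp
    _ = (autHom β⁻¹ ≫ autHom β) ≫ ψ ≫ autHom α⁻¹ := by rw [← reassoc_of% h]; simp
    _ = ψ ≫ autHom α⁻¹ := by rw [h2]; simp

theorem isRes_one {x z : 𝒮.obj} (ψ : z ⟶ x) : IsRes ψ 1 1 := by
  simp [IsRes, autHom_one]

/-- Restriction only depends on the arrow of the base when automorphisms commute. -/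
theorem IsRes.of_map_eq (hg : FibCat.IsFibGrpd 𝒮.p)
    (hcomm : ∀ (x : 𝒮.obj) (α β : Gerb.AutO x), α * β = β * α) {x z : 𝒮.obj} {ψ ψ' : z ⟶ x}
    {α : Gerb.AutO x} {β : Gerb.AutO z} (h : IsRes ψ α β) (he : 𝒮.p.map ψ' = 𝒮.p.map ψ) :
    IsRes ψ' α β := by
  obtain ⟨χ, hχ, hχf⟩ := ((isSC_iff 𝒮.p ψ).mp (hg.isStronglyCartesian ψ) (𝟙 _) ψ'
    (by simp [he])).exists
  obtain ⟨γ, hγ⟩ := exists_autO hg χ ((isHomLift_iff_map_eq 𝒮.p _ χ).mpr hχ)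
  have hc : autHom β ≫ autHom γ = autHom γ ≫ autHom β := by
    rw [← autHom_mul, ← autHom_mul, hcomm]
  unfold IsRes at *
  rw [← hχf, ← hγ, reassoc_of% hc, h, Category.assoc]

/-- Automorphisms given on the members of a covering sieve glue uniquely. -/
theorem glue_autO (hS : Stk.IsStack J 𝒮) (x : 𝒮.obj) (T : Sieve (𝒮.p.obj x))
    (hT : T ∈ J (𝒮.p.obj x))
    (e : ∀ ⦃z : 𝒮.obj⦄ (φ : z ⟶ x), T (𝒮.p.map φ) → Gerb.AutO z)
    (he : ∀ ⦃z' z : 𝒮.obj⦄ (t : z' ⟶ z) (φ : z ⟶ x) (h : T (𝒮.p.map φ))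
      (h' : T (𝒮.p.map (t ≫ φ))), IsRes t (e φ h) (e (t ≫ φ) h')) :
    ∃! β : Gerb.AutO x, ∀ ⦃z : 𝒮.obj⦄ (φ : z ⟶ x) (h : T (𝒮.p.map φ)), IsRes φ β (e φ h) := by
  have hM := ((isStack_iff.mp hS).2 T hT).1
  have hT' : ∀ {z : 𝒮.obj} (φ : z ⟶ x), T (𝒮.p.map φ ≫ eqToHom rfl) → T (𝒮.p.map φ) :=
    fun φ h => by simpa using h
  obtain ⟨k, ⟨hk, hkf⟩, hu⟩ := hM (x := x) (y := x) rfl rfl
    (fun z φ h => autHom (e φ (hT' φ h)) ≫ φ)
    (fun z φ h => by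
      have := autHom_lift (e φ (hT' φ h))
      rw [eqToHom_refl, Category.comp_id]
      infer_instance)
    (fun z' z t φ h h' => by
      have := he t φ (hT' φ h) (hT' _ h')
      unfold IsRes at this
      rw [reassoc_of% this])
  obtain ⟨β, hβ⟩ := exists_autO hS.1 k hk
  refine ⟨β, fun z φ h => ?_, fun β' hβ' => autO_ext ?_⟩
  · rw [IsRes, hβ, hkf φ (by simpa using h)]
  · rw [hβ]
    exact hu _ ⟨autHom_lift β', fun z φ h => (hβ' φ (hT' φ h)).symm⟩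

/-- Families of automorphisms of the objects over `U`, natural in the object. -/
def bandGrp (U : C) : Subgroup (∀ x : 𝒮.obj, (𝒮.p.obj x ⟶ U) → Gerb.AutO x) where
  carrier := {σ | ∀ ⦃x' x : 𝒮.obj⦄ (φ : x' ⟶ x) (h : 𝒮.p.obj x ⟶ U),
    IsRes φ (σ x h) (σ x' (𝒮.p.map φ ≫ h))}
  one_mem' _ _ φ _ := isRes_one φ
  mul_mem' hs ht _ _ φ h := (hs φ h).mul (ht φ h)
  inv_mem' hs _ _ φ h := (hs φ h).inv

variable (𝒮) in
/-- The presheaf of natural families of automorphisms. -/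
def bandPsh : Cᵒᵖ ⥤ GrpCat.{max u v} where
  obj U := GrpCat.of (bandGrp (𝒮 := 𝒮) U.unop)
  map {U V} k := GrpCat.ofHom
    { toFun := fun σ => ⟨fun x h => σ.1 x (h ≫ k.unop), fun x' x φ h => by
        simpa using σ.2 φ (h ≫ k.unop)⟩
      map_one' := rfl
      map_mul' := fun _ _ => rfl }
  map_id U := by
    refine GrpCat.hom_ext (MonoidHom.ext fun σ => Subtype.ext (funext fun x => funext fun h => ?_))
    change σ.1 x (h ≫ 𝟙 U.unop) = σ.1 x h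
    rw [Category.comp_id]
  map_comp {U V W} k l := by
    refine GrpCat.hom_ext (MonoidHom.ext fun σ => Subtype.ext (funext fun x => funext fun h => ?_))
    change σ.1 x (h ≫ l.unop ≫ k.unop) = σ.1 x ((h ≫ l.unop) ≫ k.unop)
    rw [Category.assoc]

theorem band_glue (hS : Stk.IsStack J 𝒮) {U : C} (R : Sieve U) (hR : R ∈ J U)
    (s : ∀ ⦃V : C⦄ (f : V ⟶ U), R f → bandGrp (𝒮 := 𝒮) V)
    (hs : ∀ ⦃W V : C⦄ (g : W ⟶ V) (f : V ⟶ U) (hf : R f) (x : 𝒮.obj) (l : 𝒮.p.obj x ⟶ W),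
      (s (g ≫ f) (R.downward_closed hf g)).1 x l = (s f hf).1 x (l ≫ g)) :
    ∃! σ : bandGrp (𝒮 := 𝒮) U, ∀ ⦃V : C⦄ (f : V ⟶ U) (hf : R f) (x : 𝒮.obj)
      (l : 𝒮.p.obj x ⟶ V), σ.1 x (l ≫ f) = (s f hf).1 x l := by
  let e : ∀ (x : 𝒮.obj) (h : 𝒮.p.obj x ⟶ U) ⦃z : 𝒮.obj⦄ (φ : z ⟶ x),
      R.pullback h (𝒮.p.map φ) → Gerb.AutO z :=
    fun x h z φ hφ => (s (𝒮.p.map φ ≫ h) hφ).1 z (𝟙 _)
  have econg : ∀ {z : 𝒮.obj} (f f' : 𝒮.p.obj z ⟶ U) (_ : f = f') (hf : R f) (hf' : R f'),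
      (s f hf).1 z (𝟙 _) = (s f' hf').1 z (𝟙 _) := by
    intro z f f' he hf hf'
    subst he
    rfl
  have key : ∀ (x : 𝒮.obj) (h : 𝒮.p.obj x ⟶ U), ∃! β : Gerb.AutO x,
      ∀ ⦃z : 𝒮.obj⦄ (φ : z ⟶ x) (hφ : R.pullback h (𝒮.p.map φ)), IsRes φ β (e x h φ hφ) := by
    intro x h
    refine glue_autO hS x _ (J.pullback_stable h hR) (e x h) fun z' z t φ hφ hφ' => ?_
    have h1 := (s _ hφ).2 t (𝟙 _)
    rw [Category.comp_id] at h1
    have h2 := hs (𝒮.p.map t) _ hφ z' (𝟙 _)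
    rw [Category.id_comp] at h2
    rw [← h2] at h1
    simp only [e]
    convert h1 using 1
    exact econg _ _ (by simp) _ _
  choose β hβ hu using key
  have hmem : β ∈ bandGrp (𝒮 := 𝒮) U := fun x' x φ h => by
    obtain ⟨γ, hγ⟩ := exists_res hS.1 φ (β x h)
    have : γ = β x' (𝒮.p.map φ ≫ h) := hu _ _ γ fun z ψ hψ => by
      obtain ⟨δ, hδ⟩ := exists_res hS.1 ψ γ
      have hψ' : R.pullback h (𝒮.p.map (ψ ≫ φ)) := by
        simpa [Sieve.pullback_apply] using hψ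
      have := (hγ.comp hδ).unique hS.1 (hβ x h (ψ ≫ φ) hψ')
      rw [this] at hδ
      convert hδ using 1
      exact econg _ _ (by simp) _ _
    exact this ▸ hγ
  refine ⟨⟨β, hmem⟩, fun V f hf x l => ?_, fun σ hσ => Subtype.ext (funext fun x => funext fun h => ?_)⟩
  · refine (hu _ _ _ fun z φ hφ => ?_).symm
    convert (s f hf).2 φ l using 1
    have := hs (𝒮.p.map φ ≫ l) f hf z (𝟙 _)
    rw [Category.id_comp] at this
    rw [← this]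
    exact econg _ _ (by simp) _ _
  · refine hu _ _ _ fun z φ hφ => ?_
    convert σ.2 φ h using 1
    have := hσ (𝒮.p.map φ ≫ h) hφ z (𝟙 _)
    rw [Category.id_comp] at this
    exact this.symm

theorem isSheaf_bandPsh (hS : Stk.IsStack J 𝒮) : Presheaf.IsSheaf J (bandPsh 𝒮) := by
  rw [Presheaf.isSheaf_iff_isSheaf_forget J (bandPsh 𝒮) (forget GrpCat),
    isSheaf_iff_isSheaf_of_type]
  intro U R hR s hs
  obtain ⟨σ, hσ, hu⟩ := band_glue hS R hR (fun V f hf => s f hf) (fun W V g f hf x l => by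
    have := (Presieve.compatible_iff_sieveCompatible s).mp hs f g hf
    exact congrArg (fun t => t.1 x l) this)
  refine ⟨σ, fun V f hf => Subtype.ext (funext fun x => funext fun l => hσ f hf x l),
    fun τ hτ => hu τ fun V f hf x l => congrArg (fun t => t.1 x l) (hτ f hf)⟩

/-- Evaluation of a natural family at an object. -/
def bandEval (x : 𝒮.obj) : bandGrp (𝒮 := 𝒮) (𝒮.p.obj x) →* Gerb.AutO x where
  toFun σ := σ.1 x (𝟙 _)
  map_one' := rfl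
  map_mul' _ _ := rfl

theorem common_sieve_mem (hh : Gerb.LocSurjHom J (FibCat.toSelf 𝒮)) (hg : FibCat.IsFibGrpd 𝒮.p)
    (x y : 𝒮.obj) (h : 𝒮.p.obj y ⟶ 𝒮.p.obj x) :
    ∃ T ∈ J (𝒮.p.obj y), ∀ ⦃z : 𝒮.obj⦄ (φ : z ⟶ y), T (𝒮.p.map φ) →
      ∃ ψ : z ⟶ x, 𝒮.p.map ψ = 𝒮.p.map φ ≫ h := by
  obtain ⟨x', θ, hθ⟩ := exists_lift' 𝒮.p hg rfl h
  obtain ⟨T, hT, hTP⟩ :=
    locSurjHom_toSelf_iff.mp hh y x' (IsHomLift.domain_eq 𝒮.p h θ)
  refine ⟨T, hT, fun z φ hφ => ?_⟩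
  obtain ⟨z', φ', ψ', hφ', hψ'⟩ := hTP (𝒮.p.map φ) hφ
  have := isSC_of_fibGrpd 𝒮.p hg (𝒮.p.map φ) φ'
  let γ := IsCartesian.map 𝒮.p (𝒮.p.map φ) φ' φ
  have hl : 𝒮.p.IsHomLift (𝒮.p.map φ ≫ h) (γ ≫ ψ' ≫ θ) := by
    have : 𝒮.p.IsHomLift (𝟙 (𝒮.p.obj z)) γ :=
      IsCartesian.map_isHomLift 𝒮.p (𝒮.p.map φ) φ' φ
    infer_instance
  exact ⟨γ ≫ ψ' ≫ θ, (isHomLift_iff_map_eq 𝒮.p _ _).mp hl⟩

theorem bandEval_bijective (hS : Gerb.IsGerbe J 𝒮)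
    (hcomm : ∀ (x : 𝒮.obj) (α β : Gerb.AutO x), α * β = β * α) (x : 𝒮.obj) :
    Function.Bijective (bandEval x) := by
  have hg := hS.1.1
  have hT := fun (y : 𝒮.obj) (h : 𝒮.p.obj y ⟶ 𝒮.p.obj x) => common_sieve_mem hS.2.2 hg x y h
  choose T hTm hTP using hT
  choose ψ hψ using hTP
  constructor
  · intro σ τ he
    refine Subtype.ext (funext fun y => funext fun h => ?_)
    obtain ⟨β, -, hu⟩ := glue_autO hS.1 y (T y h) (hTm y h)
      (fun z φ _ => σ.1 z (𝒮.p.map φ ≫ h)) fun z' z t φ _ _ => by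
        simpa using σ.2 t (𝒮.p.map φ ≫ h)
    refine (hu _ fun z φ _ => σ.2 φ h).trans (hu _ fun z φ hφ => ?_).symm
    convert τ.2 φ h using 1
    have h1 := σ.2 (ψ y h φ hφ) (𝟙 _)
    have h2 := τ.2 (ψ y h φ hφ) (𝟙 _)
    rw [Category.comp_id, hψ y h φ hφ] at h1 h2
    have he' : σ.1 x (𝟙 _) = τ.1 x (𝟙 _) := he
    rw [he'] at h1
    exact h1.unique hg h2
  · intro α
    have hres := fun (y : 𝒮.obj) (h : 𝒮.p.obj y ⟶ 𝒮.p.obj x) (z : 𝒮.obj) (φ : z ⟶ y)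
      (hφ : T y h (𝒮.p.map φ)) => exists_res hg (ψ y h φ hφ) α
    choose e he using hres
    have key : ∀ (y : 𝒮.obj) (h : 𝒮.p.obj y ⟶ 𝒮.p.obj x), ∃! β : Gerb.AutO y,
        ∀ ⦃z : 𝒮.obj⦄ (φ : z ⟶ y) (hφ : T y h (𝒮.p.map φ)), IsRes φ β (e y h z φ hφ) := by
      intro y h
      refine glue_autO hS.1 y _ (hTm y h) _ fun z' z t φ hφ hφ' => ?_
      obtain ⟨δ, hδ⟩ := exists_res hg t (e y h z φ hφ)
      have h1 := ((he y h z φ hφ).comp hδ).of_map_eq hg hcomm (ψ' := ψ y h (t ≫ φ) hφ')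
        (by simp [hψ])
      exact h1.unique hg (he y h z' _ hφ') ▸ hδ
    choose β hβ hu using key
    have hmem : β ∈ bandGrp (𝒮 := 𝒮) (𝒮.p.obj x) := fun y' y φ h => by
      obtain ⟨γ, hγ⟩ := exists_res hg φ (β y h)
      have : γ = β y' (𝒮.p.map φ ≫ h) := by
        have hT2 : (T y h).pullback (𝒮.p.map φ) ⊓ T y' (𝒮.p.map φ ≫ h) ∈ J _ :=
          J.intersection_covering (J.pullback_stable _ (hTm y h)) (hTm y' _)
        obtain ⟨δ, -, hu'⟩ := glue_autO hS.1 y' _ hT2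
          (fun z χ hχ => e y' (𝒮.p.map φ ≫ h) z χ hχ.2) fun z' z t χ hχ hχ' => by
            obtain ⟨δ, hδ⟩ := exists_res hg t (e y' _ z χ hχ.2)
            have h1 := ((he y' _ z χ hχ.2).comp hδ).of_map_eq hg hcomm
              (ψ' := ψ y' (𝒮.p.map φ ≫ h) (t ≫ χ) hχ'.2) (by simp [hψ])
            exact h1.unique hg (he y' _ z' _ hχ'.2) ▸ hδ
        refine (hu' _ fun z χ hχ => ?_).trans (hu' _ fun z χ hχ => hβ y' _ χ hχ.2).symm
        obtain ⟨δ', hδ'⟩ := exists_res hg χ γ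
        have hχ1 : T y h (𝒮.p.map (χ ≫ φ)) := by
          simpa [Sieve.pullback_apply] using hχ.1
        have h1 := (hγ.comp hδ').unique hg (hβ y h (χ ≫ φ) hχ1)
        rw [h1] at hδ'
        have h2 := (he y h z (χ ≫ φ) hχ1).of_map_eq hg hcomm
          (ψ' := ψ y' (𝒮.p.map φ ≫ h) χ hχ.2) (by simp [hψ])
        exact h2.unique hg (he y' _ z χ hχ.2) ▸ hδ'
      exact this ▸ hγ
    refine ⟨⟨β, hmem⟩, (hu x (𝟙 _) α fun z φ hφ => ?_).symm⟩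
    exact (he x (𝟙 _) z φ hφ).of_map_eq hg hcomm (by simp [hψ])

theorem exists_banding (hS : Gerb.IsGerbe J 𝒮)
    (hcomm : ∀ (x : 𝒮.obj) (α β : Gerb.AutO x), α * β = β * α) :
    ∃ G : Sheaf J GrpCat.{max u v}, (∀ (U : C) (a b : G.obj.obj (op U)), a * b = b * a) ∧
      Nonempty (Gerb.Banding 𝒮 G.obj) := by
  refine ⟨⟨bandPsh 𝒮, isSheaf_bandPsh hS.1⟩, fun U a b =>
    Subtype.ext (funext fun x => funext fun h => hcomm x _ _),
    ⟨{ iso := fun x => MulEquiv.ofBijective (bandEval x) (bandEval_bijective hS hcomm x)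
       natural := fun {x' x} φ a => ?_ }⟩⟩
  have := a.2 φ (𝟙 _)
  rw [Category.comp_id] at this
  change autHom (a.1 x' (𝟙 _ ≫ 𝒮.p.map φ)) ≫ φ = φ ≫ autHom (a.1 x (𝟙 _))
  rw [Category.id_comp]
  exact this

end Groth.Agent.Fib44
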