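import Groth.Agent.Fib44.Glue

/-!
Local essential surjectivity and fully faithful functors into stacks.
-/

set_option backward.isDefEq.respectTransparency false
set_option backward.isDefEq.respectTransparency.types false

universe v₃ u₃ v₂ u₂ v u

open CategoryTheory CategoryTheory.Functor

namespace Groth.Agent.Fib44

variable {C : Type u} [Category.{v} C] {J : GrothendieckTopology C}
variable {𝒳 : BasedCategory.{v₂, u₂} C} {𝒴 : BasedCategory.{v₃, u₃} C}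

theorem isEquivOver_of_locally_essSurj (h𝒳 : Stk.IsStack J 𝒳) (h𝒴 : Stk.IsPrestack J 𝒴)
    (F : 𝒳 ⥤ᵇ 𝒴) [F.toFunctor.Full] [F.toFunctor.Faithful]
    (h : ∀ y : 𝒴.obj, ∃ R ∈ J (𝒴.p.obj y), ∀ ⦃V : C⦄ (f : V ⟶ 𝒴.p.obj y), R f →
        ∃ (x : 𝒳.obj) (φ : F.obj x ⟶ y), 𝒴.p.IsHomLift f φ) :
    FibCat.IsEquivOver F := by
  refine isEquivOver_of_essSurjOver F fun y => ?_
  obtain ⟨R, hR, hl⟩ := h y
  obtain ⟨H, δ, hδ⟩ := exists_descent_of_fullyFaithful h𝒴.1 F (R := R) rfl hl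
  obtain ⟨x, γ, hγ⟩ := ((isStack_iff.mp h𝒳).2 R hR).2 H
  obtain ⟨k, hk, -⟩ := exists_glue_iso h𝒴.1 ((isPrestack_iff.mp h𝒴).2 R hR) (hγ.map F) hδ
  exact ⟨x, k, hk⟩

theorem locally_essSurj_of_isEquivOver (h𝒴 : FibCat.IsFibGrpd 𝒴.p)
    (F : 𝒳 ⥤ᵇ 𝒴) (hF : FibCat.IsEquivOver F) (y : 𝒴.obj) :
    ∃ R ∈ J (𝒴.p.obj y), ∀ ⦃V : C⦄ (f : V ⟶ 𝒴.p.obj y), R f →
        ∃ (x : 𝒳.obj) (φ : F.obj x ⟶ y), 𝒴.p.IsHomLift f φ := by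
  refine ⟨⊤, J.top_mem _, fun V f _ => ?_⟩
  obtain ⟨y', ψ, hψ⟩ := exists_lift' 𝒴.p h𝒴 rfl f
  obtain ⟨x, e, he⟩ := essSurjOver_of_isEquivOver hF y'
  have := lift_id_of_eq 𝒴.p (IsHomLift.domain_eq 𝒴.p f ψ) he
  exact ⟨x, e.hom ≫ ψ, inferInstance⟩

theorem isStack_fullSubcategory (h𝒳 : Stk.IsStack J 𝒳) (Q : ObjectProperty 𝒳.obj)
    (h1 : ∀ ⦃y x : 𝒳.obj⦄ (_ : y ⟶ x), Q x →
      ∃ (y' : 𝒳.obj) (e : y ≅ y'), Q y' ∧ 𝒳.p.IsHomLift (𝟙 (𝒳.p.obj y)) e.hom)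
    (h3 : ∀ ⦃U : C⦄ (R : Sieve U), R ∈ J U → ∀ (x : 𝒳.obj), 𝒳.p.obj x = U →
      (∀ ⦃V : C⦄ (f : V ⟶ U), R f → ∀ (y : 𝒳.obj) (φ : y ⟶ x), 𝒳.p.IsHomLift f φ →
        ∃ (y' : 𝒳.obj) (e : y ≅ y'), Q y' ∧ 𝒳.p.IsHomLift (𝟙 V) e.hom) →
      ∃ (x' : 𝒳.obj) (e : x ≅ x'), Q x' ∧ 𝒳.p.IsHomLift (𝟙 U) e.hom) :
    Stk.IsStack J (BasedCategory.ofFunctor (Q.ι ⋙ 𝒳.p)) := by
  let F : BasedCategory.ofFunctor (Q.ι ⋙ 𝒳.p) ⥤ᵇ 𝒳 := { toFunctor := Q.ι, w := rfl }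
  have : F.toFunctor.Full := inferInstanceAs Q.ι.Full
  have : F.toFunctor.Faithful := inferInstanceAs Q.ι.Faithful
  have hg : FibCat.IsFibGrpd (BasedCategory.ofFunctor (Q.ι ⋙ 𝒳.p)).p := by
    refine isFibGrpd_of_fullyFaithful F h𝒳.1 fun {x V} f => ?_
    obtain ⟨y, φ, hφ⟩ := exists_lift' 𝒳.p h𝒳.1 (x := F.obj x) rfl f
    obtain ⟨y', e, hQ, he⟩ := h1 φ x.property
    have := lift_id_of_eq 𝒳.p (IsHomLift.domain_eq 𝒳.p f φ) he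
    have h : 𝒳.p.IsHomLift f (e.inv ≫ φ) := inferInstance
    let ψ : (⟨y', hQ⟩ : Q.FullSubcategory) ⟶ x := ObjectProperty.homMk (e.inv ≫ φ)
    exact ⟨⟨y', hQ⟩, ψ, (BasedFunctor.isHomLift_iff F f ψ).mp h⟩
  refine isStack_iff.mpr ⟨hg, fun U R hR => ?_⟩
  obtain ⟨hM, hO⟩ := (isStack_iff.mp h𝒳).2 R hR
  refine ⟨morGlue_of_fullyFaithful F hg h𝒳.1 hM, fun H => ?_⟩
  obtain ⟨x, γ, hγ⟩ := hO (BasedFunctor.comp H F)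
  obtain ⟨x', e, hQ, he⟩ := h3 R hR x hγ.over fun V f hf y φ hφ => by
    have := hγ.isSC h𝒳.1 (sObj R f hf)
    have : 𝒳.p.IsStronglyCartesian f (γ (sObj R f hf)) := this
    let k := IsCartesian.map 𝒳.p f (γ (sObj R f hf)) φ
    have hk : 𝒳.p.IsHomLift (𝟙 V) k := IsCartesian.map_isHomLift 𝒳.p f (γ (sObj R f hf)) φ
    have := isIso_of_fibGrpd 𝒳.p h𝒳.1 (𝟙 V) k
    exact ⟨_, asIso k, (H.obj (sObj R f hf)).property, hk⟩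
  have hl := hγ.comp_hom e.hom
  refine ⟨⟨x', hQ⟩, fun a => ObjectProperty.homMk (γ a ≫ e.hom), ⟨hl.over, fun a => ?_, fun a b f => ?_⟩⟩
  · exact (BasedFunctor.isHomLift_iff F a.obj.hom
      (ObjectProperty.homMk (γ a ≫ e.hom) : H.obj a ⟶ (⟨x', hQ⟩ : Q.FullSubcategory))).mp (hl.lift a)
  · exact ObjectProperty.hom_ext _ (hl.nat f)

theorem faithful_of_faithful_fpFst {𝒯 : BasedCategory.{v₂, u₂} C} {𝒮₁ : BasedCategory.{v₃, u₃} C}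
    {𝒮₂ : BasedCategory.{v₃, u₃} C} (h₁ : FibCat.IsFibGrpd 𝒮₁.p) (h₃ : Stk.IsPrestack J 𝒯)
    (F : 𝒮₂ ⥤ᵇ 𝒮₁) (G : 𝒯 ⥤ᵇ 𝒮₁)
    (hF : ∀ y : 𝒮₁.obj, ∃ R ∈ J (𝒮₁.p.obj y), ∀ ⦃V : C⦄ (f : V ⟶ 𝒮₁.p.obj y), R f →
      ∃ (x : 𝒮₂.obj) (φ : F.obj x ⟶ y), 𝒮₁.p.IsHomLift f φ)
    (hG' : (FibCat.fpFst F G).toFunctor.Faithful) : G.toFunctor.Faithful := by
  have := isFibered_of_isFibGrpd 𝒯.p (h := h₃.1)
  refine faithful_of_fiber G (preservesSC_of_fibGrpd h₁ G) fun U => ⟨fun {a b u v} huv => ?_⟩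
  apply Subtype.ext
  obtain ⟨a, ha⟩ := a
  obtain ⟨b, hb⟩ := b
  obtain ⟨u, hu⟩ := u
  obtain ⟨v, hv⟩ := v
  change a ⟶ b at u v
  change u = v
  have hGuv : G.map u = G.map v := congrArg Subtype.val huv
  subst ha
  obtain ⟨R, hR, hl⟩ := hF (G.obj a)
  refine hom_ext_of_lifts h₃.1 ((isPrestack_iff.mp h₃).2 _
    (J.pullback_stable (eqToHom (G.w_obj a).symm) hR)) rfl (𝟙 (𝒯.p.obj a)) u v fun V g hg => ?_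
  obtain ⟨x, ψ, hψ⟩ := hl _ hg
  have hψ' : 𝒮₁.p.IsHomLift g ψ := by
    refine IsHomLift.of_fac' _ _ _ (IsHomLift.domain_eq 𝒮₁.p (g ≫ eqToHom (G.w_obj a).symm) ψ)
      (G.w_obj a) ?_
    rw [IsHomLift.fac' 𝒮₁.p (g ≫ eqToHom (G.w_obj a).symm) ψ]
    simp
  obtain ⟨a', φ, hφ⟩ := exists_lift' 𝒯.p h₃.1 (x := a) rfl g
  obtain ⟨b', φb, hφb⟩ := exists_lift' 𝒯.p h₃.1 hb g
  have := isSC_of_fibGrpd 𝒯.p h₃.1 g φb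
  let u' := IsCartesian.map 𝒯.p g φb (φ ≫ u)
  let v' := IsCartesian.map 𝒯.p g φb (φ ≫ v)
  have hu' : u' ≫ φb = φ ≫ u := IsCartesian.fac _ _ _ _
  have hv' : v' ≫ φb = φ ≫ v := IsCartesian.fac _ _ _ _
  have hu'l : 𝒯.p.IsHomLift (𝟙 V) u' := IsCartesian.map_isHomLift _ _ _ _
  have hv'l : 𝒯.p.IsHomLift (𝟙 V) v' := IsCartesian.map_isHomLift _ _ _ _
  have := based_isSC h₁ G g φ
  have := based_isSC h₁ G g φb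
  have hG : G.map u' = G.map v' := by
    apply IsCartesian.ext 𝒮₁.p g (G.map φb)
    rw [← Functor.map_comp, ← Functor.map_comp, hu', hv', Functor.map_comp, Functor.map_comp, hGuv]
  let k := IsCartesian.map 𝒮₁.p g (G.map φ) ψ
  have hk : 𝒮₁.p.IsHomLift (𝟙 V) k := IsCartesian.map_isHomLift _ _ _ _
  have := isIso_of_fibGrpd 𝒮₁.p h₁ (𝟙 V) k
  have hxV : 𝒮₂.p.obj x = V := (F.w_obj x).symm.trans (IsHomLift.domain_eq 𝒮₁.p g ψ)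
  have hk' : 𝒮₁.p.IsHomLift (𝟙 (𝒮₂.p.obj x)) k := lift_id_of_eq _ hxV.symm hk
  have hku : 𝒮₁.p.IsHomLift (𝟙 (𝒮₂.p.obj x)) (k ≫ G.map u') :=
    have := lift_id_of_eq 𝒯.p hxV.symm hu'l
    inferInstance
  have : IsIso u' := isIso_of_fibGrpd 𝒯.p h₃.1 (𝟙 V) u'
  let p₁ : (FibCat.fp F G).obj := ⟨⟨x, a', asIso k⟩, hk'⟩
  let p₂ : (FibCat.fp F G).obj := ⟨⟨x, b', asIso k ≪≫ G.toFunctor.mapIso (asIso u')⟩, hku⟩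
  let m₁ : p₁ ⟶ p₂ := ObjectProperty.homMk ⟨𝟙 x, u', by simp [p₁, p₂]⟩
  let m₂ : p₁ ⟶ p₂ := ObjectProperty.homMk ⟨𝟙 x, v', by simp [p₁, p₂, hG]⟩
  have e : m₁ = m₂ := (FibCat.fpFst F G).toFunctor.map_injective rfl
  have e' : u' = v' := congrArg (fun m => m.hom.snd) e
  exact ⟨a', φ, hφ, by rw [← hu', ← hv', e']⟩

end Groth.Agent.Fib44
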