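import Groth.Prelude.Def_StGerb2
import Groth.Agent.Fib44.GerbeBand
import Groth.Agent.Fib44.StackEquiv

/-!
Functors between gerbes: equivalence from bijectivity on automorphisms of one object, comparison
with the identity.
-/

set_option backward.isDefEq.respectTransparency false
set_option backward.isDefEq.respectTransparency.types false

universe v u

open CategoryTheory CategoryTheory.Functor

namespace Groth.Agent.Fib44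

variable {C : Type u} [Category.{v} C] {J : GrothendieckTopology C}
variable {𝒳 𝒴 : BasedCategory.{v, max u v} C}

theorem isTwoCartOver_fp {𝒮 : BasedCategory.{v, max u v} C} (F : 𝒳 ⥤ᵇ 𝒮) (G : 𝒴 ⥤ᵇ 𝒮) :
    FibCat.IsTwoCartOver (FibCat.fpFst F G) (FibCat.fpSnd F G) (FibCat.fpIso F G) := by
  let L := FibCat.fpLift (FibCat.fpFst F G) (FibCat.fpSnd F G) (FibCat.fpIso F G)
  have : L.toFunctor.Faithful := ⟨fun {a b f g} h =>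
    fp_hom_ext (congrArg (fun t => t.hom.fst) h) (congrArg (fun t => t.hom.snd) h)⟩
  have : L.toFunctor.Full := ⟨fun {a b} f =>
    ⟨fpHom f.hom.fst f.hom.snd f.hom.w, fp_hom_ext rfl rfl⟩⟩
  refine isEquivOver_of_essSurjOver L fun η => ⟨η, fpIsoMk (Iso.refl _) (Iso.refl _) ?_, ?_⟩
  · change F.map (𝟙 _) ≫ η.obj.iso.hom = η.obj.iso.hom ≫ G.map (𝟙 _)
    simp
  · rw [fp_isHomLift_iff]
    exact IsHomLift.id rfl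

theorem autMap_isRes (F : 𝒳 ⥤ᵇ 𝒴) {x z : 𝒳.obj} {ψ : z ⟶ x} {α : Gerb.AutO x} {β : Gerb.AutO z}
    (h : IsRes ψ α β) : IsRes (F.map ψ) (Gerb.autMap F x α) (Gerb.autMap F z β) := by
  change F.map (autHom β) ≫ F.map ψ = F.map ψ ≫ F.map (autHom α)
  rw [← Functor.map_comp, ← Functor.map_comp]
  exact congrArg F.map h

/-- Every object is connected, locally, to an object over `U` by arrows over `U`. -/
theorem exists_cover_over (hS : Gerb.IsGerbe J 𝒳) (s : 𝒳.obj) (y : 𝒳.obj)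
    (q : 𝒳.p.obj y ⟶ 𝒳.p.obj s) :
    ∃ T ∈ J (𝒳.p.obj y), ∀ ⦃z : 𝒳.obj⦄ (χ : z ⟶ y), T (𝒳.p.map χ) → Nonempty (z ⟶ s) := by
  obtain ⟨T, hT, hTP⟩ := common_sieve_mem hS.2.2 hS.1.1 s y q
  exact ⟨T, hT, fun z χ hχ => ⟨(hTP χ hχ).choose⟩⟩

variable (F : 𝒳 ⥤ᵇ 𝒴) (s : 𝒳.obj)

theorem eq_one_of_autMap_injective (h𝒳 : Gerb.IsGerbe J 𝒳) (h𝒴 : Stk.IsStack J 𝒴)
    (q : ∀ y : 𝒳.obj, 𝒳.p.obj y ⟶ 𝒳.p.obj s)
    (hF : ∀ (x : 𝒳.obj) (_ : x ⟶ s), Function.Injective (Gerb.autMap F x))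
    {a : 𝒳.obj} (α : Gerb.AutO a) (hα : Gerb.autMap F a α = 1) : α = 1 := by
  obtain ⟨T, hT, hTs⟩ := exists_cover_over h𝒳 s a (q a)
  obtain ⟨β, -, hu⟩ := glue_autO h𝒳.1 a T hT (fun z _ _ => 1) fun _ _ t _ _ _ => isRes_one t
  refine (hu α fun z φ hφ => ?_).trans (hu 1 fun z φ _ => isRes_one φ).symm
  obtain ⟨c⟩ := hTs φ hφ
  obtain ⟨γ, hγ⟩ := exists_res h𝒳.1.1 φ α
  have h1 := autMap_isRes F hγ
  rw [hα] at h1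
  have h2 : γ = 1 := hF z c ((h1.unique h𝒴.1 (isRes_one _)).trans (map_one _).symm)
  exact h2 ▸ hγ

theorem faithful_of_autMap_injective (h𝒳 : Gerb.IsGerbe J 𝒳) (h𝒴 : Stk.IsStack J 𝒴)
    (q : ∀ y : 𝒳.obj, 𝒳.p.obj y ⟶ 𝒳.p.obj s)
    (hF : ∀ (x : 𝒳.obj) (_ : x ⟶ s), Function.Injective (Gerb.autMap F x)) :
    F.toFunctor.Faithful := by
  refine ⟨fun {a b u v} h => ?_⟩
  have hp : 𝒳.p.map u = 𝒳.p.map v := by
    have := congrArg 𝒴.p.map h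
    simpa [based_map, cancel_epi, cancel_mono] using this
  obtain ⟨χ, hχ, hχf⟩ := ((isSC_iff 𝒳.p v).mp (h𝒳.1.1.isStronglyCartesian v) (𝟙 _) u
    (by simp [hp])).exists
  obtain ⟨α, hα⟩ := exists_autO h𝒳.1.1 χ ((isHomLift_iff_map_eq 𝒳.p _ χ).mpr hχ)
  have hα1 : α = 1 := by
    refine eq_one_of_autMap_injective F s h𝒳 h𝒴 q hF α ?_
    refine autO_ext (sc_hom_ext 𝒴.p (F.map v) (h𝒴.1.isStronglyCartesian _)
      ((autHom_map _).trans (autHom_map _).symm) ?_)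
    change F.map (autHom α) ≫ F.map v = 𝟙 _ ≫ F.map v
    rw [← Functor.map_comp, hα, hχf, Category.id_comp, h]
  rw [← hχf, ← hα, hα1, autHom_one, Category.id_comp]

theorem full_of_autMap_bijective (h𝒳 : Gerb.IsGerbe J 𝒳) (h𝒴 : Stk.IsStack J 𝒴)
    (q : ∀ y : 𝒳.obj, 𝒳.p.obj y ⟶ 𝒳.p.obj s)
    (hF : ∀ (x : 𝒳.obj) (_ : x ⟶ s), Function.Bijective (Gerb.autMap F x)) :
    F.toFunctor.Full := by
  have := faithful_of_autMap_injective F s h𝒳 h𝒴 q fun x c => (hF x c).1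
  have hg := h𝒳.1.1
  have key : ∀ (a b : 𝒳.obj) (hb : 𝒳.p.obj b = 𝒳.p.obj a) (m : F.obj a ⟶ F.obj b),
      𝒴.p.IsHomLift (𝟙 (𝒳.p.obj a)) m → ∃ k : a ⟶ b, F.map k = m := by
    intro a b hb m hm
    obtain ⟨T₁, hT₁, hT₁P⟩ := common_sieve_mem h𝒳.2.2 hg b a (eqToHom hb.symm)
    obtain ⟨T₂, hT₂, hT₂P⟩ := exists_cover_over h𝒳 s a (q a)
    have hT : T₁ ⊓ T₂ ∈ J (𝒳.p.obj a) := J.intersection_covering hT₁ hT₂
    have hex : ∀ ⦃z : 𝒳.obj⦄ (φ : z ⟶ a), (T₁ ⊓ T₂) (𝒳.p.map φ ≫ eqToHom rfl) →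
        ∃ n : z ⟶ b, 𝒳.p.IsHomLift (𝒳.p.map φ ≫ eqToHom rfl) n ∧
          F.map n = F.map φ ≫ m := by
      intro z φ hφ
      rw [eqToHom_refl, Category.comp_id] at hφ ⊢
      obtain ⟨ψ, hψ⟩ := hT₁P φ hφ.1
      obtain ⟨c⟩ := hT₂P φ hφ.2
      have hψl : 𝒳.p.IsHomLift (𝒳.p.map φ) ψ :=
        IsHomLift.of_fac' _ _ _ rfl hb (by rw [hψ]; simp)
      have := isSC_of_fibGrpd 𝒴.p h𝒴.1 (𝒳.p.map φ) (F.map ψ)
      let γ := IsCartesian.map 𝒴.p (𝒳.p.map φ) (F.map ψ) (F.map φ ≫ m)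
      have hγl : 𝒴.p.IsHomLift (𝟙 (𝒳.p.obj z)) γ :=
        IsCartesian.map_isHomLift 𝒴.p (𝒳.p.map φ) (F.map ψ) (F.map φ ≫ m)
      obtain ⟨γ', hγ'⟩ := exists_autO h𝒴.1 γ (lift_id_of_eq 𝒴.p (F.w_obj z).symm hγl)
      obtain ⟨β, hβ⟩ := (hF z c).2 γ'
      have hβ' : F.map (autHom β) = γ := by rw [← hγ', ← hβ]; rfl
      have := autHom_lift β
      exact ⟨autHom β ≫ ψ, inferInstance, by
        rw [Functor.map_comp, hβ']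
        exact IsCartesian.fac 𝒴.p (𝒳.p.map φ) (F.map ψ) (F.map φ ≫ m)⟩
    choose n hn hnF using hex
    obtain ⟨k, ⟨hk, hkf⟩, -⟩ := ((isStack_iff.mp h𝒳.1).2 _ hT).1 (x := a) (y := b) rfl hb n hn
      fun z' z t φ h h' => F.toFunctor.map_injective (by
        rw [hnF, Functor.map_comp, Functor.map_comp, hnF, Category.assoc])
    refine ⟨k, ?_⟩
    refine hom_ext_of_lifts h𝒴.1 ((isStack_iff.mp h𝒴).2 _ hT).1 (F.w_obj a) (𝟙 (𝒳.p.obj a))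
      _ _ fun V g hgT => ?_
    obtain ⟨z, φ, hφ⟩ := exists_lift' 𝒳.p hg rfl g
    have hz : 𝒳.p.obj z = V := IsHomLift.domain_eq 𝒳.p g φ
    have hφT : (T₁ ⊓ T₂) (𝒳.p.map φ ≫ eqToHom rfl) := by
      have := Sieve.downward_closed _ hgT (eqToHom hz)
      simpa [IsHomLift.fac' 𝒳.p g φ] using this
    exact ⟨F.obj z, F.map φ, inferInstance, by rw [← Functor.map_comp, hkf φ hφT, hnF]⟩
  refine ⟨fun {a b} m => ?_⟩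
  let f : 𝒳.p.obj a ⟶ 𝒳.p.obj b :=
    eqToHom (F.w_obj a).symm ≫ 𝒴.p.map m ≫ eqToHom (F.w_obj b)
  obtain ⟨b', θ, hθ⟩ := exists_lift' 𝒳.p hg (x := b) rfl f
  have : 𝒴.p.IsHomLift f m :=
    IsHomLift.of_fac' _ _ _ (F.w_obj a) (F.w_obj b) (by simp [f])
  have := based_isSC h𝒴.1 F f θ
  obtain ⟨k, hk⟩ := key a b' (IsHomLift.domain_eq 𝒳.p f θ)
    (IsCartesian.map 𝒴.p f (F.map θ) m) (IsCartesian.map_isHomLift 𝒴.p f (F.map θ) m)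
  exact ⟨k ≫ θ, by rw [Functor.map_comp, hk]; exact IsCartesian.fac 𝒴.p f (F.map θ) m⟩

theorem isEquivOver_of_autMap_bijective (h𝒳 : Gerb.IsGerbe J 𝒳) (h𝒴 : Gerb.IsGerbe J 𝒴)
    (q : ∀ y : 𝒳.obj, 𝒳.p.obj y ⟶ 𝒳.p.obj s)
    (hF : ∀ (x : 𝒳.obj) (_ : x ⟶ s), Function.Bijective (Gerb.autMap F x)) :
    FibCat.IsEquivOver F := by
  have := faithful_of_autMap_injective F s h𝒳 h𝒴.1 q fun x c => (hF x c).1
  have := full_of_autMap_bijective F s h𝒳 h𝒴.1 q hF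
  refine isEquivOver_of_locally_essSurj h𝒳.1
    (isPrestack_iff.mpr ⟨h𝒴.1.1, fun _ R hR => ((isStack_iff.mp h𝒴.1).2 R hR).1⟩) F fun y => ?_
  refine (locSurjObj_toSelf_iff.mp h𝒳.2.1 (𝒴.p.obj y)).trans ?_
  rintro V f ⟨x, hx⟩
  obtain ⟨y', θ, hθ⟩ := exists_lift' 𝒴.p h𝒴.1.1 rfl f
  have hy' : 𝒴.p.obj y' = V := IsHomLift.domain_eq 𝒴.p f θ
  have hc := locSurjHom_toSelf_iff.mp h𝒴.2.2 y' (F.obj x) ((F.w_obj x).trans (hx.trans hy'.symm))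
  rw [hy'] at hc
  refine hc.mono ?_
  rintro W k ⟨y₀, φ, ψ, hφ, hψ⟩
  obtain ⟨x', χ, hχ⟩ := exists_lift' 𝒳.p h𝒳.1.1 hx k
  have := based_isSC h𝒴.1.1 F k χ
  let i := IsCartesian.map 𝒴.p k (F.map χ) ψ
  have hi : 𝒴.p.IsHomLift (𝟙 W) i := IsCartesian.map_isHomLift 𝒴.p k (F.map χ) ψ
  have := isIso_of_fibGrpd 𝒴.p h𝒴.1.1 (𝟙 W) i
  exact ⟨x', inv i ≫ φ ≫ θ, inferInstance⟩

/-- An endofunctor inducing the identity, up to conjugation, on the automorphisms of one object over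
a final object is isomorphic to the identity. -/
theorem exists_natIso_id (h𝒳 : Gerb.IsGerbe J 𝒳) (Φ : 𝒳 ⥤ᵇ 𝒳) (x : 𝒳.obj)
    (hsub : ∀ V : C, Subsingleton (V ⟶ 𝒳.p.obj x))
    (q : ∀ y : 𝒳.obj, 𝒳.p.obj y ⟶ 𝒳.p.obj x)
    (g : Φ.obj x ⟶ x) (hg : 𝒳.p.IsHomLift (𝟙 (𝒳.p.obj x)) g)
    (hconj : ∀ (x' : 𝒳.obj) (c : x' ⟶ x) (g' : Φ.obj x' ⟶ x'),
      𝒳.p.IsHomLift (𝟙 (𝒳.p.obj x')) g' → Φ.map c ≫ g = g' ≫ c →
        ∀ α : Gerb.AutO x', Φ.map α.hom.1 ≫ g' = g' ≫ α.hom.1) :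
    ∃ ρ : ∀ y : 𝒳.obj, Φ.obj y ⟶ y,
      (∀ y, IsIso (ρ y) ∧ 𝒳.p.IsHomLift (𝟙 (𝒳.p.obj y)) (ρ y)) ∧
      ∀ (y y' : 𝒳.obj) (f : y ⟶ y'), Φ.map f ≫ ρ y' = ρ y ≫ f := by
  have hg𝒳 := h𝒳.1.1
  have hgex : ∀ (z : 𝒳.obj) (c : z ⟶ x), ∃! g' : Φ.obj z ⟶ z,
      𝒳.p.IsHomLift (𝟙 (𝒳.p.obj z)) g' ∧ g' ≫ c = Φ.map c ≫ g := fun z c => by
    have := isSC_of_fibGrpd 𝒳.p hg𝒳 (𝒳.p.map c) c
    exact IsCartesian.universal_property (p := 𝒳.p) (f := 𝒳.p.map c) (φ := c) (Φ.map c ≫ g)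
  choose G hGs hGu using fun z c => hgex z c
  have hGi : ∀ z c, IsIso (G z c) := fun z c => by
    have := (hGs z c).1
    exact isIso_of_fibGrpd 𝒳.p hg𝒳 (𝟙 (𝒳.p.obj z)) (G z c)
  have hind : ∀ (z : 𝒳.obj) (c c' : z ⟶ x), G z c = G z c' := fun z c c' => by
    obtain ⟨χ, hχ, hχf⟩ := ((isSC_iff 𝒳.p c).mp (hg𝒳.isStronglyCartesian c) (𝟙 _) c'
      ((hsub _).elim _ _)).exists
    obtain ⟨γ, hγ⟩ := exists_autO hg𝒳 χ ((isHomLift_iff_map_eq 𝒳.p _ χ).mpr hχ)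
    refine hGu z c' _ ⟨(hGs z c).1, ?_⟩
    have := hconj z c (G z c) (hGs z c).1 (hGs z c).2.symm γ
    change Φ.map (autHom γ) ≫ _ = _ ≫ autHom γ at this
    rw [← hχf, ← hγ, ← reassoc_of% this, (hGs z c).2, Functor.map_comp, Category.assoc]
  have hcomp : ∀ (z' z : 𝒳.obj) (t : z' ⟶ z) (c : z ⟶ x) (c' : z' ⟶ x),
      Φ.map t ≫ G z c = G z' c' ≫ t := fun z' z t c c' => by
    rw [hind z' c' (t ≫ c)]
    have h1 := (hGs z' (t ≫ c)).1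
    have h2 := (hGs z c).1
    refine sc_hom_ext 𝒳.p c (hg𝒳.isStronglyCartesian c) ?_ ?_
    · have e1 := IsHomLift.fac' 𝒳.p (𝟙 (𝒳.p.obj z')) (G z' (t ≫ c))
      have e2 := IsHomLift.fac' 𝒳.p (𝟙 (𝒳.p.obj z)) (G z c)
      simp [e1, e2, based_map]
    · rw [Category.assoc, Category.assoc, (hGs z c).2, (hGs z' (t ≫ c)).2, Functor.map_comp,
        Category.assoc]
  have hk : ∀ y : 𝒳.obj, ∃ k : y ⟶ Φ.obj y, 𝒳.p.IsHomLift (𝟙 (𝒳.p.obj y)) k ∧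
      ∀ (z : 𝒳.obj) (ψ : z ⟶ y) (c : z ⟶ x), G z c ≫ ψ ≫ k = Φ.map ψ := by
    intro y
    let T : Sieve (𝒳.p.obj y) :=
      { arrows := fun V f => ∃ (z : 𝒳.obj) (ψ : z ⟶ y), 𝒳.p.IsHomLift f ψ ∧ Nonempty (z ⟶ x)
        downward_closed := by
          rintro V W f ⟨z, ψ, hψ, ⟨c⟩⟩ j
          obtain ⟨z', θ, hθ⟩ := exists_lift' 𝒳.p hg𝒳 (IsHomLift.domain_eq 𝒳.p f ψ) j
          exact ⟨z', θ ≫ ψ, inferInstance, ⟨θ ≫ c⟩⟩ }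
    obtain ⟨T', hT', hT's⟩ := exists_cover_over h𝒳 x y (q y)
    have hT : T ∈ J (𝒳.p.obj y) := J.superset_covering (fun V f hf => by
      obtain ⟨z, ψ, hψ⟩ := exists_lift' 𝒳.p hg𝒳 rfl f
      refine ⟨z, ψ, hψ, hT's ψ ?_⟩
      have := T'.downward_closed hf (eqToHom (IsHomLift.domain_eq 𝒳.p f ψ))
      simpa [IsHomLift.fac' 𝒳.p f ψ] using this) hT'
    have hTc : ∀ ⦃z : 𝒳.obj⦄ (ψ : z ⟶ y), T (𝒳.p.map ψ ≫ eqToHom rfl) → Nonempty (z ⟶ x) := by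
      intro z ψ hψ
      rw [eqToHom_refl, Category.comp_id] at hψ
      obtain ⟨z', ψ', hψ', ⟨c⟩⟩ := hψ
      have := isSC_of_fibGrpd 𝒳.p hg𝒳 (𝒳.p.map ψ) ψ'
      exact ⟨IsCartesian.map 𝒳.p (𝒳.p.map ψ) ψ' ψ ≫ c⟩
    choose c hc using fun (z : 𝒳.obj) (ψ : z ⟶ y) (hψ : T (𝒳.p.map ψ ≫ eqToHom rfl)) =>
      (⟨(hTc ψ hψ).some, rfl⟩ : ∃ c : z ⟶ x, c = c)
    have hinv : ∀ (z : 𝒳.obj) (c : z ⟶ x),
        @inv _ _ _ _ (G z c) (hGi z c) ≫ G z c = 𝟙 _ := fun z c =>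
      @IsIso.inv_hom_id _ _ _ _ (G z c) (hGi z c)
    obtain ⟨k, ⟨hk, hkf⟩, -⟩ := ((isStack_iff.mp h𝒳.1).2 T hT).1 (x := y) (y := Φ.obj y) rfl
      (Φ.w_obj y) (fun z ψ hψ => @inv _ _ _ _ (G z (c z ψ hψ)) (hGi _ _) ≫ Φ.map ψ)
      (fun z ψ hψ => by
        have := (hGs z (c z ψ hψ)).1
        have := hGi z (c z ψ hψ)
        rw [eqToHom_refl, Category.comp_id]
        infer_instance)
      (fun z' z t ψ h h' => by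
        have := hGi z' (c z' (t ≫ ψ) h')
        have := hGi z (c z ψ h)
        rw [IsIso.inv_comp_eq, ← Category.assoc (G z' _) t, ← hcomp z' z t (c z ψ h)]
        simp)
    refine ⟨k, hk, fun z ψ c₀ => ?_⟩
    have hψ : T (𝒳.p.map ψ ≫ eqToHom rfl) := by
      have h : T (𝒳.p.map ψ) := ⟨z, ψ, inferInstance, ⟨c₀⟩⟩
      rw [eqToHom_refl, Category.comp_id]
      exact h
    have := hGi z (c z ψ hψ)
    rw [hkf ψ hψ, hind z c₀ (c z ψ hψ)]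
    simp
  choose k hk hkf using hk
  have hki : ∀ y, IsIso (k y) := fun y => by
    have := hk y
    exact isIso_of_fibGrpd 𝒳.p hg𝒳 (𝟙 (𝒳.p.obj y)) (k y)
  refine ⟨fun y => inv (k y), fun y => ⟨inferInstance, ?_⟩, fun y y' f => ?_⟩
  · have := hk y
    infer_instance
  · have := hk y
    have := hk y'
    have hnat : f ≫ k y' = k y ≫ Φ.map f := by
      obtain ⟨T, hT, hTc⟩ := exists_cover_over h𝒳 x y (q y)
      refine hom_ext_of_lifts hg𝒳 ((isStack_iff.mp h𝒳.1).2 T hT).1 rfl (𝒳.p.map f)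
        _ _ fun V j hj => ?_
      have hy' : 𝒳.p.IsHomLift (𝟙 (𝒳.p.obj y')) (k y') := hk y'
      obtain ⟨z, ψ, hψ⟩ := exists_lift' 𝒳.p hg𝒳 rfl j
      have hψT : T (𝒳.p.map ψ) := by
        have := T.downward_closed hj (eqToHom (IsHomLift.domain_eq 𝒳.p j ψ))
        simpa [IsHomLift.fac' 𝒳.p j ψ] using this
      obtain ⟨c⟩ := hTc ψ hψT
      refine ⟨z, ψ, hψ, ?_⟩
      have := hGi z c
      rw [← cancel_epi (G z c), reassoc_of% (hkf y z ψ c)]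
      have h2 := hkf y' z (ψ ≫ f) c
      rw [Category.assoc] at h2
      rw [h2, Functor.map_comp]
    rw [IsIso.comp_inv_eq, Category.assoc, IsIso.eq_inv_comp, hnat]

theorem exists_natIso_comp_id (h𝒴 : Gerb.IsGerbe J 𝒴) (h𝒳 : FibCat.IsFibGrpd 𝒳.p)
    (φ : 𝒳 ⥤ᵇ 𝒴) (ψ : 𝒴 ⥤ᵇ 𝒳) (x : 𝒳.obj)
    (hsub : ∀ V : C, Subsingleton (V ⟶ 𝒳.p.obj x))
    (q : ∀ y : 𝒴.obj, 𝒴.p.obj y ⟶ 𝒳.p.obj x)
    (hφ : ∀ (x' : 𝒳.obj) (_ : x' ⟶ x), Function.Surjective (Gerb.autMap φ x'))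
    (g : ψ.obj (φ.obj x) ⟶ x) (hg : 𝒳.p.IsHomLift (𝟙 (𝒳.p.obj x)) g)
    (hconj : ∀ (x' : 𝒳.obj) (c : x' ⟶ x) (g' : ψ.obj (φ.obj x') ⟶ x'),
      𝒳.p.IsHomLift (𝟙 (𝒳.p.obj x')) g' → ψ.map (φ.map c) ≫ g = g' ≫ c →
        ∀ α : Gerb.AutO x', ψ.map (φ.map α.hom.1) ≫ g' = g' ≫ α.hom.1) :
    ∃ σ : ∀ z : 𝒴.obj, φ.obj (ψ.obj z) ⟶ z,
      (∀ z, IsIso (σ z) ∧ 𝒴.p.IsHomLift (𝟙 (𝒴.p.obj z)) (σ z)) ∧
      ∀ (z z' : 𝒴.obj) (f : z ⟶ z'), φ.map (ψ.map f) ≫ σ z' = σ z ≫ f := by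
  refine exists_natIso_id h𝒴 (BasedFunctor.comp ψ φ) (φ.obj x)
    (fun V => by rw [φ.w_obj x]; exact hsub V) (fun y => q y ≫ eqToHom (φ.w_obj x).symm)
    (φ.map g) (lift_id_of_eq 𝒴.p (φ.w_obj x).symm inferInstance) ?_
  intro y c g'' hg'' hcomm α
  change φ.map (ψ.map (autHom α)) ≫ g'' = g'' ≫ autHom α
  change φ.map (ψ.map c) ≫ φ.map g = g'' ≫ c at hcomm
  obtain ⟨x', c₀, hc₀⟩ :=
    exists_lift' 𝒳.p h𝒳 (x := x) rfl (𝒴.p.map c ≫ eqToHom (φ.w_obj x))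
  have hy : 𝒳.p.obj x' = 𝒴.p.obj y := IsHomLift.domain_eq 𝒳.p (𝒴.p.map c ≫ eqToHom (φ.w_obj x)) c₀
  have : 𝒴.p.IsHomLift (𝒴.p.map c ≫ eqToHom (φ.w_obj x)) c :=
    IsHomLift.of_fac' _ _ _ rfl (φ.w_obj x) (by simp)
  have := based_isSC h𝒴.1.1 φ (𝒴.p.map c ≫ eqToHom (φ.w_obj x)) c₀
  let i := IsCartesian.map 𝒴.p (𝒴.p.map c ≫ eqToHom (φ.w_obj x)) (φ.map c₀) c
  have hi : 𝒴.p.IsHomLift (𝟙 (𝒴.p.obj y)) i :=
    IsCartesian.map_isHomLift 𝒴.p (𝒴.p.map c ≫ eqToHom (φ.w_obj x)) (φ.map c₀) c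
  have hic : i ≫ φ.map c₀ = c :=
    IsCartesian.fac 𝒴.p (𝒴.p.map c ≫ eqToHom (φ.w_obj x)) (φ.map c₀) c
  have := isIso_of_fibGrpd 𝒴.p h𝒴.1.1 (𝟙 (𝒴.p.obj y)) i
  obtain ⟨g', ⟨hg', hg'c⟩, -⟩ := by
    have := isSC_of_fibGrpd 𝒳.p h𝒳 (𝒳.p.map c₀) c₀
    exact IsCartesian.universal_property (p := 𝒳.p) (f := 𝒳.p.map c₀) (φ := c₀)
      (ψ.map (φ.map c₀) ≫ g)
  have hlift := lift_id_of_eq 𝒳.p hy hg'
  have hG : g'' ≫ i = φ.map (ψ.map i) ≫ φ.map g' := by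
    refine sc_hom_ext 𝒴.p (φ.map c₀) (h𝒴.1.1.isStronglyCartesian _) ?_ ?_
    · exact map_eq_map_of_isHomLift 𝒴.p (𝟙 (𝒴.p.obj y)) (g'' ≫ i)
        (φ.map (ψ.map i) ≫ φ.map g')
    · rw [Category.assoc, Category.assoc, hic, ← hcomm, ← Functor.map_comp φ.toFunctor g' c₀,
        hg'c, ← hic]
      simp [Functor.map_comp]
  obtain ⟨γ, hγ⟩ := exists_autO h𝒴.1.1 (inv i ≫ autHom α ≫ i)
    (lift_id_of_eq 𝒴.p (hy.symm.trans (φ.w_obj x').symm) (by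
      have := autHom_lift α
      infer_instance))
  obtain ⟨β, hβ⟩ := hφ x' c₀ γ
  have hβ' : φ.map (autHom β) = inv i ≫ autHom α ≫ i := by rw [← hγ, ← hβ]; rfl
  have h1 := congrArg φ.map (hconj x' c₀ g' hg' hg'c.symm β)
  change φ.map (ψ.map (φ.map (autHom β)) ≫ g') = φ.map (g' ≫ autHom β) at h1
  rw [Functor.map_comp φ.toFunctor g', hβ'] at h1
  rw [← cancel_mono i, Category.assoc, Category.assoc, hG]
  have h2 : autHom α ≫ i = i ≫ inv i ≫ autHom α ≫ i := by simp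
  rw [h2, reassoc_of% hG, ← h1, ← Category.assoc, ← Functor.map_comp φ.toFunctor,
    ← Functor.map_comp ψ.toFunctor, h2]
  simp [Functor.map_comp]

end Groth.Agent.Fib44
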