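import Mathlib.CategoryTheory.Sites.LocallyInjective
import Groth.Prelude.Def_StGerb2
import Groth.Agent.Fib44.Gerbe

/-!
A gerbe over a category fibred in sets: isomorphism classes, factorisations.
-/

set_option backward.isDefEq.respectTransparency false
set_option backward.isDefEq.respectTransparency.types false

universe w v₂ u₂ v u

open CategoryTheory CategoryTheory.Functor Opposite

namespace Groth.Agent.Fib44

variable {C : Type u} [Category.{v} C] {J : GrothendieckTopology C}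
variable {𝒳 : BasedCategory.{v₂, u₂} C} {P : Cᵒᵖ ⥤ Type w}

/-- The section of `P` attached to an object of the fibre over `U`. -/
def secOf (π : 𝒳 ⥤ᵇ Stk.ofPsh P) {U : C} (a : 𝒳.p.Fiber U) : P.obj (op U) :=
  P.map (eqToHom ((π.w_obj a.1).trans a.2).symm).op (π.obj a.1).sec

theorem secOf_map (π : 𝒳 ⥤ᵇ Stk.ofPsh P) {U V : C} {a : 𝒳.p.Fiber U} {a' : 𝒳.p.Fiber V}
    (f : V ⟶ U) (ψ : a'.1 ⟶ a.1) (hψ : 𝒳.p.IsHomLift f ψ) :
    P.map f.op (secOf π a) = secOf π a' := by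
  have hl : (Stk.ofPsh P).p.IsHomLift f (π.map ψ) := (BasedFunctor.isHomLift_iff π f ψ).mpr hψ
  have hf : (π.map ψ).hom =
      eqToHom ((π.w_obj a'.1).trans a'.2) ≫ f ≫ eqToHom ((π.w_obj a.1).trans a.2).symm :=
    IsHomLift.fac' (Stk.ofPsh P).p f (π.map ψ)
  unfold secOf
  rw [← (π.map ψ).map_sec, hf]
  refine (Functor.map_comp_apply P _ _ _).symm.trans
    ((congrArg (fun g => P.map g (π.obj a.1).sec) ?_).trans (Functor.map_comp_apply P _ _ _))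
  rw [← op_comp, ← op_comp]
  simp

theorem exists_hom_of_secOf_eq (π : 𝒳 ⥤ᵇ Stk.ofPsh P) {U : C} (a b : 𝒳.p.Fiber U)
    (h : secOf π a = secOf π b) :
    ∃ m : π.obj a.1 ⟶ π.obj b.1, (Stk.ofPsh P).p.IsHomLift (𝟙 U) m := by
  have ha := (π.w_obj a.1).trans a.2
  have hb := (π.w_obj b.1).trans b.2
  refine ⟨⟨eqToHom (ha.trans hb.symm), ?_⟩,
    IsHomLift.of_fac' _ _ _ ha hb (by simp)⟩
  have e := congrArg (fun t => P.map (eqToHom ha).op t) h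
  simp only [secOf, ← Functor.map_comp_apply, ← op_comp, eqToHom_trans] at e
  simpa using e.symm

theorem pullFib_eq_of_hom [FibCat.IsFibGrpd 𝒳.p] {U V : C} (f : V ⟶ U) (a : 𝒳.p.Fiber U)
    (b : 𝒳.p.Fiber V) (ψ : b.1 ⟶ a.1) (hψ : 𝒳.p.IsHomLift f ψ) :
    Quot.mk (Gerb.IsoRel 𝒳 V) (Gerb.pullFib 𝒳 f a) = Quot.mk (Gerb.IsoRel 𝒳 V) b := by
  have : 𝒳.p.IsHomLift (f ≫ eqToHom a.2.symm) ψ :=
    IsHomLift.of_fac' _ _ _ b.2 rfl (by simp [IsHomLift.fac' 𝒳.p f ψ])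
  obtain ⟨χ, hχ, -⟩ := Gerb.exists_hom_pull 𝒳 a.1 (f ≫ eqToHom a.2.symm) ψ this
  exact (Quot.sound ⟨⟨χ, hχ⟩⟩).symm

theorem exists_isoClPsh_map {P : Cᵒᵖ ⥤ Type u₂} [FibCat.IsFibGrpd 𝒳.p] (π : 𝒳 ⥤ᵇ Stk.ofPsh P)
    (hπ : Gerb.IsGerbeOver J π) :
    ∃ c : Gerb.isoClPsh 𝒳 ⟶ P,
      (∀ x : 𝒳.obj, c.app (op (𝒳.p.obj x)) (Quot.mk _ (Gerb.fib x)) =
          P.map (eqToHom (π.w_obj x).symm).op (π.obj x).sec) ∧
      Presheaf.IsLocallySurjective J c ∧ Presheaf.IsLocallyInjective J c := by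
  refine ⟨{ app := fun U => ↾Quot.lift (secOf π) fun a b ⟨φ⟩ => ?_
            naturality := fun U V f => ?_ }, fun x => rfl, ⟨fun {U} s => ?_⟩,
    ⟨fun {U} x y hxy => ?_⟩⟩
  · simpa using (secOf_map π (𝟙 U.unop) φ.1 φ.2).symm
  · ext a
    obtain ⟨a⟩ := a
    refine (secOf_map π (a := a) (a' := Gerb.pullFib 𝒳 f.unop a) f.unop
      (Gerb.pullHom 𝒳 a.1 (f.unop ≫ eqToHom a.2.symm)) ?_).symm
    have := Gerb.pullHom_isHomLift 𝒳 a.1 (f.unop ≫ eqToHom a.2.symm)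
    exact IsHomLift.of_fac' _ _ _ (Gerb.pull_over 𝒳 _ _) a.2 (by
      simp [IsHomLift.fac' 𝒳.p (f.unop ≫ eqToHom a.2.symm)
        (Gerb.pullHom 𝒳 a.1 (f.unop ≫ eqToHom a.2.symm))])
  · obtain ⟨R, hR, hRP⟩ := hπ.1 ⟨U, s⟩
    refine J.superset_covering (fun V f hf => ?_) hR
    obtain ⟨x, g, hg⟩ := hRP f hf
    have hgf : g.hom = eqToHom (IsHomLift.domain_eq (Stk.ofPsh P).p f g) ≫ f :=
      (IsHomLift.fac' (Stk.ofPsh P).p f g).trans (by simp)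
    refine ⟨Quot.mk _ ⟨x, (π.w_obj x).symm.trans (IsHomLift.domain_eq (Stk.ofPsh P).p f g)⟩, ?_⟩
    change P.map _ (π.obj x).sec = P.map f.op s
    rw [← g.map_sec, hgf, ← Functor.map_comp_apply, ← op_comp]
    simp
  · obtain ⟨a⟩ := x
    obtain ⟨b⟩ := y
    obtain ⟨m, hm⟩ := exists_hom_of_secOf_eq π a b hxy
    obtain ⟨R, hR, hRP⟩ := onCover_hom hπ.2 a.1 b.1 a.2 m hm
    refine J.superset_covering (fun V f hf => ?_) hR
    obtain ⟨x₀, φ, ψ, hφ, hψ, -⟩ := hRP f hf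
    have hx₀ : 𝒳.p.obj x₀ = V := IsHomLift.domain_eq 𝒳.p f φ
    exact (pullFib_eq_of_hom f a ⟨x₀, hx₀⟩ φ hφ).trans
      (pullFib_eq_of_hom f b ⟨x₀, hx₀⟩ ψ hψ).symm

end Groth.Agent.Fib44
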