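import Groth.Prelude.Def_StCoarse
import Groth.Agent.Fib44.GerbeSpace
import Groth.Agent.Fib44.GeomPt

/-!
Coarse moduli spaces along a gerbe through which maps to algebraic spaces factor.
-/

set_option backward.isDefEq.respectTransparency false
set_option backward.isDefEq.respectTransparency.types false

universe u

open CategoryTheory CategoryTheory.Functor Opposite AlgebraicGeometry

namespace Groth.Agent.Fib44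

section General

universe w v₃ u₃ v₂ u₂ v u'

variable {C : Type u'} [Category.{v} C]
variable {𝒳 : BasedCategory.{v₂, u₂} C} {𝒴 : BasedCategory.{v₃, u₃} C}

theorem nonempty_comp_iso {P : Cᵒᵖ ⥤ Type w} (F : 𝒳 ⥤ᵇ 𝒴) {G G' : 𝒴 ⥤ᵇ Stk.ofPsh P}
    (e : G ≅ G') : Nonempty (BasedFunctor.comp F G ≅ BasedFunctor.comp F G') :=
  ⟨BasedNatIso.mkNatIso
    (Functor.isoWhiskerLeft F.toFunctor ((BasedNatTrans.forgetful _ _).mapIso e))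
    fun x => lift_id_of_eq _ (F.w_obj x) (e.hom.isHomLift' (F.obj x))⟩

theorem secOf_eq_of_iso {P : Cᵒᵖ ⥤ Type w} {π π' : 𝒳 ⥤ᵇ Stk.ofPsh P} (e : π ≅ π') {U : C}
    (a : 𝒳.p.Fiber U) : secOf π a = secOf π' a := by
  have := e.hom.isHomLift' a.1
  have h1 := (π.w_obj a.1).trans a.2
  have h2 := (π'.w_obj a.1).trans a.2
  have hh : (e.hom.toNatTrans.app a.1).hom = eqToHom (h1.trans h2.symm) :=
    (IsHomLift.fac' (Stk.ofPsh P).p (𝟙 (𝒳.p.obj a.1)) (e.hom.toNatTrans.app a.1)).trans (by simp)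
  unfold secOf
  rw [← (e.hom.toNatTrans.app a.1).map_sec, hh]
  refine (Functor.map_comp_apply P _ _ _).symm.trans
    (congrArg (fun g => P.map g (π'.obj a.1).sec) ?_)
  rw [← op_comp]
  simp

/-- The image of an object of a fibre. -/
def fibObj (F : 𝒳 ⥤ᵇ 𝒴) {U : C} (a : 𝒳.p.Fiber U) : 𝒴.p.Fiber U :=
  ⟨F.obj a.1, (F.w_obj a.1).trans a.2⟩

theorem secOf_comp {P : Cᵒᵖ ⥤ Type w} (F : 𝒳 ⥤ᵇ 𝒴) (ψ : 𝒴 ⥤ᵇ Stk.ofPsh P) {U : C}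
    (a : 𝒳.p.Fiber U) : secOf (BasedFunctor.comp F ψ) a = secOf ψ (fibObj F a) := rfl

theorem fiber_iso_map (h𝒴 : FibCat.IsFibGrpd 𝒴.p) (F : 𝒳 ⥤ᵇ 𝒴) {U : C} {a b : 𝒳.p.Fiber U}
    (i : a ⟶ b) : Nonempty (fibObj F a ≅ fibObj F b) := by
  have := i.2
  have := (isGroupoid_fiber 𝒴.p h𝒴 U).all_isIso
    (⟨F.map i.1, inferInstance⟩ : fibObj F a ⟶ fibObj F b)
  exact ⟨asIso (⟨F.map i.1, inferInstance⟩ : fibObj F a ⟶ fibObj F b)⟩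

end General

variable {S : Scheme.{u}} {𝒳 𝒴 : AlgSt.Cat S}

theorem gerbe_geomPt_surj (h𝒴 : FibCat.IsFibGrpd 𝒴.p) {F : 𝒳 ⥤ᵇ 𝒴}
    (hF : Gerb.IsGerbeOver (QuotSh.J Scheme.fppfPrecoverage S) F) {Ω : Type u} [Field Ω]
    [IsAlgClosed Ω] (t : Spec (CommRingCat.of Ω) ⟶ S) (y : 𝒴.p.Fiber (Over.mk t)) :
    ∃ x : 𝒳.p.Fiber (Over.mk t), Nonempty (fibObj F x ≅ y) := by
  obtain ⟨R, hR, hRP⟩ := onCover_obj hF.1 y.1 y.2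
  obtain ⟨x, g, hg⟩ := hRP (𝟙 _) (id_mem_of_covering_geomPt t hR)
  let a : 𝒳.p.Fiber (Over.mk t) :=
    ⟨x, (F.w_obj x).symm.trans (IsHomLift.domain_eq 𝒴.p (𝟙 (Over.mk t)) g)⟩
  have := (isGroupoid_fiber 𝒴.p h𝒴 _).all_isIso (⟨g, hg⟩ : fibObj F a ⟶ y)
  exact ⟨a, ⟨asIso (⟨g, hg⟩ : fibObj F a ⟶ y)⟩⟩

theorem gerbe_geomPt_inj (h𝒳 : FibCat.IsFibGrpd 𝒳.p) {F : 𝒳 ⥤ᵇ 𝒴}
    (hF : Gerb.IsGerbeOver (QuotSh.J Scheme.fppfPrecoverage S) F) {Ω : Type u} [Field Ω]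
    [IsAlgClosed Ω] (t : Spec (CommRingCat.of Ω) ⟶ S) (x x' : 𝒳.p.Fiber (Over.mk t))
    (i : fibObj F x ≅ fibObj F x') : Nonempty (x ≅ x') := by
  obtain ⟨R, hR, hRP⟩ := onCover_hom hF.2 x.1 x'.1 x.2 i.hom.1 i.hom.2
  obtain ⟨x₀, φ, ψ, hφ, hψ, -⟩ := hRP (𝟙 _) (id_mem_of_covering_geomPt t hR)
  let a : 𝒳.p.Fiber (Over.mk t) := ⟨x₀, IsHomLift.domain_eq 𝒳.p (𝟙 (Over.mk t)) φ⟩
  have := (isGroupoid_fiber 𝒳.p h𝒳 _).all_isIso (⟨φ, hφ⟩ : a ⟶ x)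
  have := (isGroupoid_fiber 𝒳.p h𝒳 _).all_isIso (⟨ψ, hψ⟩ : a ⟶ x')
  exact ⟨(asIso (⟨φ, hφ⟩ : a ⟶ x)).symm ≪≫ asIso (⟨ψ, hψ⟩ : a ⟶ x')⟩

variable (h𝒳 : FibCat.IsFibGrpd 𝒳.p) (h𝒴 : FibCat.IsFibGrpd 𝒴.p) (F : 𝒳 ⥤ᵇ 𝒴)
  (hF : Gerb.IsGerbeOver (QuotSh.J Scheme.fppfPrecoverage S) F)
  (huniv : ∀ (N : AlgSp.Sp S), AlgSp.IsAlgSpace N → ∀ φ : 𝒳 ⥤ᵇ AlgSt.ofSp N,
    ∃ ψ : 𝒴 ⥤ᵇ AlgSt.ofSp N, Nonempty (BasedFunctor.comp F ψ ≅ φ) ∧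
      ∀ ψ' : 𝒴 ⥤ᵇ AlgSt.ofSp N, Nonempty (BasedFunctor.comp F ψ' ≅ φ) → Nonempty (ψ' ≅ ψ))

include h𝒳 h𝒴 hF huniv

theorem isCoarseModuli_comp {M : AlgSp.Sp S} {π : 𝒴 ⥤ᵇ AlgSt.ofSp M}
    (hπ : AlgSt.IsCoarseModuli π) : AlgSt.IsCoarseModuli (BasedFunctor.comp F π) := by
  refine ⟨⟨hπ.1.1, fun N hN φ => ?_⟩, fun Ω _ _ t => ⟨fun m => ?_, fun x x' hxx' => ?_⟩⟩
  · obtain ⟨ψ, ⟨eψ⟩, hψu⟩ := huniv N hN φ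
    obtain ⟨g, ⟨eg⟩, hgu⟩ := hπ.1.2 N hN ψ
    obtain ⟨w⟩ := nonempty_comp_iso F eg
    refine ⟨g, ⟨w ≪≫ eψ⟩, fun g' hg' => ?_⟩
    obtain ⟨e'⟩ := hψu (BasedFunctor.comp π (AlgSt.ofSpMap g')) hg'
    exact hgu g' ⟨e'⟩
  · obtain ⟨y, hy⟩ := (hπ.2 Ω t).1 m
    obtain ⟨x, ⟨i⟩⟩ := gerbe_geomPt_surj h𝒴 hF t y
    refine ⟨x, ?_⟩
    have := secOf_map π (𝟙 _) i.hom.1 i.hom.2
    simp only [op_id, CategoryTheory.Functor.map_id] at this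
    exact this.symm.trans hy
  · obtain ⟨i⟩ := (hπ.2 Ω t).2 (fibObj F x) (fibObj F x') hxx'
    exact gerbe_geomPt_inj h𝒳 hF t x x' i

omit h𝒳 in
theorem isCoarseModuli_factor {M : AlgSp.Sp S} {π : 𝒳 ⥤ᵇ AlgSt.ofSp M}
    (hπ : AlgSt.IsCoarseModuli π) {ψ : 𝒴 ⥤ᵇ AlgSt.ofSp M}
    (e : BasedFunctor.comp F ψ ≅ π) : AlgSt.IsCoarseModuli ψ := by
  refine ⟨⟨hπ.1.1, fun N hN φ => ?_⟩, fun Ω _ _ t => ⟨fun m => ?_, fun y y' hyy' => ?_⟩⟩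
  · obtain ⟨g, ⟨eg⟩, hgu⟩ := hπ.1.2 N hN (BasedFunctor.comp F φ)
    obtain ⟨ψ₀, -, hψu⟩ := huniv N hN (BasedFunctor.comp F φ)
    have w : ∀ g' : M ⟶ N, Nonempty (BasedFunctor.comp F (BasedFunctor.comp ψ (AlgSt.ofSpMap g')) ≅
        BasedFunctor.comp π (AlgSt.ofSpMap g')) := fun g' =>
      ⟨BasedNatIso.mkNatIso
        (Functor.isoWhiskerRight ((BasedNatTrans.forgetful _ _).mapIso e)
          (AlgSt.ofSpMap g').toFunctor)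
        fun x => by
          have := e.hom.isHomLift' x
          exact BasedFunctor.preserves_isHomLift (AlgSt.ofSpMap g') (𝟙 _) (e.hom.toNatTrans.app x)⟩
    obtain ⟨wg⟩ := w g
    obtain ⟨a⟩ := hψu _ ⟨wg ≪≫ eg⟩
    obtain ⟨b⟩ := hψu φ ⟨Iso.refl _⟩
    refine ⟨g, ⟨a ≪≫ b.symm⟩, fun g' ⟨eg'⟩ => hgu g' ?_⟩
    obtain ⟨wg'⟩ := w g'
    obtain ⟨c⟩ := nonempty_comp_iso F eg'
    exact ⟨wg'.symm ≪≫ c⟩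
  · obtain ⟨x, hx⟩ := (hπ.2 Ω t).1 m
    exact ⟨fibObj F x, (secOf_eq_of_iso e x).trans hx⟩
  · obtain ⟨x, ⟨i⟩⟩ := gerbe_geomPt_surj h𝒴 hF t y
    obtain ⟨x', ⟨i'⟩⟩ := gerbe_geomPt_surj h𝒴 hF t y'
    have hsec : secOf ψ (fibObj F x) = secOf ψ (fibObj F x') := by
      have h1 := secOf_map ψ (𝟙 _) i.hom.1 i.hom.2
      have h2 := secOf_map ψ (𝟙 _) i'.hom.1 i'.hom.2
      simp only [op_id, CategoryTheory.Functor.map_id] at h1 h2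
      exact (h1.symm.trans hyy').trans h2
    obtain ⟨j⟩ := (hπ.2 Ω t).2 x x'
      ((secOf_eq_of_iso e x).symm.trans (hsec.trans (secOf_eq_of_iso e x')))
    obtain ⟨Fj⟩ := fiber_iso_map h𝒴 F j.hom
    exact ⟨i.symm ≪≫ Fj ≪≫ i'⟩

end Groth.Agent.Fib44
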