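import Groth.Agent.Fib44.CosimplicialAb
import Groth.Agent.Fib44.CosimplicialDelta
import Groth.Agent.RD97.LES
import Groth.Prelude.Def_Hyper
import Mathlib.Algebra.Category.Grp.AB
import Mathlib.Algebra.Category.Grp.EnoughInjectives
import Mathlib.Algebra.Category.Grp.Zero
import Mathlib.CategoryTheory.Adjunction.Evaluation
import Mathlib.CategoryTheory.Limits.FunctorCategory.EpiMono
import Mathlib.CategoryTheory.Abelian.Injective.Resolution
import Mathlib.CategoryTheory.Abelian.Exact
import Mathlib.Algebra.Homology.ShortComplex.ExactFunctor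

/-!
Cosimplicial abelian groups: enough injectives, and the derived functors of zeroth cohomotopy.
-/

set_option autoImplicit false
set_option linter.unusedVariables false
set_option backward.isDefEq.respectTransparency false
set_option backward.isDefEq.respectTransparency.types false

universe u

open CategoryTheory CategoryTheory.Limits Opposite Simplicial

namespace Groth.Agent.Fib44.HyperCosimp

section Pi

variable {ι : Type u} {A : ι → AddCommGrpCat.{u}}

/-- Elements of a product. -/
noncomputable def piEquiv : (∏ᶜ A : AddCommGrpCat.{u}) ≃+ ∀ i, A i :=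
  (IsLimit.conePointUniqueUpToIso (limit.isLimit _)
    (AddCommGrpCat.HasLimit.productLimitCone A).isLimit).addCommGroupIsoToAddEquiv

lemma piEquiv_apply (x : (∏ᶜ A : AddCommGrpCat.{u})) (i : ι) : piEquiv x i = Pi.π A i x :=
  ConcreteCategory.congr_hom (IsLimit.conePointUniqueUpToIso_hom_comp (limit.isLimit _)
    (AddCommGrpCat.HasLimit.productLimitCone A).isLimit ⟨i⟩) x

lemma π_piEquiv_symm (a : ∀ i, A i) (i : ι) : Pi.π A i (piEquiv.symm a) = a i := by
  rw [← piEquiv_apply, AddEquiv.apply_symm_apply]

lemma pi_ext {x y : (∏ᶜ A : AddCommGrpCat.{u})} (h : ∀ i, Pi.π A i x = Pi.π A i y) : x = y :=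
  piEquiv.injective (funext fun i => by rw [piEquiv_apply, piEquiv_apply, h i])

end Pi

lemma exact_of_evaluation {D : Type*} [Category D] (S : ShortComplex (D ⥤ AddCommGrpCat.{u}))
    (h : ∀ V, (S.map ((evaluation D AddCommGrpCat.{u}).obj V)).Exact) : S.Exact := by
  rw [S.exact_iff_isZero_homology, Functor.isZero_iff]
  intro V
  exact ((ShortComplex.exact_iff_isZero_homology _).1 (h V)).of_iso
    (S.mapHomologyIso ((evaluation D AddCommGrpCat.{u}).obj V)).symm

instance enoughInjectives : EnoughInjectives (SimplexCategory ⥤ AddCommGrpCat.{u}) where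
  presentation K := by
    have hI : ∀ n : SimplexCategory, Injective
        ((evaluationRightAdjoint AddCommGrpCat.{u} n).obj (Injective.under (K.obj n))) := fun n =>
      Injective.injective_of_adjoint (evaluationAdjunctionLeft AddCommGrpCat.{u} n) _
    refine ⟨{ J := ∏ᶜ fun n : SimplexCategory =>
                (evaluationRightAdjoint AddCommGrpCat.{u} n).obj (Injective.under (K.obj n))
              f := Pi.lift fun n => (evaluationAdjunctionLeft AddCommGrpCat.{u} n).homEquiv K _
                (Injective.ι _)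
              injective := inferInstance
              mono := ⟨fun {W} g h e => ?_⟩ }⟩
    refine NatTrans.ext (funext fun n => (cancel_mono (Injective.ι (K.obj n))).1 ?_)
    have e' := congrArg (· ≫ Pi.π _ n) e
    simp only [Category.assoc, Pi.lift_π] at e'
    rw [← Adjunction.homEquiv_naturality_left, ← Adjunction.homEquiv_naturality_left] at e'
    exact ((evaluationAdjunctionLeft AddCommGrpCat.{u} n).homEquiv W _).injective e'

variable {C : Type u} [SmallCategory C] (K : SimplicialObject (FormalCoproduct.{u} C))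

/-- The cosimplicial group of a presheaf. -/
noncomputable abbrev Gfun : (Cᵒᵖ ⥤ AddCommGrpCat.{u}) ⥤ (SimplexCategory ⥤ AddCommGrpCat.{u}) :=
  FormalCoproduct.cosimplicialObjectFunctor K

/-- Components of the map of cosimplicial groups of a map of presheaves. -/
lemma Gfun_map_π {P Q : Cᵒᵖ ⥤ AddCommGrpCat.{u}} (α : P ⟶ Q) (n : SimplexCategory) (i : (K.obj (op n)).I)
    (x : ((Gfun K).obj P).obj n) :
    Pi.π (fun i => Q.obj (op ((K.obj (op n)).obj i))) i (((Gfun K).map α).app n x) =
      α.app (op ((K.obj (op n)).obj i)) (Pi.π (fun i => P.obj (op ((K.obj (op n)).obj i))) i x) :=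
  ConcreteCategory.congr_hom (Pi.map_π (f := fun i => P.obj (op ((K.obj (op n)).obj i)))
    (g := fun i => Q.obj (op ((K.obj (op n)).obj i))) (fun i => α.app (op ((K.obj (op n)).obj i))) i) x

/-- Components of the structure maps. -/
lemma Gfun_obj_map_π (P : Cᵒᵖ ⥤ AddCommGrpCat.{u}) {m n : SimplexCategory} (g : m ⟶ n)
    (i : (K.obj (op n)).I) (x : ((Gfun K).obj P).obj m) :
    Pi.π (fun i => P.obj (op ((K.obj (op n)).obj i))) i (((Gfun K).obj P).map g x) =
      P.map ((K.map g.op).φ i).op (Pi.π (fun i => P.obj (op ((K.obj (op m)).obj i))) ((K.map g.op).f i) x) :=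
  ConcreteCategory.congr_hom (Pi.lift_π (f := fun i => P.obj (op ((K.obj (op n)).obj i)))
    (fun i => Pi.π (fun i => P.obj (op ((K.obj (op m)).obj i))) ((K.map g.op).f i) ≫
      P.map ((K.map g.op).φ i).op) i) x

instance Gfun_additive : (Gfun K).Additive where
  map_add {P Q α β} := by
    ext n x
    refine pi_ext fun i => ?_
    refine (Gfun_map_π K (α + β) n i x).trans ?_
    refine Eq.trans ?_ (map_add _ _ _).symm
    exact congrArg₂ (· + ·) (Gfun_map_π K α n i x).symm (Gfun_map_π K β n i x).symm

lemma Gfun_exact (S : ShortComplex (Cᵒᵖ ⥤ AddCommGrpCat.{u})) (hS : S.Exact) : (S.map (Gfun K)).Exact := by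
  refine exact_of_evaluation _ fun n => ?_
  rw [ShortComplex.ab_exact_iff]
  intro (x : ((Gfun K).obj S.X₂).obj n) hx
  have h : ∀ i, ∃ y, S.f.app (op ((K.obj (op n)).obj i)) y =
      Pi.π (fun i => S.X₂.obj (op ((K.obj (op n)).obj i))) i x := fun i =>
    (ShortComplex.ab_exact_iff _).1 (hS.map ((evaluation Cᵒᵖ AddCommGrpCat.{u}).obj _)) _
      (((Gfun_map_π K S.g n i x).symm.trans
        (congrArg (Pi.π (fun i => S.X₃.obj (op ((K.obj (op n)).obj i))) i) hx)).trans (map_zero _))
  choose y hy using h
  refine ⟨piEquiv.symm y, ?_⟩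
  refine pi_ext fun i => ?_
  refine (Gfun_map_π K S.f n i _).trans ?_
  exact (congrArg _ (π_piEquiv_symm y i)).trans (hy i)

instance Gfun_preservesHomology : (Gfun K).PreservesHomology :=
  Functor.preservesHomology_of_map_exact _ (Gfun_exact K)

instance Gfun_preservesFiniteLimits : PreservesFiniteLimits (Gfun K) :=
  (Gfun K).preservesFiniteLimits_of_preservesHomology

instance Gfun_preservesFiniteColimits : PreservesFiniteColimits (Gfun K) :=
  (Gfun K).preservesFiniteColimits_of_preservesHomology

/-- Zeroth cohomotopy. -/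
noncomputable abbrev H0 : (SimplexCategory ⥤ AddCommGrpCat.{u}) ⥤ AddCommGrpCat.{u} :=
  (CosimpDelta.T AddCommGrpCat.{u}).F 0

instance H0_additive : (H0.{u}).Additive := (CosimpDelta.T AddCommGrpCat.{u}).additive 0

instance H0_preservesFiniteLimits : PreservesFiniteLimits H0.{u} := by
  have : PreservesFiniteLimits (lim : (SimplexCategory ⥤ AddCommGrpCat.{u}) ⥤ AddCommGrpCat.{u}) :=
    ⟨fun I _ _ => (constLimAdj.rightAdjoint_preservesLimits).preservesLimitsOfShape⟩
  exact preservesFiniteLimits_of_natIso (CosimpDelta.zeroIso AddCommGrpCat.{u})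

theorem isZero_T_injective (I : SimplexCategory ⥤ AddCommGrpCat.{u}) [Injective I] (n : ℕ) :
    IsZero (((CosimpDelta.T AddCommGrpCat.{u}).F (n + 1)).obj I) := by
  refine HomologicalComplex.ExactAt.isZero_homology ?_
  rw [HomologicalComplex.exactAt_iff' _ n (n + 1) (n + 2) (by simp) (by simp), ShortComplex.ab_exact_iff]
  intro x hx
  have hd : ∀ (m : ℕ) (z : I.obj ⦋m⦌),
      ((CosimpDelta.alt AddCommGrpCat.{u}).obj I).d m (m + 1) z = CosimpAb.d I m z := fun m z => by
    rw [CosimpDelta.alt_d]
    let ev : (I.obj ⦋m⦌ ⟶ I.obj ⦋m + 1⦌) →+ I.obj ⦋m + 1⦌ :=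
      AddMonoidHom.mk' (fun α => α z) (fun _ _ => rfl)
    refine (map_sum ev _ _).trans (Finset.sum_congr rfl fun j _ => ?_)
    rw [map_zsmul]
    rfl
  obtain ⟨y, hy⟩ := CosimpAb.exists_preimage I n x ((hd (n + 1) x).symm.trans hx)
  exact ⟨y, (hd n y).trans hy⟩

/-- The derived functors of zeroth cohomotopy are the higher cohomotopy groups. -/
theorem nonempty_rightDerived_H0_iso (I : SimplexCategory ⥤ AddCommGrpCat.{u}) (n : ℕ) :
    Nonempty ((H0.rightDerived n).obj I ≅ ((CosimpDelta.alt AddCommGrpCat.{u}).obj I).homology n) := by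
  obtain ⟨Δ⟩ := RD97.nonempty_derivedLES H0.{u}
  have hT : (CosimpDelta.T AddCommGrpCat.{u}).IsUniversal :=
    DeltaF50.isUniversal_of_isEffaceable
      (DeltaF50.isEffaceable_iff.2 fun m I hI => isZero_T_injective I m)
  obtain ⟨φ, -, -⟩ := DeltaF50.existsUnique_iso_of_isUniversal (RD97.isUniversal H0.{u} Δ) hT
    H0.{u}.rightDerivedZeroIsoSelf
  exact ⟨{ hom := (φ.hom.app n).app I
           inv := (φ.inv.app n).app I
           hom_inv_id := by
             rw [← NatTrans.comp_app, ← DeltaF.CohDeltaFunctor.comp_app, φ.hom_inv_id]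
             rfl
           inv_hom_id := by
             rw [← NatTrans.comp_app, ← DeltaF.CohDeltaFunctor.comp_app, φ.inv_hom_id]
             rfl }⟩

end Groth.Agent.Fib44.HyperCosimp
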