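import Groth.Agent.Fib44.HyperFree
import Groth.Agent.Fib44.HyperCosimp
import Mathlib.CategoryTheory.Preadditive.Yoneda.Limits
import Mathlib.Algebra.Category.Grp.ForgetCorepresentable
import Mathlib.CategoryTheory.Sites.SheafCohomology.Basic

/-!
The Čech complex of a simplicial family as morphisms out of its free chain complex.
-/

set_option autoImplicit false
set_option linter.unusedVariables false
set_option backward.isDefEq.respectTransparency false
set_option backward.isDefEq.respectTransparency.types false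

universe u

open CategoryTheory CategoryTheory.Limits Opposite Simplicial

namespace Groth.Agent.Fib44.HyperCech

open HyperCosimp HyperFree

variable {C : Type u} [SmallCategory C] {J : GrothendieckTopology C}

/-- The tautological element of a component. -/
noncomputable def elt (L : FormalCoproduct.{u} C) (i : L.I) :
    (FormalCoproduct.yoneda.obj L).obj (op (L.obj i)) :=
  (Sigma.ι (fun j => yoneda.obj (L.obj j)) i).app (op (L.obj i)) (𝟙 (L.obj i))

lemma map_elt {L L' : FormalCoproduct.{u} C} (f : L ⟶ L') (i : L.I) :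
    (FormalCoproduct.yoneda.map f).app (op (L.obj i)) (elt L i) =
      (FormalCoproduct.yoneda.obj L').map (f.φ i).op (elt L' (f.f i)) := by
  refine (ConcreteCategory.congr_hom (NatTrans.congr_app
    (Sigma.ι_desc (f := fun j => yoneda.obj (L.obj j))
      (fun j => yoneda.map (f.φ j) ≫ Sigma.ι (fun j => yoneda.obj (L'.obj j)) (f.f j)) i)
    (op (L.obj i))) (𝟙 (L.obj i))).trans ?_
  refine Eq.trans ?_ (NatTrans.naturality_apply (Sigma.ι (fun j => yoneda.obj (L'.obj j)) (f.f i)) (f.φ i).op _)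
  exact congrArg ((Sigma.ι (fun j => yoneda.obj (L'.obj j)) (f.f i)).app (op (L.obj i)))
    ((Category.id_comp _).trans (Category.comp_id _).symm)

/-- The free sheaf on a formal coproduct. -/
noncomputable abbrev Z (J : GrothendieckTopology C) (L : FormalCoproduct.{u} C) : Sheaf J AddCommGrpCat.{u} :=
  (presheafToSheaf J AddCommGrpCat.{u}).obj (FormalCoproduct.yoneda.obj L ⋙ AddCommGrpCat.free.{u})

/-- The map of free sheaves. -/
noncomputable abbrev Zmap (J : GrothendieckTopology C) {L L' : FormalCoproduct.{u} C} (f : L ⟶ L') : Z J L ⟶ Z J L' :=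
  (presheafToSheaf J AddCommGrpCat.{u}).map
    (Functor.whiskerRight (FormalCoproduct.yoneda.map f) AddCommGrpCat.free.{u})

/-- Values on the components. -/
noncomputable abbrev Co (L : FormalCoproduct.{u} C) (P : Cᵒᵖ ⥤ AddCommGrpCat.{u}) : AddCommGrpCat.{u} :=
  ∏ᶜ fun i => P.obj (op (L.obj i))

variable (J) in
/-- The value of a morphism on a tautological section. -/
noncomputable def val (L : FormalCoproduct.{u} C) (F : Sheaf J AddCommGrpCat.{u}) (φ : Z J L ⟶ F) (i : L.I) :
    F.obj.obj (op (L.obj i)) :=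
  ((sheafificationAdjunction J AddCommGrpCat.{u}).homEquiv _ F φ).app (op (L.obj i))
    (FreeAbelianGroup.of (elt L i) : FreeAbelianGroup ((FormalCoproduct.yoneda.obj L).obj (op (L.obj i))))

variable (J) in
/-- Morphisms out of the free sheaf are families of sections. -/
noncomputable def homEquiv (L : FormalCoproduct.{u} C) (F : Sheaf J AddCommGrpCat.{u}) :
    (Z J L ⟶ F) ≃ ∀ i : L.I, F.obj.obj (op (L.obj i)) :=
  ((sheafificationAdjunction J AddCommGrpCat.{u}).homEquiv _ F).trans
    (((AddCommGrpCat.adj.whiskerRight Cᵒᵖ).homEquiv (FormalCoproduct.yoneda.obj L) F.obj).trans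
      { toFun := fun β i => β.app (op (L.obj i)) (elt L i)
        invFun := fun a => Sigma.desc fun i => (yonedaEquiv (F := F.obj ⋙ forget AddCommGrpCat.{u})).symm (a i)
        left_inv := fun β => Sigma.hom_ext _ _ fun i => (Sigma.ι_desc _ _).trans
          ((Equiv.symm_apply_eq (yonedaEquiv (F := F.obj ⋙ forget AddCommGrpCat.{u}))).2 rfl)
        right_inv := fun a => funext fun i => by
          refine (ConcreteCategory.congr_hom (NatTrans.congr_app
            (Sigma.ι_desc (fun i => (yonedaEquiv (F := F.obj ⋙ forget AddCommGrpCat.{u})).symm (a i)) i) (op (L.obj i))) (𝟙 (L.obj i))).trans ?_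
          exact (yonedaEquiv (F := F.obj ⋙ forget AddCommGrpCat.{u})).apply_symm_apply (a i) })

lemma homEquiv_apply (L : FormalCoproduct.{u} C) (F : Sheaf J AddCommGrpCat.{u}) (φ : Z J L ⟶ F) (i : L.I) :
    homEquiv J L F φ i = val J L F φ i :=
  rfl

variable (J) in
/-- Morphisms out of the free sheaf as an element of the product. -/
noncomputable def coEquiv (L : FormalCoproduct.{u} C) (F : Sheaf J AddCommGrpCat.{u}) :
    (Z J L ⟶ F) ≃+ Co L F.obj :=
  (AddEquiv.mk' (homEquiv J L F) fun φ ψ => funext fun i => by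
    rw [Pi.add_apply, homEquiv_apply, homEquiv_apply, homEquiv_apply, val, val, val,
      Adjunction.homAddEquiv_add]
    rfl).trans piEquiv.symm

lemma π_coEquiv (L : FormalCoproduct.{u} C) (F : Sheaf J AddCommGrpCat.{u}) (φ : Z J L ⟶ F) (i : L.I) :
    Pi.π (fun i => F.obj.obj (op (L.obj i))) i (coEquiv J L F φ) = val J L F φ i :=
  π_piEquiv_symm (homEquiv J L F φ) i

lemma val_Zmap {L L' : FormalCoproduct.{u} C} (f : L ⟶ L') (F : Sheaf J AddCommGrpCat.{u})
    (φ : Z J L' ⟶ F) (i : L.I) :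
    val J L F (Zmap J f ≫ φ) i = F.obj.map (f.φ i).op (val J L' F φ (f.f i)) := by
  rw [val, val, Adjunction.homEquiv_naturality_left]
  let α := (sheafificationAdjunction J AddCommGrpCat.{u}).homEquiv _ F φ
  let α' : FormalCoproduct.yoneda.obj L' ⟶ F.obj ⋙ forget AddCommGrpCat.{u} :=
    (AddCommGrpCat.adj.whiskerRight Cᵒᵖ).homEquiv _ F.obj α
  change α.app (op (L.obj i)) (FreeAbelianGroup.map ((FormalCoproduct.yoneda.map f).app (op (L.obj i)))
      (FreeAbelianGroup.of (elt L i))) = _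
  rw [FreeAbelianGroup.map_of_apply, map_elt]
  exact NatTrans.naturality_apply α' (f.φ i).op (elt L' (f.f i))

lemma val_comp (L : FormalCoproduct.{u} C) {F G : Sheaf J AddCommGrpCat.{u}} (g : F ⟶ G)
    (φ : Z J L ⟶ F) (i : L.I) : val J L G (φ ≫ g) i = g.hom.app (op (L.obj i)) (val J L F φ i) := by
  rw [val, val, Adjunction.homEquiv_naturality_right]
  rfl

variable (J) (K : SimplicialObject (FormalCoproduct.{u} C))

/-- Cochains in degree `n` as morphisms. -/
noncomputable abbrev e (n : ℕ) (F : Sheaf J AddCommGrpCat.{u}) :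
    (Z J (K.obj (op ⦋n⦌)) ⟶ F) ≃+ ((Gfun K).obj F.obj).obj ⦋n⦌ :=
  coEquiv J (K.obj (op ⦋n⦌)) F

/-- The free chain complex. -/
noncomputable abbrev cx : ChainComplex (Sheaf J AddCommGrpCat.{u}) ℕ :=
  ((presheafToSheaf J AddCommGrpCat.{u}).mapHomologicalComplex _).obj (chains (K ⋙ FormalCoproduct.yoneda))

/-- The Čech complex. -/
noncomputable abbrev cech (F : Sheaf J AddCommGrpCat.{u}) : CochainComplex AddCommGrpCat.{u} ℕ :=
  (CosimpDelta.alt AddCommGrpCat.{u}).obj ((Gfun K).obj F.obj)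

variable {J K}

lemma e_comp (n : ℕ) {F G : Sheaf J AddCommGrpCat.{u}} (g : F ⟶ G) (φ : Z J (K.obj (op ⦋n⦌)) ⟶ F) :
    ((Gfun K).map g.hom).app ⦋n⦌ (e J K n F φ) = e J K n G (φ ≫ g) := by
  refine pi_ext fun i => (Gfun_map_π K g.hom ⦋n⦌ i _).trans ?_
  refine (congrArg _ (π_coEquiv _ F φ i)).trans ?_
  exact (val_comp _ g φ i).symm.trans (π_coEquiv _ G (φ ≫ g) i).symm

lemma e_map {m n : ℕ} (θ : ⦋m⦌ ⟶ ⦋n⦌) (F : Sheaf J AddCommGrpCat.{u}) (φ : Z J (K.obj (op ⦋m⦌)) ⟶ F) :
    ((Gfun K).obj F.obj).map θ (e J K m F φ) = e J K n F (Zmap J (K.map θ.op) ≫ φ) := by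
  refine pi_ext fun i => (Gfun_obj_map_π K F.obj θ i _).trans ?_
  refine (congrArg _ (π_coEquiv _ F φ ((K.map θ.op).f i))).trans ?_
  exact (val_Zmap (K.map θ.op) F φ i).symm.trans (π_coEquiv _ F _ i).symm

lemma e_d (n : ℕ) (F : Sheaf J AddCommGrpCat.{u}) (φ : Z J (K.obj (op ⦋n⦌)) ⟶ F) :
    (cech J K F).d n (n + 1) (e J K n F φ) = e J K (n + 1) F ((cx J K).d (n + 1) n ≫ φ) := by
  rw [CosimpDelta.alt_d]
  let ev : (((Gfun K).obj F.obj).obj ⦋n⦌ ⟶ ((Gfun K).obj F.obj).obj ⦋n + 1⦌) →+
      ((Gfun K).obj F.obj).obj ⦋n + 1⦌ :=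
    AddMonoidHom.mk' (fun α => α (e J K n F φ)) (fun _ _ => rfl)
  refine (map_sum ev _ _).trans ?_
  rw [Functor.mapHomologicalComplex_obj_d, AlgebraicTopology.alternatingFaceMapComplex_obj_d,
    AlgebraicTopology.AlternatingFaceMapComplex.objD, Functor.map_sum, Preadditive.sum_comp]
  refine Eq.trans ?_ (map_sum (e J K (n + 1) F) _ _).symm
  refine Finset.sum_congr rfl fun j _ => ?_
  rw [map_zsmul, Functor.map_zsmul, Preadditive.zsmul_comp, map_zsmul]
  exact congrArg _ (e_map (SimplexCategory.δ j) F φ)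

lemma eq_e_symm {n : ℕ} {F : Sheaf J AddCommGrpCat.{u}} (x : ((Gfun K).obj F.obj).obj ⦋n⦌)
    (hx : (cech J K F).d n (n + 1) x = 0) :
    (cx J K).d (n + 1) n ≫ (e J K n F).symm x = 0 := by
  apply (e J K (n + 1) F).injective
  rw [map_zero, ← e_d, AddEquiv.apply_symm_apply]
  exact hx

theorem isZero_homology_succ (hK : HyperFill.IsLocTriv J (K ⋙ FormalCoproduct.yoneda))
    (I : Sheaf J AddCommGrpCat.{u}) [Injective I] (p : ℕ) : IsZero ((cech J K I).homology (p + 1)) := by
  refine HomologicalComplex.ExactAt.isZero_homology ?_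
  rw [HomologicalComplex.exactAt_iff' _ p (p + 1) (p + 2) (by simp) (by simp), ShortComplex.ab_exact_iff]
  intro (x : ((Gfun K).obj I.obj).obj ⦋p + 1⦌) hx
  have hE : ((cx J K).sc' (p + 2) (p + 1) p).Exact := exact_succ hK p
  refine ⟨e J K p I (hE.descToInjective ((e J K (p + 1) I).symm x) (eq_e_symm x hx)), ?_⟩
  refine (e_d p I _).trans ?_
  refine (congrArg (e J K (p + 1) I) (hE.comp_descToInjective _ _)).trans ?_
  exact AddEquiv.apply_symm_apply _ _

variable (J) in
/-- The constant sheaf of integers. -/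
noncomputable abbrev cZ : Sheaf J AddCommGrpCat.{u} :=
  (constantSheaf J AddCommGrpCat.{u}).obj (AddCommGrpCat.of (ULift.{u} ℤ))

variable (J K) in
/-- The augmentation. -/
noncomputable abbrev augS : Z J (K.obj (op ⦋0⦌)) ⟶ cZ J :=
  (presheafToSheaf J AddCommGrpCat.{u}).map (aug (K ⋙ FormalCoproduct.yoneda))

lemma d_augS : (cx J K).d 1 0 ≫ augS J K = 0 :=
  ((presheafToSheaf J AddCommGrpCat.{u}).map_comp _ _).symm.trans
    ((congrArg _ (d_aug _)).trans (Functor.map_zero _ _ _))

variable (J K) in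
/-- Morphisms out of the constant sheaf as cochains. -/
noncomputable def toCech (F : Sheaf J AddCommGrpCat.{u}) :
    AddCommGrpCat.of (cZ J ⟶ F) ⟶ (cech J K F).X 0 :=
  AddCommGrpCat.ofHom (X := cZ J ⟶ F) (Y := ((Gfun K).obj F.obj).obj ⦋0⦌)
    (AddMonoidHom.mk' (fun φ => e J K 0 F (augS J K ≫ φ)) fun φ ψ => by
      rw [Preadditive.comp_add, map_add])

lemma toCech_d (F : Sheaf J AddCommGrpCat.{u}) : toCech J K F ≫ (cech J K F).d 0 1 = 0 := by
  ext φ
  refine (e_d 0 F (augS J K ≫ φ)).trans ?_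
  rw [← Category.assoc]
  exact (congrArg (fun t => e J K 1 F (t ≫ φ)) d_augS).trans
    ((congrArg (e J K 1 F) zero_comp).trans (map_zero _))

variable (J K) in
/-- Morphisms out of the constant sheaf to zeroth Čech cohomology. -/
noncomputable def toH0 (F : Sheaf J AddCommGrpCat.{u}) :
    AddCommGrpCat.of (cZ J ⟶ F) ⟶ (cech J K F).homology 0 :=
  (cech J K F).liftCycles (toCech J K F) 1 (by simp) (toCech_d F) ≫ (cech J K F).homologyπ 0

theorem isIso_toH0 (hK : HyperFill.IsLocTriv J (K ⋙ FormalCoproduct.yoneda))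
    (F : Sheaf J AddCommGrpCat.{u}) : IsIso (toH0 J K F) := by
  have he : Epi (augS J K) := epi_aug hK
  have : IsIso ((cech J K F).liftCycles (toCech J K F) 1 (by simp) (toCech_d F)) := by
    rw [ConcreteCategory.isIso_iff_bijective]
    have hi : Function.Injective ((cech J K F).iCycles 0) := (AddCommGrpCat.mono_iff_injective _).1 inferInstance
    have hl : ∀ φ, (cech J K F).iCycles 0 ((cech J K F).liftCycles (toCech J K F) 1 (by simp) (toCech_d F) φ) =
        e J K 0 F (augS J K ≫ φ) := fun φ =>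
      ConcreteCategory.congr_hom ((cech J K F).liftCycles_i (toCech J K F) 1 (by simp) (toCech_d F)) φ
    refine ⟨fun (φ : cZ J ⟶ F) (ψ : cZ J ⟶ F) h => ?_, fun z => ?_⟩
    · exact (cancel_epi (augS J K)).1 ((e J K 0 F).injective
        ((hl φ).symm.trans ((congrArg _ h).trans (hl ψ))))
    · let x : ((Gfun K).obj F.obj).obj ⦋0⦌ := (cech J K F).iCycles 0 z
      have hx : (cech J K F).d 0 1 x = 0 := ConcreteCategory.congr_hom ((cech J K F).iCycles_d 0 1) z
      have : Epi ((ShortComplex.mk _ _ (d_aug (K ⋙ FormalCoproduct.yoneda))).map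
          (presheafToSheaf J AddCommGrpCat.{u})).g := he
      let φ : cZ J ⟶ F := (exact_aug hK).desc ((e J K 0 F).symm x) (eq_e_symm x hx)
      refine ⟨φ, hi ((hl φ).trans ?_)⟩
      rw [show augS J K ≫ φ = (e J K 0 F).symm x from (exact_aug hK).g_desc _ _]
      exact AddEquiv.apply_symm_apply _ _
  unfold toH0
  infer_instance

/-- Zeroth Čech cohomology is morphisms out of the constant sheaf. -/
noncomputable def h0Iso (hK : HyperFill.IsLocTriv J (K ⋙ FormalCoproduct.yoneda)) :
    preadditiveCoyoneda.obj (op (cZ J)) ≅ (sheafToPresheaf J AddCommGrpCat.{u} ⋙ Gfun K) ⋙ H0.{u} :=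
  have := isIso_toH0 hK
  NatIso.ofComponents (fun F => asIso (toH0 J K F)) fun {F G} g => by
    change _ ≫ toH0 J K G = toH0 J K F ≫
      HomologicalComplex.homologyMap ((CosimpDelta.alt AddCommGrpCat.{u}).map ((Gfun K).map g.hom)) 0
    simp only [toH0, Category.assoc, HomologicalComplex.homologyπ_naturality,
      HomologicalComplex.liftCycles_comp_cyclesMap_assoc]
    rw [← Category.assoc]
    congr 1
    rw [← cancel_mono ((cech J K G).iCycles 0), Category.assoc, HomologicalComplex.liftCycles_i,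
      HomologicalComplex.liftCycles_i]
    ext φ
    refine Eq.trans ?_ (e_comp 0 g (augS J K ≫ φ)).symm
    exact congrArg (e J K 0 G) (Category.assoc _ _ _).symm

variable (J) in
/-- Morphisms out of the constant sheaf are global sections. -/
noncomputable def cZEquiv (F : Sheaf J AddCommGrpCat.{u}) : (cZ J ⟶ F) ≃+ (limit F.obj : AddCommGrpCat.{u}) :=
  have : (Functor.const Cᵒᵖ : AddCommGrpCat.{u} ⥤ _).Additive := ⟨fun {_ _ _ _} => rfl⟩
  have := (constLimAdj (J := Cᵒᵖ) (C := AddCommGrpCat.{u})).right_adjoint_additive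
  ((sheafificationAdjunction J AddCommGrpCat.{u}).homAddEquiv _ F).trans
    (((constLimAdj (J := Cᵒᵖ) (C := AddCommGrpCat.{u})).homAddEquiv _ F.obj).trans
      (AddCommGrpCat.uliftZMultiplesAddEquiv _))

end Groth.Agent.Fib44.HyperCech
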