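import Groth.Prelude.Def_Hyper
import Groth.Agent.Hyper50.Sections
import Groth.Agent.Hyper50.LocSurj

/-!
Local filling of boundaries in the simplicial presheaf of a hypercovering of the final object.
-/

set_option autoImplicit false
set_option linter.unusedVariables false
set_option backward.isDefEq.respectTransparency false
set_option backward.isDefEq.respectTransparency.types false

universe u

open CategoryTheory CategoryTheory.Limits Opposite Simplicial

namespace Groth.Agent.Fib44.HyperFill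

variable {C : Type u} [SmallCategory C]

section Compat

/-- A map into a simplex missing two vertices factors through both faces. -/
lemma factor_two {k : ℕ} {m : SimplexCategory} {i : Fin (k + 3)} {j : Fin (k + 3)} (hij : i < j)
    (ψ ψ' : m ⟶ ⦋k + 1⦌) (h : ψ ≫ SimplexCategory.δ i = ψ' ≫ SimplexCategory.δ j) :
    ∃ (i' j' : Fin (k + 2)) (χ : m ⟶ ⦋k⦌), i' ≤ j' ∧ i = i'.castSucc ∧ j = j'.succ ∧
      ψ = χ ≫ SimplexCategory.δ j' ∧ ψ' = χ ≫ SimplexCategory.δ i' := by
  obtain ⟨i', rfl⟩ := Fin.exists_castSucc_eq.2 (Fin.ne_last_of_lt hij)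
  obtain ⟨j', rfl⟩ := Fin.exists_succ_eq.2 (Fin.ne_zero_of_lt hij)
  have hle : i' ≤ j' := Fin.castSucc_lt_succ_iff.1 hij
  have hx : ∀ x, ψ'.toOrderHom x ≠ i' := fun x hx => by
    have h2 : i'.castSucc.succAbove (ψ.toOrderHom x) = j'.succ.succAbove (ψ'.toOrderHom x) :=
      congrArg (fun f => f.toOrderHom x) h
    rw [hx, Fin.succAbove_of_castSucc_lt _ _ hij] at h2
    exact Fin.succAbove_ne _ _ h2
  obtain ⟨χ, hχ⟩ := SimplexCategory.eq_comp_δ_of_not_surjective' ψ' i' hx
  refine ⟨i', j', χ, hle, rfl, rfl, ?_, hχ⟩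
  rw [← cancel_mono (SimplexCategory.δ i'.castSucc), h, hχ, Category.assoc, Category.assoc,
    SimplexCategory.δ_comp_δ hle]

/-- A map between low simplices misses a vertex. -/
lemma exists_miss {m : SimplexCategory} {n : ℕ} (hm : m.len ≤ n) (φ : m ⟶ ⦋n + 1⦌) :
    ∃ (i : Fin (n + 2)) (ψ : m ⟶ ⦋n⦌), φ = ψ ≫ SimplexCategory.δ i := by
  obtain ⟨i, hi⟩ : ∃ i : Fin (n + 2), ∀ x, φ.toOrderHom x ≠ i := by
    by_contra hc
    push Not at hc
    have := Fintype.card_le_of_surjective φ.toOrderHom hc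
    simp at this
    omega
  exact ⟨i, SimplexCategory.eq_comp_δ_of_not_surjective' φ i hi⟩

end Compat

variable (J : GrothendieckTopology C)

/-- A family of simplices which can be the boundary of a simplex. -/
def Compat (P : SimplicialObject (Cᵒᵖ ⥤ Type u)) {n : ℕ} {T : Cᵒᵖ}
    (s : Fin (n + 2) → (P.obj (op ⦋n⦌)).obj T) : Prop :=
  ∀ (m : SimplexCategory) (i j : Fin (n + 2)) (ψ ψ' : m ⟶ ⦋n⦌),
    ψ ≫ SimplexCategory.δ i = ψ' ≫ SimplexCategory.δ j →
      (P.map ψ.op).app T (s i) = (P.map ψ'.op).app T (s j)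

/-- The sieve on which a boundary can be filled. -/
def fillSieve (P : SimplicialObject (Cᵒᵖ ⥤ Type u)) {n : ℕ} {T : C}
    (s : Fin (n + 2) → (P.obj (op ⦋n⦌)).obj (op T)) : Sieve T where
  arrows V g := ∃ x : (P.obj (op ⦋n + 1⦌)).obj (op V), ∀ i,
    (P.map (SimplexCategory.δ i).op).app (op V) x = (P.obj (op ⦋n⦌)).map g.op (s i)
  downward_closed {V W g} := by
    rintro ⟨x, hx⟩ h
    refine ⟨(P.obj (op ⦋n + 1⦌)).map h.op x, fun i => ?_⟩
    rw [NatTrans.naturality_apply, hx, op_comp, Functor.map_comp_apply]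

/-- The sieve on which a vertex exists. -/
def vertexSieve (P : SimplicialObject (Cᵒᵖ ⥤ Type u)) (T : C) : Sieve T where
  arrows V _ := Nonempty ((P.obj (op ⦋0⦌)).obj (op V))
  downward_closed {V W g} := fun ⟨x⟩ h => ⟨(P.obj (op ⦋0⦌)).map h.op x⟩

/-- Every compatible family of faces can be filled locally. -/
structure IsLocTriv (P : SimplicialObject (Cᵒᵖ ⥤ Type u)) : Prop where
  vertex : ∀ T : C, vertexSieve P T ∈ J T
  fill : ∀ (n : ℕ) (T : C) (s : Fin (n + 2) → (P.obj (op ⦋n⦌)).obj (op T)),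
    Compat P s → fillSieve P s ∈ J T

/-- Compatibility follows from the simplicial identity. -/
lemma compat_of_δ (P : SimplicialObject (Cᵒᵖ ⥤ Type u)) {k : ℕ} {T : Cᵒᵖ}
    (s : Fin (k + 3) → (P.obj (op ⦋k + 1⦌)).obj T)
    (h : ∀ i j : Fin (k + 2), i ≤ j → (P.map (SimplexCategory.δ i).op).app T (s j.succ) =
      (P.map (SimplexCategory.δ j).op).app T (s i.castSucc)) :
    Compat P s := by
  have hlt : ∀ (m : SimplexCategory) (i j : Fin (k + 3)) (ψ ψ' : m ⟶ ⦋k + 1⦌), i < j →
      ψ ≫ SimplexCategory.δ i = ψ' ≫ SimplexCategory.δ j →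
      (P.map ψ.op).app T (s i) = (P.map ψ'.op).app T (s j) := by
    intro m i j ψ ψ' hij he
    obtain ⟨i', j', χ, hle, rfl, rfl, rfl, rfl⟩ := factor_two hij ψ ψ' he
    simp only [op_comp, Functor.map_comp, NatTrans.comp_app, ConcreteCategory.comp_apply, h i' j' hle]
  intro m i j ψ ψ' he
  rcases lt_trichotomy i j with hij | rfl | hij
  · exact hlt m i j ψ ψ' hij he
  · rw [(cancel_mono _).1 he]
  · exact (hlt m j i ψ' ψ hij he.symm).symm

lemma succAbove_zero_inj (i j : Fin 2) (h : i.succAbove (0 : Fin 1) = j.succAbove (0 : Fin 1)) :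
    i = j := by
  revert i j
  decide

lemma compat_zero (P : SimplicialObject (Cᵒᵖ ⥤ Type u)) {T : Cᵒᵖ}
    (s : Fin 2 → (P.obj (op ⦋0⦌)).obj T) : Compat P s := by
  intro m i j ψ ψ' he
  obtain rfl : i = j := by
    by_contra hne
    have h2 : i.succAbove (ψ.toOrderHom 0) = j.succAbove (ψ'.toOrderHom 0) :=
      congrArg (fun f => f.toOrderHom 0) he
    have a0 : ψ.toOrderHom 0 = 0 := Fin.ext (Nat.lt_one_iff.1 (ψ.toOrderHom 0).isLt)
    have b0 : ψ'.toOrderHom 0 = 0 := Fin.ext (Nat.lt_one_iff.1 (ψ'.toOrderHom 0).isLt)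
    rw [a0, b0] at h2
    exact hne (succAbove_zero_inj i j h2)
  rw [(cancel_mono _).1 he]

section Hypercovering

variable (K : SimplicialObject (FormalCoproduct.{u} C))

/-- Sections of a formal coproduct are morphisms from a single object. -/
noncomputable def secIso (T : Cᵒᵖ) : FormalCoproduct.yoneda ⋙ (evaluation Cᵒᵖ (Type u)).obj T ≅
    coyoneda.obj (op ((FormalCoproduct.incl C).obj T.unop)) :=
  Functor.isoWhiskerRight Hyper50.yonedaIsoPts _ ≪≫ Hyper50.ptsFlipIso T

lemma secIso_naturality {T : Cᵒᵖ} {L L' : FormalCoproduct.{u} C} (f : L ⟶ L')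
    (x : (FormalCoproduct.yoneda.obj L).obj T) :
    (secIso T).hom.app L' ((FormalCoproduct.yoneda.map f).app T x) = (secIso T).hom.app L x ≫ f :=
  NatTrans.naturality_apply (secIso T).hom f x

lemma secIso_inj {T : Cᵒᵖ} {L : FormalCoproduct.{u} C} {x y : (FormalCoproduct.yoneda.obj L).obj T}
    (h : (secIso T).hom.app L x = (secIso T).hom.app L y) : x = y :=
  ((isIso_iff_bijective _).1 (inferInstance : IsIso ((secIso T).hom.app L))).1 h

/-- Copies of one object indexed by the simplices of a standard simplex. -/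
def simp (n : ℕ) (T : C) : SimplicialObject (FormalCoproduct.{u} C) where
  obj m := ⟨ULift.{u} (m.unop ⟶ ⦋n⦌), fun _ => T⟩
  map g := ⟨fun φ => ⟨g.unop ≫ φ.down⟩, fun _ => 𝟙 T⟩
  map_id m := FormalCoproduct.hom_ext (funext fun φ => ULift.ext _ _ (Category.id_comp _))
    (fun _ => by simp)
  map_comp g h := FormalCoproduct.hom_ext
    (funext fun φ => ULift.ext _ _ (Category.assoc _ _ _)) (fun _ => by simp)

variable {K}

/-- The map out of copies of one object given by a family. -/
noncomputable def simpDesc {n : ℕ} {T : C} {m : SimplexCategory} {L : FormalCoproduct.{u} C}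
    (a : ∀ φ : m ⟶ ⦋n⦌, (FormalCoproduct.incl C).obj T ⟶ L) : (simp n T).obj (op m) ⟶ L :=
  ⟨fun φ => (a φ.down).f PUnit.unit, fun φ => (a φ.down).φ PUnit.unit⟩

/-- The inclusion of one copy. -/
def simpι {n : ℕ} {T : C} {m : SimplexCategory} (φ : m ⟶ ⦋n⦌) :
    (FormalCoproduct.incl C).obj T ⟶ (simp n T).obj (op m) :=
  FormalCoproduct.Hom.fromIncl ⟨φ⟩ (𝟙 T)

@[reassoc]
lemma simpι_desc {n : ℕ} {T : C} {m : SimplexCategory} {L : FormalCoproduct.{u} C}
    (a : ∀ φ : m ⟶ ⦋n⦌, (FormalCoproduct.incl C).obj T ⟶ L) (φ : m ⟶ ⦋n⦌) :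
    simpι φ ≫ simpDesc a = a φ :=
  FormalCoproduct.hom_ext rfl fun _ => (Category.comp_id _).trans (Category.id_comp _)

lemma simpι_map {n : ℕ} {T : C} {m m' : SimplexCategory} (g : m' ⟶ m) (φ : m ⟶ ⦋n⦌) :
    simpι (T := T) φ ≫ (simp n T).map g.op = simpι (g ≫ φ) :=
  FormalCoproduct.hom_ext rfl fun _ => (Category.comp_id _).trans (Category.id_comp _)

lemma simp_hom_ext {n : ℕ} {T : C} {m : SimplexCategory} {L : FormalCoproduct.{u} C}
    {a b : (simp n T).obj (op m) ⟶ L} (h : ∀ φ, simpι φ ≫ a = simpι φ ≫ b) : a = b := by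
  refine (FormalCoproduct.hom_ext_iff' a b).2 fun ⟨φ⟩ => ?_
  obtain ⟨h1, h2⟩ := (FormalCoproduct.hom_ext_iff' _ _).1 (h φ) PUnit.unit
  refine ⟨h1, ?_⟩
  refine ((Category.id_comp _).symm.trans ((Category.assoc _ _ _).symm.trans ?_)).trans (Category.id_comp _)
  exact h2

variable [∀ (n : ℕ) (F : (SimplexCategory.Truncated n)ᵒᵖ ⥤ FormalCoproduct.{u} C),
  (SimplexCategory.Truncated.inclusion n).op.HasRightKanExtension F]

/-- The counit in degree `k ≤ n`. -/
noncomputable abbrev ε (n : ℕ) (F : SimplicialObject.Truncated (FormalCoproduct.{u} C) n)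
    (m : SimplexCategory) (hm : m.len ≤ n) :
    ((SimplicialObject.Truncated.cosk n).obj F).obj (op m) ⟶ F.obj (op ⟨m, hm⟩) :=
  ((SimplicialObject.coskAdj n).counit.app F).app (op ⟨m, hm⟩)

lemma unit_ε (n : ℕ) (m : SimplexCategory) (hm : m.len ≤ n) :
    ((SimplicialObject.coskAdj n).unit.app K).app (op m) ≫
      ε n ((SimplicialObject.truncation n).obj K) m hm = 𝟙 _ :=
  congr_app ((SimplicialObject.coskAdj n).left_triangle_components K) (op ⟨m, hm⟩)

/-- The map out of copies of one object attached to a simplex. -/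
noncomputable def ofSimplex {n : ℕ} {T : C} {L : SimplicialObject (FormalCoproduct.{u} C)}
    (b : (FormalCoproduct.incl C).obj T ⟶ L.obj (op ⦋n⦌)) : simp n T ⟶ L where
  app m := simpDesc (m := m.unop) fun φ => b ≫ L.map φ.op
  naturality m m' g := simp_hom_ext fun φ => by
    change simpι φ ≫ (simp n T).map g.unop.op ≫ simpDesc _ = simpι φ ≫ simpDesc _ ≫ L.map g
    rw [← Category.assoc, simpι_map, simpι_desc, simpι_desc_assoc, op_comp, Functor.map_comp,
      Category.assoc]
    rfl

/-- Sections of the coskeleton in low degrees are detected by the counit. -/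
lemma ε_hom_ext {n k : ℕ} (hk : k ≤ n) {T : C}
    {F : SimplicialObject.Truncated (FormalCoproduct.{u} C) n}
    {b b' : (FormalCoproduct.incl C).obj T ⟶ ((SimplicialObject.Truncated.cosk n).obj F).obj (op ⦋k⦌)}
    (h : b ≫ ε n F ⦋k⦌ hk = b' ≫ ε n F ⦋k⦌ hk) : b = b' := by
  have key : ofSimplex b = ofSimplex b' := by
    apply ((SimplicialObject.coskAdj n).homEquiv _ _).symm.injective
    rw [Adjunction.homEquiv_counit, Adjunction.homEquiv_counit]
    ext m : 2
    refine simp_hom_ext fun φ => ?_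
    change simpι φ ≫ simpDesc _ ≫ ε n F m.unop.obj m.unop.property =
      simpι φ ≫ simpDesc _ ≫ ε n F m.unop.obj m.unop.property
    rw [simpι_desc_assoc, simpι_desc_assoc, Category.assoc, Category.assoc]
    have hn : ((SimplicialObject.Truncated.cosk n).obj F).map φ.op ≫ ε n F m.unop.obj m.unop.property =
        ε n F ⦋k⦌ hk ≫ F.map
          ((InducedCategory.homMk φ : m.unop ⟶ (⟨⦋k⦌, hk⟩ : SimplexCategory.Truncated n))).op :=
      ((SimplicialObject.coskAdj n).counit.app F).naturality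
        ((InducedCategory.homMk φ : m.unop ⟶ (⟨⦋k⦌, hk⟩ : SimplexCategory.Truncated n))).op
    rw [hn, reassoc_of% h]
  have h2 := congr_arg (fun t => simpι (T := T) (𝟙 ⦋k⦌) ≫ t.app (op ⦋k⦌)) key
  simpa [ofSimplex, simpι_desc] using h2

theorem exists_filler_cosk {n : ℕ} {T : C}
    (s : Fin (n + 2) → ((K ⋙ FormalCoproduct.yoneda).obj (op ⦋n⦌)).obj (op T))
    (hs : Compat (K ⋙ FormalCoproduct.yoneda) s) :
    ∃ y : (FormalCoproduct.yoneda.obj (((SimplicialObject.Truncated.cosk n).obj
        ((SimplicialObject.truncation n).obj K)).obj (op ⦋n + 1⦌))).obj (op T), ∀ i,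
      (FormalCoproduct.yoneda.map (((SimplicialObject.Truncated.cosk n).obj
        ((SimplicialObject.truncation n).obj K)).map (SimplexCategory.δ i).op)).app (op T) y =
      (FormalCoproduct.yoneda.map (((SimplicialObject.coskAdj n).unit.app K).app (op ⦋n⦌))).app (op T)
        (s i) := by
  let a : ∀ i, (FormalCoproduct.incl C).obj T ⟶ K.obj (op ⦋n⦌) := fun i => (secIso (op T)).hom.app _ (s i)
  have ha : ∀ (m : SimplexCategory) (i j : Fin (n + 2)) (ψ ψ' : m ⟶ ⦋n⦌),
      ψ ≫ SimplexCategory.δ i = ψ' ≫ SimplexCategory.δ j → a i ≫ K.map ψ.op = a j ≫ K.map ψ'.op := by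
    intro m i j ψ ψ' he
    exact ((secIso_naturality (K.map ψ.op) (s i)).symm.trans (congrArg _ (hs m i j ψ ψ' he))).trans
      (secIso_naturality (K.map ψ'.op) (s j))
  let e : ∀ (m : SimplexCategory) (_ : m.len ≤ n), (m ⟶ ⦋n + 1⦌) →
      ((FormalCoproduct.incl C).obj T ⟶ K.obj (op m)) := fun m hm φ =>
    a (exists_miss hm φ).choose ≫ K.map (exists_miss hm φ).choose_spec.choose.op
  have he : ∀ (m : SimplexCategory) (hm : m.len ≤ n) (i : Fin (n + 2)) (ψ : m ⟶ ⦋n⦌),
      e m hm (ψ ≫ SimplexCategory.δ i) = a i ≫ K.map ψ.op := fun m hm i ψ =>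
    ha _ _ _ _ _ (exists_miss hm (ψ ≫ SimplexCategory.δ i)).choose_spec.choose_spec.symm
  let σ : (SimplicialObject.truncation n).obj (simp (n + 1) T) ⟶ (SimplicialObject.truncation n).obj K :=
    { app := fun m => simpDesc (e m.unop.obj m.unop.property)
      naturality := fun m m' g => simp_hom_ext fun φ => by
        change simpι φ ≫ (simp (n + 1) T).map g.unop.hom.op ≫ simpDesc _ =
          simpι φ ≫ simpDesc _ ≫ K.map g.unop.hom.op
        rw [← Category.assoc, simpι_map, simpι_desc, simpι_desc_assoc]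
        obtain ⟨i, ψ, rfl⟩ := exists_miss m.unop.property φ
        rw [← Category.assoc, he _ m'.unop.property, he _ m.unop.property, Category.assoc,
          ← Functor.map_comp]
        rfl }
  let t := (SimplicialObject.coskAdj n).homEquiv _ _ σ
  refine ⟨(secIso (op T)).inv.app _ (simpι (𝟙 _) ≫ t.app (op ⦋n + 1⦌)), fun i => secIso_inj ?_⟩
  erw [secIso_naturality, secIso_naturality, Iso.inv_hom_id_app_apply]
  erw [Category.assoc, ← t.naturality, ← Category.assoc, simpι_map, Category.comp_id]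
  refine ε_hom_ext (le_refl n) ?_
  have h1 : ((SimplicialObject.truncation n).map t ≫ (SimplicialObject.coskAdj n).counit.app _) = σ :=
    ((SimplicialObject.coskAdj n).homEquiv_counit _ _ _).symm.trans (Equiv.symm_apply_apply _ _)
  refine (Category.assoc _ _ _).trans ((congrArg (simpι (SimplexCategory.δ i) ≫ ·)
    (congr_app h1 (op ⟨⦋n⦌, le_refl n⟩))).trans ?_)
  refine Eq.trans ?_ (((Category.assoc _ _ _).trans (congrArg (_ ≫ ·) (unit_ε n ⦋n⦌ le_rfl))).trans
    (Category.comp_id _)).symm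
  refine (simpι_desc _ (SimplexCategory.δ i)).trans ?_
  refine (congrArg (e ⦋n⦌ (le_refl n)) (Category.id_comp (SimplexCategory.δ i)).symm).trans
    ((he ⦋n⦌ (le_refl n) i (𝟙 _)).trans ?_)
  rw [op_id, K.map_id, Category.comp_id]
  rfl

variable {J}

theorem isLocTriv (hK : Hyper.IsHypercoveringSite J K) :
    IsLocTriv J (K ⋙ FormalCoproduct.yoneda) where
  vertex T := by
    have := hK.1
    refine J.superset_covering (fun V g hg => ?_) (Presheaf.imageSieve_mem J
      (terminal.from (FormalCoproduct.yoneda.obj (K.obj (op ⦋0⦌)))) (U := op T)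
      (((terminal.from ((Functor.const Cᵒᵖ).obj (PUnit.{u + 1} : Type u))).app (op T)) PUnit.unit))
    exact ⟨hg.choose⟩
  fill n T s hs := by
    rcases n with _ | n
    · have := hK.2.1
      let pr := prod.lift (FormalCoproduct.yoneda.map (K.δ (1 : Fin 2)))
        (FormalCoproduct.yoneda.map (K.δ (0 : Fin 2)))
      let P0 := FormalCoproduct.yoneda.obj (K.obj (op ⦋0⦌))
      let E := PreservesLimitPair.iso ((evaluation Cᵒᵖ (Type u)).obj (op T)) P0 P0
      let w : (P0 ⨯ P0).obj (op T) :=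
        E.inv ((Types.binaryProductIso (P0.obj (op T)) (P0.obj (op T))).inv ((s 1, s 0) : P0.obj (op T) × P0.obj (op T)))
      refine J.superset_covering (fun V g hg => ?_) (Presheaf.imageSieve_mem J pr w)
      obtain ⟨x, hx⟩ := hg
      have w1 : (prod.fst : P0 ⨯ P0 ⟶ P0).app (op T) w = s 1 :=
        (ConcreteCategory.congr_hom (PreservesLimitPair.iso_inv_fst
          ((evaluation Cᵒᵖ (Type u)).obj (op T)) P0 P0) _).trans
          (ConcreteCategory.congr_hom (Types.binaryProductIso_inv_comp_fst (P0.obj (op T)) (P0.obj (op T))) ((s 1, s 0) : P0.obj (op T) × P0.obj (op T)))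
      have w0 : (prod.snd : P0 ⨯ P0 ⟶ P0).app (op T) w = s 0 :=
        (ConcreteCategory.congr_hom (PreservesLimitPair.iso_inv_snd
          ((evaluation Cᵒᵖ (Type u)).obj (op T)) P0 P0) _).trans
          (ConcreteCategory.congr_hom (Types.binaryProductIso_inv_comp_snd (P0.obj (op T)) (P0.obj (op T))) ((s 1, s 0) : P0.obj (op T) × P0.obj (op T)))
      refine ⟨x, Fin.forall_fin_two.2 ⟨?_, ?_⟩⟩
      · have h := congrArg ((prod.snd : P0 ⨯ P0 ⟶ P0).app (op V)) hx
        rw [NatTrans.naturality_apply, w0, ← ConcreteCategory.comp_apply, ← NatTrans.comp_app,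
          prod.lift_snd] at h
        exact h
      · have h := congrArg ((prod.fst : P0 ⨯ P0 ⟶ P0).app (op V)) hx
        rw [NatTrans.naturality_apply, w1, ← ConcreteCategory.comp_apply, ← NatTrans.comp_app,
          prod.lift_fst] at h
        exact h
    · have := hK.2.2 (n + 1) (Nat.le_add_left 1 n)
      obtain ⟨y, hy⟩ := exists_filler_cosk s hs
      refine J.superset_covering (fun V g hg => ?_) (Presheaf.imageSieve_mem J (U := op T) (FormalCoproduct.yoneda.map
        (((SimplicialObject.coskAdj (n + 1)).unit.app K).app (op ⦋n + 1 + 1⦌))) y)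
      obtain ⟨x, hx⟩ := hg
      refine ⟨x, fun i => ?_⟩
      have hmono : Function.Injective ((FormalCoproduct.yoneda.map
          (((SimplicialObject.coskAdj (n + 1)).unit.app K).app (op ⦋n + 1⦌))).app (op V)) := by
        intro a b hab
        refine secIso_inj ?_
        have h := congrArg ((secIso (op V)).hom.app _) hab
        rw [secIso_naturality, secIso_naturality] at h
        have h' := congrArg (· ≫ ε (n + 1) ((SimplicialObject.truncation (n + 1)).obj K) ⦋n + 1⦌ le_rfl) h
        simp only [Category.assoc] at h'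
        erw [unit_ε, Category.comp_id, Category.comp_id] at h'
        exact h'
      apply hmono
      have hnat := congrArg (fun f => (FormalCoproduct.yoneda.map f).app (op V) x)
        (((SimplicialObject.coskAdj (n + 1)).unit.app K).naturality (SimplexCategory.δ i).op)
      simp only [Functor.map_comp, NatTrans.comp_app, ConcreteCategory.comp_apply] at hnat
      refine hnat.trans ?_
      refine (congrArg _ hx).trans ?_
      refine (NatTrans.naturality_apply (FormalCoproduct.yoneda.map _) g.op y).trans ?_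
      refine (congrArg _ (hy i)).trans ?_
      exact (NatTrans.naturality_apply (FormalCoproduct.yoneda.map
        (((SimplicialObject.coskAdj (n + 1)).unit.app K).app (op ⦋n + 1⦌))) g.op (s i)).symm

end Hypercovering

end Groth.Agent.Fib44.HyperFill
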