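import Groth.Agent.Fib44.HyperFill
import Mathlib.AlgebraicTopology.AlternatingFaceMapComplex
import Mathlib.Algebra.Homology.ShortComplex.Exact
import Mathlib.Algebra.Homology.ShortComplex.Ab
import Mathlib.CategoryTheory.Adjunction.Additive
import Mathlib.CategoryTheory.Abelian.FunctorCategory
import Mathlib.CategoryTheory.Sites.Abelian
import Mathlib.CategoryTheory.Sites.ConstantSheaf
import Mathlib.CategoryTheory.Sites.Limits
import Mathlib.Data.Finite.Sum

/-!
Free abelian sheaves on a locally contractible simplicial presheaf resolve the constant sheaf.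
-/

set_option autoImplicit false
set_option linter.unusedVariables false
set_option backward.isDefEq.respectTransparency false
set_option backward.isDefEq.respectTransparency.types false

universe u

open CategoryTheory CategoryTheory.Limits Opposite Simplicial

namespace Groth.Agent.Fib44.HyperFree

open HyperFill

variable {C : Type u} [SmallCategory C] {J : GrothendieckTopology C}
  (P : SimplicialObject (Cᵒᵖ ⥤ Type u))

/-- A face on sections. -/
abbrev dP {n : ℕ} {T : Cᵒᵖ} (i : Fin (n + 2)) (x : (P.obj (op ⦋n + 1⦌)).obj T) :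
    (P.obj (op ⦋n⦌)).obj T :=
  (P.map (SimplexCategory.δ i).op).app T x

/-- Restriction of sections. -/
abbrev res {n : ℕ} {T V : C} (g : V ⟶ T) (x : (P.obj (op ⦋n⦌)).obj (op T)) :
    (P.obj (op ⦋n⦌)).obj (op V) :=
  (P.obj (op ⦋n⦌)).map g.op x

variable {P}

lemma dP_res {n : ℕ} {T V : C} (i : Fin (n + 2)) (g : V ⟶ T) (x : (P.obj (op ⦋n + 1⦌)).obj (op T)) :
    dP P i (res P g x) = res P g (dP P i x) :=
  NatTrans.naturality_apply (P.map (SimplexCategory.δ i).op) g.op x

lemma res_res {n : ℕ} {T V W : C} (g : V ⟶ T) (h : W ⟶ V) (x : (P.obj (op ⦋n⦌)).obj (op T)) :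
    res P h (res P g x) = res P (h ≫ g) x :=
  (Functor.map_comp_apply (P.obj (op ⦋n⦌)) g.op h.op x).symm

lemma dP_dP {n : ℕ} {T : Cᵒᵖ} {i j : Fin (n + 2)} (h : i ≤ j)
    (x : (P.obj (op ⦋n + 2⦌)).obj T) :
    dP P i (dP P j.succ x) = dP P j (dP P i.castSucc x) :=
  ConcreteCategory.congr_hom (NatTrans.congr_app ((P.map_comp _ _).symm.trans
    ((congrArg (fun f => P.map (Quiver.Hom.op f)) (SimplexCategory.δ_comp_δ h)).trans
      (P.map_comp _ _))) T) x

variable (P) in
/-- Two simplices have the same face. -/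
def lowerEq {T : Cᵒᵖ} : ∀ (m : ℕ), Fin (m + 1) → Fin (m + 1) →
    (P.obj (op ⦋m⦌)).obj T → (P.obj (op ⦋m⦌)).obj T → Prop
  | 0 => fun _ _ _ _ => True
  | _ + 1 => fun a b x y => dP P a x = dP P b y

variable (P) in
/-- A cone on a family of simplices. -/
def IsCone {m : ℕ} {ι : Type u} {T V : C} (x : ι → (P.obj (op ⦋m⦌)).obj (op T)) (g : V ⟶ T)
    (c : ι → (P.obj (op ⦋m + 1⦌)).obj (op V)) : Prop :=
  (∀ k, dP P 0 (c k) = res P g (x k)) ∧
    ∀ (k l : ι) (a b : Fin (m + 1)), lowerEq P m a b (x k) (x l) →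
      dP P a.succ (c k) = dP P b.succ (c l)

variable (P) in
/-- The sieve on which a cone exists. -/
def coneSieve {m : ℕ} {ι : Type u} {T : C} (x : ι → (P.obj (op ⦋m⦌)).obj (op T)) : Sieve T where
  arrows V g := ∃ c, IsCone P x g c
  downward_closed {V W g} := by
    rintro ⟨c, hc₀, hc⟩ h
    refine ⟨fun k => res P h (c k), fun k => ?_, fun k l a b e => ?_⟩
    · rw [dP_res, hc₀, res_res]
    · rw [dP_res, dP_res, hc k l a b e]

theorem coneSieve_mem (hP : IsLocTriv J P) : ∀ (m : ℕ) {ι : Type u} [Finite ι] {T : C}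
    (x : ι → (P.obj (op ⦋m⦌)).obj (op T)), coneSieve P x ∈ J T := by
  intro m
  induction m with
  | zero =>
    intro ι _ T x
    refine J.transitive (hP.vertex T) _ fun V g hv => ?_
    obtain ⟨v⟩ := hv
    obtain ⟨R, hR, hle⟩ := Hyper50.iInf_mem_of_finite J
      (fun k => fillSieve P (n := 0) ![res P g (x k), v])
      (fun k => hP.fill 0 V _ (compat_zero P _))
    refine J.superset_covering (fun W h hh => ?_) hR
    choose c hc using fun k => hle k h hh
    refine ⟨c, fun k => (hc k 0).trans (res_res g h (x k)), fun k l a b _ => ?_⟩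
    obtain rfl : a = 0 := Fin.ext (Nat.lt_one_iff.1 a.isLt)
    obtain rfl : b = 0 := Fin.ext (Nat.lt_one_iff.1 b.isLt)
    exact (hc k 1).trans (hc l 1).symm
  | succ m ih =>
    intro ι _ T x
    let Y := Set.range fun p : ι × Fin (m + 2) => dP P p.2 (x p.1)
    have : Finite Y := Set.finite_range _
    refine J.transitive (ih (ι := Y) (fun y => y.1)) _ fun V g hg => ?_
    obtain ⟨c', hc₀', hc'⟩ := hg
    let q : ι → Fin (m + 2) → Y := fun k a => ⟨dP P a (x k), (k, a), rfl⟩
    let s : ι → Fin (m + 3) → (P.obj (op ⦋m + 1⦌)).obj (op V) :=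
      fun k => Fin.cons (res P g (x k)) fun a => c' (q k a)
    have hs : ∀ k, Compat P (s k) := fun k => compat_of_δ P _ fun i j hij => by
      change dP P i (s k j.succ) = dP P j (s k i.castSucc)
      induction i using Fin.cases with
      | zero =>
        simp only [s, Fin.cons_succ, Fin.castSucc_zero, Fin.cons_zero]
        rw [hc₀', dP_res]
      | succ i =>
        obtain ⟨j, rfl⟩ := Fin.exists_succ_eq.2 (Fin.ne_zero_of_lt (lt_of_lt_of_le i.succ_pos hij))
        simp only [s, Fin.cons_succ, Fin.castSucc_succ]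
        apply hc'
        rcases m with _ | m
        · trivial
        · exact dP_dP (Fin.succ_le_succ_iff.1 hij) (x k)
    obtain ⟨R, hR, hle⟩ := Hyper50.iInf_mem_of_finite J (fun k => fillSieve P (s k))
      (fun k => hP.fill (m + 1) V _ (hs k))
    refine J.superset_covering (fun W h hh => ?_) hR
    choose c hc using fun k => hle k h hh
    refine ⟨c, fun k => (hc k 0).trans (res_res g h (x k)), fun k l a b e => ?_⟩
    have e' : q k a = q l b := Subtype.ext e
    have h1 : dP P a.succ (c k) = res P h (c' (q k a)) := hc k a.succ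
    have h2 : dP P b.succ (c l) = res P h (c' (q l b)) := hc l b.succ
    rw [h1, h2, e']

section Chains

variable (P)

/-- The boundary on free groups of sections. -/
noncomputable def dF (n : ℕ) (T : Cᵒᵖ) :
    FreeAbelianGroup ((P.obj (op ⦋n + 1⦌)).obj T) →+ FreeAbelianGroup ((P.obj (op ⦋n⦌)).obj T) :=
  FreeAbelianGroup.lift fun x => ∑ i : Fin (n + 2),
    (-1 : ℤ) ^ (i : ℕ) • FreeAbelianGroup.of (dP P i x)

/-- Restriction on free groups of sections. -/
noncomputable def rF (n : ℕ) {T V : C} (g : V ⟶ T) :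
    FreeAbelianGroup ((P.obj (op ⦋n⦌)).obj (op T)) →+ FreeAbelianGroup ((P.obj (op ⦋n⦌)).obj (op V)) :=
  FreeAbelianGroup.map (res P g)

/-- The augmentation on free groups of sections. -/
noncomputable def εF (T : Cᵒᵖ) : FreeAbelianGroup ((P.obj (op ⦋0⦌)).obj T) →+ ULift.{u} ℤ :=
  FreeAbelianGroup.lift fun _ => ULift.up 1

omit P in
lemma exists_family {α : Type u} (z : FreeAbelianGroup α) :
    ∃ (ι : Type u) (_ : Finite ι) (x : ι → α) (w : FreeAbelianGroup ι), FreeAbelianGroup.map x w = z := by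
  induction z using FreeAbelianGroup.induction_on with
  | zero => exact ⟨PEmpty.{u + 1}, inferInstance, PEmpty.elim, 0, map_zero _⟩
  | of a => exact ⟨PUnit.{u + 1}, inferInstance, fun _ => a, FreeAbelianGroup.of PUnit.unit,
      FreeAbelianGroup.map_of_apply _⟩
  | neg a h =>
    obtain ⟨ι, hι, x, w, hw⟩ := h
    exact ⟨ι, hι, x, -w, (map_neg _ _).trans (congrArg Neg.neg hw)⟩
  | add a b ha hb =>
    obtain ⟨ι, hι, x, w, rfl⟩ := ha
    obtain ⟨κ, hκ, y, v, rfl⟩ := hb
    refine ⟨ι ⊕ κ, inferInstance, Sum.elim x y,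
      FreeAbelianGroup.map Sum.inl w + FreeAbelianGroup.map Sum.inr v, ?_⟩
    rw [map_add, ← FreeAbelianGroup.map_comp_apply, ← FreeAbelianGroup.map_comp_apply]
    rfl

variable {P}

theorem cycle_mem (hP : IsLocTriv J P) (n : ℕ) {T : C}
    (z : FreeAbelianGroup ((P.obj (op ⦋n + 1⦌)).obj (op T))) (hz : dF P n (op T) z = 0)
    (S : Sieve T) (hS : ∀ (V : C) (g : V ⟶ T), (∃ y, dF P (n + 1) (op V) y = rF P (n + 1) g z) → S g) :
    S ∈ J T := by
  classical
  obtain ⟨ι, hι, x, w, rfl⟩ := exists_family z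
  refine J.superset_covering (fun V g hg => hS V g ?_) (coneSieve_mem hP (n + 1) x)
  obtain ⟨c, hc₀, hc⟩ := hg
  let φ : (P.obj (op ⦋n⦌)).obj (op T) → FreeAbelianGroup ((P.obj (op ⦋n + 1⦌)).obj (op V)) := fun y =>
    if h : ∃ p : ι × Fin (n + 2), dP P p.2 (x p.1) = y then
      FreeAbelianGroup.of (dP P h.choose.2.succ (c h.choose.1)) else 0
  have hφ : ∀ k a, φ (dP P a (x k)) = FreeAbelianGroup.of (dP P a.succ (c k)) := fun k a => by
    have h : ∃ p : ι × Fin (n + 2), dP P p.2 (x p.1) = dP P a (x k) := ⟨(k, a), rfl⟩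
    simp only [φ, dif_pos h]
    rw [hc h.choose.1 k h.choose.2 a h.choose_spec]
  have key : (dF P (n + 1) (op V)).comp (FreeAbelianGroup.map c) +
      ((FreeAbelianGroup.lift φ).comp ((dF P n (op T)).comp (FreeAbelianGroup.map x))) =
      (rF P (n + 1) g).comp (FreeAbelianGroup.map x) := by
    refine FreeAbelianGroup.lift_ext _ _ fun k => ?_
    simp only [AddMonoidHom.add_apply, AddMonoidHom.comp_apply, FreeAbelianGroup.map_of_apply, dF, rF,
      FreeAbelianGroup.lift_apply_of, map_sum, map_zsmul, hφ]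
    rw [Fin.sum_univ_succ]
    simp only [Fin.val_zero, pow_zero, one_smul, Fin.val_succ, pow_succ, mul_neg, mul_one, neg_smul,
      Finset.sum_neg_distrib, hc₀]
    abel
  refine ⟨FreeAbelianGroup.map c w, ?_⟩
  have := DFunLike.congr_fun key w
  simp only [AddMonoidHom.add_apply, AddMonoidHom.comp_apply, hz, map_zero, add_zero] at this
  exact this

theorem cycle_zero_mem (hP : IsLocTriv J P) {T : C}
    (z : FreeAbelianGroup ((P.obj (op ⦋0⦌)).obj (op T))) (hz : εF P (op T) z = 0)
    (S : Sieve T) (hS : ∀ (V : C) (g : V ⟶ T), (∃ y, dF P 0 (op V) y = rF P 0 g z) → S g) :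
    S ∈ J T := by
  classical
  obtain ⟨ι, hι, x, w, rfl⟩ := exists_family z
  refine J.superset_covering (fun V g hg => hS V g ?_) (coneSieve_mem hP 0 x)
  obtain ⟨c, hc₀, hc⟩ := hg
  let v : FreeAbelianGroup ((P.obj (op ⦋0⦌)).obj (op V)) :=
    if h : Nonempty ι then FreeAbelianGroup.of (dP P 1 (c (Classical.choice h))) else 0
  have hv : ∀ k, FreeAbelianGroup.of (dP P 1 (c k)) = v := fun k => by
    simp only [v, dif_pos (⟨k⟩ : Nonempty ι)]
    exact congrArg _ (hc k _ 0 0 trivial)
  let ψ : ULift.{u} ℤ →+ FreeAbelianGroup ((P.obj (op ⦋0⦌)).obj (op V)) :=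
    AddMonoidHom.mk' (fun m => m.down • v) (fun a b => add_smul _ _ _)
  have key : (dF P 0 (op V)).comp (FreeAbelianGroup.map c) +
      (ψ.comp ((εF P (op T)).comp (FreeAbelianGroup.map x))) =
      (rF P 0 g).comp (FreeAbelianGroup.map x) := by
    refine FreeAbelianGroup.lift_ext _ _ fun k => ?_
    simp only [AddMonoidHom.add_apply, AddMonoidHom.comp_apply, FreeAbelianGroup.map_of_apply, dF, rF,
      εF, FreeAbelianGroup.lift_apply_of]
    rw [show (∑ i : Fin (0 + 2), (-1 : ℤ) ^ (i : ℕ) • FreeAbelianGroup.of (dP P i (c k))) =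
      FreeAbelianGroup.of (dP P 0 (c k)) - FreeAbelianGroup.of (dP P 1 (c k)) by
        rw [Fin.sum_univ_succ, Fin.sum_univ_succ, Fin.sum_univ_zero]
        simp [sub_eq_add_neg], hc₀, hv]
    change _ - v + (1 : ℤ) • v = _
    rw [one_smul]
    abel
  refine ⟨FreeAbelianGroup.map c w, ?_⟩
  have := DFunLike.congr_fun key w
  simp only [AddMonoidHom.add_apply, AddMonoidHom.comp_apply, hz, map_zero, add_zero] at this
  exact this

end Chains

section Sheaves

lemma sep {F : Sheaf J AddCommGrpCat.{u}} {V : C} {S : Sieve V} (hS : S ∈ J V) {s t : F.obj.obj (op V)}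
    (h : ∀ (W : C) (g : W ⟶ V), S g → F.obj.map g.op s = F.obj.map g.op t) : s = t :=
  (((isSheaf_iff_isSheaf_of_type _ _).1 ((sheafCompose J (forget AddCommGrpCat.{u})).obj F).property)
    _ hS).isSeparatedFor.ext fun W g hg => h W g hg

variable (J) in
instance additive_presheafToSheaf : (presheafToSheaf J AddCommGrpCat.{u}).Additive :=
  (sheafificationAdjunction J AddCommGrpCat.{u}).left_adjoint_additive

/-- The sieve on which a section is a boundary. -/
def bdrySieve (S : ShortComplex (Cᵒᵖ ⥤ AddCommGrpCat.{u})) {T : C} (z : S.X₂.obj (op T)) : Sieve T where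
  arrows V g := ∃ y, S.f.app (op V) y = S.X₂.map g.op z
  downward_closed {V W g} := by
    rintro ⟨y, hy⟩ h
    exact ⟨S.X₁.map h.op y, by rw [NatTrans.naturality_apply, hy, op_comp, Functor.map_comp_apply]⟩

/-- Exactness after sheafification can be checked locally on sections. -/
theorem exact_map_presheafToSheaf (S : ShortComplex (Cᵒᵖ ⥤ AddCommGrpCat.{u}))
    (h : ∀ (T : C) (z : S.X₂.obj (op T)), S.g.app (op T) z = 0 → bdrySieve S z ∈ J T) :
    (S.map (presheafToSheaf J AddCommGrpCat.{u})).Exact := by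
  rw [ShortComplex.exact_iff_isZero_homology]
  refine IsZero.of_iso ?_ (S.mapHomologyIso (presheafToSheaf J AddCommGrpCat.{u}))
  rw [IsZero.iff_id_eq_zero]
  apply ((sheafificationAdjunction J AddCommGrpCat.{u}).homAddEquiv _ _).injective
  rw [map_zero]
  ext ⟨T⟩ a
  obtain ⟨c, rfl⟩ := (AddCommGrpCat.epi_iff_surjective (S.homologyπ.app (op T))).1 inferInstance a
  let η := (sheafificationAdjunction J AddCommGrpCat.{u}).homAddEquiv _ _
    (𝟙 ((presheafToSheaf J AddCommGrpCat.{u}).obj S.homology))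
  change η.app (op T) (S.homologyπ.app (op T) c) = 0
  have hz : S.g.app (op T) (S.iCycles.app (op T) c) = 0 :=
    ConcreteCategory.congr_hom (NatTrans.congr_app S.iCycles_g (op T)) c
  refine sep (h T _ hz) fun W g hg => ?_
  obtain ⟨y, hy⟩ := hg
  rw [map_zero]
  have hc : S.cycles.map g.op c = S.toCycles.app (op W) y := by
    apply (AddCommGrpCat.mono_iff_injective (S.iCycles.app (op W))).1 inferInstance
    rw [NatTrans.naturality_apply, ← hy]
    exact (ConcreteCategory.congr_hom (NatTrans.congr_app S.toCycles_i (op W)) y).symm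
  refine (NatTrans.naturality_apply η g.op _).symm.trans ?_
  erw [← NatTrans.naturality_apply S.homologyπ g.op c, hc,
    ConcreteCategory.congr_hom (NatTrans.congr_app S.toCycles_comp_homologyπ (op W)) y]
  exact map_zero _

variable (P)

/-- The free simplicial presheaf. -/
noncomputable abbrev freeP : SimplicialObject (Cᵒᵖ ⥤ AddCommGrpCat.{u}) :=
  P ⋙ (Functor.whiskeringRight _ _ _).obj AddCommGrpCat.free.{u}

/-- The free chain complex of presheaves. -/
noncomputable abbrev chains : ChainComplex (Cᵒᵖ ⥤ AddCommGrpCat.{u}) ℕ :=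
  (AlgebraicTopology.alternatingFaceMapComplex _).obj (freeP P)

lemma chains_d (n : ℕ) (T : Cᵒᵖ) (z : FreeAbelianGroup ((P.obj (op ⦋n + 1⦌)).obj T)) :
    ((chains P).d (n + 1) n).app T z = dF P n T z := by
  rw [AlgebraicTopology.alternatingFaceMapComplex_obj_d, AlgebraicTopology.AlternatingFaceMapComplex.objD]
  let ev : ((freeP P).obj (op ⦋n + 1⦌) ⟶ (freeP P).obj (op ⦋n⦌)) →+
      (FreeAbelianGroup ((P.obj (op ⦋n + 1⦌)).obj T) →+ FreeAbelianGroup ((P.obj (op ⦋n⦌)).obj T)) :=
    AddMonoidHom.mk' (fun α => (α.app T).hom) (fun _ _ => rfl)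
  change ev _ z = _
  rw [map_sum]
  refine DFunLike.congr_fun (FreeAbelianGroup.lift_ext _ _ fun x => ?_) z
  rw [AddMonoidHom.finsetSum_apply, dF, FreeAbelianGroup.lift_apply_of]
  refine Finset.sum_congr rfl fun i _ => ?_
  rw [map_zsmul, AddMonoidHom.smul_apply]
  exact congrArg _ (FreeAbelianGroup.map_of_apply x)

/-- The augmentation. -/
noncomputable def aug : (freeP P).obj (op ⦋0⦌) ⟶
    (Functor.const Cᵒᵖ).obj (AddCommGrpCat.of (ULift.{u} ℤ)) where
  app T := AddCommGrpCat.ofHom (X := FreeAbelianGroup ((P.obj (op ⦋0⦌)).obj T)) (Y := ULift.{u} ℤ) (εF P T)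
  naturality T V g := by
    refine AddCommGrpCat.hom_ext (FreeAbelianGroup.lift_ext _ _ fun x => ?_)
    change εF P V (FreeAbelianGroup.map _ (FreeAbelianGroup.of x)) = εF P T (FreeAbelianGroup.of x)
    rw [FreeAbelianGroup.map_of_apply, εF, εF, FreeAbelianGroup.lift_apply_of,
      FreeAbelianGroup.lift_apply_of]

lemma d_aug : (chains P).d 1 0 ≫ aug P = 0 := by
  ext T z
  change εF P T (((chains P).d (0 + 1) 0).app T z) = 0
  rw [chains_d]
  refine DFunLike.congr_fun (g := (0 : _ →+ ULift.{u} ℤ))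
    (f := (εF P T).comp (dF P 0 T)) (FreeAbelianGroup.lift_ext _ _ fun x => ?_) z
  simp [εF, dF, Fin.sum_univ_two]

variable {P}

theorem exact_succ (hP : IsLocTriv J P) (n : ℕ) :
    (((chains P).sc' (n + 2) (n + 1) n).map (presheafToSheaf J AddCommGrpCat.{u})).Exact := by
  refine exact_map_presheafToSheaf _ fun T z hz => cycle_mem hP n z ((chains_d P n _ z).symm.trans hz) _
    fun V g ⟨y, hy⟩ => ⟨y, (chains_d P (n + 1) _ y).trans hy⟩

theorem exact_aug (hP : IsLocTriv J P) :
    ((ShortComplex.mk _ _ (d_aug P)).map (presheafToSheaf J AddCommGrpCat.{u})).Exact := by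
  refine exact_map_presheafToSheaf _ fun T z hz => cycle_zero_mem hP z hz _
    fun V g ⟨y, hy⟩ => ⟨y, (chains_d P 0 _ y).trans hy⟩

theorem epi_aug (hP : IsLocTriv J P) : Epi ((presheafToSheaf J AddCommGrpCat.{u}).map (aug P)) := by
  have h : ((ShortComplex.mk (aug P) (0 : _ ⟶ (Functor.const Cᵒᵖ).obj (AddCommGrpCat.of (ULift.{u} ℤ)))
      comp_zero).map (presheafToSheaf J AddCommGrpCat.{u})).Exact := by
    refine exact_map_presheafToSheaf _ fun T z _ => ?_
    refine J.superset_covering (fun V g hg => ?_) (hP.vertex T)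
    obtain ⟨v⟩ := hg
    refine ⟨(show ULift.{u} ℤ from z).down • FreeAbelianGroup.of v, ?_⟩
    change εF P (op V) _ = _
    rw [map_zsmul, εF, FreeAbelianGroup.lift_apply_of]
    exact ULift.ext _ _ (show _ • (1 : ℤ) = _ by simp)
  exact h.epi_f (Functor.map_zero _ _ _)

theorem isZero_homology_succ (hP : IsLocTriv J P) (n : ℕ) :
    IsZero ((((presheafToSheaf J AddCommGrpCat.{u}).mapHomologicalComplex _).obj (chains P)).homology (n + 1)) := by
  refine HomologicalComplex.ExactAt.isZero_homology ?_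
  rw [HomologicalComplex.exactAt_iff' _ (n + 2) (n + 1) n (by simp) (by simp)]
  exact exact_succ hP n

theorem nonempty_homology_zero_iso (hP : IsLocTriv J P) :
    Nonempty ((((presheafToSheaf J AddCommGrpCat.{u}).mapHomologicalComplex _).obj (chains P)).homology 0 ≅
      (constantSheaf J AddCommGrpCat.{u}).obj (AddCommGrpCat.of (ULift.{u} ℤ))) := by
  have : Epi ((ShortComplex.mk _ _ (d_aug P)).map (presheafToSheaf J AddCommGrpCat.{u})).g := epi_aug hP
  exact ⟨ChainComplex.isoHomologyι₀ _ ≪≫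
    IsColimit.coconePointUniqueUpToIso
      (HomologicalComplex.opcyclesIsCokernel (((presheafToSheaf J AddCommGrpCat.{u}).mapHomologicalComplex _).obj
        (chains P)) 1 0 (by simp))
      (exact_aug hP).gIsCokernel⟩

theorem freeChainCx_eq (K : SimplicialObject (FormalCoproduct.{u} C)) :
    Hyper.freeChainCx J K = ((presheafToSheaf J AddCommGrpCat.{u}).mapHomologicalComplex _).obj
      (chains (K ⋙ FormalCoproduct.yoneda)) :=
  (Functor.congr_obj (AlgebraicTopology.map_alternatingFaceMapComplex (presheafToSheaf J AddCommGrpCat.{u}))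
    (freeP (K ⋙ FormalCoproduct.yoneda))).symm

end Sheaves

end Groth.Agent.Fib44.HyperFree
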