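import Groth.Agent.Fib44.HyperCech
import Groth.Agent.Fib44.LerayFun
import Groth.Agent.Fib44.EdgeBasic
import Groth.Agent.GSS45.DerivedHom
import Groth.Prelude.Def_SpSeq
import Mathlib.CategoryTheory.Abelian.GrothendieckCategory.EnoughInjectives

/-!
The spectral sequence of a hypercovering of the final object.
-/

set_option autoImplicit false
set_option linter.unusedVariables false
set_option backward.isDefEq.respectTransparency false
set_option backward.isDefEq.respectTransparency.types false

universe u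

open CategoryTheory CategoryTheory.Limits Opposite Simplicial

namespace Groth.Agent.Fib44.HyperSS

open HyperCosimp HyperCech
open scoped Groth.Agent.Fib44.Edge

variable {C : Type u} [SmallCategory C] {J : GrothendieckTopology C}
  (K : SimplicialObject (FormalCoproduct.{u} C))

theorem exists_spectralSequence (hK : HyperFill.IsLocTriv J (K ⋙ FormalCoproduct.yoneda))
    (F : Sheaf J AddCommGrpCat.{u}) :
    ∃ (E : E₂CohomologicalSpectralSequence AddCommGrpCat.{u})
      (a : SpSeq.Abutment E (fun n : ℤ => if 0 ≤ n then AddCommGrpCat.of (Sheaf.H F n.toNat) else AddCommGrpCat.of PUnit.{u + 1})),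
      (∀ n, a.IsFinite n) ∧ SpSeq.IsBounded E ∧
      ∀ p q : ℤ, Nonempty ((E.page 2 le_rfl).X (p, q) ≅
        (if 0 ≤ p ∧ 0 ≤ q then (Hyper.cechCxSite K (Sheaf.cohomologyPresheaf F q.toNat)).homology p.toNat
         else AddCommGrpCat.of PUnit.{u + 1})) := by
  have : PreservesFiniteLimits (sheafToPresheaf J AddCommGrpCat.{u}) := inferInstance
  refine GSS45.exists_spectralSequence_comp (sheafToPresheaf J AddCommGrpCat.{u} ⋙ Gfun K) H0.{u}
    (fun Q hQ q hq => ?_) F (fun n => ?_) (fun n hn => ?_) (fun p q => ?_) (fun p q hpq => ?_)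
  · obtain ⟨e⟩ := nonempty_rightDerived_H0_iso ((Gfun K).obj Q.obj) q
    obtain ⟨q, rfl⟩ : ∃ m, q = m + 1 := ⟨q - 1, by omega⟩
    exact IsZero.of_iso (HyperCech.isZero_homology_succ hK Q q) e
  · rw [if_pos (Int.natCast_nonneg n), Int.toNat_natCast]
    exact ⟨((GSS45.rightDerivedIsoOfIso (h0Iso hK) n).symm ≪≫
      GSS45.coyoRightDerivedIso (cZ J) n).app F⟩
  · rw [if_neg (not_le.2 hn)]
    exact AddCommGrpCat.isZero_of_subsingleton _
  · rw [if_pos ⟨Int.natCast_nonneg p, Int.natCast_nonneg q⟩, Int.toNat_natCast, Int.toNat_natCast]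
    obtain ⟨e⟩ := nonempty_rightDerived_H0_iso ((Gfun K).obj (Sheaf.cohomologyPresheaf F q)) p
    exact ⟨(H0.{u}.rightDerived p).mapIso ((SiteCoh.rightDerivedCompExactIso _ _ q ≪≫
      Functor.isoWhiskerRight (SiteCoh.rightDerivedSheafToPresheafIso J q) _).app F) ≪≫ e⟩
  · rw [if_neg (by omega)]
    exact AddCommGrpCat.isZero_of_subsingleton _

end Groth.Agent.Fib44.HyperSS
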