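import Groth.Agent.SiteCoh.FreeSet
import Mathlib.AlgebraicTopology.ExtraDegeneracy
import Mathlib.AlgebraicTopology.AlternatingFaceMapComplex
import Mathlib.CategoryTheory.Sites.LocallyBijective
import Mathlib.CategoryTheory.Sites.EpiMono

/-!
The free abelian sheaves on the Čech nerve of an epimorphism of sheaves of sets resolve the free
abelian sheaf on its target.
-/

set_option autoImplicit false

universe u v w

open CategoryTheory CategoryTheory.Limits Opposite AlgebraicTopology Simplicial

namespace Groth.Agent.Fib44

/-! ### augmentations and additive functors -/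

section Additive

variable {A : Type*} [Category* A] [Preadditive A] [HasZeroObject A]
  {B : Type*} [Category* B] [Preadditive B] [HasZeroObject B] (F : A ⥤ B) [F.Additive]

noncomputable def altMapIso (X : SimplicialObject A) :
    (F.mapHomologicalComplex _).obj (AlternatingFaceMapComplex.obj X) ≅
      AlternatingFaceMapComplex.obj (((SimplicialObject.whiskering A B).obj F).obj X) :=
  eqToIso (Functor.congr_obj (map_alternatingFaceMapComplex F) X)

lemma altMapIso_hom_f (X : SimplicialObject A) (n : ℕ) :
    (altMapIso F X).hom.f n = 𝟙 (F.obj (X.obj (op ⦋n⦌))) := by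
  simp only [altMapIso, eqToIso.hom, HomologicalComplex.eqToHom_f]
  rfl

set_option backward.isDefEq.respectTransparency false in
set_option backward.isDefEq.respectTransparency.types false in
theorem ε_map (X : SimplicialObject.Augmented A) :
    (F.mapHomologicalComplex _).map (AlternatingFaceMapComplex.ε.app X) ≫
      (HomologicalComplex.singleMapHomologicalComplex F (ComplexShape.down ℕ) 0).hom.app X.right =
      (altMapIso F X.left).hom ≫
        AlternatingFaceMapComplex.ε.app (((SimplicialObject.Augmented.whiskering A B).obj F).obj X) := by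
  refine HomologicalComplex.to_single_hom_ext ?_
  erw [HomologicalComplex.comp_f, HomologicalComplex.comp_f,
    HomologicalComplex.singleMapHomologicalComplex_hom_app_self, altMapIso_hom_f,
    Functor.mapHomologicalComplex_map_f, AlternatingFaceMapComplex.ε_app_f_zero,
    AlternatingFaceMapComplex.ε_app_f_zero]
  simp [ChainComplex.single₀, HomologicalComplex.singleObjXSelf, HomologicalComplex.singleObjXIsoOfEq]
  erw [Category.comp_id, Category.id_comp]
  exact (Category.comp_id _).symm

end Additive

set_option backward.isDefEq.respectTransparency false in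
set_option backward.isDefEq.respectTransparency false in
theorem quasiIso_map_ε {A : Type*} [Category* A] [Abelian A] {B : Type*} [Category* B] [Abelian B]
    (F : A ⥤ B) [F.Additive] (X : SimplicialObject.Augmented A)
    [QuasiIso (AlternatingFaceMapComplex.ε.app (((SimplicialObject.Augmented.whiskering A B).obj F).obj X))] :
    QuasiIso ((F.mapHomologicalComplex _).map (AlternatingFaceMapComplex.ε.app X)) := by
  have h : QuasiIso ((altMapIso F X.left).hom ≫
      AlternatingFaceMapComplex.ε.app (((SimplicialObject.Augmented.whiskering A B).obj F).obj X)) :=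
    (quasiIso_iff_comp_left (altMapIso F X.left).hom _).2 ‹_›
  rw [← ε_map F X] at h
  exact quasiIso_of_comp_right _
    ((HomologicalComplex.singleMapHomologicalComplex F (ComplexShape.down ℕ) 0).hom.app X.right)

/-- For an additive functor preserving homology, a quasi-isomorphism augmentation stays one. -/
theorem quasiIso_ε_map {A : Type*} [Category* A] [Abelian A] {B : Type*} [Category* B] [Abelian B]
    (F : A ⥤ B) [F.Additive] [F.PreservesHomology] (X : SimplicialObject.Augmented A)
    [QuasiIso (AlternatingFaceMapComplex.ε.app X)] :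
    QuasiIso
      (AlternatingFaceMapComplex.ε.app (((SimplicialObject.Augmented.whiskering A B).obj F).obj X)) := by
  have h : QuasiIso ((F.mapHomologicalComplex _).map (AlternatingFaceMapComplex.ε.app X) ≫
      (HomologicalComplex.singleMapHomologicalComplex F (ComplexShape.down ℕ) 0).hom.app X.right) :=
    quasiIso_comp _ _
  rw [ε_map F X] at h
  exact (quasiIso_iff_comp_left (altMapIso F X.left).hom _).1 h

set_option backward.isDefEq.respectTransparency false in
/-- Quasi-isomorphisms of complexes of functors are detected pointwise. -/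
theorem quasiIso_of_evaluation {I : Type v} [Category.{w} I] {A : Type*} [Category* A] [Abelian A]
    {ι : Type*} {c : ComplexShape ι} {K L : HomologicalComplex (I ⥤ A) c} (φ : K ⟶ L)
    (h : ∀ i : I, QuasiIso ((((evaluation I A).obj i).mapHomologicalComplex c).map φ)) :
    QuasiIso φ := by
  refine ⟨fun n => ?_⟩
  rw [quasiIsoAt_iff, ShortComplex.quasiIso_iff, NatTrans.isIso_iff_isIso_app]
  intro i
  have : ShortComplex.QuasiIso (((evaluation I A).obj i).mapShortComplex.map
      ((HomologicalComplex.shortComplexFunctor (I ⥤ A) c n).map φ)) :=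
    (quasiIsoAt_iff _ _).1 ((h i).quasiIsoAt n)
  have h1 := (ShortComplex.quasiIso_iff _).1 this
  have h2 := ShortComplex.mapHomologyIso_hom_naturality
    ((HomologicalComplex.shortComplexFunctor (I ⥤ A) c n).map φ) ((evaluation I A).obj i)
  change IsIso (((evaluation I A).obj i).map (ShortComplex.homologyMap
    ((HomologicalComplex.shortComplexFunctor (I ⥤ A) c n).map φ)))
  rw [← Iso.inv_comp_eq] at h2
  rw [← h2]
  exact IsIso.comp_isIso' inferInstance (IsIso.comp_isIso' h1 inferInstance)

variable {C : Type u} [SmallCategory C] {J : GrothendieckTopology C}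

/-! ### the Čech nerve with augmentation restricted to the image -/

variable {K' K : Sheaf J (Type u)} (f : K' ⟶ K)

/-- The image presheaf of `f`. -/
noncomputable abbrev imagePre : Subfunctor K.obj := Subfunctor.range f.hom

/-- The augmented Čech nerve as an augmented simplicial presheaf. -/
noncomputable abbrev nervePre : SimplicialObject.Augmented (Cᵒᵖ ⥤ Type u) :=
  ((SimplicialObject.Augmented.whiskering _ _).obj (sheafToPresheaf J (Type u))).obj
    (Arrow.mk f).augmentedCechNerve

lemma base_eq (n : SimplexCategoryᵒᵖ) :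
    (WidePullback.base (fun _ : Fin (n.unop.len + 1) => f) :
      widePullback.{0} K (fun _ : Fin (n.unop.len + 1) => K') (fun _ => f) ⟶ K) =
      WidePullback.π (fun _ : Fin (n.unop.len + 1) => f) 0 ≫ f :=
  (WidePullback.π_arrow _ _).symm

lemma range_nervePre_le (n : SimplexCategoryᵒᵖ) :
    Subfunctor.range ((nervePre f).hom.app n) ≤ imagePre f := by
  rintro U _ ⟨x, rfl⟩
  refine ⟨(WidePullback.π (fun _ : Fin (n.unop.len + 1) => f) 0).hom.app U x, ?_⟩
  exact (ConcreteCategory.congr_hom
    (NatTrans.congr_app (congrArg InducedCategory.Hom.hom (base_eq f n)) U) x).symm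

set_option backward.isDefEq.respectTransparency false in
set_option backward.isDefEq.respectTransparency.types false in
/-- The Čech nerve, augmented towards the image of `f`. -/
noncomputable def imageNerve : SimplicialObject.Augmented (Cᵒᵖ ⥤ Type u) where
  left := (nervePre f).left
  right := (imagePre f).toFunctor
  hom :=
    { app := fun n => Subfunctor.lift ((nervePre f).hom.app n) (range_nervePre_le f n)
      naturality := fun n m g => by
        ext V x
        refine Subtype.ext ?_
        exact ConcreteCategory.congr_hom (NatTrans.congr_app ((nervePre f).hom.naturality g) V) x }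

/-! ### elements of the nerve over an object -/

variable (U : Cᵒᵖ) (n : ℕ)

/-- sections over `U` of the `n`-th term of the nerve. -/
noncomputable abbrev N : Type u :=
  (widePullback.{0} K (fun _ : Fin (n + 1) => K') (fun _ => f)).obj.obj U

noncomputable abbrev nB (x : N f U n) : K.obj.obj U :=
  (WidePullback.base (fun _ : Fin (n + 1) => f)).hom.app U x

noncomputable abbrev nP (i : Fin (n + 1)) (x : N f U n) : K'.obj.obj U :=
  (WidePullback.π (fun _ : Fin (n + 1) => f) i).hom.app U x

lemma nP_arrow (i : Fin (n + 1)) (x : N f U n) : f.hom.app U (nP f U n i x) = nB f U n x :=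
  ConcreteCategory.congr_hom (NatTrans.congr_app (congrArg InducedCategory.Hom.hom
    (WidePullback.π_arrow (fun _ : Fin (n + 1) => f) i)) U) x

theorem exists_unique_elem (b : K.obj.obj U) (x : Fin (n + 1) → K'.obj.obj U)
    (hx : ∀ i, f.hom.app U (x i) = b) :
    ∃! y : N f U n, nB f U n y = b ∧ ∀ i, nP f U n i y = x i := by
  let D := WidePullbackShape.wideCospan K (fun _ : Fin (n + 1) => K') (fun _ => f)
  let ev : Sheaf J (Type u) ⥤ Type u := sheafToPresheaf J (Type u) ⋙ (evaluation _ _).obj U
  let s : ∀ j, (D ⋙ ev).obj j := fun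
    | none => b
    | some i => x i
  have hs : s ∈ (D ⋙ ev).sections := by
    intro j j' g
    cases g with
    | id => exact ConcreteCategory.congr_hom ((D ⋙ ev).map_id j) (s j)
    | term i => exact hx i
  obtain ⟨y, hy, hu⟩ := (Types.isLimit_iff _).1 ⟨isLimitOfPreserves ev (limit.isLimit D)⟩ s hs
  exact ⟨y, ⟨hy none, fun i => hy (some i)⟩, fun z hz => hu z fun
    | none => hz.1
    | some i => hz.2 i⟩

noncomputable def nMk (b : K.obj.obj U) (x : Fin (n + 1) → K'.obj.obj U)
    (hx : ∀ i, f.hom.app U (x i) = b) : N f U n :=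
  (exists_unique_elem f U n b x hx).exists.choose

lemma nB_mk (b : K.obj.obj U) (x : Fin (n + 1) → K'.obj.obj U) (hx : ∀ i, f.hom.app U (x i) = b) :
    nB f U n (nMk f U n b x hx) = b :=
  (exists_unique_elem f U n b x hx).exists.choose_spec.1

lemma nP_mk (b : K.obj.obj U) (x : Fin (n + 1) → K'.obj.obj U) (hx : ∀ i, f.hom.app U (x i) = b)
    (i : Fin (n + 1)) : nP f U n i (nMk f U n b x hx) = x i :=
  (exists_unique_elem f U n b x hx).exists.choose_spec.2 i

lemma N_ext {y z : N f U n} (hb : nB f U n y = nB f U n z)
    (hp : ∀ i, nP f U n i y = nP f U n i z) : y = z :=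
  (exists_unique_elem f U n _ _ fun i => nP_arrow f U n i z).unique ⟨hb, hp⟩ ⟨rfl, fun _ => rfl⟩

/-- the simplicial structure map, on sections over `U`. -/
noncomputable abbrev nMap {m : ℕ} (g : ⦋m⦌ ⟶ ⦋n⦌) (x : N f U n) : N f U m :=
  ((Arrow.mk f).cechNerve.map g.op).hom.app U x

lemma nB_map {m : ℕ} (g : ⦋m⦌ ⟶ ⦋n⦌) (x : N f U n) : nB f U m (nMap f U n g x) = nB f U n x :=
  ConcreteCategory.congr_hom (NatTrans.congr_app (congrArg InducedCategory.Hom.hom
    (show (Arrow.mk f).cechNerve.map g.op ≫ WidePullback.base (fun _ : Fin (m + 1) => f) =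
      WidePullback.base (fun _ : Fin (n + 1) => f) from WidePullback.lift_base _ _ _ _)) U) x

lemma nP_map {m : ℕ} (g : ⦋m⦌ ⟶ ⦋n⦌) (i : Fin (m + 1)) (x : N f U n) :
    nP f U m i (nMap f U n g x) = nP f U n (g.toOrderHom i) x :=
  ConcreteCategory.congr_hom (NatTrans.congr_app (congrArg InducedCategory.Hom.hom
    (show (Arrow.mk f).cechNerve.map g.op ≫ WidePullback.π (fun _ : Fin (m + 1) => f) i =
      WidePullback.π (fun _ : Fin (n + 1) => f) (g.toOrderHom i) from
        WidePullback.lift_π _ _ _ _ i)) U) x

/-- A section of `f` over the image. -/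
noncomputable def sec (b : (imagePre f).toFunctor.obj U) : K'.obj.obj U := b.2.choose

lemma f_sec (b : (imagePre f).toFunctor.obj U) : f.hom.app U (sec f U b) = b.1 := b.2.choose_spec

lemma nB_mem (x : N f U n) : nB f U n x ∈ (imagePre f).obj U := ⟨nP f U n 0 x, nP_arrow f U n 0 x⟩

/-- the constant tuple on a section. -/
noncomputable def nConst (b : (imagePre f).toFunctor.obj U) : N f U 0 :=
  nMk f U 0 b.1 (fun _ => sec f U b) (fun _ => f_sec f U b)

lemma nB_nConst (b : (imagePre f).toFunctor.obj U) : nB f U 0 (nConst f U b) = b.1 := nB_mk ..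

lemma nP_nConst (b : (imagePre f).toFunctor.obj U) (i : Fin 1) :
    nP f U 0 i (nConst f U b) = sec f U b := nP_mk ..

noncomputable def nS (x : N f U n) : N f U (n + 1) :=
  nMk f U (n + 1) (nB f U n x)
    (Fin.cases (sec f U ⟨nB f U n x, nB_mem f U n x⟩) fun i => nP f U n i x)
    (Fin.cases (f_sec f U _) fun i => nP_arrow f U n i x)

lemma nB_nS (x : N f U n) : nB f U (n + 1) (nS f U n x) = nB f U n x := nB_mk ..

lemma nP_nS_zero (x : N f U n) :
    nP f U (n + 1) 0 (nS f U n x) = sec f U ⟨nB f U n x, nB_mem f U n x⟩ := nP_mk ..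

lemma nP_nS_succ (x : N f U n) (i : Fin (n + 1)) :
    nP f U (n + 1) i.succ (nS f U n x) = nP f U n i x := nP_mk ..

lemma sec_congr {x : N f U n} {m : ℕ} {y : N f U m} (h : nB f U n x = nB f U m y) :
    sec f U ⟨nB f U n x, nB_mem f U n x⟩ = sec f U ⟨nB f U m y, nB_mem f U m y⟩ :=
  congrArg (sec f U) (Subtype.ext h)

set_option backward.isDefEq.respectTransparency false in
set_option backward.isDefEq.respectTransparency.types false in
/-- The nerve of `f`, augmented towards the image, has an extra degeneracy over each object. -/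
noncomputable def imageNerveDegeneracy :
    SimplicialObject.Augmented.ExtraDegeneracy
      (((SimplicialObject.Augmented.whiskering _ _).obj ((evaluation Cᵒᵖ (Type u)).obj U)).obj
        (imageNerve f)) where
  s' := ↾fun b => nConst f U b
  s n := ↾fun x => nS f U n x
  s'_comp_ε := by
    ext b
    exact Subtype.ext (nB_nConst f U b)
  s₀_comp_δ₁ := by
    ext x
    refine N_ext f U 0 (((nB_map f U 1 (SimplexCategory.δ 1) (nS f U 0 x)).trans (nB_nS f U 0 x)).trans
      (nB_nConst f U ⟨nB f U 0 x, nB_mem f U 0 x⟩).symm) fun i => ?_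
    obtain rfl : i = (0 : Fin (0 + 1)) := Fin.ext (Nat.lt_one_iff.1 i.isLt)
    exact ((nP_map f U 1 (SimplexCategory.δ 1) 0 (nS f U 0 x)).trans (nP_nS_zero f U 0 x)).trans
      (nP_nConst f U ⟨nB f U 0 x, nB_mem f U 0 x⟩ 0).symm
  s_comp_δ₀ n := by
    ext x
    refine N_ext f U n ((nB_map f U (n + 1) (SimplexCategory.δ 0) (nS f U n x)).trans
      (nB_nS f U n x)) fun i => ?_
    exact (nP_map f U (n + 1) (SimplexCategory.δ 0) i (nS f U n x)).trans (nP_nS_succ f U n x i)
  s_comp_δ n i := by
    ext x
    refine N_ext f U (n + 1) (((nB_map f U (n + 2) (SimplexCategory.δ i.succ) (nS f U (n + 1) x)).trans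
      (nB_nS f U (n + 1) x)).trans
      ((nB_nS f U n _).trans (nB_map f U (n + 1) (SimplexCategory.δ i) x)).symm) fun j => ?_
    refine (nP_map f U (n + 2) (SimplexCategory.δ i.succ) j (nS f U (n + 1) x)).trans ?_
    induction j using Fin.cases with
    | zero =>
      exact ((congrArg (fun k => nP f U (n + 2) k (nS f U (n + 1) x))
        (Fin.succ_succAbove_zero i)).trans (nP_nS_zero f U (n + 1) x)).trans
        (((sec_congr f U (n + 1) (nB_map f U (n + 1) (SimplexCategory.δ i) x).symm)).trans
          (nP_nS_zero f U n _).symm)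
    | succ k =>
      exact ((congrArg (fun k => nP f U (n + 2) k (nS f U (n + 1) x))
        (Fin.succ_succAbove_succ i k)).trans (nP_nS_succ f U (n + 1) x _)).trans
        ((nP_map f U (n + 1) (SimplexCategory.δ i) k x).symm.trans (nP_nS_succ f U n _ k).symm)
  s_comp_σ n i := by
    ext x
    refine N_ext f U (n + 2) (((nB_map f U (n + 1) (SimplexCategory.σ i.succ) (nS f U n x)).trans
      (nB_nS f U n x)).trans
      ((nB_nS f U (n + 1) _).trans (nB_map f U n (SimplexCategory.σ i) x)).symm) fun j => ?_
    refine (nP_map f U (n + 1) (SimplexCategory.σ i.succ) j (nS f U n x)).trans ?_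
    induction j using Fin.cases with
    | zero =>
      exact ((congrArg (fun k => nP f U (n + 1) k (nS f U n x))
        (Fin.predAbove_right_zero (i := i.succ))).trans (nP_nS_zero f U n x)).trans
        (((sec_congr f U n (nB_map f U n (SimplexCategory.σ i) x).symm)).trans
          (nP_nS_zero f U (n + 1) _).symm)
    | succ k =>
      exact ((congrArg (fun k => nP f U (n + 1) k (nS f U n x))
        (Fin.succ_predAbove_succ i k)).trans (nP_nS_succ f U n x _)).trans
        ((nP_map f U n (SimplexCategory.σ i) k x).symm.trans (nP_nS_succ f U (n + 1) _ k).symm)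

set_option backward.isDefEq.respectTransparency false in
set_option backward.isDefEq.respectTransparency.types false in
/-- The augmented simplicial presheaf of free abelian groups on `imageNerve f` is a resolution. -/
theorem quasiIso_imageNerve :
    QuasiIso (AlternatingFaceMapComplex.ε.app (((SimplicialObject.Augmented.whiskering _ _).obj
      ((Functor.whiskeringRight Cᵒᵖ _ _).obj AddCommGrpCat.free.{u})).obj (imageNerve f))) := by
  set Z := ((SimplicialObject.Augmented.whiskering _ _).obj
      ((Functor.whiskeringRight Cᵒᵖ _ _).obj AddCommGrpCat.free.{u})).obj (imageNerve f)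
  refine quasiIso_of_evaluation _ fun U => ?_
  let F := (evaluation Cᵒᵖ AddCommGrpCat.{u}).obj U
  have h1 : QuasiIso
      (AlternatingFaceMapComplex.ε.app (((SimplicialObject.Augmented.whiskering _ _).obj F).obj Z)) :=
    ((imageNerveDegeneracy f U).map AddCommGrpCat.free.{u}).homotopyEquiv.quasiIso_hom
  exact @quasiIso_map_ε _ _ _ _ _ _ F inferInstance Z h1

/-- The image of an epimorphism of sheaves sheafifies to the whole target. -/
theorem isIso_map_imagePre_ι [Epi f] :
    IsIso (((Functor.whiskeringRight Cᵒᵖ _ _).obj AddCommGrpCat.free.{u} ⋙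
      presheafToSheaf J AddCommGrpCat.{u}).map (imagePre f).ι) := by
  have : Sheaf.IsLocallySurjective f := (Sheaf.isLocallySurjective_iff_epi f).2 inferInstance
  have : Presheaf.IsLocallySurjective J (Subfunctor.toRange f.hom ≫ (imagePre f).ι) := by
    rw [Subfunctor.toRange_ι]; infer_instance
  have h1 : Presheaf.IsLocallySurjective J (imagePre f).ι :=
    Presheaf.isLocallySurjective_of_isLocallySurjective J (Subfunctor.toRange f.hom) _
  have h2 : Presheaf.IsLocallyInjective J (imagePre f).ι :=
    Presheaf.isLocallyInjective_of_injective J _ fun V => Subtype.val_injective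
  have h3 : IsIso ((presheafToSheaf J (Type u)).map (imagePre f).ι) :=
    (J.W_iff _).1 (J.W_of_isLocallyBijective _)
  exact (NatIso.isIso_map_iff (SiteCoh.freeAbSheafifyIso J) (imagePre f).ι).1
    (inferInstanceAs (IsIso ((SiteCoh.freeAb J).map ((presheafToSheaf J (Type u)).map (imagePre f).ι))))

set_option backward.isDefEq.respectTransparency false in
set_option backward.isDefEq.respectTransparency.types false in
/-- The free abelian sheaves on the Čech nerve of an epimorphism form a resolution. -/
theorem quasiIso_freeNerve [Epi f] :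
    QuasiIso ((AlternatingFaceMapComplex.ε (C := Sheaf J AddCommGrpCat.{u})).app
      (((SimplicialObject.Augmented.whiskering _ _).obj (SiteCoh.freeAb J)).obj
        (Arrow.mk f).augmentedCechNerve)) := by
  have := quasiIso_imageNerve f
  let H := (Functor.whiskeringRight Cᵒᵖ _ _).obj AddCommGrpCat.free.{u} ⋙
    presheafToSheaf J AddCommGrpCat.{u}
  have h1 : QuasiIso (AlternatingFaceMapComplex.ε.app
      (((SimplicialObject.Augmented.whiskering _ _).obj H).obj (imageNerve f))) :=
    quasiIso_ε_map (presheafToSheaf J AddCommGrpCat.{u})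
      (((SimplicialObject.Augmented.whiskering _ _).obj
        ((Functor.whiskeringRight Cᵒᵖ _ _).obj AddCommGrpCat.free.{u})).obj (imageNerve f))
  have : IsIso (H.map (imagePre f).ι) := isIso_map_imagePre_ι f
  have h3 : (AlternatingFaceMapComplex.ε (C := Sheaf J AddCommGrpCat.{u})).app
      (((SimplicialObject.Augmented.whiskering _ _).obj (SiteCoh.freeAb J)).obj
        (Arrow.mk f).augmentedCechNerve) =
      AlternatingFaceMapComplex.ε.app
        (((SimplicialObject.Augmented.whiskering _ _).obj H).obj (imageNerve f)) ≫
        (ChainComplex.single₀ _).map (H.map (imagePre f).ι) := by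
    refine HomologicalComplex.to_single_hom_ext ?_
    rw [HomologicalComplex.comp_f]
    erw [AlternatingFaceMapComplex.ε_app_f_zero, AlternatingFaceMapComplex.ε_app_f_zero,
      ChainComplex.single₀_map_f_zero]
    refine Eq.trans ?_ (H.map_comp ((imageNerve f).hom.app (op ⦋0⦌)) (imagePre f).ι)
    exact congrArg H.map (Subfunctor.lift_ι ((nervePre f).hom.app (op ⦋0⦌)) (range_nervePre_le f _)).symm
  rw [h3]
  exact quasiIso_comp _ _

end Groth.Agent.Fib44
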