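import Groth.Prelude.Def_CohCx
import Groth.Agent.Fib44.NerveResolution
import Groth.Agent.Fib44.ExtAcyclicResolution

/-!
The Čech complex of an abelian sheaf along an epimorphism of sheaves of sets as the dual of the
free resolution attached to the Čech nerve.
-/

set_option autoImplicit false

universe u

open CategoryTheory CategoryTheory.Limits Opposite AlgebraicTopology Simplicial CategoryTheory.Abelian

namespace Groth.Agent.Fib44

theorem hom_sum_apply {X Y : AddCommGrpCat.{u}} {ι : Type*} (s : Finset ι) (g : ι → (X ⟶ Y)) (x : X) :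
    (∑ i ∈ s, g i) x = ∑ i ∈ s, g i x :=
  map_sum (AddMonoidHom.mk' (fun φ : X ⟶ Y => φ x) fun _ _ => rfl) g s

theorem cofaceCx_d {A : Type*} [Category* A] [Preadditive A] (X : CosimplicialObject A) (n : ℕ) :
    ((alternatingCofaceMapComplex A).obj X).d n (n + 1) = AlternatingCofaceMapComplex.objD X n := by
  exact CochainComplex.of_d (fun n => X.obj (SimplexCategory.mk n)) (AlternatingCofaceMapComplex.objD X) n

variable {C : Type u} [SmallCategory C] {J : GrothendieckTopology C}
variable {K' K : Sheaf J (Type u)} (f : K' ⟶ K) (F : Sheaf J AddCommGrpCat.{u})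

/-- The free abelian sheaves on the augmented Čech nerve. -/
noncomputable abbrev freeNerve : SimplicialObject.Augmented (Sheaf J AddCommGrpCat.{u}) :=
  ((SimplicialObject.Augmented.whiskering _ _).obj (SiteCoh.freeAb J)).obj
    (Arrow.mk f).augmentedCechNerve

/-- The chain complex of free abelian sheaves on the Čech nerve. -/
noncomputable abbrev freeNerveCx : ChainComplex (Sheaf J AddCommGrpCat.{u}) ℕ :=
  AlternatingFaceMapComplex.obj (freeNerve f).left

set_option backward.isDefEq.respectTransparency false in
set_option backward.isDefEq.respectTransparency.types false in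
theorem cechNerveCx_d_apply (n : ℕ) (x : (freeNerveCx f).X n ⟶ F) :
    (CohCx.cechNerveCx F f).d n (n + 1) x = (freeNerveCx f).d (n + 1) n ≫ x := by
  have h1 : (CohCx.cechNerveCx F f).d n (n + 1) =
      AlternatingCofaceMapComplex.objD
        ((Arrow.mk f).cechNerve.rightOp ⋙ CohCx.HK0Functor J F) n :=
    cofaceCx_d _ n
  rw [h1, AlternatingFaceMapComplex.obj_d_eq]
  simp only [AlternatingCofaceMapComplex.objD]
  erw [Preadditive.sum_comp, hom_sum_apply]
  refine Finset.sum_congr rfl fun i _ => ?_
  erw [Preadditive.zsmul_comp]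
  rfl

/-- The augmentation from the free abelian sheaf on the target. -/
noncomputable abbrev freeAug : (freeNerveCx f).X 0 ⟶ (SiteCoh.freeAb J).obj K :=
  (freeNerve f).hom.app (op ⦋0⦌)

set_option backward.isDefEq.respectTransparency false in
set_option backward.isDefEq.respectTransparency.types false in
theorem cechNerveAug_apply (y : (SiteCoh.freeAb J).obj K ⟶ F) :
    CohCx.cechNerveAug F f y = freeAug f ≫ y := by
  change (SiteCoh.freeAb J).map _ ≫ y = _
  refine congrArg (fun t => t ≫ y) ?_
  exact (Category.comp_id _).symm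

set_option backward.isDefEq.respectTransparency false in
set_option backward.isDefEq.respectTransparency.types false in
theorem cech_desc [Epi f] (x : (freeNerveCx f).X 0 ⟶ F) (hx : (freeNerveCx f).d 1 0 ≫ x = 0) :
    ∃! y : (SiteCoh.freeAb J).obj K ⟶ F, freeAug f ≫ y = x := by
  have := quasiIso_freeNerve f
  have h := existsUnique_desc
    (P := freeNerveCx f) (Q := (SiteCoh.freeAb J).obj K)
    (AlternatingFaceMapComplex.ε.app (freeNerve f)) x hx
  simpa only [augMap, AlternatingFaceMapComplex.ε_app_f_zero] using h

set_option backward.isDefEq.respectTransparency false in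
set_option backward.isDefEq.respectTransparency.types false in
theorem cech_preimage [Epi f] (hF : CohCx.IsTotallyAcyclic F) (n : ℕ)
    (x : (freeNerveCx f).X (n + 1) ⟶ F) (hx : (freeNerveCx f).d (n + 2) (n + 1) ≫ x = 0) :
    ∃ y : (freeNerveCx f).X n ⟶ F, (freeNerveCx f).d (n + 1) n ≫ y = x := by
  have := quasiIso_freeNerve f
  exact exists_preimage (P := freeNerveCx f) (Q := (SiteCoh.freeAb J).obj K)
    (AlternatingFaceMapComplex.ε.app (freeNerve f))
    (fun m p => hF ((Arrow.mk f).cechNerve.obj (op ⦋m⦌)) p) (fun p => hF K p) n x hx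

set_option backward.isDefEq.respectTransparency false in
theorem isZero_cech_homology_iff (n : ℕ) :
    IsZero ((CohCx.cechNerveCx F f).homology (n + 1)) ↔
      ∀ x : (freeNerveCx f).X (n + 1) ⟶ F, (freeNerveCx f).d (n + 2) (n + 1) ≫ x = 0 →
        ∃ y : (freeNerveCx f).X n ⟶ F, (freeNerveCx f).d (n + 1) n ≫ y = x := by
  rw [← HomologicalComplex.exactAt_iff_isZero_homology,
    HomologicalComplex.exactAt_iff' _ n (n + 1) (n + 2) (by simp) (by simp),
    ShortComplex.ab_exact_iff]
  constructor
  · intro h x hx
    obtain ⟨y, hy⟩ := h x ((cechNerveCx_d_apply f F (n + 1) x).trans hx)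
    exact ⟨y, (cechNerveCx_d_apply f F n y).symm.trans hy⟩
  · intro h x hx
    obtain ⟨y, hy⟩ := h x ((cechNerveCx_d_apply f F (n + 1) x).symm.trans hx)
    exact ⟨y, (cechNerveCx_d_apply f F n y).trans hy⟩

theorem cech_acyclic [Epi f] (hF : CohCx.IsTotallyAcyclic F) (q : ℕ) :
    IsZero ((CohCx.cechNerveCx F f).homology (q + 1)) :=
  (isZero_cech_homology_iff f F q).2 fun x hx => cech_preimage f F hF q x hx

end Groth.Agent.Fib44
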