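import Mathlib.CategoryTheory.Monoidal.Skeleton
import Mathlib.CategoryTheory.Monoidal.NaturalTransformation
import Mathlib.Tactic.CategoryTheory.Monoidal.Basic
import Mathlib.CategoryTheory.Monoidal.CoherenceLemmas
import Mathlib.CategoryTheory.Groupoid
import Mathlib.CategoryTheory.Endomorphism

/-!
Endomorphisms of the unit acting on objects of a monoidal category; Picard categories.
-/

universe v v' u u'

open CategoryTheory MonoidalCategory

namespace Groth.Agent.Fib44

variable {C : Type u} [Category.{v} C] [MonoidalCategory C]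

/-- The action of an endomorphism of the unit on an object. -/
def unitAct (X : C) (a : 𝟙_ C ⟶ 𝟙_ C) : X ⟶ X :=
  (λ_ X).inv ≫ (a ▷ X) ≫ (λ_ X).hom

theorem unitAct_id (X : C) : unitAct X (𝟙 _) = 𝟙 X := by simp [unitAct]

theorem unitAct_comp (X : C) (a b : 𝟙_ C ⟶ 𝟙_ C) :
    unitAct X (a ≫ b) = unitAct X a ≫ unitAct X b := by simp [unitAct]

theorem unitAct_natural {X Y : C} (f : X ⟶ Y) (a : 𝟙_ C ⟶ 𝟙_ C) :
    unitAct X a ≫ f = f ≫ unitAct Y a := by
  simp only [unitAct, Category.assoc]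
  rw [← leftUnitor_naturality, ← whisker_exchange_assoc, ← leftUnitor_inv_naturality_assoc]

theorem unitAct_unit (a : 𝟙_ C ⟶ 𝟙_ C) : unitAct (𝟙_ C) a = a := by
  simp [unitAct, unitors_equal, unitors_inv_equal]

theorem unitAct_bijective {X : C} (h : (tensorRight X).IsEquivalence) :
    Function.Bijective (unitAct X) := by
  constructor
  · intro a b e
    refine (tensorRight X).map_injective ?_
    simpa [unitAct, cancel_epi, cancel_mono] using e
  · intro f
    obtain ⟨a, ha⟩ := (tensorRight X).map_surjective ((λ_ X).hom ≫ f ≫ (λ_ X).inv)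
    refine ⟨a, ?_⟩
    change a ▷ X = _ at ha
    simp [unitAct, ha]

theorem unitAct_whiskerRight (X Y : C) (a : 𝟙_ C ⟶ 𝟙_ C) :
    unitAct X a ▷ Y = unitAct (X ⊗ Y) a := by
  simp [unitAct]

theorem whiskerLeft_unitAct [BraidedCategory C] (X Y : C) (a : 𝟙_ C ⟶ 𝟙_ C) :
    X ◁ unitAct Y a = unitAct (X ⊗ Y) a := by
  have h : X ◁ unitAct Y a = ((ρ_ X).inv ≫ X ◁ a ≫ (ρ_ X).hom) ▷ Y := by
    simp [unitAct]
  have h2 : (ρ_ X).inv ≫ X ◁ a ≫ (ρ_ X).hom = unitAct X a := by
    rw [Iso.inv_comp_eq, ← braiding_leftUnitor, BraidedCategory.braiding_naturality_right_assoc]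
    simp [unitAct]
  rw [h, h2, unitAct_whiskerRight]

theorem unitAct_tensorHom [BraidedCategory C] (X Y : C) (a b : 𝟙_ C ⟶ 𝟙_ C) :
    unitAct X a ⊗ₘ unitAct Y b = unitAct (X ⊗ Y) (a ≫ b) := by
  rw [tensorHom_def, unitAct_whiskerRight, whiskerLeft_unitAct, unitAct_comp]

variable {D : Type u'} [Category.{v'} D] [MonoidalCategory D]

open Functor.LaxMonoidal in
theorem map_unitAct (F : C ⥤ D) [F.LaxMonoidal] [IsIso (ε F)] (X : C) (a : 𝟙_ C ⟶ 𝟙_ C) :
    F.map (unitAct X a) = unitAct (F.obj X) (ε F ≫ F.map a ≫ inv (ε F)) := by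
  have h : (λ_ (F.obj X)).hom = ε F ▷ F.obj X ≫ μ F (𝟙_ C) X ≫ F.map (λ_ X).hom :=
    left_unitality F X
  rw [unitAct, unitAct, h, comp_whiskerRight, comp_whiskerRight]
  simp only [Category.assoc]
  rw [← comp_whiskerRight_assoc (inv (ε F)), IsIso.inv_hom_id, id_whiskerRight, Category.id_comp,
    μ_natural_left_assoc]
  rw [left_unitality_inv_assoc]
  simp

open Functor.LaxMonoidal in
theorem isEquivalence_of_bijective [IsGroupoid C] [IsGroupoid D]
    (hC : ∀ X : C, (tensorRight X).IsEquivalence) (hD : ∀ X : D, (tensorRight X).IsEquivalence)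
    (F : C ⥤ D) [F.LaxMonoidal] [F.EssSurj]
    (h0 : ∀ X Y : C, Nonempty (F.obj X ≅ F.obj Y) → Nonempty (X ≅ Y))
    (h1 : Function.Bijective (fun φ : 𝟙_ C ⟶ 𝟙_ C => F.map φ)) : F.IsEquivalence := by
  have hend : ∀ X : C, Function.Bijective (fun f : X ⟶ X => F.map f) := fun X => by
    have h2 : Function.Bijective (fun a : 𝟙_ C ⟶ 𝟙_ C =>
        unitAct (F.obj X) (ε F ≫ F.map a ≫ inv (ε F))) := by
      refine (unitAct_bijective (hD _)).comp ⟨fun a b e => h1.1 ?_, fun b => ?_⟩
      · simpa [cancel_epi, cancel_mono] using e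
      · obtain ⟨a, ha⟩ := h1.2 (inv (ε F) ≫ b ≫ ε F)
        exact ⟨a, by simp at ha; simp [reassoc_of% ha]⟩
    have h3 : Function.Bijective ((fun f : X ⟶ X => F.map f) ∘ unitAct X) := by
      convert h2 using 1
      funext a
      exact map_unitAct F X a
    exact ⟨Function.Injective.of_comp_right h3.1 (unitAct_bijective (hC X)).2,
      Function.Surjective.of_comp h3.2⟩
  have : F.Faithful := ⟨fun {X Y u v} e => by
    have : F.map (u ≫ inv v) = F.map (𝟙 X) := by simp [e]
    have := (hend X).1 this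
    simpa using congrArg (fun t => t ≫ v) this⟩
  have : F.Full := ⟨fun {X Y} m => by
    obtain ⟨i⟩ := h0 X Y ⟨asIso m⟩
    obtain ⟨f, hf⟩ := (hend X).2 (m ≫ F.map i.inv)
    change F.map f = _ at hf
    refine ⟨f ≫ i.hom, ?_⟩
    rw [Functor.map_comp, hf, Category.assoc, ← Functor.map_comp, Iso.inv_hom_id, F.map_id,
      Category.comp_id]⟩
  exact {}

open Functor.LaxMonoidal in
theorem monoidalNatTrans_torsor [BraidedCategory D] [IsGroupoid C] [IsGroupoid D]
    (hD : ∀ X : D, (tensorRight X).IsEquivalence)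
    (F G : C ⥤ D) [F.LaxMonoidal] [G.LaxMonoidal] (θ₀ : F ⟶ G) [NatTrans.IsMonoidal θ₀] :
    (∀ θ : F ⟶ G, NatTrans.IsMonoidal θ →
      ∃! χ : Skeleton C →* End (𝟙_ D), ∀ X : C,
        θ.app X = θ₀.app X ≫ unitAct (G.obj X) (χ (toSkeleton X))) ∧
    (∀ χ : Skeleton C →* End (𝟙_ D), ∃ θ : F ⟶ G, NatTrans.IsMonoidal θ ∧ ∀ X : C,
        θ.app X = θ₀.app X ≫ unitAct (G.obj X) (χ (toSkeleton X))) := by
  have hcomm : ∀ a b : 𝟙_ D ⟶ 𝟙_ D, a ≫ b = b ≫ a := fun a b => by
    simpa only [unitAct_unit] using unitAct_natural b a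
  constructor
  · intro θ hθ
    have hex := fun X : C => (unitAct_bijective (hD (G.obj X))).2 (inv (θ₀.app X) ≫ θ.app X)
    choose c hc using hex
    have hθc : ∀ X, θ.app X = θ₀.app X ≫ unitAct (G.obj X) (c X) := fun X => by simp [hc]
    have hiso : ∀ {X Y : C} (_ : X ⟶ Y), c X = c Y := fun {X Y} f => by
      refine (unitAct_bijective (hD (G.obj X))).1 ?_
      have h := θ.naturality f
      rw [hθc, hθc, θ₀.naturality_assoc, Category.assoc, cancel_epi,
        ← unitAct_natural (G.map f) (c Y)] at h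
      exact ((cancel_mono (G.map f)).1 h).symm
    have hone : c (𝟙_ C) = 𝟙 _ := by
      refine (unitAct_bijective (hD (G.obj (𝟙_ C)))).1 ?_
      rw [unitAct_id, ← cancel_epi (ε G), Category.comp_id]
      have h := NatTrans.IsMonoidal.unit (τ := θ)
      rwa [hθc, NatTrans.IsMonoidal.unit_assoc] at h
    have hmul : ∀ X Y : C, c (X ⊗ Y) = c X ≫ c Y := fun X Y => by
      refine (unitAct_bijective (hD (G.obj (X ⊗ Y)))).1 ?_
      have h := NatTrans.IsMonoidal.tensor (τ := θ) X Y
      rw [hθc, hθc, hθc, NatTrans.IsMonoidal.tensor_assoc, ← tensorHom_comp_tensorHom,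
        Category.assoc, cancel_epi, unitAct_tensorHom, unitAct_natural] at h
      exact (cancel_epi (μ G X Y)).1 h
    refine ⟨{ toFun := Quotient.lift c fun X Y ⟨i⟩ => hiso i.hom
              map_one' := hone
              map_mul' := fun P Q => ?_ }, hθc, fun χ hχ => MonoidHom.ext fun P => ?_⟩
    · induction P using Quotient.inductionOn with | _ X => ?_
      induction Q using Quotient.inductionOn with | _ Y => ?_
      change Quotient.lift c _ (toSkeleton X * toSkeleton Y) = c Y ≫ c X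
      rw [← Skeleton.toSkeleton_tensorObj, hcomm]
      exact hmul X Y
    · induction P using Quotient.inductionOn with | _ X => ?_
      exact (unitAct_bijective (hD (G.obj X))).1
        ((cancel_epi (θ₀.app X)).1 ((hχ X).symm.trans (hθc X)))
  · intro χ
    refine ⟨{ app := fun X => θ₀.app X ≫ unitAct (G.obj X) (χ (toSkeleton X))
              naturality := fun X Y f => ?_ }, ⟨?_, fun X Y => ?_⟩, fun X => rfl⟩
    · have : toSkeleton X = toSkeleton Y := Quotient.sound ⟨asIso f⟩
      rw [θ₀.naturality_assoc, Category.assoc, this, unitAct_natural]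
    · change ε F ≫ θ₀.app _ ≫ _ = _
      rw [NatTrans.IsMonoidal.unit_assoc, ← Skeleton.one_eq, map_one]
      exact (congrArg (ε G ≫ ·) (unitAct_id _)).trans (Category.comp_id _)
    · change μ F X Y ≫ θ₀.app _ ≫ _ = ((θ₀.app X ≫ _) ⊗ₘ (θ₀.app Y ≫ _)) ≫ _
      rw [NatTrans.IsMonoidal.tensor_assoc, ← tensorHom_comp_tensorHom, Category.assoc,
        unitAct_tensorHom, unitAct_natural, Skeleton.toSkeleton_tensorObj, map_mul]
      change _ ≫ _ ≫ unitAct _ (χ (toSkeleton Y) ≫ χ (toSkeleton X)) = _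
      rw [hcomm]

end Groth.Agent.Fib44
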