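import Groth.Agent.Fib44.LerayFun
import Groth.Agent.SiteCoh.FreeSet
import Groth.Agent.Fib44.CechInjective
import Mathlib.CategoryTheory.Preadditive.Yoneda.Limits
import Mathlib.CategoryTheory.Adjunction.Additive

/-!
Cohomology with respect to a presheaf of sets, as derived functors.
-/

set_option autoImplicit false

universe u

open CategoryTheory CategoryTheory.Limits Opposite CategoryTheory.Abelian

namespace Groth.Agent.Fib44.PshSS

variable {C : Type u} [SmallCategory C] (J : GrothendieckTopology C)

/-- The free sheaf on a presheaf of sets. -/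
noncomputable abbrev freeOn (R : Cᵒᵖ ⥤ Type u) : Sheaf J AddCommGrpCat.{u} :=
  (presheafToSheaf J AddCommGrpCat.{u}).obj (R ⋙ AddCommGrpCat.free.{u})

/-- Morphisms out of the free sheaf. -/
noncomputable abbrev homFun (R : Cᵒᵖ ⥤ Type u) : Sheaf J AddCommGrpCat.{u} ⥤ AddCommGrpCat.{u} :=
  SiteCoh.homPre ((Functor.const (Discrete PUnit.{u + 1})).obj (freeOn J R)) ⋙
    (evaluation _ AddCommGrpCat.{u}).obj (op ⟨PUnit.unit⟩)

instance homFun_additive (R : Cᵒᵖ ⥤ Type u) : (homFun J R).Additive where

lemma homFun_preservesFiniteLimits (R : Cᵒᵖ ⥤ Type u) : PreservesFiniteLimits (homFun J R) := by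
  have e : homFun J R ≅ preadditiveCoyoneda.obj (op (freeOn J R)) :=
    NatIso.ofComponents (fun P => Iso.refl _) fun f => rfl
  have : PreservesLimitsOfSize.{u, u} (preadditiveCoyoneda.obj (op (freeOn J R))) := inferInstance
  have : PreservesFiniteLimits (preadditiveCoyoneda.obj (op (freeOn J R))) :=
    PreservesLimitsOfSize.preservesFiniteLimits _
  exact preservesFiniteLimits_of_natIso e.symm

/-- Derived functors of morphisms out of the free sheaf. -/
noncomputable def rightDerivedHomFunIso (R : Cᵒᵖ ⥤ Type u) (n : ℕ) (F : Sheaf J AddCommGrpCat.{u}) :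
    ((homFun J R).rightDerived n).obj F ≅ AddCommGrpCat.of (Ext.{u} (freeOn J R) F n) :=
  (SiteCoh.rightDerivedCompExactIso _ _ n ≪≫
    Functor.isoWhiskerRight (SiteCoh.rightDerivedHomPreIso _ n) _).app F

/-- The underlying presheaf, as a sheaf for the trivial topology. -/
noncomputable abbrev toBot : Sheaf J AddCommGrpCat.{u} ⥤ Sheaf (⊥ : GrothendieckTopology C) AddCommGrpCat.{u} :=
  sheafToPresheaf J AddCommGrpCat.{u} ⋙ (sheafBotEquivalence (C := C) AddCommGrpCat.{u}).inverse

/-- Morphisms out of the free presheaf into the underlying presheaf. -/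
noncomputable def compIso (R : Cᵒᵖ ⥤ Type u) :
    homFun J R ≅ toBot J ⋙ homFun (⊥ : GrothendieckTopology C) R :=
  have := (sheafificationAdjunction J AddCommGrpCat.{u}).left_adjoint_additive
  have := (sheafificationAdjunction (⊥ : GrothendieckTopology C) AddCommGrpCat.{u}).left_adjoint_additive
  NatIso.ofComponents
    (fun F => (((sheafificationAdjunction J AddCommGrpCat.{u}).homAddEquiv
      (R ⋙ AddCommGrpCat.free.{u}) F).trans
        ((sheafificationAdjunction (⊥ : GrothendieckTopology C) AddCommGrpCat.{u}).homAddEquiv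
          (R ⋙ AddCommGrpCat.free.{u}) ((toBot J).obj F)).symm).toAddCommGrpIso)
    (fun {F G} f => by
      ext φ
      change ((sheafificationAdjunction (⊥ : GrothendieckTopology C) AddCommGrpCat.{u}).homEquiv _
            ((toBot J).obj G)).symm
          ((sheafificationAdjunction J AddCommGrpCat.{u}).homEquiv _ G (φ ≫ f)) =
        ((sheafificationAdjunction (⊥ : GrothendieckTopology C) AddCommGrpCat.{u}).homEquiv _
            ((toBot J).obj F)).symm
          ((sheafificationAdjunction J AddCommGrpCat.{u}).homEquiv _ F φ) ≫ (toBot J).map f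
      refine Eq.trans (congrArg _
        ((sheafificationAdjunction J AddCommGrpCat.{u}).homEquiv_naturality_right φ f)) ?_
      exact (sheafificationAdjunction (⊥ : GrothendieckTopology C)
        AddCommGrpCat.{u}).homEquiv_naturality_right_symm _ ((toBot J).map f))

end Groth.Agent.Fib44.PshSS
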