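import Groth.Agent.SiteCoh.TypePush
import Groth.Agent.SiteCoh.Torsion
import Mathlib.CategoryTheory.Sites.Pullback

/-!
Direct images of totally acyclic abelian sheaves are totally acyclic.
-/

set_option autoImplicit false

universe u

open CategoryTheory CategoryTheory.Limits Opposite CategoryTheory.Abelian

namespace Groth.Agent.Fib44

variable {C D : Type u} [SmallCategory C] [SmallCategory D] (J : GrothendieckTopology C)
  (K : GrothendieckTopology D) (u : D ⥤ C) [u.IsContinuous K J]

/-- Morphisms from the free abelian sheaf on a sheaf of sets to a direct image. -/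
noncomputable def homPushEquiv (Z : Sheaf K (Type u)) (G : Sheaf J AddCommGrpCat.{u}) :
    ((SiteCoh.freeAb K).obj Z ⟶ (CohSite.push J K u).obj G) ≃
      ((SiteCoh.freeAb J).obj ((u.sheafPullback (Type u) K J).obj Z) ⟶ G) :=
  ((SiteCoh.freeAbAdj K).homEquiv Z _).trans
    (((u.sheafAdjunctionContinuous (Type u) K J).homEquiv Z
      ((sheafCompose J (forget AddCommGrpCat.{u})).obj G)).symm.trans
      ((SiteCoh.freeAbAdj J).homEquiv _ G).symm)

set_option backward.isDefEq.respectTransparency false in
set_option backward.isDefEq.respectTransparency.types false in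
theorem homPushEquiv_comp (Z : Sheaf K (Type u)) {G G' : Sheaf J AddCommGrpCat.{u}}
    (x : (SiteCoh.freeAb K).obj Z ⟶ (CohSite.push J K u).obj G) (g : G ⟶ G') :
    homPushEquiv J K u Z G' (x ≫ (CohSite.push J K u).map g) = homPushEquiv J K u Z G x ≫ g := by
  change ((SiteCoh.freeAbAdj J).homEquiv _ G').symm
      (((u.sheafAdjunctionContinuous (Type u) K J).homEquiv Z _).symm
        ((SiteCoh.freeAbAdj K).homEquiv Z _ (x ≫ (CohSite.push J K u).map g))) = _
  rw [(SiteCoh.freeAbAdj K).homEquiv_naturality_right]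
  have key : ∀ (y : Z ⟶ (u.sheafPushforwardContinuous (Type u) K J).obj
      ((sheafCompose J (forget AddCommGrpCat.{u})).obj G)),
      ((u.sheafAdjunctionContinuous (Type u) K J).homEquiv Z _).symm
        (y ≫ (u.sheafPushforwardContinuous (Type u) K J).map
          ((sheafCompose J (forget AddCommGrpCat.{u})).map g)) =
      ((u.sheafAdjunctionContinuous (Type u) K J).homEquiv Z _).symm y ≫
          (sheafCompose J (forget AddCommGrpCat.{u})).map g :=
    fun y => (u.sheafAdjunctionContinuous (Type u) K J).homEquiv_naturality_right_symm y _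
  refine Eq.trans (congrArg ((SiteCoh.freeAbAdj J).homEquiv _ G').symm
    (key ((SiteCoh.freeAbAdj K).homEquiv Z _ x))) ?_
  exact (SiteCoh.freeAbAdj J).homEquiv_naturality_right_symm _ g

set_option backward.isDefEq.respectTransparency false in
set_option backward.isDefEq.respectTransparency.types false in
theorem push_acyclic_aux
    (hinj : ∀ I : Sheaf J AddCommGrpCat.{u}, Injective I → Injective ((CohSite.push J K u).obj I))
    (n : ℕ) : ∀ (F : Sheaf J AddCommGrpCat.{u}), CohCx.IsTotallyAcyclic F →
      ∀ Z : Sheaf K (Type u), Subsingleton (CohCx.HK Z ((CohSite.push J K u).obj F) (n + 1)) := by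
  induction n with
  | zero =>
    intro F hF Z
    refine subsingleton_of_forall_eq 0 fun x => ?_
    have hS := SiteCoh.injSES_shortExact F
    have hHU : ∀ U : C, Subsingleton (Ext (CohCx.freeSheaf J U) (SiteCoh.injSES F).X₁ 1) :=
      fun U => SiteCoh.hu_subsingleton_of_isTotallyAcyclic hF U 0
    have hS' := SiteCoh.push_shortExact_of_surjective J K u hS fun V =>
      @SiteCoh.sections_surjective_of_acyclic _ _ J _ hS (u.obj V) (hHU _)
    have : Injective ((SiteCoh.injSES F).map (CohSite.push J K u)).X₂ :=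
      hinj _ (inferInstanceAs (Injective (Injective.under F)))
    have : Subsingleton (Ext.{u} ((SiteCoh.freeAb K).obj Z)
        ((SiteCoh.injSES F).map (CohSite.push J K u)).X₂ (0 + 1)) :=
      Ext.subsingleton_of_injective _ _ 0
    obtain ⟨c', hc⟩ := SiteCoh.exists_comp_extClass hS' ((SiteCoh.freeAb K).obj Z) 0 x
    obtain ⟨c, rfl⟩ := (Ext.mk₀_bijective _ _).2 c'
    have h1 : (Ext.mk₀ (homPushEquiv J K u Z _ c)).comp hS.extClass (zero_add 1) = 0 :=
      @Subsingleton.elim _ (hF ((u.sheafPullback (Type u) K J).obj Z) 0) _ _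
    obtain ⟨w', hw'⟩ := Ext.covariant_sequence_exact₃ _ hS _ rfl h1
    obtain ⟨w, rfl⟩ := (Ext.mk₀_bijective _ _).2 w'
    rw [Ext.mk₀_comp_mk₀] at hw'
    have hw := (Ext.mk₀_bijective _ _).1 hw'
    have h2 : (homPushEquiv J K u Z _).symm w ≫ (CohSite.push J K u).map (SiteCoh.injSES F).g = c := by
      apply (homPushEquiv J K u Z _).injective
      rw [homPushEquiv_comp, Equiv.apply_symm_apply, hw]
    rw [← hc, ← h2, ← Ext.mk₀_comp_mk₀, Ext.comp_assoc_of_second_deg_zero]
    exact (congrArg (fun t => (Ext.mk₀ _).comp t (zero_add 1)) hS'.comp_extClass).trans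
      (Ext.comp_zero _ _ _ _ _)
  | succ n ih =>
    intro F hF Z
    refine subsingleton_of_forall_eq 0 fun x => ?_
    have hS := SiteCoh.injSES_shortExact F
    have hHU : ∀ U : C, Subsingleton (Ext (CohCx.freeSheaf J U) (SiteCoh.injSES F).X₁ 1) :=
      fun U => SiteCoh.hu_subsingleton_of_isTotallyAcyclic hF U 0
    have hS' := SiteCoh.push_shortExact_of_surjective J K u hS fun V =>
      @SiteCoh.sections_surjective_of_acyclic _ _ J _ hS (u.obj V) (hHU _)
    have : Injective ((SiteCoh.injSES F).map (CohSite.push J K u)).X₂ :=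
      hinj _ (inferInstanceAs (Injective (Injective.under F)))
    have : Subsingleton (Ext.{u} ((SiteCoh.freeAb K).obj Z)
        ((SiteCoh.injSES F).map (CohSite.push J K u)).X₂ (n + 1 + 1)) :=
      Ext.subsingleton_of_injective _ _ (n + 1)
    have hQ : CohCx.IsTotallyAcyclic (SiteCoh.injSES F).X₃ := fun W p => by
      refine subsingleton_of_forall_eq 0 fun y => ?_
      have h1 : y.comp hS.extClass (rfl : p + 1 + 1 = p + 2) = 0 :=
        @Subsingleton.elim _ (hF W (p + 1)) _ _
      obtain ⟨z, hz⟩ := Ext.covariant_sequence_exact₃ _ hS y rfl h1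
      rw [← hz, @Subsingleton.elim _ (Ext.subsingleton_of_injective _ (Injective.under F) p) z 0,
        Ext.zero_comp]
    obtain ⟨y, hy⟩ := SiteCoh.exists_comp_extClass hS' ((SiteCoh.freeAb K).obj Z) (n + 1) x
    rw [← hy, @Subsingleton.elim _ (ih _ hQ Z) y 0, Ext.zero_comp]

/-- If the direct image preserves injectives, it preserves total acyclicity. -/
theorem push_totallyAcyclic
    (hinj : ∀ I : Sheaf J AddCommGrpCat.{u}, Injective I → Injective ((CohSite.push J K u).obj I))
    (F : Sheaf J AddCommGrpCat.{u}) (hF : CohCx.IsTotallyAcyclic F) :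
    CohCx.IsTotallyAcyclic ((CohSite.push J K u).obj F) :=
  fun Z n => push_acyclic_aux J K u hinj n F hF Z

end Groth.Agent.Fib44
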