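import Groth.Agent.Fib44.Fp2
import Groth.Agent.Fib44.Yoneda

/-!
Representable categories over the base and representable 1-morphisms.
-/

set_option backward.isDefEq.respectTransparency false
set_option backward.isDefEq.respectTransparency.types false

universe v₆ u₆ v₅ u₅ v₄ u₄ v₃ u₃ v₂ u₂ v u

open CategoryTheory CategoryTheory.Functor CategoryTheory.Limits

namespace Groth.Agent.Fib44

variable {C : Type u} [Category.{v} C]

theorem isRepresentable_of_equiv {𝒳 : BasedCategory.{v₂, u₂} C} {𝒴 : BasedCategory.{v₃, u₃} C}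
    {E : 𝒳 ⥤ᵇ 𝒴} (hE : FibCat.IsEquivOver E) (h : FibCat.IsRepresentable 𝒴) :
    FibCat.IsRepresentable 𝒳 := by
  obtain ⟨U, Φ, hΦ⟩ := h
  exact ⟨U, BasedFunctor.comp E Φ, isEquivOver_comp hE hΦ⟩

theorem isRepresentable_of_equiv' {𝒳 : BasedCategory.{v₂, u₂} C} {𝒴 : BasedCategory.{v₃, u₃} C}
    {E : 𝒳 ⥤ᵇ 𝒴} (hE : FibCat.IsEquivOver E) (h : FibCat.IsRepresentable 𝒳) :
    FibCat.IsRepresentable 𝒴 := by
  obtain ⟨E', hE', -⟩ := exists_inverse hE
  exact isRepresentable_of_equiv hE' h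

variable {𝒳 : BasedCategory.{v₂, u₂} C}

theorem isFibGrpd_of_isRepresentable (h : FibCat.IsRepresentable 𝒳) : FibCat.IsFibGrpd 𝒳.p := by
  obtain ⟨U, Φ, hΦ⟩ := h
  exact isFibGrpd_of_isEquivOver_target hΦ (overForget_isFibGrpd U)

theorem exists_terminal_of_isRepresentable (h : FibCat.IsRepresentable 𝒳) :
    ∃ ξ : 𝒳.obj, ∀ ρ : 𝒳.obj, Nonempty (Unique (ρ ⟶ ξ)) := by
  obtain ⟨U, Φ, hΦ⟩ := h
  obtain ⟨ξ, e, he⟩ := essSurjOver_of_isEquivOver hΦ (idObj U)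
  have := full_of_isEquivOver hΦ
  have := faithful_of_isEquivOver hΦ
  refine ⟨ξ, fun ρ => ?_⟩
  obtain ⟨g, hg⟩ := Φ.toFunctor.map_surjective (toId (Φ.obj ρ) ≫ e.inv)
  refine ⟨{ default := g, uniq := fun k => Φ.toFunctor.map_injective ?_ }⟩
  rw [← cancel_mono e.hom]
  exact Over.OverMorphism.ext (by
    have h1 := Over.w (Φ.map k ≫ e.hom)
    have h2 := Over.w (Φ.map g ≫ e.hom)
    simp only [idObj, Over.mk_hom] at h1 h2
    erw [Category.comp_id] at h1 h2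
    exact h1.trans h2.symm)

theorem isRepresentable_of_terminal (hg : FibCat.IsFibGrpd 𝒳.p) (ξ : 𝒳.obj)
    (h : ∀ ρ : 𝒳.obj, Nonempty (Unique (ρ ⟶ ξ))) : FibCat.IsRepresentable 𝒳 := by
  have hu : ∀ ρ, Subsingleton (ρ ⟶ ξ) := fun ρ => (h ρ).some |>.instSubsingleton
  let t : ∀ ρ, ρ ⟶ ξ := fun ρ => (h ρ).some.default
  let Φ : 𝒳 ⥤ᵇ FibCat.overCat (𝒳.p.obj ξ) :=
    { obj := fun ρ => (Over.mk (𝒳.p.map (t ρ)) : Over (𝒳.p.obj ξ))
      map := fun {a b} φ => (Over.homMk (𝒳.p.map φ) (by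
        change 𝒳.p.map φ ≫ 𝒳.p.map (t b) = 𝒳.p.map (t a)
        rw [← Functor.map_comp, (hu a).elim (φ ≫ t b) (t a)]) :
          Over.mk (𝒳.p.map (t a)) ⟶ Over.mk (𝒳.p.map (t b)))
      map_id := fun a => Over.OverMorphism.ext (𝒳.p.map_id a)
      map_comp := fun f g => Over.OverMorphism.ext (𝒳.p.map_comp f g)
      w := rfl }
  have : Φ.toFunctor.Faithful := ⟨fun {a b φ ψ} e =>
    sc_hom_ext 𝒳.p (t b) (hg.isStronglyCartesian (t b)) (congrArg (fun k => Over.Hom.left k) e)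
      ((hu a).elim _ _)⟩
  have : Φ.toFunctor.Full := ⟨fun {a b} g => by
    have hw : 𝒳.p.map (t a) = Over.Hom.left g ≫ 𝒳.p.map (t b) := (Over.w g).symm
    obtain ⟨χ, ⟨hχ, -⟩, -⟩ :=
      (isSC_iff 𝒳.p (t b)).mp (hg.isStronglyCartesian (t b)) (Over.Hom.left g) (t a) hw
    exact ⟨χ, Over.OverMorphism.ext hχ⟩⟩
  refine ⟨_, Φ, isEquivOver_of_essSurjOver Φ fun η => ?_⟩
  obtain ⟨y, φ, hφ⟩ := hg.exists_lift (x := ξ) (show Over (𝒳.p.obj ξ) from η).hom
  have hd : 𝒳.p.obj y = (show Over (𝒳.p.obj ξ) from η).left :=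
    IsHomLift.domain_eq 𝒳.p (show Over (𝒳.p.obj ξ) from η).hom φ
  refine ⟨y, (Over.isoMk (eqToIso hd) ?_ : (Φ.obj y : Over (𝒳.p.obj ξ)) ≅ η),
    IsHomLift.of_fac' _ _ _ hd rfl ?_⟩
  · have e := IsHomLift.fac' 𝒳.p (show Over (𝒳.p.obj ξ) from η).hom φ
    change eqToHom hd ≫ _ = 𝒳.p.map (t y)
    rw [(hu y).elim (t y) φ, e]
    simp
  · change eqToHom hd = _
    simp

theorem isRepresentable_iff_terminal :
    FibCat.IsRepresentable 𝒳 ↔
      FibCat.IsFibGrpd 𝒳.p ∧ ∃ ξ : 𝒳.obj, ∀ ρ : 𝒳.obj, Nonempty (Unique (ρ ⟶ ξ)) :=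
  ⟨fun h => ⟨isFibGrpd_of_isRepresentable h, exists_terminal_of_isRepresentable h⟩,
    fun ⟨hg, ξ, h⟩ => isRepresentable_of_terminal hg ξ h⟩

/-- The morphism of the base classifying a functor of slices over the base. -/
def overClass {U Y : C} (G : FibCat.overCat U ⥤ᵇ FibCat.overCat Y) : U ⟶ Y :=
  eqToHom (G.w_obj (idObj U)).symm ≫ (show Over Y from G.obj (idObj U)).hom

theorem overClass_hom {U Y : C} (G : FibCat.overCat U ⥤ᵇ FibCat.overCat Y) (a : Over U) :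
    (show Over Y from G.obj a).hom =
      eqToHom (G.w_obj a) ≫ a.hom ≫ overClass G := by
  have h := Over.w (G.map (toId a))
  have e : Over.Hom.left (G.map (toId a)) = _ :=
    based_map G (toId a)
  rw [← h, e]
  simp [overClass]
  rfl

theorem overFunctor_exists_iso {U Y : C} (G : FibCat.overCat U ⥤ᵇ FibCat.overCat Y) :
    ∃ w : U ⟶ Y, Nonempty (G ≅ overMap w) := by
  refine ⟨overClass G, ⟨BasedNatIso.mkNatIso (NatIso.ofComponents
    (fun a => (Over.isoMk (eqToIso (G.w_obj a)) ?_ :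
      (show Over Y from G.obj a) ≅ (Over.map (overClass G)).obj a)) fun {a b} f => ?_) fun a => ?_⟩⟩
  · exact (overClass_hom G a).symm
  · apply Over.OverMorphism.ext
    change Over.Hom.left (G.map f) ≫ eqToHom (G.w_obj b) = eqToHom (G.w_obj a) ≫ Over.Hom.left f
    have e : Over.Hom.left (G.map f) = _ := based_map G f
    rw [e]
    simp
    rfl
  · exact IsHomLift.of_fac' _ _ _ (G.w_obj a) rfl (by
      change eqToHom (G.w_obj a) = _
      simp)

end Groth.Agent.Fib44
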