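import Groth.Agent.Fib44.Repr2
import Mathlib.CategoryTheory.Limits.Shapes.Pullback.HasPullback

/-!
Representability of the diagonal from representability of all maps out of slices.
-/

set_option backward.isDefEq.respectTransparency false
set_option backward.isDefEq.respectTransparency.types false

universe v₃ u₃ v₂ u₂ v u

open CategoryTheory CategoryTheory.Functor CategoryTheory.Limits

namespace Groth.Agent.Fib44

variable {C : Type u} [Category.{v} C] {𝒮 : BasedCategory.{v₂, u₂} C}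

theorem fibGrpd_sc {R S : C} (h : FibCat.IsFibGrpd 𝒮.p) {a b : 𝒮.obj} (f : R ⟶ S) (φ : a ⟶ b)
    (hφ : 𝒮.p.IsHomLift f φ) : 𝒮.p.IsStronglyCartesian f φ :=
  isSC_of_fibGrpd 𝒮.p h f φ

variable [HasBinaryProducts C] [HasPullbacks C] (h𝒮 : FibCat.IsFibGrpd 𝒮.p) {W : C}
  (P : FibCat.overCat W ⥤ᵇ FibCat.fp (FibCat.toSelf 𝒮) (FibCat.toSelf 𝒮))

include h𝒮 in
theorem isRepresentable_fp_diag
    (hrep : FibCat.IsRepresentable (FibCat.fp (BasedFunctor.comp P (FibCat.fpFst _ _))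
      (BasedFunctor.comp P (FibCat.fpSnd _ _)))) :
    FibCat.IsRepresentable (FibCat.fp P (FibCat.diag (FibCat.toSelf 𝒮))) := by
  let X := BasedFunctor.comp P (FibCat.fpFst (FibCat.toSelf 𝒮) (FibCat.toSelf 𝒮))
  let Y := BasedFunctor.comp P (FibCat.fpSnd (FibCat.toSelf 𝒮) (FibCat.toSelf 𝒮))
  obtain ⟨ξ, hξ⟩ := exists_terminal_of_isRepresentable hrep
  let a₀ : (FibCat.overCat W).obj := ξ.obj.fst
  let b₀ : (FibCat.overCat W).obj := ξ.obj.snd
  let T : C := (show Over W from a₀).left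
  have hab : (show Over W from b₀).left = T := fp_proj_snd ξ
  let qa : T ⟶ W := (show Over W from a₀).hom
  let qb : T ⟶ W := eqToHom hab.symm ≫ (show Over W from b₀).hom
  let E : C := pullback (prod.lift qa qb) (prod.lift (𝟙 W) (𝟙 W))
  let π₁ : E ⟶ T := pullback.fst _ _
  let π₂ : E ⟶ W := pullback.snd _ _
  have hπ : π₁ ≫ qa = π₂ ∧ π₁ ≫ qb = π₂ := by
    have := pullback.condition (f := prod.lift qa qb) (g := prod.lift (𝟙 W) (𝟙 W))
    constructor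
    · simpa [π₁, π₂] using congrArg (· ≫ prod.fst) this
    · simpa [π₁, π₂] using congrArg (· ≫ prod.snd) this
  let c : (FibCat.overCat W).obj := (Over.mk π₂ : Over W)
  let α₀ : c ⟶ a₀ := (Over.homMk π₁ hπ.1 : Over.mk π₂ ⟶ (show Over W from a₀))
  let β₀ : c ⟶ b₀ := (Over.homMk (π₁ ≫ eqToHom hab.symm) (by
    have := hπ.2
    simp only [qb] at this
    change (π₁ ≫ eqToHom hab.symm) ≫ (show Over W from b₀).hom = π₂
    rw [Category.assoc]
    exact this) : Over.mk π₂ ⟶ (show Over W from b₀))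
  have hα₀ : (FibCat.overCat W).p.IsHomLift π₁ α₀ := IsHomLift.map (Over.forget W) α₀
  have hβ₀ : (FibCat.overCat W).p.IsHomLift π₁ β₀ :=
    IsHomLift.of_fac' _ _ _ rfl hab (show π₁ ≫ eqToHom hab.symm = _ by simp)
  have hι₀ : 𝒮.p.IsHomLift (𝟙 T) ξ.obj.iso.hom := ξ.property
  have hι₀' : 𝒮.p.IsHomLift (𝟙 T) ξ.obj.iso.inv := inferInstance
  have hsc : 𝒮.p.IsStronglyCartesian π₁ (X.map α₀) := fibGrpd_sc h𝒮 π₁ _ inferInstance
  have hY : 𝒮.p.IsHomLift π₁ (Y.map β₀ ≫ ξ.obj.iso.inv) := inferInstance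
  let k : Y.obj c ⟶ X.obj c := IsCartesian.map 𝒮.p π₁ (X.map α₀) (Y.map β₀ ≫ ξ.obj.iso.inv)
  have hk : 𝒮.p.IsHomLift (𝟙 E) k :=
    IsCartesian.map_isHomLift 𝒮.p π₁ (X.map α₀) (Y.map β₀ ≫ ξ.obj.iso.inv)
  have hkf : k ≫ X.map α₀ = Y.map β₀ ≫ ξ.obj.iso.inv := IsCartesian.fac _ _ _ _
  have : IsIso k := isIso_of_fibGrpd 𝒮.p h𝒮 (𝟙 E) k
  let κ : (P.obj c) ≅ (FibCat.diag (FibCat.toSelf 𝒮)).obj (X.obj c) :=
    fpIsoMk (Iso.refl _) (asIso k) (by
      have : 𝒮.p.IsHomLift (𝟙 E) (Iso.refl (X.obj c)).hom := IsHomLift.id (X.w_obj c)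
      have : 𝒮.p.IsHomLift (𝟙 E) (asIso k).hom := hk
      exact self_w (x := P.obj c) (y := (FibCat.diag (FibCat.toSelf 𝒮)).obj (X.obj c))
        (Iso.refl (X.obj c)).hom (asIso k).hom (𝟙 E))
  let ξ' : (FibCat.fp P (FibCat.diag (FibCat.toSelf 𝒮))).obj :=
    fpMk c (X.obj c) κ ((fp_isHomLift_iff (F := FibCat.toSelf 𝒮) (G := FibCat.toSelf 𝒮) _ _).mpr
      (IsHomLift.id (X.w_obj c)))
  refine isRepresentable_of_terminal
    (isFibGrpd_fp (overForget_isFibGrpd W) h𝒮 (isFibGrpd_fp h𝒮 h𝒮 selfOver_isFibGrpd)) ξ'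
    fun ρ => ?_
  let c' : (FibCat.overCat W).obj := ρ.obj.fst
  let ι₁ : X.obj c' ≅ ρ.obj.snd := (FibCat.fpFst _ _).toFunctor.mapIso ρ.obj.iso
  let ι₂ : Y.obj c' ≅ ρ.obj.snd := (FibCat.fpSnd _ _).toFunctor.mapIso ρ.obj.iso
  have hρ : (FibCat.fp (FibCat.toSelf 𝒮) (FibCat.toSelf 𝒮)).p.IsHomLift
      (𝟙 ((show Over W from c').left)) ρ.obj.iso.hom := ρ.property
  have h1 : 𝒮.p.IsHomLift (𝟙 ((show Over W from c').left)) ι₁.hom :=
    (fp_isHomLift_iff _ _).mp hρ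
  have h2 : 𝒮.p.IsHomLift (𝟙 ((show Over W from c').left)) ι₂.hom := fp_isHomLift_snd _ _
  have hθ : 𝒮.p.IsHomLift (𝟙 ((show Over W from c').left)) (ι₁ ≪≫ ι₂.symm).hom :=
    inferInstanceAs (𝒮.p.IsHomLift _ (ι₁.hom ≫ ι₂.inv))
  let ρ' : (FibCat.fp X Y).obj := fpMk c' c' (ι₁ ≪≫ ι₂.symm) hθ
  let u := (hξ ρ').some
  let α' : c' ⟶ a₀ := u.default.hom.fst
  let β' : c' ⟶ b₀ := u.default.hom.snd
  have hsq : X.map α' ≫ ξ.obj.iso.hom = (ι₁.hom ≫ ι₂.inv) ≫ Y.map β' := fp_w u.default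
  let l : (show Over W from c').left ⟶ T := Over.Hom.left α'
  have hl : (FibCat.overCat W).p.IsHomLift l β' :=
    fp_isHomLift_snd ((FibCat.fp X Y).p.map u.default) u.default
  have hlb : Over.Hom.left β' = l ≫ eqToHom hab.symm := by
    rw [over_hom_left l β']
    simp
  let m : (show Over W from c').left ⟶ E := pullback.lift l (show Over W from c').hom (by
    apply Limits.prod.hom_ext
    · simpa [qa, l] using Over.w α'
    · have := Over.w β'
      rw [hlb, Category.assoc] at this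
      simpa [qb] using this)
  have hm₁ : m ≫ π₁ = l := pullback.lift_fst _ _ _
  have hm₂ : m ≫ π₂ = (show Over W from c').hom := pullback.lift_snd _ _ _
  let γ : c' ⟶ c := (Over.homMk m hm₂ : (show Over W from c') ⟶ Over.mk π₂)
  have hγα : γ ≫ α₀ = α' := Over.OverMorphism.ext hm₁
  have hγβ : γ ≫ β₀ = β' := Over.OverMorphism.ext (by
    change m ≫ π₁ ≫ eqToHom hab.symm = Over.Hom.left β'
    rw [← Category.assoc, hm₁, hlb])
  have hγ : (FibCat.overCat W).p.IsHomLift m γ := IsHomLift.map (Over.forget W) γ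
  let σ : ρ.obj.snd ⟶ X.obj c := ι₁.inv ≫ X.map γ
  have hσ : 𝒮.p.IsHomLift m σ := inferInstanceAs (𝒮.p.IsHomLift m (ι₁.inv ≫ X.map γ))
  have hw2 : Y.map γ ≫ k = ι₂.hom ≫ σ := by
    have : 𝒮.p.IsHomLift m (ι₂.hom ≫ σ) := inferInstance
    apply IsStronglyCartesian.ext 𝒮.p π₁ (X.map α₀) m
    rw [Category.assoc, hkf, ← Category.assoc, ← Functor.map_comp, hγβ]
    change _ = (ι₂.hom ≫ ι₁.inv ≫ X.map γ) ≫ X.map α₀
    rw [Category.assoc, Category.assoc, ← Functor.map_comp, hγα, ← cancel_mono ξ.obj.iso.hom,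
      Category.assoc, Category.assoc, Category.assoc, hsq]
    simp
  refine ⟨{ default := fpHom γ σ (fp_hom_ext ?_ hw2), uniq := fun τ => ?_ }⟩
  · change X.map γ ≫ 𝟙 _ = ι₁.hom ≫ ι₁.inv ≫ X.map γ
    rw [Category.comp_id, Iso.hom_inv_id_assoc]
  · let γ' : c' ⟶ c := τ.hom.fst
    have e₁ : X.map γ' = ι₁.hom ≫ τ.hom.snd :=
      (Category.comp_id _).symm.trans (congrArg (fun t => t.hom.fst) (fp_w τ))
    have e₂ : Y.map γ' ≫ k = ι₂.hom ≫ τ.hom.snd := congrArg (fun t => t.hom.snd) (fp_w τ)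
    have hw' : X.map (γ' ≫ α₀) ≫ ξ.obj.iso.hom = (ι₁.hom ≫ ι₂.inv) ≫ Y.map (γ' ≫ β₀) := by
      rw [Functor.map_comp, Functor.map_comp, e₁]
      have e₂' : Y.map γ' = ι₂.hom ≫ τ.hom.snd ≫ inv k := by
        rw [← Category.assoc, ← e₂]
        simp
      have e₃ : X.map α₀ ≫ ξ.obj.iso.hom = inv k ≫ Y.map β₀ := by
        rw [IsIso.eq_inv_comp, ← Category.assoc, hkf]
        simp
      rw [e₂', Category.assoc, Category.assoc, e₃]
      simp
    have huniq := u.uniq (fpHom (γ' ≫ α₀) (γ' ≫ β₀) hw')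
    have ea : γ' ≫ α₀ = α' := congrArg (fun t => t.hom.fst) huniq
    have hm : Over.Hom.left γ' = m := by
      apply pullback.hom_ext
      · exact (congrArg (fun t => Over.Hom.left t) ea).trans hm₁.symm
      · exact (Over.w γ').trans hm₂.symm
    have eγ : τ.hom.fst = γ := Over.OverMorphism.ext hm
    refine fp_hom_ext eγ ?_
    change τ.hom.snd = ι₁.inv ≫ X.map γ
    rw [← eγ]
    exact (Iso.eq_inv_comp ι₁).mpr e₁.symm

end Groth.Agent.Fib44
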