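import Groth.Prelude.Def_AlgSt
import Groth.Prelude.Def_FibCat2
import Groth.Prelude.Def_W4c2modmodulilectNerve
import Groth.Agent.Fib44.Basic
import Mathlib.CategoryTheory.IsConnected
import Mathlib.CategoryTheory.Comma.StructuredArrow.Basic
import Mathlib.CategoryTheory.Adjunction.Comma
import Mathlib.CategoryTheory.Adjunction.Whiskering
import Mathlib.CategoryTheory.Category.ULift
import Mathlib.CategoryTheory.Groupoid.Discrete

/-!
Sections of a category fibred in groupoids over a diagram with contractible comma categories.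
-/

set_option backward.isDefEq.respectTransparency false
set_option backward.isDefEq.respectTransparency.types false
set_option backward.defeqAttrib.useBackward true

universe w v₃ u₃ v₂ u₂ v₁ u₁ v u

open CategoryTheory CategoryTheory.Functor CategoryTheory.Limits

namespace Groth.Agent.Fib44

theorem isConnected_of_contractible {K : Type u} [Category.{v} K]
    (h : W4c2modmodulilect.HasContractibleNerve.{w, w} K) : IsConnected K := by
  obtain ⟨j₀⟩ := h.1
  have : Nonempty K := h.1
  refine IsConnected.of_induct (j₀ := j₀) fun P hP hclosed j => ?_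
  have key : ∀ {a b : K} (_ : a ⟶ b), (a ∈ P) = (b ∈ P) := fun f => propext (hclosed f)
  let H : K ⥤ Discrete (ULift.{w} Prop) :=
    { obj := fun a => ⟨⟨a ∈ P⟩⟩
      map := fun f => eqToHom (by rw [key f])
      map_id := fun _ => rfl
      map_comp := fun _ _ => (eqToHom_trans _ _).symm }
  have := h.2 (Discrete (ULift.{w} Prop))
  let c := (Functor.const K : Discrete (ULift.{w} Prop) ⥤ K ⥤ Discrete (ULift.{w} Prop))
  have e₁ := Discrete.eq_of_hom ((c.objObjPreimageIso H).hom.app j₀)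
  have e₂ := Discrete.eq_of_hom ((c.objObjPreimageIso H).hom.app j)
  have e : (j₀ ∈ P) = (j ∈ P) := congrArg ULift.down (e₁.symm.trans e₂)
  exact e ▸ hP

theorem exists_const_iso {K : Type u} [Category.{v} K]
    (h : W4c2modmodulilect.HasContractibleNerve.{max w v₁ u₁, max w v₁ u₁} K)
    {G : Type u₁} [Category.{v₁} G] [IsGroupoid G] (H : K ⥤ G) :
    ∃ z : G, Nonempty ((Functor.const K).obj z ≅ H) := by
  let e : G ≌ AsSmall.{max w u₁} G := AsSmall.equiv
  let _ : Groupoid.{max w v₁ u₁} (AsSmall.{max w u₁} G) :=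
    Groupoid.ofIsIso fun f => by
      have : IsIso (e.inverse.map f) := inferInstance
      exact isIso_of_reflects_iso f e.inverse
  have := h.2 (AsSmall.{max w u₁} G)
  let c := (Functor.const K : AsSmall.{max w u₁} G ⥤ _)
  exact ⟨e.inverse.obj (c.objPreimage (H ⋙ e.functor)),
    ⟨(Functor.constComp K _ e.inverse).symm ≪≫
      isoWhiskerRight (c.objObjPreimageIso (H ⋙ e.functor)) e.inverse ≪≫
      Functor.associator _ _ _ ≪≫ isoWhiskerLeft H e.unitIso.symm ≪≫ H.rightUnitor⟩⟩

theorem sc_existsUnique {X : Type u} [Category.{v} X] {S : Type u₁} [Category.{v₁} S] (q : X ⥤ S)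
    {A B R : S} (f : A ⟶ B) {a b z : X} (φ : a ⟶ b) [q.IsStronglyCartesian f φ] (g : R ⟶ A)
    (ψ : z ⟶ b) [q.IsHomLift (g ≫ f) ψ] : ∃! χ, q.IsHomLift g χ ∧ χ ≫ φ = ψ := by
  obtain rfl := IsHomLift.domain_eq q (g ≫ f) ψ
  exact IsStronglyCartesian.universal_property' (p := q) (f := f) (φ := φ) g ψ

section Cones

variable {C : Type u₁} [Category.{v₁} C] {D : Type u₂} [Category.{v₂} D] {F : Type u₃}
  [Category.{v₃} F] {p : F ⥤ D} {φ : C ⥤ D} {G : C ⥤ F}

/-- A compatible family of lifts of the arrows from `Y` to the diagram. -/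
structure LiftCone (p : F ⥤ D) (φ : C ⥤ D) (G : C ⥤ F) (Y : D) where
  /-- the vertex -/
  pt : F
  /-- the lifts -/
  π : ∀ g : StructuredArrow Y φ, pt ⟶ G.obj g.right
  lift : ∀ g, p.IsHomLift g.hom (π g)
  nat : ∀ {g g' : StructuredArrow Y φ} (k : g ⟶ g'), π g ≫ G.map k.right = π g'

theorem cone_lift (hp : FibCat.IsFibGrpd p) (hGw : G ⋙ p = φ) {Y Y' : D}
    [IsConnected (StructuredArrow Y φ)] (c : LiftCone p φ G Y) (f : Y' ⟶ Y) (w : F)
    (μ : ∀ g : StructuredArrow Y φ, w ⟶ G.obj g.right)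
    (hl : ∀ g : StructuredArrow Y φ, p.IsHomLift (f ≫ g.hom) (μ g))
    (hn : ∀ {g g' : StructuredArrow Y φ} (k : g ⟶ g'), μ g ≫ G.map k.right = μ g') :
    ∃! χ : w ⟶ c.pt, p.IsHomLift f χ ∧ ∀ g, χ ≫ c.π g = μ g := by
  have hG : ∀ {X X' : C} (k : X ⟶ X'), p.IsHomLift (φ.map k) (G.map k) := fun {X X'} k => by
    subst hGw; exact IsHomLift.map p (G.map k)
  have H : ∀ g, ∃! χ : w ⟶ c.pt, p.IsHomLift f χ ∧ χ ≫ c.π g = μ g := fun g => by
    have := c.lift g
    have := hl g
    have := isSC_of_fibGrpd p hp g.hom (c.π g)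
    exact sc_existsUnique p g.hom (c.π g) f (μ g)
  choose χ hχ hu using H
  have step : ∀ {g g' : StructuredArrow Y φ} (_ : g ⟶ g'), χ g = χ g' := fun {g g'} k =>
    hu g' _ ⟨(hχ g).1, by
      rw [← c.nat k, ← Category.assoc, (hχ g).2, hn k]⟩
  have hconst : ∀ g g', χ g = χ g' := constant_of_preserves_morphisms _ fun _ _ k => step k
  obtain ⟨g₀⟩ := (IsConnected.is_nonempty : Nonempty (StructuredArrow Y φ))
  exact ⟨χ g₀, ⟨(hχ g₀).1, fun g => by rw [hconst g₀ g]; exact (hχ g).2⟩,
    fun χ' h' => hu g₀ χ' ⟨h'.1, h'.2 g₀⟩⟩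

theorem nonempty_liftCone (hp : FibCat.IsFibGrpd p) (hGw : G ⋙ p = φ) (Y : D)
    (h : W4c2modmodulilect.HasContractibleNerve.{max w v₃ u₃, max w v₃ u₃} (StructuredArrow Y φ)) :
    Nonempty (LiftCone p φ G Y) := by
  have hobj : ∀ X, p.obj (G.obj X) = φ.obj X := fun X => by subst hGw; rfl
  have hG : ∀ {X X' : C} (k : X ⟶ X'), p.IsHomLift (φ.map k) (G.map k) := fun {X X'} k => by
    subst hGw; exact IsHomLift.map p (G.map k)
  choose z l hl using fun g : StructuredArrow Y φ => exists_lift' p hp (hobj g.right) g.hom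
  have hz : ∀ g, p.obj (z g) = Y := fun g => have := hl g; IsHomLift.domain_eq p g.hom (l g)
  have H : ∀ {g g' : StructuredArrow Y φ} (k : g ⟶ g'), ∃! χ : z g ⟶ z g',
      p.IsHomLift (𝟙 Y) χ ∧ χ ≫ l g' = l g ≫ G.map k.right := fun {g g'} k => by
    have := hl g'
    have := hl g
    have := hG k.right
    have := isSC_of_fibGrpd p hp g'.hom (l g')
    have : p.IsHomLift (𝟙 Y ≫ g'.hom) (l g ≫ G.map k.right) := by
      rw [Category.id_comp, ← StructuredArrow.w k]; infer_instance
    exact sc_existsUnique p g'.hom (l g') (𝟙 Y) _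
  choose χ hχ hu using @H
  let Hf : StructuredArrow Y φ ⥤ p.Fiber Y :=
    { obj := fun g => Fiber.mk (hz g)
      map := fun {g g'} k => ⟨χ k, (hχ k).1⟩
      map_id := fun g => Subtype.ext (hu _ _ ⟨IsHomLift.id (hz g), by
        change 𝟙 _ ≫ l g = _
        simp⟩).symm
      map_comp := fun {a b e} k k' => Subtype.ext (hu _ _ ⟨by
        have := (hχ k).1
        have := (hχ k').1
        change p.IsHomLift (𝟙 Y) (χ k ≫ χ k')
        infer_instance, by
        change (χ k ≫ χ k') ≫ l e = _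
        rw [Category.assoc, (hχ k').2, ← Category.assoc, (hχ k).2, Category.assoc,
          ← Functor.map_comp]
        rfl⟩).symm }
  have := isGroupoid_fiber p hp Y
  obtain ⟨z₀, ⟨e⟩⟩ := exists_const_iso.{w} h Hf
  refine ⟨⟨z₀.1, fun g => (e.hom.app g).1 ≫ l g, fun g => ?_, fun {g g'} k => ?_⟩⟩
  · have := (e.hom.app g).2
    have := hl g
    have : p.IsHomLift (𝟙 Y ≫ g.hom) ((e.hom.app g).1 ≫ l g) := inferInstance
    simpa using this
  · have h1 := congrArg Subtype.val (e.hom.naturality k)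
    change 𝟙 _ ≫ (e.hom.app g').1 = (e.hom.app g).1 ≫ χ k at h1
    rw [Category.id_comp] at h1
    rw [Category.assoc, ← (hχ k).2, ← Category.assoc, ← h1]

end Cones

section Restr

variable {C : Type u₁} [Category.{v₁} C] {D : Type u₂} [Category.{v₂} D] {F : Type u₃}
  [Category.{v₃} F] (φ : C ⥤ D) (p : F ⥤ D)

theorem restr_toSelf_isEquivalence (hp : FibCat.IsFibGrpd p)
    (hc : ∀ Y : D, IsConnected (StructuredArrow Y φ))
    (he : ∀ (G : C ⥤ F) (_ : G ⋙ p = φ) (Y : D), Nonempty (LiftCone p φ G Y)) :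
    (Stk.restr (FibCat.toSelf (BasedCategory.ofFunctor φ))
      (BasedCategory.ofFunctor p)).IsEquivalence := by
  have key : ∀ (τ : FibCat.selfOver D ⥤ᵇ BasedCategory.ofFunctor p) (Y : D),
      ∃ c : LiftCone p φ (φ ⋙ τ.toFunctor) Y, c.pt = τ.obj Y ∧
        ∀ g, HEq (c.π g) (τ.map g.hom) := fun τ Y => by
    refine ⟨⟨τ.obj Y, fun g => τ.map g.hom, fun g => ?_, fun {g g'} k => ?_⟩, rfl,
      fun g => HEq.rfl⟩
    · have : (FibCat.selfOver D).p.IsHomLift g.hom g.hom := IsHomLift.map (𝟭 D) g.hom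
      exact (inferInstance : (BasedCategory.ofFunctor p).p.IsHomLift g.hom (τ.map g.hom))
    · exact (τ.toFunctor.map_comp _ _).symm.trans (congrArg _ (StructuredArrow.w k))
  have ext₀ : ∀ {τ τ' : FibCat.selfOver D ⥤ᵇ BasedCategory.ofFunctor p} (Y Y' : D) (f : Y' ⟶ Y)
      (μ : ∀ g : StructuredArrow Y φ, τ.obj Y' ⟶ τ'.obj (φ.obj g.right)),
      (∀ g, p.IsHomLift (f ≫ g.hom) (μ g)) →
      (∀ {g g' : StructuredArrow Y φ} (k : g ⟶ g'), μ g ≫ τ'.map (φ.map k.right) = μ g') →
      ∃! χ : τ.obj Y' ⟶ τ'.obj Y, p.IsHomLift f χ ∧ ∀ g, χ ≫ τ'.map g.hom = μ g := by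
    intro τ τ' Y Y' f μ hl hn
    obtain ⟨⟨pt, π, hπ, hπn⟩, hpt, hπe⟩ := key τ' Y
    obtain rfl : pt = τ'.obj Y := hpt
    have hπe' : π = fun g => τ'.map g.hom := funext fun g => eq_of_heq (hπe g)
    subst hπe'
    have := hc Y
    have hw : τ'.toFunctor ⋙ p = 𝟭 D := τ'.w
    exact cone_lift (φ := φ) (G := φ ⋙ τ'.toFunctor) hp
      (by rw [Functor.assoc, hw, Functor.comp_id]) ⟨_, _, hπ, hπn⟩ f _ μ hl hn
  have hid : ∀ (τ : FibCat.selfOver D ⥤ᵇ BasedCategory.ofFunctor p) {X Y : D} (g : X ⟶ Y),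
      p.IsHomLift g (τ.map g) := fun τ X Y g => by
    have : (FibCat.selfOver D).p.IsHomLift g g := IsHomLift.map (𝟭 D) g
    exact (inferInstance : (BasedCategory.ofFunctor p).p.IsHomLift g (τ.map g))
  refine { faithful := ⟨fun {τ τ'} α β h => ?_⟩, full := ⟨fun {τ τ'} a => ?_⟩, essSurj := ⟨fun G => ?_⟩ }
  · refine BasedNatTrans.ext _ _ (NatTrans.ext (funext fun Y => ?_))
    have hα : p.IsHomLift (𝟙 Y) (α.toNatTrans.app Y) := α.isHomLift (a := Y) rfl
    have hβ : p.IsHomLift (𝟙 Y) (β.toNatTrans.app Y) := β.isHomLift (a := Y) rfl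
    have hh : ∀ X : C, α.toNatTrans.app (φ.obj X) = β.toNatTrans.app (φ.obj X) := fun X =>
      NatTrans.congr_app (congrArg BasedNatTrans.toNatTrans h) X
    refine (ext₀ Y Y (𝟙 Y) (fun g => α.toNatTrans.app Y ≫ τ'.map g.hom) (fun g => ?_)
      (fun {g g'} k => ?_)).unique ⟨hα, fun g => rfl⟩ ⟨hβ, fun g => ?_⟩
    · have := hid τ' g.hom
      infer_instance
    · rw [Category.assoc]
      exact congrArg (_ ≫ ·) ((τ'.toFunctor.map_comp _ _).symm.trans
        (congrArg _ (StructuredArrow.w k)))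
    · exact (β.toNatTrans.naturality g.hom).symm.trans
        ((congrArg (τ.map g.hom ≫ ·) (hh g.right).symm).trans (α.toNatTrans.naturality g.hom))
  · have ha : ∀ X : C, p.IsHomLift (𝟙 (φ.obj X)) (a.toNatTrans.app X) := fun X =>
      a.isHomLift (a := X) rfl
    have hμ : ∀ (Y : D) (g : StructuredArrow Y φ),
        p.IsHomLift (𝟙 Y ≫ g.hom) (τ.map g.hom ≫ a.toNatTrans.app g.right) := fun Y g => by
      have := hid τ g.hom
      have := ha g.right
      have : p.IsHomLift (g.hom ≫ 𝟙 _) (τ.map g.hom ≫ a.toNatTrans.app g.right) := inferInstance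
      simpa using this
    have hμn : ∀ (Y : D) {g g' : StructuredArrow Y φ} (k : g ⟶ g'),
        (τ.map g.hom ≫ a.toNatTrans.app g.right) ≫ τ'.map (φ.map k.right) =
          τ.map g'.hom ≫ a.toNatTrans.app g'.right := fun Y g g' k => by
      rw [Category.assoc, ← StructuredArrow.w k]
      erw [τ.toFunctor.map_comp, Category.assoc]
      exact congrArg (_ ≫ ·) (a.toNatTrans.naturality k.right).symm
    choose χ hχ hu using fun Y => ext₀ Y Y (𝟙 Y) _ (hμ Y) (hμn Y)
    have hnat : ∀ {X Y : D} (f : X ⟶ Y), τ.map f ≫ χ Y = χ X ≫ τ'.map f := by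
      intro X Y f
      have hlift : ∀ g : StructuredArrow Y φ,
          p.IsHomLift (f ≫ g.hom) (τ.map (f ≫ g.hom) ≫ a.toNatTrans.app g.right) := fun g => by
        have := hid τ (f ≫ g.hom)
        have := ha g.right
        have : p.IsHomLift ((f ≫ g.hom) ≫ 𝟙 _) (τ.map (f ≫ g.hom) ≫ a.toNatTrans.app g.right) :=
          inferInstance
        simpa using this
      refine (ext₀ Y X f (fun g => τ.map (f ≫ g.hom) ≫ a.toNatTrans.app g.right) hlift
        (fun {g g'} k => ?_)).unique ⟨?_, fun g => ?_⟩ ⟨?_, fun g => ?_⟩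
      · exact (Category.assoc _ _ _).trans ((congrArg (_ ≫ ·)
          (a.toNatTrans.naturality k.right).symm).trans ((Category.assoc _ _ _).symm.trans
          (congrArg (· ≫ _) ((τ.toFunctor.map_comp _ _).symm.trans
            (congrArg τ.map ((Category.assoc _ _ _).trans
              (congrArg (f ≫ ·) (StructuredArrow.w k))))))))
      · have := hid τ f
        have := (hχ Y).1
        have : p.IsHomLift (f ≫ 𝟙 Y) (τ.map f ≫ χ Y) := inferInstance
        simpa using this
      · rw [Category.assoc, (hχ Y).2 g, ← Category.assoc]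
        exact congrArg (· ≫ _) (τ.toFunctor.map_comp _ _).symm
      · have := hid τ' f
        have := (hχ X).1
        have : p.IsHomLift (𝟙 X ≫ f) (χ X ≫ τ'.map f) := inferInstance
        simpa using this
      · rw [Category.assoc]
        exact (congrArg (_ ≫ ·) (τ'.toFunctor.map_comp _ _).symm).trans
          ((hχ X).2 (StructuredArrow.mk (f ≫ g.hom)))
    refine ⟨{ app := χ, naturality := fun _ _ f => hnat f, isHomLift' := fun Y => (hχ Y).1 },
      BasedNatTrans.ext _ _ (NatTrans.ext (funext fun X => ?_))⟩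
    have h1 := (hχ (φ.obj X)).2 (StructuredArrow.mk (𝟙 _))
    change χ _ ≫ τ'.map (𝟙 _) = τ.map (𝟙 _) ≫ a.toNatTrans.app X at h1
    erw [τ.toFunctor.map_id, τ'.toFunctor.map_id, Category.id_comp, Category.comp_id] at h1
    exact h1
  · let c : ∀ Y : D, LiftCone p φ G.toFunctor Y := fun Y => (he G.toFunctor G.w Y).some
    have hobj : ∀ Y, p.obj (c Y).pt = Y := fun Y => by
      have := hc Y
      obtain ⟨g⟩ := (IsConnected.is_nonempty : Nonempty (StructuredArrow Y φ))
      have := (c Y).lift g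
      exact IsHomLift.domain_eq p g.hom ((c Y).π g)
    have H : ∀ {X Y : D} (f : X ⟶ Y), ∃! χ : (c X).pt ⟶ (c Y).pt, p.IsHomLift f χ ∧
        ∀ g : StructuredArrow Y φ, χ ≫ (c Y).π g = (c X).π (StructuredArrow.mk (f ≫ g.hom)) :=
      fun {X Y} f => by
        have : IsConnected (StructuredArrow Y φ) := hc Y
        exact cone_lift (φ := φ) hp G.w (c Y) f _ _ (fun g => (c X).lift (StructuredArrow.mk (f ≫ g.hom))) (fun {g g'} k =>
          (c X).nat (g := StructuredArrow.mk (f ≫ g.hom)) (g' := StructuredArrow.mk (f ≫ g'.hom))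
            (StructuredArrow.homMk k.right
              ((Category.assoc _ _ _).trans (congrArg (f ≫ ·) (StructuredArrow.w k)))))
    choose χ hχ hu using @H
    have hπ : ∀ {X : D} {E : C} (g g' : X ⟶ φ.obj E), g = g' →
        (c X).π (StructuredArrow.mk g) = (c X).π (StructuredArrow.mk g') := fun g g' h => by
      subst h; rfl
    let σ : FibCat.selfOver D ⥤ᵇ BasedCategory.ofFunctor p :=
      { obj := fun Y => (c Y).pt
        map := fun f => χ f
        map_id := fun Y => (hu (𝟙 Y) _ ⟨IsHomLift.id (hobj Y), fun g =>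
          (Category.id_comp _).trans (hπ _ (𝟙 Y ≫ g.hom) (Category.id_comp _).symm)⟩).symm
        map_comp := fun {X Y Z} f f' => (hu (f ≫ f') _ ⟨by
          have := (hχ f).1
          have := (hχ f').1
          change p.IsHomLift (f ≫ f') (χ f ≫ χ f')
          infer_instance, fun g => by
          change (χ f ≫ χ f') ≫ _ = _
          rw [Category.assoc, (hχ f').2 g, (hχ f).2]
          exact hπ _ _ (Category.assoc _ _ _).symm⟩).symm
        w := CategoryTheory.Functor.ext hobj fun X Y f => by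
          have := (hχ f).1
          exact IsHomLift.fac' p f (χ f) }
    have hiso : ∀ X : C, IsIso ((c (φ.obj X)).π (StructuredArrow.mk (𝟙 _))) := fun X => by
      have h := (c (φ.obj X)).lift (StructuredArrow.mk (𝟙 _))
      have : p.IsHomLift (𝟙 (φ.obj X)) ((c (φ.obj X)).π (StructuredArrow.mk (𝟙 _))) := h
      exact isIso_of_fibGrpd p hp (𝟙 (φ.obj X)) _
    refine ⟨σ, ⟨BasedNatIso.mkNatIso (NatIso.ofComponents
      (fun X => @asIso _ _ _ _ _ (hiso X)) (fun {X X'} k => ?_)) (fun X =>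
        (c (φ.obj X)).lift (StructuredArrow.mk (𝟙 _)))⟩⟩
    change χ (φ.map k) ≫ (c (φ.obj X')).π (StructuredArrow.mk (𝟙 _)) =
      (c (φ.obj X)).π (StructuredArrow.mk (𝟙 _)) ≫ G.map k
    rw [(hχ (φ.map k)).2]
    refine Eq.trans ?_ ((c (φ.obj X)).nat (g := StructuredArrow.mk (𝟙 _))
      (g' := StructuredArrow.mk (φ.map k)) (StructuredArrow.homMk k (by simp))).symm
    exact hπ _ _ (Category.comp_id _)

end Restr

section FibredDiagram

variable {C : Type u₁} [Category.{v₁} C] {D : Type u₂} [Category.{v₂} D] (f : C ⥤ D)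

/-- A fibre as a subcategory of the arrows from its object to the diagram. -/
def fibreArrow (Y : D) : f.Fiber Y ⥤ StructuredArrow Y f where
  obj a := StructuredArrow.mk (eqToHom a.2.symm)
  map {a b} m := StructuredArrow.homMk m.1 (by
    have := m.2
    rw [StructuredArrow.mk_hom_eq_self, IsHomLift.fac' f (𝟙 Y) m.1]
    simp)

theorem isLeftAdjoint_fibreArrow [f.IsFibered] (Y : D) : (fibreArrow f Y).IsLeftAdjoint := by
  have : ∀ A, HasTerminal (CostructuredArrow (fibreArrow f Y) A) := fun A => by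
    obtain ⟨y, ψ, hψ⟩ := exists_sc_lift f (rfl : f.obj A.right = _) A.hom
    have hy : f.obj y = Y := IsHomLift.domain_eq f A.hom ψ
    let T : CostructuredArrow (fibreArrow f Y) A :=
      CostructuredArrow.mk (Y := Fiber.mk hy) (StructuredArrow.homMk ψ (by
        change eqToHom hy.symm ≫ f.map ψ = A.hom
        rw [IsHomLift.fac' f A.hom ψ]
        simp))
    have H : ∀ B : CostructuredArrow (fibreArrow f Y) A,
        ∃! χ : B.left.1 ⟶ y, f.IsHomLift (𝟙 Y) χ ∧ χ ≫ ψ = B.hom.right := fun B => by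
      have e : eqToHom B.left.2.symm ≫ f.map B.hom.right = A.hom := StructuredArrow.w B.hom
      have : f.IsHomLift (𝟙 Y ≫ A.hom) B.hom.right :=
        IsHomLift.of_fac' _ _ _ B.left.2 rfl (by simp [← e])
      exact sc_existsUnique f A.hom ψ (𝟙 Y) B.hom.right
    choose χ hχ hu using H
    refine IsTerminal.hasTerminal (X := T) (IsTerminal.ofUniqueHom
      (fun B => CostructuredArrow.homMk ⟨χ B, (hχ B).1⟩
        (StructuredArrow.hom_ext _ _ (hχ B).2)) fun B m => ?_)
    refine CostructuredArrow.hom_ext _ _ (Subtype.ext (hu B _ ⟨m.left.2, ?_⟩))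
    exact congrArg CommaMorphism.right (CostructuredArrow.w m)
  exact isLeftAdjoint_of_costructuredArrowTerminals _

theorem contractible_of_isLeftAdjoint {K : Type u₁} [Category.{v₁} K] {L : Type u₂}
    [Category.{v₂} L] (i : K ⥤ L) [i.IsLeftAdjoint]
    (h : W4c2modmodulilect.HasContractibleNerve.{w, w} K) :
    W4c2modmodulilect.HasContractibleNerve.{w, w} L := by
  refine ⟨h.1.map i.obj, fun G _ => ?_⟩
  have := h.2 G
  let adj := Adjunction.whiskerLeft G (Adjunction.ofIsLeftAdjoint i)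
  have hu : ∀ H, IsIso (adj.unit.app H) := fun H => NatIso.isIso_of_isIso_app _
  have hv : ∀ H, IsIso (adj.counit.app H) := fun H => NatIso.isIso_of_isIso_app _
  have : ((whiskeringLeft K L G).obj i).IsEquivalence :=
    adj.toEquivalence.isEquivalence_inverse
  have : ((Functor.const L : G ⥤ L ⥤ G) ⋙ (whiskeringLeft K L G).obj i).IsEquivalence :=
    Functor.isEquivalence_of_iso (F := (Functor.const K : G ⥤ K ⥤ G))
      (NatIso.ofComponents (fun g => (NatIso.ofComponents (fun k => Iso.refl _))))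
  exact Functor.isEquivalence_of_comp_right _ ((whiskeringLeft K L G).obj i)

end FibredDiagram

end Groth.Agent.Fib44
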