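import Mathlib.CategoryTheory.Sites.InducedTopology
import Mathlib.CategoryTheory.Sites.Over
import Mathlib.CategoryTheory.Sites.DenseSubsite.InducedTopology
import Groth.Agent.Fib44.Equiv

/-!
The topology inherited by a category fibred in groupoids.
-/

set_option backward.isDefEq.respectTransparency false
set_option backward.isDefEq.respectTransparency.types false

universe w v₃ u₃ v₂ u₂ v u

open CategoryTheory CategoryTheory.Functor

namespace Groth.Agent.Fib44

variable {C : Type u} [Category.{v} C]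

section Plain

variable {𝒳 : Type u₂} [Category.{v₂} 𝒳] {p : 𝒳 ⥤ C}

/-- Every arrow into `p x` comes from an arrow into `x`, up to the identification of the domain. -/
theorem exists_lift_arrow (hp : FibCat.IsFibGrpd p) {x : 𝒳} {V : C} (g : V ⟶ p.obj x) :
    ∃ (y : 𝒳) (φ : y ⟶ x) (h : p.obj y = V), g = eqToHom h.symm ≫ p.map φ := by
  obtain ⟨y, φ, hφ⟩ := hp.exists_lift g
  exact ⟨y, φ, IsHomLift.domain_eq p g φ, by simp [IsHomLift.fac' p g φ]⟩

/-- Two arrows with the same image differ by an isomorphism. -/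
theorem exists_iso_of_map_eq (hp : FibCat.IsFibGrpd p) {x y z : 𝒳} (φ : y ⟶ x) (ψ : z ⟶ x)
    (h : p.obj y = p.obj z) (e : p.map φ = eqToHom h ≫ p.map ψ) :
    ∃ ι : y ⟶ z, IsIso ι ∧ p.IsHomLift (𝟙 (p.obj z)) ι ∧ ι ≫ ψ = φ := by
  have := hp.isStronglyCartesian ψ
  have : p.IsHomLift (p.map ψ) φ := IsHomLift.of_fac' p _ φ h rfl (by simpa using e)
  refine ⟨IsCartesian.map p (p.map ψ) ψ φ, ?_, inferInstance, IsCartesian.fac p (p.map ψ) ψ φ⟩
  exact isIso_of_fibGrpd p hp (𝟙 (p.obj z)) _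

theorem push_arrows_iff (hp : FibCat.IsFibGrpd p) {x y : 𝒳} (S : Sieve x) (φ : y ⟶ x) {V : C}
    (h : p.obj y = V) : S.functorPushforward p (eqToHom h.symm ≫ p.map φ) ↔ S φ := by
  constructor
  · rintro ⟨z, ψ, k, hψ, e⟩
    subst h
    simp only [eqToHom_refl, Category.id_comp] at e
    obtain ⟨z', χ, hz', hk⟩ := exists_lift_arrow hp k
    obtain ⟨ι, -, -, hι⟩ := exists_iso_of_map_eq hp φ (χ ≫ ψ) hz'.symm (by simp [e, hk])
    rw [← hι]
    exact S.downward_closed (S.downward_closed hψ χ) ι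
  · exact fun hφ => ⟨y, φ, eqToHom h.symm, hφ, rfl⟩

theorem push_map_iff (hp : FibCat.IsFibGrpd p) {x y : 𝒳} (S : Sieve x) (φ : y ⟶ x) :
    S.functorPushforward p (p.map φ) ↔ S φ := by
  simpa using push_arrows_iff hp S φ rfl

theorem push_pullback (hp : FibCat.IsFibGrpd p) {x y : 𝒳} (S : Sieve x) (f : y ⟶ x) :
    (S.pullback f).functorPushforward p = (S.functorPushforward p).pullback (p.map f) := by
  ext V g
  obtain ⟨z, φ, hz, rfl⟩ := exists_lift_arrow hp g
  rw [push_arrows_iff hp _ _ hz, Sieve.pullback_apply, Sieve.pullback_apply, Category.assoc,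
    ← Functor.map_comp, push_arrows_iff hp _ _ hz]

theorem push_pull (hp : FibCat.IsFibGrpd p) {x : 𝒳} (T : Sieve (p.obj x)) :
    (T.functorPullback p).functorPushforward p = T := by
  ext V g
  obtain ⟨z, φ, hz, rfl⟩ := exists_lift_arrow hp g
  rw [push_arrows_iff hp _ _ hz]
  subst hz
  simp [Sieve.functorPullback]

/-- The sieves of the topology inherited from `J` are those whose image covers. -/
theorem mem_restricted_iff (hp : FibCat.IsFibGrpd p) {J : GrothendieckTopology C} {x : 𝒳}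
    (S : Sieve x) : S ∈ p.restrictedTopology J x ↔ S.functorPushforward p ∈ J (p.obj x) := by
  refine ⟨fun hS => ?_, mem_restrictedTopology_of_functorPushforward_mem⟩
  rw [Functor.restrictedTopology] at hS
  induction hS with
  | of X S hS => rwa [← Sieve.generate_map_eq_functorPushforward]
  | top X => simp
  | pullback X S _ Y f ih =>
    rw [push_pullback hp]
    exact J.pullback_stable _ ih
  | transitive X S R _ _ hS H' =>
    apply J.transitive hS
    intro V g hg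
    obtain ⟨z, φ, hz, rfl⟩ := exists_lift_arrow hp g
    rw [push_arrows_iff hp _ _ hz] at hg
    have := H' hg
    rw [push_pullback hp] at this
    rw [Sieve.pullback_comp]
    exact J.pullback_stable _ this

end Plain

theorem push_comp_based {𝒳 : BasedCategory.{v₂, u₂} C} {𝒴 : BasedCategory.{v₃, u₃} C}
    (F : 𝒳 ⥤ᵇ 𝒴) (h𝒳 : FibCat.IsFibGrpd 𝒳.p) (h𝒴 : FibCat.IsFibGrpd 𝒴.p) {x : 𝒳.obj}
    (S : Sieve x) {w : 𝒴.obj} (ψ : w ⟶ F.obj x) :
    S.functorPushforward F.toFunctor ψ ↔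
      S.functorPushforward 𝒳.p (𝒴.p.map ψ ≫ eqToHom (F.w_obj x)) := by
  constructor
  · rintro ⟨z, φ, k, hφ, rfl⟩
    refine ⟨z, φ, 𝒴.p.map k ≫ eqToHom (F.w_obj z), hφ, ?_⟩
    simp [based_map F φ]
  · intro h
    obtain ⟨z, φ, hz, e⟩ := exists_lift_arrow h𝒳 (𝒴.p.map ψ ≫ eqToHom (F.w_obj x))
    rw [e, push_arrows_iff h𝒳 _ _ hz] at h
    have hw : 𝒴.p.obj w = 𝒴.p.obj (F.obj z) := (F.w_obj z).trans hz |>.symm
    obtain ⟨ι, -, -, hι⟩ := exists_iso_of_map_eq h𝒴 ψ (F.map φ) hw (by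
      rw [← cancel_mono (eqToHom (F.w_obj x)), e, based_map F φ]
      simp)
    exact ⟨z, φ, ι, h, hι.symm⟩

theorem pull_comp_based {𝒳 : BasedCategory.{v₂, u₂} C} {𝒴 : BasedCategory.{v₃, u₃} C}
    (F : 𝒳 ⥤ᵇ 𝒴) (h𝒴 : FibCat.IsFibGrpd 𝒴.p) {x : 𝒳.obj} (T : Sieve (F.obj x)) {z : 𝒳.obj}
    (φ : z ⟶ x) :
    T.functorPullback F.toFunctor φ ↔
      T.functorPushforward 𝒴.p (𝒳.p.map φ ≫ eqToHom (F.w_obj x).symm) := by
  rw [show 𝒳.p.map φ ≫ eqToHom (F.w_obj x).symm =
    eqToHom (F.w_obj z).symm ≫ 𝒴.p.map (F.map φ) by simp [based_map F φ],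
    push_arrows_iff h𝒴 _ _ (F.w_obj z)]
  rfl

end Groth.Agent.Fib44
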