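import Groth.Agent.Fib44.SplitTransfer

/-!
The strict functor of a splitting.
-/

set_option backward.isDefEq.respectTransparency false
set_option backward.isDefEq.respectTransparency.types false

universe v₂ u₂ v u

open CategoryTheory CategoryTheory.Functor Opposite

namespace Groth.Agent.Fib44

variable {C : Type u} [Category.{v} C] {𝒳 : Type u₂} [Category.{v₂} 𝒳] {p : 𝒳 ⥤ C}
  (K : FibCat.Cleavage p)

theorem fiber_eqToHom {U : C} {a b : p.Fiber U} (h : a = b) :
    (eqToHom h).1 = eqToHom (congrArg Subtype.val h) := by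
  subst h; rfl

theorem fiber_comp {U : C} {a b c : p.Fiber U} (f : a ⟶ b) (g : b ⟶ c) : (f ≫ g).1 = f.1 ≫ g.1 := rfl

/-- The strict functor of fibres of a splitting. -/
noncomputable def splitFun (hK : K.IsSplitting) : Cᵒᵖ ⥤ Cat.{v₂, u₂} where
  obj U := Cat.of (p.Fiber U.unop)
  map f := (K.inverseImage f.unop).toCatHom
  map_id U := by
    ext1
    refine CategoryTheory.Functor.ext (fun a => Subtype.ext (hK.1 a.2).choose) fun a b φ => ?_
    apply Subtype.ext
    obtain ⟨ha, ea⟩ := hK.1 a.2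
    obtain ⟨hb, eb⟩ := hK.1 b.2
    have h1 : ((K.inverseImage (𝟙 U.unop)).map φ).1 ≫ K.lift b.2 (𝟙 U.unop) =
        K.lift a.2 (𝟙 U.unop) ≫ φ.1 := IsCartesian.fac p (𝟙 U.unop) (K.lift b.2 (𝟙 U.unop)) _
    erw [fiber_comp, fiber_comp, fiber_eqToHom, fiber_eqToHom]
    rw [ea, eb] at h1
    change ((K.inverseImage (𝟙 U.unop)).map φ).1 = _ ≫ φ.1 ≫ _
    rw [← cancel_mono (eqToHom hb), h1]
    simp
  map_comp {A B D} f g := by
    ext1
    refine CategoryTheory.Functor.ext
      (fun a => Subtype.ext (hK.2 f.unop g.unop a.2).choose.symm) fun a b φ => ?_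
    apply Subtype.ext
    obtain ⟨ha, ea⟩ := hK.2 f.unop g.unop a.2
    obtain ⟨hb, eb⟩ := hK.2 f.unop g.unop b.2
    let F' := g.unop ≫ f.unop
    have h1 : ((K.inverseImage F').map φ).1 ≫ K.lift b.2 F' = K.lift a.2 F' ≫ φ.1 :=
      IsCartesian.fac p F' (K.lift b.2 F') _
    have h2 : ((K.inverseImage f.unop).map φ).1 ≫ K.lift b.2 f.unop = K.lift a.2 f.unop ≫ φ.1 :=
      IsCartesian.fac p f.unop (K.lift b.2 f.unop) _
    have h3 : ((K.inverseImage g.unop).map ((K.inverseImage f.unop).map φ)).1 ≫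
        K.lift (K.obj_proj b.2 f.unop) g.unop =
          K.lift (K.obj_proj a.2 f.unop) g.unop ≫ ((K.inverseImage f.unop).map φ).1 :=
      IsCartesian.fac p g.unop (K.lift (K.obj_proj b.2 f.unop) g.unop) _
    erw [fiber_comp, fiber_comp, fiber_eqToHom, fiber_eqToHom]
    change ((K.inverseImage F').map φ).1 = _ ≫
      ((K.inverseImage g.unop).map ((K.inverseImage f.unop).map φ)).1 ≫ _
    have : p.IsHomLift (𝟙 D.unop) ((K.inverseImage F').map φ).1 := ((K.inverseImage F').map φ).2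
    have : p.IsHomLift (𝟙 D.unop)
        ((K.inverseImage g.unop).map ((K.inverseImage f.unop).map φ)).1 :=
      ((K.inverseImage g.unop).map ((K.inverseImage f.unop).map φ)).2
    have l1 : p.IsHomLift (𝟙 D.unop) (eqToHom ha.symm) :=
      IsHomLift.of_fac' p _ _ (K.obj_proj a.2 F') (K.obj_proj _ g.unop) (by simp [eqToHom_map])
    have l2 : p.IsHomLift (𝟙 D.unop) (eqToHom hb) :=
      IsHomLift.of_fac' p _ _ (K.obj_proj _ g.unop) (K.obj_proj b.2 F') (by simp [eqToHom_map])
    apply IsCartesian.ext p F' (K.lift b.2 F')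
    rw [h1]
    simp only [F', Category.assoc] at h1 ⊢
    erw [← eb, reassoc_of% h3, h2, reassoc_of% ea]
    simp

theorem exists_split_of_cleavage (p : 𝒳 ⥤ C) (K : FibCat.Cleavage p) (hK : K.IsSplitting) :
    ∃ (F : Cᵒᵖ ⥤ Cat.{v₂, u₂})
      (Φ : 𝒳 ⥤ Pseudofunctor.CoGrothendieck F.toPseudofunctor')
      (Ψ : Pseudofunctor.CoGrothendieck F.toPseudofunctor' ⥤ 𝒳),
      Φ ⋙ Ψ = 𝟭 𝒳 ∧ Ψ ⋙ Φ = 𝟭 _ ∧
        Φ ⋙ Pseudofunctor.CoGrothendieck.forget F.toPseudofunctor' = p := by
  let F := splitFun K hK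
  have hp : ∀ {U V : C} {f f' : U ⟶ V} (_ : f = f') {a : 𝒳} (ha : p.obj a = V),
      ∃ h : K.obj ha f = K.obj ha f', K.lift ha f = eqToHom h ≫ K.lift ha f' := by
    intro U V f f' e a ha
    subst e
    exact ⟨rfl, by simp⟩
  let Ψ : Pseudofunctor.CoGrothendieck F.toPseudofunctor' ⥤ 𝒳 :=
    { obj := fun a => (show p.Fiber a.base from a.fiber).1
      map := fun {a b} φ => (show (show p.Fiber a.base from a.fiber) ⟶
        (K.inverseImage φ.base).obj b.fiber from φ.fiber).1 ≫
          K.lift (show p.Fiber b.base from b.fiber).2 φ.base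
      map_id := fun a => by
        obtain ⟨U, x⟩ := a
        obtain ⟨h, e⟩ := hK.1 (show p.Fiber U from x).2
        have : ∀ h', ((eqToHom h' : (show p.Fiber U from x) ⟶ (K.inverseImage (𝟙 U)).obj x)).1 =
            eqToHom h.symm := fun h' => fiber_eqToHom h'
        change ((((F.toPseudofunctor').mapId _).inv.toNatTrans.app x) :
          (show p.Fiber U from x) ⟶ (K.inverseImage (𝟙 U)).obj x).1 ≫ _ = _
        simp only [Functor.toPseudofunctor', pseudofunctorOfIsLocallyDiscrete_mapId, eqToIso.inv,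
          Cat.eqToHom_app]
        erw [this, e]
        simp
      map_comp := fun {a b c} φ ψ => by
        obtain ⟨h, e⟩ := hK.2 ψ.base φ.base (show p.Fiber c.base from c.fiber).2
        have : ∀ h', ((eqToHom h' : (K.inverseImage φ.base).obj ((K.inverseImage ψ.base).obj c.fiber) ⟶
            (K.inverseImage (φ.base ≫ ψ.base)).obj c.fiber)).1 = eqToHom h := fun h' => fiber_eqToHom h'
        change ((φ.fiber : (show p.Fiber a.base from a.fiber) ⟶
            (K.inverseImage φ.base).obj b.fiber).1 ≫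
          ((K.inverseImage φ.base).map ψ.fiber).1 ≫
          ((((F.toPseudofunctor').mapComp ψ.base.op.toLoc φ.base.op.toLoc).inv.toNatTrans.app c.fiber) :
            (K.inverseImage φ.base).obj ((K.inverseImage ψ.base).obj c.fiber) ⟶
              (K.inverseImage (φ.base ≫ ψ.base)).obj c.fiber).1) ≫ _ = _
        simp only [Functor.toPseudofunctor', pseudofunctorOfIsLocallyDiscrete_mapComp, eqToIso.inv,
          Cat.eqToHom_app]
        erw [this]
        simp only [Category.assoc]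
        erw [← e]
        congr 1
        erw [reassoc_of% (IsCartesian.fac p φ.base
          (K.lift (K.obj_proj (show p.Fiber c.base from c.fiber).2 ψ.base) φ.base) _)]
        exact Category.assoc _ _ _ }
  have hΨp : ∀ {a b : Pseudofunctor.CoGrothendieck F.toPseudofunctor'} (φ : a ⟶ b),
      p.IsHomLift φ.base (Ψ.map φ) := fun {a b} φ => by
    have : p.IsHomLift (𝟙 a.base) (show (show p.Fiber a.base from a.fiber) ⟶
        (K.inverseImage φ.base).obj b.fiber from φ.fiber).1 :=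
      (show (show p.Fiber a.base from a.fiber) ⟶
        (K.inverseImage φ.base).obj b.fiber from φ.fiber).2
    exact IsHomLift.comp_lift_id_left p φ.base _ _
  have : Ψ.Faithful := ⟨fun {a b φ φ'} e => by
    have h1 := congrArg p.map e
    have := hΨp φ
    have := hΨp φ'
    rw [IsHomLift.fac' p φ.base (Ψ.map φ), IsHomLift.fac' p φ'.base (Ψ.map φ')] at h1
    replace h1 := (cancel_mono _).mp ((cancel_epi _).mp h1)
    obtain ⟨f, h⟩ := φ
    obtain ⟨f', h'⟩ := φ'
    obtain rfl : f = f' := h1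
    congr 1
    apply Subtype.ext
    have := (show (show p.Fiber a.base from a.fiber) ⟶ (K.inverseImage f).obj b.fiber from h).2
    have := (show (show p.Fiber a.base from a.fiber) ⟶ (K.inverseImage f).obj b.fiber from h').2
    exact IsCartesian.ext p f (K.lift (show p.Fiber b.base from b.fiber).2 f)
      (a' := (show p.Fiber a.base from a.fiber).1) _ _ e⟩
  let m : ∀ {x y : 𝒳} (φ : x ⟶ y),
      (Fiber.mk rfl : p.Fiber (p.obj x)) ⟶ (K.inverseImage (p.map φ)).obj (Fiber.mk rfl) :=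
    fun {x y} φ =>
      ⟨IsCartesian.map p (p.map φ) (K.lift rfl (p.map φ)) φ,
        IsCartesian.map_isHomLift p (p.map φ) (K.lift rfl (p.map φ)) φ⟩
  let obj : 𝒳 → Pseudofunctor.CoGrothendieck F.toPseudofunctor' := fun x =>
    ⟨p.obj x, (Fiber.mk rfl : p.Fiber (p.obj x))⟩
  let mp : ∀ {x y : 𝒳}, (x ⟶ y) → (obj x ⟶ obj y) := fun {x y} φ => ⟨p.map φ, m φ⟩
  have hΨΦ : ∀ {x y : 𝒳} (φ : x ⟶ y), Ψ.map (mp φ) = φ := fun {x y} φ =>
    IsCartesian.fac p (p.map φ) (K.lift rfl (p.map φ)) φ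
  let Φ : 𝒳 ⥤ Pseudofunctor.CoGrothendieck F.toPseudofunctor' :=
    { obj := obj
      map := fun φ => mp φ
      map_id := fun x => Ψ.map_injective (by rw [hΨΦ, Ψ.map_id]; rfl)
      map_comp := fun φ ψ => Ψ.map_injective (by rw [hΨΦ, Ψ.map_comp, hΨΦ, hΨΦ]) }
  have ho : ∀ a, obj (Ψ.obj a) = a := by
    rintro ⟨U, x⟩
    obtain ⟨x, hx⟩ := (show p.Fiber U from x)
    subst hx
    rfl
  refine ⟨F, Φ, Ψ, CategoryTheory.Functor.ext (fun x => rfl) fun x y φ => ?_,
    CategoryTheory.Functor.ext ho fun a b φ => Ψ.map_injective ?_,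
    CategoryTheory.Functor.ext (fun x => rfl) fun x y φ => by simp [Φ, mp]⟩
  · simp only [eqToHom_refl, Category.id_comp, Category.comp_id]
    exact hΨΦ φ
  · rw [Functor.map_comp, Functor.map_comp, eqToHom_map, eqToHom_map]
    change Ψ.map (mp (Ψ.map φ)) = _
    rw [hΨΦ]
    simp

end Groth.Agent.Fib44
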