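import Groth.Prelude.Def_FibClv
import Mathlib.CategoryTheory.Bicategory.Functor.LocallyDiscrete
import Mathlib.CategoryTheory.Category.Cat
import Groth.Agent.Fib44.Basic

/-!
Splittings and strict functors.
-/

set_option backward.isDefEq.respectTransparency false
set_option backward.isDefEq.respectTransparency.types false

universe v₃ u₃ v₂ u₂ v u

open CategoryTheory CategoryTheory.Functor Opposite

namespace Groth.Agent.Fib44

variable {C : Type u} [Category.{v} C]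

theorem cog_eqToHom_base {F : Pseudofunctor (LocallyDiscrete Cᵒᵖ) Cat.{v₂, u₂}}
    {a b : Pseudofunctor.CoGrothendieck F} (h : a = b) :
    (eqToHom h).base = eqToHom (congrArg (·.base) h) := by
  subst h; rfl

theorem cog_eqToHom_fiber (F : Cᵒᵖ ⥤ Cat.{v₂, u₂})
    {a b : Pseudofunctor.CoGrothendieck F.toPseudofunctor'} (h : a = b)
    (h' : a.fiber = (F.map (eqToHom h).base.op).toFunctor.obj b.fiber) :
    (eqToHom h).fiber = eqToHom h' := by
  subst h
  change ((F.toPseudofunctor').mapId _).inv.toNatTrans.app a.fiber = _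
  simp only [Functor.toPseudofunctor', pseudofunctorOfIsLocallyDiscrete_mapId, eqToIso.inv,
    Cat.eqToHom_app]

/-- The canonical cleavage of the construction of a strict functor is a splitting. -/
theorem ofCoGrothendieck_isSplitting (F : Cᵒᵖ ⥤ Cat.{v₂, u₂}) :
    (FibCat.Cleavage.ofCoGrothendieck F.toPseudofunctor').IsSplitting := by
  refine ⟨fun S a ha => ?_, fun S T U f g a ha => ?_⟩
  · obtain ⟨W, x⟩ := a
    change W = S at ha
    subst ha
    have h : ((FibCat.Cleavage.ofCoGrothendieck F.toPseudofunctor').obj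
        (a := ⟨W, x⟩) (S := W) rfl (𝟙 W)) = ⟨W, x⟩ := by
      change Pseudofunctor.CoGrothendieck.mk (F := F.toPseudofunctor') W ((F.map ((𝟙 W ≫ 𝟙 W)).op).toFunctor.obj x) = _
      simp
    refine ⟨h, Pseudofunctor.CoGrothendieck.Hom.ext _ _ ?_ ?_⟩
    · rw [cog_eqToHom_base]
      change 𝟙 W ≫ 𝟙 W = 𝟙 W
      simp
    · rw [cog_eqToHom_fiber F h (by
        rw [cog_eqToHom_base]
        change (F.map (𝟙 W ≫ 𝟙 W).op).toFunctor.obj x = (F.map (𝟙 W).op).toFunctor.obj x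
        simp)]
      erw [eqToHom_trans]
      rfl
  · obtain ⟨W, x⟩ := a
    change W = S at ha
    subst ha
    let K := FibCat.Cleavage.ofCoGrothendieck F.toPseudofunctor'
    have h : K.obj (K.obj_proj (a := ⟨W, x⟩) (S := W) rfl f) g =
        K.obj (a := ⟨W, x⟩) (S := W) rfl (g ≫ f) := by
      change Pseudofunctor.CoGrothendieck.mk (F := F.toPseudofunctor') U ((F.map (g ≫ 𝟙 T).op).toFunctor.obj
          ((F.map (f ≫ 𝟙 W).op).toFunctor.obj x)) =
        Pseudofunctor.CoGrothendieck.mk (F := F.toPseudofunctor') U ((F.map ((g ≫ f) ≫ 𝟙 W).op).toFunctor.obj x)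
      simp
    refine ⟨h, Pseudofunctor.CoGrothendieck.Hom.ext _ _ ?_ ?_⟩
    · simp only [Pseudofunctor.CoGrothendieck.categoryStruct_comp_base]
      rw [cog_eqToHom_base]
      change (g ≫ 𝟙 T) ≫ f ≫ 𝟙 W = 𝟙 U ≫ (g ≫ f) ≫ 𝟙 W
      simp
    · simp only [Pseudofunctor.CoGrothendieck.categoryStruct_comp_fiber]
      rw [cog_eqToHom_fiber F h (by
        rw [cog_eqToHom_base]
        change (F.map (g ≫ 𝟙 T).op).toFunctor.obj ((F.map (f ≫ 𝟙 W).op).toFunctor.obj x) =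
          (F.map (𝟙 U).op).toFunctor.obj ((F.map ((g ≫ f) ≫ 𝟙 W).op).toFunctor.obj x)
        simp)]
      simp [FibCat.Cleavage.ofCoGrothendieck, Functor.toPseudofunctor',
        pseudofunctorOfIsLocallyDiscrete_mapComp]

theorem lift_congr {𝒴 : Type u₃} [Category.{v₃} 𝒴] {q : 𝒴 ⥤ C} (L : FibCat.Cleavage q) {R S : C}
    {a a' : 𝒴} (e : a = a') (ha : q.obj a = S) (ha' : q.obj a' = S) (f : R ⟶ S) :
    ∃ h : L.obj ha f = L.obj ha' f, L.lift ha f ≫ eqToHom e = eqToHom h ≫ L.lift ha' f := by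
  subst e
  exact ⟨rfl, by simp⟩

/-- Splittings transfer along isomorphisms of categories over the base. -/
theorem exists_splitting_of_iso {𝒳 : Type u₂} [Category.{v₂} 𝒳] {𝒴 : Type u₃} [Category.{v₃} 𝒴]
    {q : 𝒴 ⥤ C} (L : FibCat.Cleavage q) (hL : L.IsSplitting) (Φ : 𝒳 ⥤ 𝒴) (Ψ : 𝒴 ⥤ 𝒳)
    (h₁ : Φ ⋙ Ψ = 𝟭 𝒳) (h₂ : Ψ ⋙ Φ = 𝟭 𝒴) :
    ∃ K : FibCat.Cleavage (Φ ⋙ q), K.IsSplitting := by
  let eqv : 𝒳 ≌ 𝒴 := CategoryTheory.Equivalence.mk Φ Ψ (eqToIso h₁.symm) (eqToIso h₂)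
  have : Φ.IsEquivalence := eqv.isEquivalence_functor
  have e₁ : ∀ x, Ψ.obj (Φ.obj x) = x := fun x => Functor.congr_obj h₁ x
  have e₂ : ∀ y, Φ.obj (Ψ.obj y) = y := fun y => Functor.congr_obj h₂ y
  have m₂ : ∀ {y y' : 𝒴} (g : y ⟶ y'), Φ.map (Ψ.map g) = eqToHom (e₂ y) ≫ g ≫ eqToHom (e₂ y').symm :=
    fun g => by simpa using Functor.congr_hom h₂ g
  let l : ∀ {R S : C} {a : 𝒳} (ha : q.obj (Φ.obj a) = S) (f : R ⟶ S), Ψ.obj (L.obj ha f) ⟶ a :=
    fun {R S a} ha f => Ψ.map (L.lift ha f) ≫ eqToHom (e₁ a)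
  have hl : ∀ {R S : C} {a : 𝒳} (ha : q.obj (Φ.obj a) = S) (f : R ⟶ S),
      Φ.map (l ha f) = eqToHom (e₂ _) ≫ L.lift ha f := fun {R S a} ha f => by
    simp [l, m₂, eqToHom_map]
  let K : FibCat.Cleavage (Φ ⋙ q) :=
    { obj := fun {R S a} ha f => Ψ.obj (L.obj ha f)
      lift := fun {R S a} ha f => l ha f
      isCartesian := fun {R S a} ha f => by
        have hd : (Φ ⋙ q).obj (Ψ.obj (L.obj ha f)) = R :=
          (congrArg q.obj (e₂ _)).trans (L.obj_proj ha f)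
        have hlift : (Φ ⋙ q).IsHomLift f (l ha f) := IsHomLift.of_fac' _ _ _ hd ha (by
          simp [hl, eqToHom_map, IsHomLift.fac' q f (L.lift ha f)])
        refine { universal_property := fun {z} ψ hψ => ?_ }
        have : q.IsHomLift f (Φ.map ψ) := IsHomLift.of_fac' q _ _
          (IsHomLift.domain_eq (Φ ⋙ q) f ψ) ha (IsHomLift.fac' (Φ ⋙ q) f ψ)
        let χ := IsCartesian.map q f (L.lift ha f) (Φ.map ψ)
        have hχ : χ ≫ L.lift ha f = Φ.map ψ := IsCartesian.fac q f (L.lift ha f) (Φ.map ψ)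
        refine ⟨Φ.preimage (χ ≫ eqToHom (e₂ _).symm), ⟨?_, Φ.map_injective ?_⟩,
          fun t ⟨ht, hte⟩ => Φ.map_injective ?_⟩
        · refine IsHomLift.of_fac' _ _ _ (IsHomLift.domain_eq (Φ ⋙ q) f ψ) hd ?_
          simp [eqToHom_map, IsHomLift.fac' q (𝟙 R) χ]
        · simp [hl, hχ]
        · have : q.IsHomLift (𝟙 R) (Φ.map t ≫ eqToHom (e₂ _)) :=
            IsHomLift.of_fac' q _ _ (IsHomLift.domain_eq (Φ ⋙ q) f ψ) (L.obj_proj ha f) (by
              have := IsHomLift.fac' (Φ ⋙ q) (𝟙 R) t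
              simp at this
              simp [eqToHom_map, this])
          simp only [χ]
          rw [Φ.map_preimage, ← IsCartesian.map_uniq q f (L.lift ha f) (Φ.map ψ)
            (Φ.map t ≫ eqToHom (e₂ _)) (by rw [← hte, Functor.map_comp, hl]; simp)]
          simp }
  refine ⟨K, fun S a ha => ?_, fun S T U f g a ha => ?_⟩
  · obtain ⟨h, he⟩ := hL.1 (show q.obj (Φ.obj a) = S from ha)
    exact ⟨(congrArg Ψ.obj h).trans (e₁ a), by
      change Ψ.map _ ≫ _ = _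
      simp [he, eqToHom_map]⟩
  · obtain ⟨h, he⟩ := hL.2 f g (show q.obj (Φ.obj a) = S from ha)
    obtain ⟨h', he'⟩ := lift_congr L (e₂ (L.obj ha f))
      (K.obj_proj ha f) (L.obj_proj ha f) g
    refine ⟨(congrArg Ψ.obj h').trans (congrArg Ψ.obj h), Φ.map_injective ?_⟩
    change Φ.map (l (K.obj_proj ha f) g ≫ l ha f) = Φ.map (eqToHom _ ≫ l ha (g ≫ f))
    simp only [Functor.map_comp, hl, eqToHom_map, Category.assoc]
    erw [reassoc_of% he', he]
    simp

end Groth.Agent.Fib44
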