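import Groth.Agent.Fib44.StackBase

/-!
A stack over a stack is a stack over the base.
-/

set_option backward.isDefEq.respectTransparency false
set_option backward.isDefEq.respectTransparency.types false

universe v₄ u₄ v₃ u₃ v₂ u₂ v u

open CategoryTheory CategoryTheory.Functor

namespace Groth.Agent.Fib44

variable {C : Type u} [Category.{v} C]
variable {𝒳 : BasedCategory.{v₂, u₂} C}

/-- The sieve on `x` induced by a sieve on an object of the base below it. -/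
abbrev pullSieve {U : C} (R : Sieve U) {x : 𝒳.obj} (hx : 𝒳.p.obj x = U) : Sieve x :=
  (R.pullback (eqToHom hx)).functorPullback 𝒳.p

theorem pullSieve_mem (hX : FibCat.IsFibGrpd 𝒳.p) {J : GrothendieckTopology C} {U : C}
    {R : Sieve U} (hR : R ∈ J U) {x : 𝒳.obj} (hx : 𝒳.p.obj x = U) :
    pullSieve R hx ∈ 𝒳.p.restrictedTopology J x := by
  rw [mem_restricted_iff hX, push_pull hX]
  exact J.pullback_stable _ hR

section

variable (𝒵 : BasedCategory.{v₃, u₃} 𝒳.obj)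

theorem morGlue_comp (hX : FibCat.IsFibGrpd 𝒳.p) (hZ : FibCat.IsFibGrpd 𝒵.p) {U : C} {R : Sieve U}
    (hMX : MorGlue 𝒳 R)
    (hMZ : ∀ (x : 𝒳.obj) (hx : 𝒳.p.obj x = U), MorGlue 𝒵 (pullSieve R hx)) :
    MorGlue (BasedCategory.ofFunctor (𝒵.p ⋙ 𝒳.p)) R := by
  intro a b ha hb θ hθ hnat
  let π := 𝒵.p
  have hh : ∀ ⦃w : 𝒳.obj⦄ (ψ : w ⟶ π.obj a), R (𝒳.p.map ψ ≫ eqToHom ha) →
      ∃ (z : 𝒵.obj) (φ : z ⟶ a) (h : π.obj z = w),
        ψ = eqToHom h.symm ≫ π.map φ := fun w ψ _ => exists_lift_arrow hZ ψ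
  choose z₀ φ₀ hz₀ he₀ using hh
  have hR₀ : ∀ ⦃w : 𝒳.obj⦄ (ψ : w ⟶ π.obj a) (h : R (𝒳.p.map ψ ≫ eqToHom ha)),
      R ((π ⋙ 𝒳.p).map (φ₀ ψ h) ≫ eqToHom ha) := fun w ψ h => by
    have := R.downward_closed h (eqToHom (congrArg 𝒳.p.obj (hz₀ ψ h)))
    have e := congrArg 𝒳.p.map (he₀ ψ h)
    simp [eqToHom_map] at e
    simpa [e] using this
  let θ₀ : ∀ ⦃w : 𝒳.obj⦄ (ψ : w ⟶ π.obj a), R (𝒳.p.map ψ ≫ eqToHom ha) → (w ⟶ π.obj b) :=
    fun w ψ h => eqToHom (hz₀ ψ h).symm ≫ π.map (θ (φ₀ ψ h) (hR₀ ψ h))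
  have hind : ∀ ⦃w : 𝒳.obj⦄ (ψ : w ⟶ π.obj a) (h : R (𝒳.p.map ψ ≫ eqToHom ha)) ⦃z : 𝒵.obj⦄
      (φ : z ⟶ a) (hz : π.obj z = w) (h' : R ((π ⋙ 𝒳.p).map φ ≫ eqToHom ha)),
      ψ = eqToHom hz.symm ≫ π.map φ → θ₀ ψ h = eqToHom hz.symm ≫ π.map (θ φ h') := by
    intro w ψ h z φ hz h' e
    have e' := he₀ ψ h
    obtain ⟨ι, -, hι, hιe⟩ := exists_iso_of_map_eq hZ φ (φ₀ ψ h) (hz.trans (hz₀ ψ h).symm) (by
      rw [← cancel_epi (eqToHom hz.symm), ← e]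
      simpa using e')
    subst hιe
    rw [hnat ι (φ₀ ψ h) (hR₀ ψ h) h']
    have := IsHomLift.fac' π (𝟙 (π.obj (φ₀ ψ h |> fun _ => z₀ ψ h))) ι
    simp [θ₀, π] at this ⊢
    simp [this]
  obtain ⟨k, ⟨hk, hkf⟩, hku⟩ := hMX ha hb θ₀
    (fun w ψ h => by
      have : (π ⋙ 𝒳.p).IsHomLift ((π ⋙ 𝒳.p).map (φ₀ ψ h) ≫ eqToHom ha)
          (θ (φ₀ ψ h) (hR₀ ψ h)) := hθ (φ₀ ψ h) (hR₀ ψ h)
      have h1 : 𝒳.p.map (π.map (θ (φ₀ ψ h) (hR₀ ψ h))) =
          (𝒳.p.map (π.map (φ₀ ψ h)) ≫ eqToHom ha) ≫ eqToHom hb.symm := by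
        simpa using IsHomLift.fac' (π ⋙ 𝒳.p) ((π ⋙ 𝒳.p).map (φ₀ ψ h) ≫ eqToHom ha)
          (θ (φ₀ ψ h) (hR₀ ψ h))
      refine IsHomLift.of_fac' 𝒳.p _ _ rfl hb ?_
      have e := congrArg 𝒳.p.map (he₀ ψ h)
      simp [eqToHom_map] at e
      simp [θ₀, eqToHom_map, h1, e])
    (fun w' w t ψ h h' => by
      obtain ⟨z, τ, hz, hτ⟩ := exists_lift_arrow hZ (t ≫ eqToHom (hz₀ ψ h).symm)
      have hR' : R ((π ⋙ 𝒳.p).map (τ ≫ φ₀ ψ h) ≫ eqToHom ha) := by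
        have := R.downward_closed (hR₀ ψ h) ((π ⋙ 𝒳.p).map τ)
        simpa using this
      rw [hind (t ≫ ψ) h' (τ ≫ φ₀ ψ h) hz hR' (by
        conv_lhs => rw [he₀ ψ h]
        rw [← Category.assoc, hτ]
        simp [π]), hnat τ (φ₀ ψ h) (hR₀ ψ h) hR']
      simp only [θ₀, Functor.map_comp]
      rw [← Category.assoc, ← Category.assoc t, hτ])
  have hkπ : ∀ ⦃z : 𝒵.obj⦄ (φ : z ⟶ a) (h : R ((π ⋙ 𝒳.p).map φ ≫ eqToHom ha)),
      π.map φ ≫ k = π.map (θ φ h) := fun z φ h => by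
    rw [hkf (π.map φ) h, hind (π.map φ) h φ rfl h (by simp)]
    simp
  have : IsIso k := isIso_of_fibGrpd 𝒳.p hX (𝟙 U) k
  obtain ⟨b', τ, hτ⟩ := hZ.exists_lift (x := b) k
  have : IsIso τ := isIso_of_fibGrpd π hZ k τ
  have hb' : π.obj b' = π.obj a := IsHomLift.domain_eq π k τ
  have hτe : π.map τ = eqToHom hb' ≫ k := by simpa using IsHomLift.fac' π k τ
  have hτi : π.map (inv τ) = inv k ≫ eqToHom hb'.symm := by
    rw [Functor.map_inv]
    exact IsIso.inv_eq_of_hom_inv_id (by simp [hτe])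
  have hτU : ∀ (l : a ⟶ b') [π.IsHomLift (𝟙 (π.obj a)) l], (π ⋙ 𝒳.p).IsHomLift (𝟙 U) (l ≫ τ) :=
    fun l _ => by
      have e : π.map (l ≫ τ) = k := by
        rw [Functor.map_comp, hτe, IsHomLift.fac' π (𝟙 (π.obj a)) l]
        simp
      exact IsHomLift.of_fac' (π ⋙ 𝒳.p) _ _ ha hb
        (show 𝒳.p.map (π.map (l ≫ τ)) = _ by rw [e]; exact IsHomLift.fac' 𝒳.p (𝟙 U) k)
  have hS : ∀ ⦃z : 𝒵.obj⦄ (φ : z ⟶ a),
      (pullSieve R (x := π.obj a) ha) (π.map φ ≫ eqToHom rfl) ↔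
        R ((π ⋙ 𝒳.p).map φ ≫ eqToHom ha) := fun z φ => by
    simp [pullSieve, π]
  obtain ⟨l, ⟨hl, hlf⟩, hlu⟩ := hMZ (π.obj a) ha rfl hb' (fun z φ h => θ φ ((hS φ).mp h) ≫ inv τ)
    (fun z φ h => by
      refine IsHomLift.of_fac' π _ _ rfl hb' ?_
      rw [Functor.map_comp, hτi, ← hkπ φ ((hS φ).mp h)]
      simp [π])
    (fun z' z t φ h h' => by
      exact (congrArg (fun u => u ≫ inv τ) (hnat t φ ((hS φ).mp h) ((hS (t ≫ φ)).mp h'))).trans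
        (Category.assoc _ _ _))
  refine ⟨l ≫ τ, ⟨hτU l, fun z φ h => ?_⟩, fun k' ⟨hk', hk'f⟩ => ?_⟩
  · rw [← Category.assoc, hlf φ ((hS φ).mpr h), Category.assoc, IsIso.inv_hom_id, Category.comp_id]
  · have e : π.map k' = k := hku (π.map k') ⟨?_, fun w ψ h => ?_⟩
    · rw [← IsIso.comp_inv_eq]
      refine hlu _ ⟨IsHomLift.of_fac' π _ _ rfl hb' ?_, fun z φ h => ?_⟩
      · rw [Functor.map_comp, e, hτi]
        simp
      · rw [← Category.assoc, hk'f φ ((hS φ).mp h)]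
    · have : (π ⋙ 𝒳.p).IsHomLift (𝟙 U) k' := hk'
      exact IsHomLift.of_fac' 𝒳.p _ _ ha hb (IsHomLift.fac' (π ⋙ 𝒳.p) (𝟙 U) k' :)
    · simp only [θ₀, ← hk'f (φ₀ ψ h) (hR₀ ψ h), Functor.map_comp]
      rw [← Category.assoc, ← he₀ ψ h]

theorem objGlue_comp (hX : FibCat.IsFibGrpd 𝒳.p) (hZ : FibCat.IsFibGrpd 𝒵.p) {U : C} {R : Sieve U}
    (hOX : ObjGlue 𝒳 R)
    (hOZ : ∀ (x : 𝒳.obj) (hx : 𝒳.p.obj x = U), ObjGlue 𝒵 (pullSieve R hx)) :
    ObjGlue (BasedCategory.ofFunctor (𝒵.p ⋙ 𝒳.p)) R := by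
  intro G
  let π := 𝒵.p
  let Gπ : Stk.sieveCat R ⥤ᵇ 𝒳 :=
    { toFunctor := G.toFunctor ⋙ π
      w := by
        rw [Functor.assoc]
        exact G.w }
  obtain ⟨x, γ, hγ⟩ := hOX Gπ
  have hx := hγ.over
  let S := pullSieve R hx
  have hSa : ∀ s : S.arrows.category, R (𝒳.p.map s.obj.hom ≫ eqToHom hx) := fun s => by
    simpa [S, pullSieve] using s.property
  let α : S.arrows.category → R.arrows.category := fun s => sObj R _ (hSa s)
  have hι : ∀ s, ∃ ι : s.obj.left ⟶ Gπ.obj (α s),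
      𝒳.p.IsHomLift (𝟙 (𝒳.p.obj s.obj.left)) ι ∧ ι ≫ γ (α s) = s.obj.hom := fun s => by
    have : 𝒳.p.IsStronglyCartesian (𝒳.p.map s.obj.hom ≫ eqToHom hx) (γ (α s)) :=
      hγ.isSC hX (α s)
    exact ⟨IsCartesian.map 𝒳.p (𝒳.p.map s.obj.hom ≫ eqToHom hx) (γ (α s)) s.obj.hom,
      inferInstance, IsCartesian.fac 𝒳.p (𝒳.p.map s.obj.hom ≫ eqToHom hx) (γ (α s)) s.obj.hom⟩
  choose ι hιl hιf using hι
  have hιiso : ∀ s, IsIso (ι s) := fun s =>
    have := hιl s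
    isIso_of_fibGrpd 𝒳.p hX (𝟙 (𝒳.p.obj s.obj.left)) _
  have hc : ∀ s, ∃ (H : 𝒵.obj) (c : H ⟶ G.obj (α s)) (h : π.obj H = s.obj.left),
      π.map c = eqToHom h ≫ ι s ∧ IsIso c := fun s => by
    obtain ⟨H, c, hcl⟩ := hZ.exists_lift (x := G.obj (α s)) (ι s)
    have := hιiso s
    exact ⟨H, c, IsHomLift.domain_eq π (ι s) c, by simpa using IsHomLift.fac' π (ι s) c,
      isIso_of_fibGrpd π hZ (ι s) c⟩
  choose H c hH hcι hciso using hc
  let jα : ∀ {s t : S.arrows.category}, (s ⟶ t) → (α s ⟶ α t) := fun {s t} f =>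
    sHom R (𝒳.p.map f.hom.left) (by simp [α, ← Functor.map_comp_assoc, Over.w f.hom])
  have jid : ∀ s, jα (𝟙 s) = 𝟙 (α s) := fun s =>
    ObjectProperty.hom_ext _ (Over.OverMorphism.ext (by simp [jα, α]))
  have jcomp : ∀ {s t u : S.arrows.category} (f : s ⟶ t) (g : t ⟶ u),
      jα (f ≫ g) = jα f ≫ jα g := fun f g =>
    ObjectProperty.hom_ext _ (Over.OverMorphism.ext (by simp [jα]))
  have hGsq : ∀ {s t : S.arrows.category} (f : s ⟶ t),
      ι s ≫ π.map (G.map (jα f)) = f.hom.left ≫ ι t := fun {s t} f => by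
    have := hγ.isSC hX (α t)
    have := hιl s
    have := hιl t
    have : 𝒳.p.IsHomLift (𝒳.p.map f.hom.left) (π.map (G.map (jα f))) :=
      isHomLift_sieve_map Gπ (jα f)
    have : 𝒳.p.IsHomLift (𝒳.p.map f.hom.left) (f.hom.left ≫ ι t) :=
      IsHomLift.comp_lift_id_right 𝒳.p (𝒳.p.map f.hom.left) f.hom.left (ι t)
    have : 𝒳.p.IsHomLift (𝒳.p.map f.hom.left) (ι s ≫ π.map (G.map (jα f))) :=
      IsHomLift.comp_lift_id_left 𝒳.p (𝒳.p.map f.hom.left) (π.map (G.map (jα f))) (ι s)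
    apply IsStronglyCartesian.ext 𝒳.p (α t).obj.hom (γ (α t)) (𝒳.p.map f.hom.left)
    have h2 : π.map (G.map (jα f)) ≫ γ (α t) = γ (α s) := hγ.nat (jα f)
    rw [Category.assoc, Category.assoc, h2, hιf, hιf]
    exact (Over.w f.hom).symm
  let m : ∀ {s t : S.arrows.category}, (s ⟶ t) → (H s ⟶ H t) := fun {s t} f =>
    have := hciso t
    c s ≫ G.map (jα f) ≫ inv (c t)
  let H' : Stk.sieveCat S ⥤ᵇ 𝒵 :=
    { obj := H
      map := fun f => m f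
      map_id := fun s => by
        have := hciso s
        change c s ≫ G.map (jα (𝟙 s)) ≫ inv (c s) = 𝟙 _
        rw [jid]
        erw [G.map_id]
        simp
      map_comp := fun {s t u} f g => by
        have := hciso t
        have := hciso u
        change c s ≫ G.map (jα (f ≫ g)) ≫ inv (c u) =
          (c s ≫ G.map (jα f) ≫ inv (c t)) ≫ c t ≫ G.map (jα g) ≫ inv (c u)
        rw [jcomp]
        erw [G.map_comp]
        simp
      w := CategoryTheory.Functor.ext hH fun s t f => by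
        change π.map (m f) = _ ≫ f.hom.left ≫ _
        have := hciso t
        have := hιiso t
        have hct : π.map (inv (c t)) = inv (ι t) ≫ eqToHom (hH t).symm := by
          rw [Functor.map_inv]
          exact IsIso.inv_eq_of_hom_inv_id (by simp [hcι])
        simp only [m, Functor.map_comp, hcι, hct, Category.assoc]
        erw [reassoc_of% (hGsq f)]
        simp }
  obtain ⟨y, δ, hδ⟩ := hOZ x hx H'
  have hγp : ∀ a : R.arrows.category, 𝒳.p.map (γ a) ≫ eqToHom hx =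
      eqToHom (obj_sieve Gπ a) ≫ a.obj.hom := fun a => by
    have := hγ.lift a
    simp [IsHomLift.fac' 𝒳.p a.obj.hom (γ a)]
  have hsa : ∀ a : R.arrows.category, S (γ a) := fun a => by
    have := R.downward_closed a.property (eqToHom (obj_sieve Gπ a))
    simpa [S, pullSieve, hγp] using this
  let σ : R.arrows.category → S.arrows.category := fun a => sObj S (γ a) (hsa a)
  let j : ∀ a, α (σ a) ⟶ a := fun a => sHom R (eqToHom (obj_sieve Gπ a)) (hγp a).symm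
  have hjiso : ∀ a, IsIso (G.map (j a)) := fun a => by
    have : (π ⋙ 𝒳.p).IsHomLift (eqToHom (obj_sieve Gπ a)) (G.map (j a)) :=
      isHomLift_sieve_map G (j a)
    exact isIso_of_fibGrpd (π ⋙ 𝒳.p) (isFibGrpd_comp _ _ hZ hX) (eqToHom (obj_sieve Gπ a)) _
  have hιj : ∀ a, ι (σ a) ≫ π.map (G.map (j a)) = 𝟙 _ := fun a => by
    have := hγ.isSC hX a
    have : 𝒳.p.IsHomLift (𝟙 (𝒳.p.obj (Gπ.obj a))) (ι (σ a)) := hιl (σ a)
    have : 𝒳.p.IsHomLift (eqToHom (obj_sieve Gπ a)) (π.map (G.map (j a))) :=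
      isHomLift_sieve_map Gπ (j a)
    have h1 : 𝒳.p.IsHomLift (eqToHom (obj_sieve Gπ a)) (ι (σ a) ≫ π.map (G.map (j a))) :=
      IsHomLift.comp_lift_id_left 𝒳.p (eqToHom (obj_sieve Gπ a)) _ (ι (σ a))
    have : 𝒳.p.IsHomLift (eqToHom (obj_sieve Gπ a)) (𝟙 (σ a).obj.left) :=
      IsHomLift.of_fac' 𝒳.p _ _ rfl (obj_sieve Gπ a) (by simp)
    apply IsStronglyCartesian.ext 𝒳.p a.obj.hom (γ a) (eqToHom (obj_sieve Gπ a))
    have h2 : π.map (G.map (j a)) ≫ γ a = γ (α (σ a)) := hγ.nat (j a)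
    rw [Category.assoc, h2, hιf]
    exact (Category.id_comp _).symm
  refine ⟨y, fun a => by
    have := hciso (σ a)
    have := hjiso a
    exact inv (c (σ a) ≫ G.map (j a)) ≫ δ (σ a),
    ⟨(congrArg 𝒳.p.obj hδ.over).trans hx, fun a => ?_, fun a b f => ?_⟩⟩
  · have := hciso (σ a)
    have := hjiso a
    have : π.IsHomLift (σ a).obj.hom (δ (σ a)) := hδ.lift (σ a)
    have e : π.map (inv (c (σ a) ≫ G.map (j a))) = eqToHom (hH (σ a)).symm := by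
      rw [Functor.map_inv]
      refine IsIso.inv_eq_of_hom_inv_id ?_
      rw [Functor.map_comp, hcι]
      simp only [Category.assoc]
      erw [reassoc_of% (hιj a)]
      simp
    refine IsHomLift.of_fac' (π ⋙ 𝒳.p) _ _ (obj_sieve G a)
      ((congrArg 𝒳.p.obj hδ.over).trans hx) ?_
    change 𝒳.p.map (π.map (_ ≫ δ (σ a))) = _
    rw [Functor.map_comp, e, IsHomLift.fac' π (σ a).obj.hom (δ (σ a))]
    have := hγ.lift a
    simp [σ, eqToHom_map, IsHomLift.fac' 𝒳.p a.obj.hom (γ a)]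
  · have := hciso (σ a)
    have := hciso (σ b)
    have := hjiso a
    have := hjiso b
    let f' : σ a ⟶ σ b := sHom S (Gπ.map f) (hγ.nat f)
    have e : jα f' ≫ j b = j a ≫ f := ObjectProperty.hom_ext _ (Over.OverMorphism.ext (by
      have : 𝒳.p.IsHomLift f.hom.left (Gπ.map f) := isHomLift_sieve_map Gπ f
      simp [jα, j, f', α, σ, IsHomLift.fac' 𝒳.p f.hom.left (Gπ.map f)]))
    change G.map f ≫ inv (c (σ b) ≫ G.map (j b)) ≫ δ (σ b) = _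
    have h2 : m f' ≫ δ (σ b) = δ (σ a) := hδ.nat f'
    rw [← h2, ← Category.assoc, ← Category.assoc (inv (c (σ a) ≫ G.map (j a)))]
    congr 1
    rw [IsIso.comp_inv_eq, Category.assoc, IsIso.eq_inv_comp]
    simp only [m, Category.assoc, IsIso.inv_hom_id_assoc]
    rw [← G.map_comp, ← G.map_comp, e]

end

end Groth.Agent.Fib44
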