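import Groth.Agent.Fib44.Yoneda
import Groth.Prelude.Def_AlgSt
import Mathlib.CategoryTheory.EssentiallySmall
import Mathlib.CategoryTheory.Category.Cat
import Mathlib.CategoryTheory.Bicategory.Functor.LocallyDiscrete
import Mathlib.CategoryTheory.FiberedCategory.Grothendieck

/-!
Strictification of fibred categories through functors on slice categories.
-/

set_option backward.isDefEq.respectTransparency false
set_option backward.isDefEq.respectTransparency.types false

universe v u

open CategoryTheory CategoryTheory.Functor Opposite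

namespace Groth.Agent.Fib44

variable {C : Type u} [Category.{v} C] (𝒳 : BasedCategory.{v, max u v} C)

/-- The functors out of the slice that are cartesian. -/
abbrev StrictProp (U : C) : ObjectProperty (FibCat.overCat U ⥤ᵇ 𝒳) := fun G => CartAtId G

/-- The category of cartesian functors out of a slice. -/
abbrev StrictCat (U : C) := (StrictProp 𝒳 U).FullSubcategory

theorem locallySmall_strictCat (U : C) : LocallySmall.{v} (StrictCat 𝒳 U) :=
  have := (evalAtId_faithful_full (𝒳 := 𝒳) (StrictProp 𝒳 U) fun _ h => h).2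
  locallySmall_of_faithful ((StrictProp 𝒳 U).ι ⋙ FibCat.evalAtId 𝒳 U)

instance (U : C) : LocallySmall.{v} (StrictCat 𝒳 U) := locallySmall_strictCat 𝒳 U

variable {𝒳}

theorem cartAtId_comp {U V : C} (f : V ⟶ U) {G : FibCat.overCat U ⥤ᵇ 𝒳} (hG : CartAtId G) :
    CartAtId (BasedFunctor.comp (overMap f) G) := fun a => by
  let b : Over U := (Over.map f).obj a
  let c : Over U := (Over.map f).obj (Over.mk (𝟙 V))
  have : 𝒳.p.IsStronglyCartesian c.hom (G.map (toId c)) := hG c
  have h1 : 𝒳.p.IsHomLift a.hom (G.map ((Over.map f).map (toId a))) :=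
    isHomLift_map_left G ((Over.map f).map (toId a) : b ⟶ c)
  have h2 : 𝒳.p.IsStronglyCartesian (a.hom ≫ c.hom)
      (G.map ((Over.map f).map (toId a)) ≫ G.map (toId c)) := by
    rw [← G.map_comp, show (Over.map f).map (toId a) ≫ toId c = toId b from
      Over.OverMorphism.ext (Over.w ((Over.map f).map (toId a) : b ⟶ c))]
    rw [show a.hom ≫ c.hom = b.hom by simp [b, c]]
    exact hG b
  have : 𝒳.p.IsStronglyCartesian (a.hom ≫ c.hom)
      ((BasedFunctor.comp (overMap f) G).map (toId a) ≫ G.map (toId c)) := h2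
  exact IsStronglyCartesian.of_comp 𝒳.p (g := c.hom) (ψ := G.map (toId c))

variable (𝒳) in
/-- Restriction between the categories of cartesian functors. -/
noncomputable def strictRes {U V : C} (m : FibCat.overCat V ⥤ᵇ FibCat.overCat U)
    (hm : ∀ G, CartAtId G → CartAtId (BasedFunctor.comp m (G : FibCat.overCat U ⥤ᵇ 𝒳))) :
    ShrinkHoms.{max u v} (StrictCat 𝒳 U) ⥤ ShrinkHoms.{max u v} (StrictCat 𝒳 V) :=
  ShrinkHoms.inverse _ ⋙
    (StrictProp 𝒳 V).lift ((StrictProp 𝒳 U).ι ⋙ Stk.restr m 𝒳) (fun G => hm _ G.property) ⋙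
      ShrinkHoms.functor _

theorem strictRes_congr {U V : C} {m m' : FibCat.overCat V ⥤ᵇ FibCat.overCat U} (e : m = m')
    (hm) (hm') : strictRes 𝒳 m hm = strictRes 𝒳 m' hm' := by
  subst e; rfl

theorem strictRes_id (U : C) (h) :
    strictRes 𝒳 (BasedFunctor.id (FibCat.overCat U)) h = 𝟭 _ :=
  CategoryTheory.Functor.ext (fun _ => rfl) fun G H f => by
    simp only [eqToHom_refl, Category.id_comp, Category.comp_id, Functor.id_map]
    change equivShrink _ ((equivShrink _).symm f) = f
    simp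

theorem strictRes_comp {U V W : C} (a : FibCat.overCat W ⥤ᵇ FibCat.overCat V)
    (b : FibCat.overCat V ⥤ᵇ FibCat.overCat U) (h) (ha) (hb) :
    strictRes 𝒳 (BasedFunctor.comp a b) h = strictRes 𝒳 b hb ⋙ strictRes 𝒳 a ha :=
  CategoryTheory.Functor.ext (fun _ => rfl) fun G H f => by
    simp only [eqToHom_refl, Category.id_comp, Category.comp_id, Functor.comp_map]
    simp [strictRes]
    erw [Equiv.symm_apply_apply]
    rfl

theorem overMap_comp {U V W : C} (g : W ⟶ V) (f : V ⟶ U) :
    overMap (g ≫ f) = BasedFunctor.comp (overMap g) (overMap f) := by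
  have : Over.map (g ≫ f) = Over.map g ⋙ Over.map f := Over.mapComp_eq g f
  change BasedFunctor.mk _ _ = BasedFunctor.mk _ _
  congr 1

theorem overMap_id (U : C) : overMap (𝟙 U) = BasedFunctor.id (FibCat.overCat U) := by
  have : Over.map (𝟙 U) = 𝟭 (Over U) := Over.mapId_eq U
  change BasedFunctor.mk _ _ = BasedFunctor.mk _ _
  congr 1

variable (𝒳) in
/-- The strict functor of cartesian functors out of slices. -/
noncomputable def strictFun : Cᵒᵖ ⥤ Cat.{v, max u v} where
  obj U := Cat.of (ShrinkHoms.{max u v} (StrictCat 𝒳 U.unop))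
  map f := (strictRes 𝒳 (overMap f.unop) fun _ h => cartAtId_comp f.unop h).toCatHom
  map_id U := by
    ext1
    exact (strictRes_congr (overMap_id U.unop) (fun _ h => cartAtId_comp _ h) (fun _ h => h)).trans
      (strictRes_id _ _)
  map_comp f g := by
    ext1
    exact (strictRes_congr (overMap_comp g.unop f.unop) (fun _ h => cartAtId_comp _ h)
      (fun _ h => cartAtId_comp g.unop (cartAtId_comp f.unop h))).trans
      (strictRes_comp _ _ _ (fun _ h => cartAtId_comp g.unop h) (fun _ h => cartAtId_comp f.unop h))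

/-- The underlying functor on the slice of an object of the strictification. -/
abbrev stObj {U : C} (G : (strictFun 𝒳).obj (op U)) : FibCat.overCat U ⥤ᵇ 𝒳 :=
  (ShrinkHoms.fromShrinkHoms (C' := StrictCat 𝒳 U) G).obj

/-- The component at the identity of a morphism of the strictification. -/
noncomputable abbrev stApp {U : C} {G H : (strictFun 𝒳).obj (op U)} (h : G ⟶ H) :
    (stObj G).obj (idObj U) ⟶ (stObj H).obj (idObj U) :=
  ((StrictProp 𝒳 U).ι.map ((ShrinkHoms.inverse (StrictCat 𝒳 U)).map h)).toNatTrans.app (idObj U)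

theorem stApp_comp {U : C} {G H K : (strictFun 𝒳).obj (op U)} (h : G ⟶ H) (k : H ⟶ K) :
    stApp (h ≫ k) = stApp h ≫ stApp k := by
  simp only [stApp]
  erw [(ShrinkHoms.inverse (StrictCat 𝒳 U)).map_comp]
  rfl

theorem stApp_eqToHom {U : C} {G H : (strictFun 𝒳).obj (op U)} (h : G = H) :
    stApp (eqToHom h) = eqToHom (by rw [h]) := by
  subst h
  simp only [stApp, eqToHom_refl]
  erw [(ShrinkHoms.inverse (StrictCat 𝒳 U)).map_id]
  rfl

theorem eqToHom_eq_map {U : C}
    (G : FibCat.overCat U ⥤ᵇ 𝒳) {x y : Over U} (h : x = y) (h' : G.obj x = G.obj y) :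
    eqToHom h' = G.map (eqToHom (C := (FibCat.overCat U).obj) h) := by
  subst h; simp

theorem stApp_map {U V : C} (f : V ⟶ U) {G H : (strictFun 𝒳).obj (op U)} (h : G ⟶ H) :
    stApp (((strictFun 𝒳).map f.op).toFunctor.map h) ≫
        (stObj H).map (toId ((Over.map f).obj (Over.mk (𝟙 V)))) =
      (stObj G).map (toId ((Over.map f).obj (Over.mk (𝟙 V)))) ≫ stApp h := by
  have e : stApp (((strictFun 𝒳).map f.op).toFunctor.map h) =
      ((StrictProp 𝒳 U).ι.map ((ShrinkHoms.inverse (StrictCat 𝒳 U)).map h)).toNatTrans.app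
        ((Over.map f).obj (Over.mk (𝟙 V))) := by
    change ((StrictProp 𝒳 V).ι.map ((ShrinkHoms.inverse (StrictCat 𝒳 V)).map
      ((ShrinkHoms.functor (StrictCat 𝒳 V)).map _))).toNatTrans.app _ = _
    simp
    erw [Equiv.symm_apply_apply]
    rfl
  rw [e]
  exact app_comp_toId _ _

theorem hom_idObj_ext {U : C} {a : (FibCat.overCat U).obj} (g h : a ⟶ idObj U) : g = h :=
  Over.OverMorphism.ext <| by simpa using (Over.w g).trans (Over.w h).symm

/-- Evaluation at identities, from the strictification. -/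
noncomputable def stEval :
    BasedCategory.ofFunctor (Pseudofunctor.CoGrothendieck.forget (strictFun 𝒳).toPseudofunctor') ⥤ᵇ 𝒳 where
  toFunctor :=
    { obj := fun a => (stObj a.fiber).obj (idObj a.base)
      map := fun {a b} φ => stApp φ.fiber ≫
        (stObj b.fiber).map (toId ((Over.map φ.base).obj (Over.mk (𝟙 a.base))))
      map_id := fun a => by
        have e := stApp_eqToHom (𝒳 := 𝒳) (G := a.fiber)
          (H := ((strictFun 𝒳).map (𝟙 a.base).op).toFunctor.obj a.fiber) (by simp)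
        change stApp ((((strictFun 𝒳).toPseudofunctor').mapId _).inv.toNatTrans.app a.fiber) ≫ _ = _
        simp only [Functor.toPseudofunctor', pseudofunctorOfIsLocallyDiscrete_mapId,
          eqToIso.inv, Cat.eqToHom_app]
        erw [e, eqToHom_eq_map (G := stObj a.fiber)
          (x := Over.mk (𝟙 a.base)) (y := (Over.map (𝟙 a.base)).obj (Over.mk (𝟙 a.base)))
          (congrArg Over.mk (Category.comp_id _).symm), ← Functor.map_comp,
          ← CategoryTheory.Functor.map_id]
        congr 1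
        exact hom_idObj_ext _ _
      map_comp := fun {a b c} φ ψ => by
        have e := stApp_eqToHom (𝒳 := 𝒳)
          (G := ((strictFun 𝒳).map φ.base.op).toFunctor.obj
            (((strictFun 𝒳).map ψ.base.op).toFunctor.obj c.fiber))
          (H := ((strictFun 𝒳).map (φ.base ≫ ψ.base).op).toFunctor.obj c.fiber) (by simp)
        change stApp (φ.fiber ≫ ((strictFun 𝒳).map φ.base.op).toFunctor.map ψ.fiber ≫
          (((strictFun 𝒳).toPseudofunctor').mapComp _ _).inv.toNatTrans.app c.fiber) ≫ _ = _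
        simp only [Functor.toPseudofunctor', pseudofunctorOfIsLocallyDiscrete_mapComp,
          eqToIso.inv, Cat.eqToHom_app]
        rw [stApp_comp, stApp_comp]
        erw [e, eqToHom_eq_map (G := stObj c.fiber)
          (x := (Over.map ψ.base).obj ((Over.map φ.base).obj (Over.mk (𝟙 a.base))))
          (y := (Over.map (φ.base ≫ ψ.base)).obj (Over.mk (𝟙 a.base)))
          (by simp [Over.mapComp_eq])]
        simp only [Category.assoc]
        congr 1
        rw [← reassoc_of% (stApp_map φ.base ψ.fiber)]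
        congr 1
        erw [← Functor.map_comp]
        change _ = (stObj c.fiber).map ((Over.map ψ.base).map
          (toId ((Over.map φ.base).obj (Over.mk (𝟙 a.base))))) ≫
            (stObj c.fiber).map (toId ((Over.map ψ.base).obj (Over.mk (𝟙 b.base))))
        erw [← Functor.map_comp]
        congr 1
        exact hom_idObj_ext _ _ }
  w := CategoryTheory.Functor.ext (fun a => obj_idObj (stObj a.fiber)) fun a b φ => by
    change 𝒳.p.map (stApp φ.fiber ≫ _) = _
    have h1 : 𝒳.p.IsHomLift (𝟙 a.base) (stApp φ.fiber) :=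
      isHomLift_app_left ((StrictProp 𝒳 a.base).ι.map
        ((ShrinkHoms.inverse (StrictCat 𝒳 a.base)).map φ.fiber)) (Over.mk (𝟙 a.base))
    have h2 : 𝒳.p.IsHomLift (𝟙 a.base ≫ φ.base)
        ((stObj b.fiber).map (toId ((Over.map φ.base).obj (Over.mk (𝟙 a.base))))) :=
      isHomLift_toId (stObj b.fiber) ((Over.map φ.base).obj (Over.mk (𝟙 a.base)))
    change _ = eqToHom _ ≫ φ.base ≫ eqToHom _
    simpa using IsHomLift.fac' 𝒳.p (𝟙 a.base ≫ 𝟙 a.base ≫ φ.base)
      (stApp φ.fiber ≫ (stObj b.fiber).map (toId ((Over.map φ.base).obj (Over.mk (𝟙 a.base)))))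

theorem stEval_isEquivOver [𝒳.p.IsFibered] : FibCat.IsEquivOver (stEval (𝒳 := 𝒳)) := by
  have key : ∀ {a b : Pseudofunctor.CoGrothendieck (strictFun 𝒳).toPseudofunctor'}
      (ψ : (stObj a.fiber).obj (idObj a.base) ⟶ (stObj b.fiber).obj (idObj b.base))
      (f : a.base ⟶ b.base), 𝒳.p.IsHomLift f ψ → ∃ φ : a ⟶ b, stEval.map φ = ψ := by
    intro a b ψ f hψ
    let c : Over b.base := (Over.map f).obj (Over.mk (𝟙 a.base))
    have hb : CartAtId (stObj b.fiber) :=
      (ShrinkHoms.fromShrinkHoms (C' := StrictCat 𝒳 b.base) b.fiber).property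
    have : 𝒳.p.IsStronglyCartesian c.hom ((stObj b.fiber).map (toId c)) := hb c
    have hψ' : 𝒳.p.IsHomLift c.hom ψ := by
      rw [show c.hom = f by simp [c]]; exact hψ
    let k := IsCartesian.map 𝒳.p c.hom ((stObj b.fiber).map (toId c)) ψ
    have hk : 𝒳.p.IsHomLift (𝟙 a.base) k :=
      IsCartesian.map_isHomLift 𝒳.p c.hom ((stObj b.fiber).map (toId c)) ψ
    obtain ⟨α, hα⟩ := exists_natTrans_at_id
      (G := stObj a.fiber) (H := BasedFunctor.comp (overMap f) (stObj b.fiber))
      (cartAtId_comp f hb) k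
    let h : a.fiber ⟶ ((strictFun 𝒳).map f.op).toFunctor.obj b.fiber :=
      (ShrinkHoms.functor (StrictCat 𝒳 a.base)).map
        (ObjectProperty.homMk α : ShrinkHoms.fromShrinkHoms (C' := StrictCat 𝒳 a.base) a.fiber ⟶
          ⟨BasedFunctor.comp (overMap f) (stObj b.fiber), cartAtId_comp f hb⟩)
    refine ⟨⟨f, h⟩, ?_⟩
    change stApp h ≫ (stObj b.fiber).map (toId c) = ψ
    have : stApp h = k := by
      simp only [stApp, h]
      erw [ShrinkHoms.inverse_map, ShrinkHoms.functor_map, Equiv.symm_apply_apply]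
      exact hα
    rw [this]
    exact IsCartesian.fac 𝒳.p c.hom ((stObj b.fiber).map (toId c)) ψ
  have : (stEval (𝒳 := 𝒳)).toFunctor.Full := ⟨fun {a b} ψ =>
    key ψ (eqToHom (obj_idObj (stObj a.fiber)).symm ≫ 𝒳.p.map ψ ≫
      eqToHom (obj_idObj (stObj b.fiber))) (IsHomLift.of_fac _ _ _ (obj_idObj (stObj a.fiber)) (obj_idObj (stObj b.fiber)) rfl)⟩
  have : (stEval (𝒳 := 𝒳)).toFunctor.Faithful := ⟨fun {a b φ φ'} e => by
    have e' := congrArg 𝒳.p.map e
    erw [based_map stEval φ, based_map stEval φ'] at e'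
    replace e' := (cancel_mono _).mp ((cancel_epi _).mp e')
    obtain ⟨f, h⟩ := φ
    obtain ⟨f', h'⟩ := φ'
    obtain rfl : f = f' := e'
    have hb : CartAtId (stObj b.fiber) :=
      (ShrinkHoms.fromShrinkHoms (C' := StrictCat 𝒳 b.base) b.fiber).property
    let c : Over b.base := (Over.map f).obj (Over.mk (𝟙 a.base))
    have : 𝒳.p.IsStronglyCartesian c.hom ((stObj b.fiber).map (toId c)) := hb c
    have hl : ∀ k : a.fiber ⟶ ((strictFun 𝒳).map f.op).toFunctor.obj b.fiber,
        𝒳.p.IsHomLift (𝟙 a.base) (stApp k) := fun k =>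
      isHomLift_app_left ((StrictProp 𝒳 a.base).ι.map
        ((ShrinkHoms.inverse (StrictCat 𝒳 a.base)).map k)) (Over.mk (𝟙 a.base))
    have : 𝒳.p.IsHomLift (𝟙 c.left) (stApp h) := hl h
    have : 𝒳.p.IsHomLift (𝟙 c.left) (stApp h') := hl h'
    have e2 : stApp h = stApp h' :=
      IsCartesian.ext 𝒳.p c.hom ((stObj b.fiber).map (toId c)) (a' := (stObj a.fiber).obj (idObj a.base))
        (stApp h) (stApp h') e
    congr 1
    apply (ShrinkHoms.inverse (StrictCat 𝒳 a.base)).map_injective
    exact ObjectProperty.hom_ext _ (natTrans_ext_at_id (cartAtId_comp f hb) e2)⟩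
  refine isEquivOver_of_essSurjOver _ fun x => ?_
  obtain ⟨G, e, he, hG⟩ := exists_ofObj (𝒳 := 𝒳) (x := x) rfl
  exact ⟨⟨𝒳.p.obj x, ShrinkHoms.toShrinkHoms (C' := StrictCat 𝒳 (𝒳.p.obj x)) ⟨G, hG⟩⟩, e, he⟩

end Groth.Agent.Fib44

namespace Groth.Agent.Fib44

variable {C : Type u} [Category.{v} C] {𝒳 : BasedCategory.{v, max u v} C}

theorem isGroupoid_strictFun (h : FibCat.IsFibGrpd 𝒳.p) (U : Cᵒᵖ) :
    IsGroupoid ((strictFun 𝒳).obj U) := by
  refine ⟨fun {G H} f => ?_⟩
  have := isIso_basedNatTrans_of_fibGrpd h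
    ((StrictProp 𝒳 U.unop).ι.map ((ShrinkHoms.inverse (StrictCat 𝒳 U.unop)).map f))
  have := isIso_of_reflects_iso ((ShrinkHoms.inverse (StrictCat 𝒳 U.unop)).map f)
    (StrictProp 𝒳 U.unop).ι
  exact isIso_of_reflects_iso (C := ShrinkHoms.{max u v} (StrictCat 𝒳 U.unop)) f
    (ShrinkHoms.inverse (StrictCat 𝒳 U.unop))

theorem exists_strict [𝒳.p.IsFibered] :
    ∃ E : 𝒳 ⥤ᵇ BasedCategory.ofFunctor
        (Pseudofunctor.CoGrothendieck.forget (strictFun 𝒳).toPseudofunctor'),
      FibCat.IsEquivOver E := by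
  obtain ⟨E, e₁, e₂⟩ := stEval_isEquivOver (𝒳 := 𝒳)
  exact ⟨E, stEval, e₂, e₁⟩

end Groth.Agent.Fib44
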