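import Groth.Prelude.Def_W4stkalgstUpp
import Groth.Agent.Fib44.Basic
import Mathlib.CategoryTheory.Localization.CalculusOfFractions
import Mathlib.CategoryTheory.Limits.Preserves.Shapes.Equalizers
import Mathlib.CategoryTheory.Limits.Shapes.Pullback.IsPullback.Basic
import Mathlib.CategoryTheory.Limits.Shapes.FiniteLimits

/-!
The localisation of `u_pp 𝒮`: calculus of right fractions, fibred structure.
-/

set_option backward.isDefEq.respectTransparency false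
set_option backward.isDefEq.respectTransparency.types false
set_option backward.defeqAttrib.useBackward true

universe v₃ u₃ v₂ u₂ v u

open CategoryTheory CategoryTheory.Functor CategoryTheory.Limits

namespace Groth.Agent.Fib44

variable {C : Type u} [Category.{v} C] {D : Type u₂} [Category.{v₂} D] {u : C ⥤ D}
  {𝒮 : BasedCategory.{v₃, u₃} C}

open Stk

section Fractions

variable [𝒮.p.IsFibered]

theorem upp_isMultiplicative : (uppR u 𝒮).IsMultiplicative where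
  id_mem X := by
    refine ⟨?_, by rw [UppObj.id_bot]; infer_instance⟩
    rw [UppObj.id_top]
    infer_instance
  comp_mem f g hf hg := by
    have := hf.1
    have := hg.1
    have := hf.2
    have := hg.2
    refine ⟨?_, by rw [UppObj.comp_bot]; infer_instance⟩
    rw [UppObj.comp_top, Functor.map_comp]
    infer_instance

theorem exists_upp_lift (X : UppObj u 𝒮) {E : C} (h : E ⟶ 𝒮.p.obj X.x) (ψ : X.V ⟶ u.obj E)
    (hψ : ψ ≫ u.map h = X.φ) :
    ∃ (X' : UppObj u 𝒮) (t : X' ⟶ X) (b : X'.V ⟶ X.V) (e : 𝒮.p.obj X'.x = E), uppR u 𝒮 t ∧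
      t.bot = b ∧ 𝒮.p.map t.top = eqToHom e ≫ h ∧
      X'.φ = b ≫ ψ ≫ u.map (eqToHom e.symm) ∧ IsIso b := by
  obtain ⟨y, φ, hφ⟩ := exists_sc_lift 𝒮.p (rfl : 𝒮.p.obj X.x = _) h
  have hy : 𝒮.p.obj y = E := IsHomLift.domain_eq 𝒮.p h φ
  have hm : 𝒮.p.map φ = eqToHom hy ≫ h := by simp [IsHomLift.fac' 𝒮.p h φ]
  refine ⟨⟨y, X.V, ψ ≫ u.map (eqToHom hy.symm)⟩, ⟨φ, 𝟙 _, ?_⟩, 𝟙 _, hy, ⟨?_, ?_⟩, rfl, hm,
    (Category.id_comp _).symm, inferInstance⟩
  · rw [Category.assoc, ← Functor.map_comp, hm, eqToHom_trans_assoc, eqToHom_refl,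
      Category.id_comp, Category.id_comp, hψ]
  · exact isSC_self_of_isSC 𝒮.p h φ
  · exact inferInstanceAs (IsIso (𝟙 _))

theorem upp_ext [HasEqualizers C] [PreservesLimitsOfShape WalkingParallelPair u]
    ⦃X Y Y' : UppObj u 𝒮⦄ (f₁ f₂ : X ⟶ Y) (s : Y ⟶ Y') (hs : uppR u 𝒮 s) (h : f₁ ≫ s = f₂ ≫ s) :
    ∃ (X' : UppObj u 𝒮) (t : X' ⟶ X) (_ : uppR u 𝒮 t), t ≫ f₁ = t ≫ f₂ := by
  have := hs.2
  have hb : f₁.bot = f₂.bot := (cancel_mono s.bot).mp (congrArg UppObj.Hom.bot h)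
  let p₁ := 𝒮.p.map f₁.top
  let p₂ := 𝒮.p.map f₂.top
  have hl := isLimitForkMapOfIsLimit u (equalizer.condition p₁ p₂) (equalizerIsEqualizer p₁ p₂)
  obtain ⟨ψ, hψ⟩ := Fork.IsLimit.lift' hl X.φ (by rw [f₁.w, f₂.w, hb])
  obtain ⟨X', t, b, e, ht, htb, htm, -, -⟩ := exists_upp_lift X (equalizer.ι p₁ p₂) ψ hψ
  refine ⟨X', t, ht, UppObj.hom_ext (sc_hom_ext 𝒮.p s.top hs.1 ?_ ?_) ?_⟩
  · rw [UppObj.comp_top, UppObj.comp_top, Functor.map_comp, Functor.map_comp, htm,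
      Category.assoc, Category.assoc, equalizer.condition]
  · rw [UppObj.comp_top, UppObj.comp_top, Category.assoc, Category.assoc]
    exact congrArg (t.top ≫ ·) (congrArg UppObj.Hom.top h)
  · rw [UppObj.comp_bot, UppObj.comp_bot, hb]

theorem upp_ore [HasPullbacks C] [PreservesLimitsOfShape WalkingCospan u]
    ⦃X Y Z : UppObj u 𝒮⦄ (f : X ⟶ Z) (s : Y ⟶ Z) (hs : uppR u 𝒮 s) :
    ∃ (X' : UppObj u 𝒮) (t : X' ⟶ X) (g : X' ⟶ Y), uppR u 𝒮 t ∧ t ≫ f = g ≫ s := by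
  have := hs.2
  have := hs.1
  let W := pullback (𝒮.p.map f.top) (𝒮.p.map s.top)
  have hW := (IsPullback.of_hasPullback (𝒮.p.map f.top) (𝒮.p.map s.top)).map u
  have hc : X.φ ≫ u.map (𝒮.p.map f.top) =
      (f.bot ≫ inv s.bot ≫ Y.φ) ≫ u.map (𝒮.p.map s.top) := by
    rw [f.w, Category.assoc, Category.assoc, s.w]
    simp
  obtain ⟨X', t, b, e, ht, htb, htm, hX', hb⟩ :=
    exists_upp_lift X (pullback.fst (𝒮.p.map f.top) (𝒮.p.map s.top)) (hW.lift X.φ _ hc)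
      (hW.lift_fst _ _ _)
  have hlift : 𝒮.p.IsHomLift
      ((eqToHom e ≫ pullback.snd (𝒮.p.map f.top) (𝒮.p.map s.top)) ≫ 𝒮.p.map s.top)
      (t.top ≫ f.top) := by
    rw [isHomLift_iff_map_eq, Functor.map_comp, htm, Category.assoc, Category.assoc,
      pullback.condition]
  obtain ⟨χ, ⟨hχ, hχs⟩, -⟩ := IsStronglyCartesian.universal_property' (p := 𝒮.p)
    (f := 𝒮.p.map s.top) (φ := s.top)
    (eqToHom e ≫ pullback.snd (𝒮.p.map f.top) (𝒮.p.map s.top)) (t.top ≫ f.top)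
  rw [isHomLift_iff_map_eq] at hχ
  let g : X' ⟶ Y := ⟨χ, (b ≫ f.bot) ≫ inv s.bot, by
    rw [hχ, hX', Functor.map_comp]
    simp only [Category.assoc, ← Functor.map_comp_assoc, eqToHom_trans, eqToHom_refl,
      CategoryTheory.Functor.map_id, Category.id_comp]
    rw [hW.lift_snd]⟩
  refine ⟨X', t, g, ht, UppObj.hom_ext ?_ ?_⟩
  · exact hχs.symm
  · rw [UppObj.comp_bot, UppObj.comp_bot, htb]
    simp [g]

theorem upp_hasRightCalculus
    (hC : ∀ (I : Type) [SmallCategory I] [FinCategory I], Nonempty I → HasLimitsOfShape I C)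
    (hu : ∀ (I : Type) [SmallCategory I] [FinCategory I], Nonempty I →
      PreservesLimitsOfShape I u) :
    (uppR u 𝒮).HasRightCalculusOfFractions := by
  have : HasEqualizers C := hC WalkingParallelPair ⟨.zero⟩
  have : HasPullbacks C := hC WalkingCospan ⟨.one⟩
  have : PreservesLimitsOfShape WalkingParallelPair u := hu WalkingParallelPair ⟨.zero⟩
  have : PreservesLimitsOfShape WalkingCospan u := hu WalkingCospan ⟨.one⟩
  have := upp_isMultiplicative (u := u) (𝒮 := 𝒮)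
  refine { exists_rightFraction := fun X Y φ => ?_, ext := upp_ext }
  obtain ⟨X', t, g, ht, e⟩ := upp_ore φ.f φ.s φ.hs
  exact ⟨MorphismProperty.RightFraction.mk t ht g, e⟩

end Fractions

section Up

variable [(uppR u 𝒮).HasRightCalculusOfFractions]

theorem up_p_map_Q {X Y : UppObj u 𝒮} (a : X ⟶ Y) :
    (up u 𝒮).p.map ((uppR u 𝒮).Q.map a) = a.bot := by
  have := Functor.congr_hom
    (Localization.Construction.fac (UppObj.forget u 𝒮) (uppR_isInvertedBy u 𝒮)) a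
  simp only [eqToHom_refl, Category.id_comp, Category.comp_id] at this
  exact this

theorem exists_roof {X Y : UppObj u 𝒮} (m : (uppR u 𝒮).Q.obj X ⟶ (uppR u 𝒮).Q.obj Y) :
    ∃ (X' : UppObj u 𝒮) (s : X' ⟶ X) (a : X' ⟶ Y), uppR u 𝒮 s ∧
      (uppR u 𝒮).Q.map s ≫ m = (uppR u 𝒮).Q.map a := by
  obtain ⟨φ, rfl⟩ := Localization.exists_rightFraction (uppR u 𝒮).Q (uppR u 𝒮) m
  exact ⟨φ.X', φ.s, φ.f, φ.hs, MorphismProperty.RightFraction.map_s_comp_map _ _ _⟩

theorem isIso_Q_map {X Y : UppObj u 𝒮} (s : X ⟶ Y) (hs : uppR u 𝒮 s) :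
    IsIso ((uppR u 𝒮).Q.map s) :=
  Localization.inverts (uppR u 𝒮).Q (uppR u 𝒮) s hs

theorem up_exists_lift (X : UppObj u 𝒮) {R : D} (f : R ⟶ X.V) :
    ∃ (B : (up u 𝒮).obj) (g : B ⟶ (uppR u 𝒮).Q.obj X),
      (up u 𝒮).p.IsStronglyCartesian f g := by
  let X' : UppObj u 𝒮 := ⟨X.x, R, f ≫ X.φ⟩
  let g : X' ⟶ X := ⟨𝟙 _, f, by simp [X']⟩
  let Q := (uppR u 𝒮).Q
  refine ⟨Q.obj X', Q.map g, ?_⟩
  have hlift : (up u 𝒮).p.IsHomLift f (Q.map g) :=
    IsHomLift.of_fac' _ _ _ rfl rfl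
      ((up_p_map_Q g).trans (show f = eqToHom rfl ≫ f ≫ eqToHom rfl by simp))
  refine isSC_of_isSC_self _ f _ ((isSC_iff _ _).mpr fun Z h m hm => ?_)
  obtain ⟨Z, rfl⟩ := (Localization.Construction.objEquiv (uppR u 𝒮)).surjective Z
  obtain ⟨Z', s, a, hs, e⟩ := exists_roof m
  have := hs.2
  have := isIso_Q_map s hs
  change Z.V ⟶ R at h
  have hm' : a.bot = s.bot ≫ h ≫ f := by
    have h1 := congrArg (up u 𝒮).p.map e
    erw [Functor.map_comp, up_p_map_Q, up_p_map_Q, hm, up_p_map_Q] at h1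
    exact h1.symm
  let a' : Z' ⟶ X' := ⟨a.top, s.bot ≫ h, by
    rw [a.w, hm']
    simp [X']⟩
  have hga : a' ≫ g = a := UppObj.hom_ext (Category.comp_id _)
    ((Category.assoc _ _ _).trans hm'.symm)
  refine ⟨inv (Q.map s) ≫ Q.map a', ⟨?_, ?_⟩, ?_⟩
  · refine (cancel_epi s.bot).mp ?_
    have h1 : (up u 𝒮).p.map (Q.map s ≫ inv (Q.map s) ≫ Q.map a') = s.bot ≫ h := by
      rw [IsIso.hom_inv_id_assoc]
      exact up_p_map_Q a'
    exact ((congrArg (· ≫ _) (up_p_map_Q s)).symm.trans ((up u 𝒮).p.map_comp _ _).symm).trans h1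
  · rw [Category.assoc, ← Functor.map_comp, hga, ← e, IsIso.inv_hom_id_assoc]
  · rintro n ⟨hn, hng⟩
    obtain ⟨Z'', t, b, ht, hb⟩ := exists_roof (Q.map s ≫ n)
    have := isIso_Q_map t ht
    have hbb : b.bot = (t ≫ a').bot := by
      have h1 := congrArg (up u 𝒮).p.map hb
      erw [Functor.map_comp, Functor.map_comp, up_p_map_Q, up_p_map_Q, up_p_map_Q, hn] at h1
      exact h1.symm
    have hbg : Q.map (b ≫ g) = Q.map (t ≫ a' ≫ g) := by
      rw [hga, Functor.map_comp, Functor.map_comp, ← hb, ← e]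
      simp only [Category.assoc]
      exact congrArg (fun k => Q.map t ≫ Q.map s ≫ k) hng
    obtain ⟨W, r, hr, hrw⟩ :=
      (MorphismProperty.map_eq_iff_precomp Q (uppR u 𝒮) _ _).mp hbg
    have : r ≫ b = r ≫ t ≫ a' := UppObj.hom_ext
      (by simpa [g] using congrArg UppObj.Hom.top hrw)
      (by rw [UppObj.comp_bot, UppObj.comp_bot r, hbb])
    have h2 : Q.map b = Q.map (t ≫ a') :=
      (MorphismProperty.map_eq_iff_precomp Q (uppR u 𝒮) _ _).mpr ⟨W, r, hr, this⟩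
    rw [← hb, Functor.map_comp, cancel_epi] at h2
    exact (IsIso.eq_inv_comp _).mpr h2

theorem up_isFibered : (up u 𝒮).p.IsFibered :=
  IsFibered.of_exists_isStronglyCartesian fun X R f => by
    obtain ⟨X, rfl⟩ := (Localization.Construction.objEquiv (uppR u 𝒮)).surjective X
    exact up_exists_lift X f

theorem up_isFibGrpd (h𝒮 : FibCat.IsFibGrpd 𝒮.p) : FibCat.IsFibGrpd (up u 𝒮).p := by
  have := up_isFibered (u := u) (𝒮 := 𝒮)
  refine isFibGrpd_of_isFibered _ fun V => ⟨fun {A B} φ => ?_⟩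
  have : IsIso φ.1 := by
    obtain ⟨A, hA⟩ := A
    obtain ⟨B, hB⟩ := B
    obtain ⟨X, rfl⟩ := (Localization.Construction.objEquiv (uppR u 𝒮)).surjective A
    obtain ⟨Y, rfl⟩ := (Localization.Construction.objEquiv (uppR u 𝒮)).surjective B
    have hp : IsIso ((up u 𝒮).p.map φ.1) := by
      have := φ.2
      rw [IsHomLift.fac' (up u 𝒮).p (𝟙 V) φ.1]
      infer_instance
    obtain ⟨X', s, a, hs, e⟩ := exists_roof φ.1
    have := hs.2
    have := isIso_Q_map s hs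
    have ha : IsIso a.bot := by
      have h1 := congrArg (up u 𝒮).p.map e
      erw [Functor.map_comp, up_p_map_Q, up_p_map_Q] at h1
      rw [← h1]
      exact @IsIso.comp_isIso _ _ _ _ _ _ _ hs.2 hp
    have := isIso_Q_map a ⟨h𝒮.isStronglyCartesian a.top, ha⟩
    exact IsIso.of_isIso_fac_left e
  exact isIso_fiber_of_isIso _ φ

end Up

end Groth.Agent.Fib44
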